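import Cfsg.Agent.Lib.Known.E8SL2.Irred

/-!
# Irreducible representations of the special linear group of degree two in the defining characteristic
-/

set_option autoImplicit false

namespace CfsgLib.Known.E8SL2

open Module Matrix
open CfsgLib.Perm.AltSection (eig mem_eig)

variable {F : Type*} [Field F]

/-- The diagonal elements. -/
def tt (a : Fˣ) : SL F := ⟨!![(a : F), 0; 0, ((a⁻¹ : Fˣ) : F)], by simp [Matrix.det_fin_two_of]⟩

/-- The central involution. -/
def negOne (F : Type*) [Field F] : SL F := ⟨!![-1, 0; 0, -1], by simp [Matrix.det_fin_two_of]⟩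

theorem tt_mul (a b : Fˣ) : tt (a * b) = tt a * tt b := Subtype.ext (by
  show !![((a * b : Fˣ) : F), 0; 0, (((a * b)⁻¹ : Fˣ) : F)] =
    !![(a : F), 0; 0, ((a⁻¹ : Fˣ) : F)] * !![(b : F), 0; 0, ((b⁻¹ : Fˣ) : F)]
  simp [Matrix.mul_fin_two, mul_comm])

theorem tt_one : tt (1 : Fˣ) = 1 := Subtype.ext (by simp [tt, Matrix.one_fin_two])

theorem tt_uu (a : Fˣ) (b : F) : tt a * uu b = uu ((a : F) * a * b) * tt a := Subtype.ext (by
  show !![(a : F), 0; 0, ((a⁻¹ : Fˣ) : F)] * !![1, b; 0, 1] =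
    !![1, (a : F) * a * b; 0, 1] * !![(a : F), 0; 0, ((a⁻¹ : Fˣ) : F)]
  simp [Matrix.mul_fin_two, Units.val_inv_eq_inv_val]
  field_simp)

theorem move_negOne (x : Pts F) : move (negOne F) x = smulP (-1) x := Subtype.ext (funext fun i => by
  fin_cases i <;> simp [move, negOne, smulP, Matrix.vecHead, Matrix.vecTail])

theorem negOne_inv : (negOne F)⁻¹ = negOne F := inv_eq_of_mul_eq_one_right (Subtype.ext (by
  show !![(-1 : F), 0; 0, -1] * !![-1, 0; 0, -1] = 1
  simp [Matrix.mul_fin_two, Matrix.one_fin_two]))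

theorem exists_sec (x : Pts F) : ∃ g : SL F, move g (p0 F) = x := by
  by_cases h0 : x.1 0 = 0
  · have h1 : x.1 1 ≠ 0 := fun h1 => x.2 (funext fun i => by fin_cases i <;> assumption)
    refine ⟨⟨!![x.1 0, -(x.1 1)⁻¹; x.1 1, 0], by rw [Matrix.det_fin_two_of]; field_simp; ring⟩, Subtype.ext ?_⟩
    funext i; fin_cases i <;> simp [move, p0]
  · refine ⟨⟨!![x.1 0, 0; x.1 1, (x.1 0)⁻¹], by rw [Matrix.det_fin_two_of]; field_simp; ring⟩, Subtype.ext ?_⟩
    funext i; fin_cases i <;> simp [move, p0]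

/-- The stabiliser of the line of the first axis. -/
theorem eq_tt_uu {h : SL F} {a : Fˣ} (e : move h (p0 F) = smulP a (p0 F)) : ∃ b, h = tt a * uu b := by
  have e0 := congrFun (congrArg Subtype.val e) 0
  have e1 := congrFun (congrArg Subtype.val e) 1
  simp [move, smulP, p0] at e0 e1
  have hdet := h.2
  rw [Matrix.det_fin_two, e0, e1, mul_zero, sub_zero] at hdet
  refine ⟨h.1 0 1 * ((a⁻¹ : Fˣ) : F), Subtype.ext ?_⟩
  show h.1 = !![(a : F), 0; 0, ((a⁻¹ : Fˣ) : F)] * !![1, h.1 0 1 * ((a⁻¹ : Fˣ) : F); 0, 1]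
  rw [Matrix.eta_fin_two h.1, e0, e1, show h.1 1 1 = ((a⁻¹ : Fˣ) : F) by
    rw [Units.val_inv_eq_inv_val]; exact eq_inv_of_mul_eq_one_right hdet]
  simp
  field_simp

variable {K : Type*} [Field K]

theorem exists_common_fixed {U : Type*} [Group U] [Finite U] {p : ℕ} [Fact p.Prime] (hU : IsPGroup p U)
    [Finite K] [CharP K p] {W : Type*} [AddCommGroup W] [Module K W] [FiniteDimensional K W] [Nontrivial W]
    (ρ : U →* End K W) : ∃ v : W, v ≠ 0 ∧ ∀ u, ρ u v = v := by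
  letI : MulAction U W :=
    { smul := fun u v => ρ u v
      one_smul := fun v => show ρ 1 v = v by rw [map_one, End.one_apply]
      mul_smul := fun a b v => show ρ (a * b) v = ρ a (ρ b v) by rw [map_mul, End.mul_apply] }
  haveI : Finite W := Module.finite_of_finite K
  have hd : p ∣ Nat.card W := by
    have hK : p ∣ Nat.card K := by
      haveI := Fintype.ofFinite K
      rw [Nat.card_eq_fintype_card]
      exact (CharP.cast_eq_zero_iff K p _).1 (FiniteField.cast_card_eq_zero K)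
    rw [Module.natCard_eq_pow_finrank (K := K) (V := W)]
    exact hK.trans (dvd_pow_self _ Module.finrank_pos.ne')
  obtain ⟨b, hb, hne⟩ := hU.exists_fixed_point_of_prime_dvd_card_of_fixed_point W hd (a := 0) (fun u => map_zero (ρ u))
  exact ⟨b, fun h => hne h.symm, fun u => hb u⟩

/-- An endomorphism with a power one has an eigenvector. -/
theorem exists_eigvec {W : Type*} [AddCommGroup W] [Module K W] {T : End K W} {n : ℕ} (hn : (n : K) ≠ 0)
    {ζ : K} (hζ : IsPrimitiveRoot ζ n) (hT : T ^ n = 1) {v : W} (hv : v ≠ 0) :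
    ∃ (j : ℕ) (w : W), w ≠ 0 ∧ T w = ζ ^ j • w ∧ w ∈ Submodule.span K (Set.range fun i : ℕ => (T ^ i) v) := by
  have hn0 : n ≠ 0 := fun h => hn (by rw [h, Nat.cast_zero])
  obtain ⟨P, hP⟩ : ∃ P : ℕ → W, ∀ j, P j = ∑ i ∈ Finset.range n, (ζ⁻¹ ^ j) ^ i • (T ^ i) v := ⟨_, fun _ => rfl⟩
  have hsum : ∑ j ∈ Finset.range n, P j = (n : K) • v := by
    simp only [hP]
    rw [Finset.sum_comm, Finset.sum_eq_single 0]
    · simp [Nat.cast_smul_eq_nsmul]
    · intro i hi hi0
      rw [← Finset.sum_smul]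
      have h1 : ζ⁻¹ ^ i ≠ 1 := hζ.inv.pow_ne_one_of_pos_of_lt hi0 (Finset.mem_range.1 hi)
      have h2 : (∑ j ∈ Finset.range n, (ζ⁻¹ ^ i) ^ j) = 0 := by
        rw [geom_sum_eq h1, ← pow_mul, mul_comm, pow_mul, hζ.inv.pow_eq_one, one_pow, sub_self, zero_div]
      rw [show (∑ j ∈ Finset.range n, (ζ⁻¹ ^ j) ^ i) = ∑ j ∈ Finset.range n, (ζ⁻¹ ^ i) ^ j from
        Finset.sum_congr rfl fun j _ => by rw [← pow_mul, ← pow_mul, mul_comm], h2, zero_smul]
    · intro h; exact absurd (Finset.mem_range.2 (Nat.pos_of_ne_zero hn0)) h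
  obtain ⟨j, -, hj⟩ := Finset.exists_ne_zero_of_sum_ne_zero (hsum ▸ smul_ne_zero hn hv)
  refine ⟨j, P j, hj, ?_, hP j ▸ Submodule.sum_mem _ fun i _ => Submodule.smul_mem _ _
    (Submodule.subset_span ⟨i, rfl⟩)⟩
  have hζ0 : ζ ^ j ≠ 0 := pow_ne_zero _ (hζ.ne_zero hn0)
  have h1 : ∀ i, T ((ζ⁻¹ ^ j) ^ i • (T ^ i) v) = ζ ^ j • ((ζ⁻¹ ^ j) ^ (i + 1) • (T ^ (i + 1)) v) := fun i => by
    rw [map_smul, pow_succ' T i, End.mul_apply, smul_smul, pow_succ, inv_pow ζ j]
    congr 1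
    field_simp
  rw [hP, map_sum, Finset.sum_congr rfl fun i _ => h1 i, ← Finset.smul_sum]
  congr 1
  refine add_right_cancel (b := (ζ⁻¹ ^ j) ^ 0 • (T ^ 0) v) ?_
  rw [← Finset.sum_range_succ' (fun i => (ζ⁻¹ ^ j) ^ i • (T ^ i) v), Finset.sum_range_succ, ← pow_mul ζ⁻¹ j n,
    mul_comm, pow_mul, hζ.inv.pow_eq_one, one_pow, hT, pow_zero, pow_zero]

theorem pow_mod_natCard_aux {ζ : K} {n : ℕ} (hζ : IsPrimitiveRoot ζ n) (j : ℕ) : ζ ^ (j % n) = ζ ^ j :=
  (pow_eq_pow_mod j hζ.pow_eq_one).symm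

variable (ι : F →+* K) [Fintype F] [DecidableEq F] [Finite K] [DecidableEq K]

/-- The weights counted. -/
def cnt (μ : K) (d : ℕ) (ν : K) : ℕ := ((idx K d).filter fun i => μ ^ i * μ⁻¹ ^ (d - i) = ν).card

/-- The fixed vectors of the unipotent elements with a given weight. -/
def hwsp {V : Type*} [AddCommGroup V] [Module K V] (σ : SL F →* End K V) (a : Fˣ) (ν : K) : Submodule K V :=
  (⨅ b : F, eig (σ (uu b)) 1) ⊓ eig (σ (tt a)) ν

theorem mem_hwsp {V : Type*} [AddCommGroup V] [Module K V] {σ : SL F →* End K V} {a : Fˣ} {ν : K} {v : V} :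
    v ∈ hwsp σ a ν ↔ (∀ b : F, σ (uu b) v = v) ∧ σ (tt a) v = ν • v := by
  simp [hwsp, mem_eig]

/-- Diagonalisable elements. -/
structure IsDiag (s : SL F) (μ : K) : Prop where
  exists_forms : ∃ w z : Fin 2 → K, (∀ c : Fin 2 → K, ∃ α β : K, c = α • w + β • z) ∧
    (∀ x, lin ι w (move s⁻¹ x) = μ * lin ι w x) ∧ ∀ x, lin ι z (move s⁻¹ x) = μ⁻¹ * lin ι z x

/-- An irreducible representation has the weights of a space of homogeneous functions. -/
theorem exists_degree {p : ℕ} [Fact p.Prime] [CharP K p] [CharP F p] (h2 : (2 : K) ≠ 0) {V : Type*}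
    [AddCommGroup V] [Module K V] [FiniteDimensional K V] [Nontrivial V] (σ : SL F →* End K V)
    (hirr : ∀ U : Submodule K V, (∀ g, ∀ v ∈ U, σ g v ∈ U) → U = ⊥ ∨ U = ⊤) (hneg : σ (negOne F) = 1)
    {a0 : Fˣ} (ha0 : orderOf a0 = Fintype.card F - 1) :
    ∃ d, d ≤ Fintype.card F - 1 ∧ Even d ∧
      (∀ k, 0 < k → k < Fintype.card F - 1 →
        finrank K ↥(hwsp σ a0 (ι (a0 : F) ^ k)) = if k = d then 1 else 0) ∧
      ∀ (s : SL F) (μ : K), IsDiag ι s μ → ∀ ν, finrank K ↥(eig (σ s) ν) = cnt μ d ν := by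
  classical
  obtain ⟨n, hn⟩ : ∃ n, n = Fintype.card F - 1 := ⟨_, rfl⟩
  have hn0 : 0 < n := by have := Fintype.one_lt_card (α := F); omega
  have hζ : IsPrimitiveRoot (ι (a0 : F)) n := by
    have := (IsPrimitiveRoot.orderOf a0).map_of_injective (f := Units.coeHom F) Units.val_injective
    rw [ha0, ← hn] at this
    exact this.map_of_injective (f := ι) ι.injective
  have hnK : (n : K) ≠ 0 := by
    rw [hn, Nat.cast_sub Fintype.card_pos, ← map_natCast ι (Fintype.card F), FiniteField.cast_card_eq_zero, map_zero,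
      Nat.cast_one, zero_sub]
    exact neg_ne_zero.2 one_ne_zero
  -- a fixed functional
  obtain ⟨ρ, hρ⟩ : ∃ ρ : SL F →* End K (Dual K V), ∀ g ξ v, ρ g ξ v = ξ (σ g⁻¹ v) :=
    ⟨{ toFun := fun g => (σ g⁻¹).dualMap
       map_one' := LinearMap.ext fun ξ => LinearMap.ext fun v => by simp
       map_mul' := fun g h => LinearMap.ext fun ξ => LinearMap.ext fun v => by simp [End.mul_apply] },
      fun _ _ _ => rfl⟩
  obtain ⟨ρU, hρU⟩ : ∃ ρU : Multiplicative F →* End K (Dual K V), ∀ b, ρU b = ρ (uu b.toAdd) :=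
    ⟨ρ.comp { toFun := fun b => uu b.toAdd, map_one' := uu_zero, map_mul' := fun a b => uu_add _ _ }, fun _ => rfl⟩
  have hU : IsPGroup p (Multiplicative F) := fun b => ⟨1, by
    apply Multiplicative.toAdd.injective
    rw [toAdd_pow, pow_one, nsmul_eq_mul, CharP.cast_eq_zero, zero_mul, toAdd_one]⟩
  obtain ⟨ξ0, hξ0, hξ0fix⟩ := exists_common_fixed hU ρU
  have hT : ρ (tt a0) ^ n = 1 := by
    have e : ∀ k : ℕ, tt a0 ^ k = tt (a0 ^ k) := fun k => by
      induction k with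
      | zero => rw [pow_zero, pow_zero, tt_one]
      | succ k ih => rw [pow_succ, pow_succ, tt_mul, ih]
    rw [← map_pow, e, hn, ← ha0, pow_orderOf_eq_one, tt_one, map_one]
  obtain ⟨j, ξ, hξ, hξt, hξspan⟩ := exists_eigvec hnK hζ hT hξ0
  have hfixspan : ∀ η ∈ Submodule.span K (Set.range fun i : ℕ => (ρ (tt a0) ^ i) ξ0), ∀ b, ρ (uu b) η = η := by
    intro η hη
    induction hη using Submodule.span_induction with
    | mem x hx =>
      obtain ⟨i, rfl⟩ := hx
      induction i with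
      | zero => intro b; simpa [hρU] using hξ0fix (Multiplicative.ofAdd b)
      | succ i ih =>
        intro b
        obtain ⟨c, hc⟩ : ∃ c, c = b * ((a0⁻¹ : Fˣ) : F) * ((a0⁻¹ : Fˣ) : F) := ⟨_, rfl⟩
        have e : uu b * tt a0 = tt a0 * uu c := by
          rw [tt_uu, hc]
          congr 2
          rw [Units.val_inv_eq_inv_val]
          field_simp
        show ρ (uu b) ((ρ (tt a0) ^ (i + 1)) ξ0) = (ρ (tt a0) ^ (i + 1)) ξ0
        rw [pow_succ', End.mul_apply, ← End.mul_apply (ρ (uu b)), ← map_mul, e, map_mul, End.mul_apply, ih c]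
    | zero => intro b; rw [map_zero]
    | add x y _ _ hx hy => intro b; rw [map_add, hx, hy]
    | smul r x _ hx => intro b; rw [map_smul, hx]
  have hξfix := hfixspan ξ hξspan
  -- the degree
  obtain ⟨d, hdd⟩ : ∃ d, d = if j % n = 0 then n else j % n := ⟨_, rfl⟩
  have hd1 : 1 ≤ d ∧ d ≤ n := by
    rw [hdd]; split
    · omega
    · have := Nat.mod_lt j hn0; omega
  have hdj : ι (a0 : F) ^ d = ι (a0 : F) ^ j := by
    rw [hdd, ← pow_mod_natCard_aux hζ j]
    split
    · next h => rw [h, pow_zero, hζ.pow_eq_one]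
    · rfl
  have hξa : ∀ (a : Fˣ) (v : V), ξ (σ (tt a)⁻¹ v) = ι (a : F) ^ d * ξ v := by
    intro a
    obtain ⟨k, rfl⟩ : ∃ k : ℕ, a0 ^ k = a := by
      have htop : Subgroup.zpowers a0 = ⊤ := Subgroup.eq_top_of_card_eq _ (by
        rw [Nat.card_zpowers, ha0, Nat.card_eq_fintype_card, Fintype.card_units])
      obtain ⟨k, hk⟩ := mem_powers_iff_mem_zpowers.2 (htop ▸ Subgroup.mem_top a)
      exact ⟨k, hk⟩
    induction k with
    | zero => intro v; simp [tt_one]
    | succ k ih =>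
      intro v
      have h1 := congrArg (fun η : Dual K V => η v) hξt
      simp only [hρ, LinearMap.smul_apply, smul_eq_mul] at h1
      rw [pow_succ, tt_mul, _root_.mul_inv_rev, map_mul, End.mul_apply]
      have h3 := congrArg (fun η : Dual K V => η (σ (tt (a0 ^ k))⁻¹ v)) hξt
      simp only [hρ, LinearMap.smul_apply, smul_eq_mul] at h3
      rw [h3, ih, ← hdj]
      push_cast
      rw [map_mul, mul_pow]
      ring
  choose sec hsec using exists_sec (F := F)
  obtain ⟨Ψ, hΨ⟩ : ∃ Ψ : V →ₗ[K] Pts F → K, ∀ v x, Ψ v x = ξ (σ (sec x)⁻¹ v) :=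
    ⟨{ toFun := fun v x => ξ (σ (sec x)⁻¹ v)
       map_add' := fun a b => funext fun x => by simp
       map_smul' := fun c a => funext fun x => by simp }, fun _ _ => rfl⟩
  have hkey : ∀ (g : SL F) (c : Fˣ) (x : Pts F) (v : V), move g (p0 F) = smulP c x →
      ξ (σ g⁻¹ v) = ι (c : F) ^ d * Ψ v x := by
    intro g c x v h
    obtain ⟨b, hb⟩ := eq_tt_uu (h := (sec x)⁻¹ * g) (a := c) (by
      rw [move_mul, h, move_smulP]
      congr 1
      conv_lhs => arg 2; rw [← hsec x]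
      rw [← move_mul, inv_mul_cancel, move_one])
    have e : g = sec x * (tt c * uu b) := by rw [← hb, mul_inv_cancel_left]
    rw [e, _root_.mul_inv_rev, _root_.mul_inv_rev, map_mul, map_mul, End.mul_apply, End.mul_apply, hΨ]
    have h4 := congrArg (fun η : Dual K V => η (σ (tt c)⁻¹ (σ (sec x)⁻¹ v))) (hξfix b)
    simp only [hρ] at h4
    rw [h4, hξa]
  have hequi : ∀ (h : SL F) (v : V), Ψ (σ h v) = funRep h (Ψ v) := fun h v => funext fun x => by
    rw [funRep_apply, hΨ, ← End.mul_apply, ← map_mul, show (sec x)⁻¹ * h = (h⁻¹ * sec x)⁻¹ by group,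
      hkey _ 1 (move h⁻¹ x) v (by rw [move_mul, hsec]; exact Subtype.ext (by simp [smulP])), Units.val_one, map_one,
      one_pow, one_mul]
  have hp0 : ∀ v, Ψ v (p0 F) = ξ v := fun v => by
    have h := hkey 1 1 (p0 F) v (by rw [move_one]; exact Subtype.ext (by simp [smulP]))
    simpa using h.symm
  have hΨi : Function.Injective Ψ := LinearMap.ker_eq_bot.1 <| by
    rcases hirr (LinearMap.ker Ψ) (fun g v hv => by rw [LinearMap.mem_ker] at hv ⊢; rw [hequi, hv, map_zero]) with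
      h | h
    · exact h
    · refine absurd (LinearMap.ext fun v => ?_) hξ
      rw [← hp0, LinearMap.mem_ker.1 (h ▸ Submodule.mem_top : v ∈ LinearMap.ker Ψ)]
      rfl
  obtain ⟨M, hM⟩ : ∃ M, M = LinearMap.range Ψ := ⟨_, rfl⟩
  have hMF : M ≤ Fd ι d := by
    rw [hM]
    rintro _ ⟨v, rfl⟩ a x
    have h := hkey (sec (smulP a x)) a x v (hsec _)
    rw [← hΨ] at h
    exact h
  have hMinv : ∀ g, ∀ f ∈ M, funRep g f ∈ M := by
    rw [hM]
    rintro g _ ⟨v, rfl⟩
    exact ⟨σ g v, hequi g v⟩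
  have hMirr : ∀ M' : Submodule K (Pts F → K), M' ≤ M → (∀ g, ∀ f ∈ M', funRep g f ∈ M') → M' = ⊥ ∨ M' = M := by
    intro M' hle hinv'
    have e : (M'.comap Ψ).map Ψ = M' := Submodule.map_comap_eq_self (hM ▸ hle)
    rcases hirr (M'.comap Ψ) (fun g v hv => by
      rw [Submodule.mem_comap] at hv ⊢; rw [hequi]; exact hinv' g _ hv) with h | h
    · left; rw [← e, h, Submodule.map_bot]
    · right; rw [← e, h, Submodule.map_top, hM]
  obtain ⟨v0, hv0, hv0fix⟩ := exists_common_fixed hU (σ.comp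
    { toFun := fun b : Multiplicative F => uu b.toAdd, map_one' := uu_zero, map_mul' := fun a b => uu_add _ _ })
  obtain ⟨d', hd', hMd, hfix⟩ := exists_eq_Vd ι (by omega) (hn ▸ hd1.2) hMinv hMF hMirr (f := Ψ v0)
    (hM ▸ ⟨v0, rfl⟩) (fun h => hv0 (hΨi (h.trans (map_zero Ψ).symm)))
    (fun b => by rw [← hequi]; exact congrArg Ψ (hv0fix (Multiplicative.ofAdd b)))
  have hd'le : d' ≤ n := by rcases hd' with h | h <;> omega
  have hhd : hd ι d' ∈ M := hMd ▸ Submodule.subset_span ⟨1, by simp⟩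
  obtain ⟨v1, hv1⟩ : ∃ v1, Ψ v1 = hd ι d' := by
    have h : hd ι d' ∈ LinearMap.range Ψ := hM ▸ hhd
    exact h
  have htv1 : σ (tt a0) v1 = ι (a0 : F) ^ d' • v1 := hΨi (by
    rw [hequi, map_smul, hv1]
    funext x
    rw [funRep_apply, show (tt a0)⁻¹ = tt a0⁻¹ from inv_eq_of_mul_eq_one_right (by
      rw [← tt_mul, mul_inv_cancel, tt_one])]
    simp [hd, move, tt, mul_pow, Matrix.vecHead, Matrix.vecTail])
  have hfix1 : ∀ b, σ (uu b) v1 = v1 := fun b => hΨi (by rw [hequi, hv1, funRep_uu_hd])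
  refine ⟨d', hn ▸ hd'le, ?_, fun k hk0 hkn => ?_, fun s μ hs ν => ?_⟩
  · -- the parity
    have h1 : funRep (negOne F) (hd ι d') = hd ι d' := by rw [← hv1, ← hequi, hneg, End.one_apply]
    have h2' := congrFun h1 (p1 F)
    rw [funRep_apply, negOne_inv, move_negOne] at h2'
    rcases Nat.even_or_odd d' with h | h
    · exact h
    · exfalso
      simp [hd, p1, smulP, h.neg_one_pow] at h2'
      exact h2 (by linear_combination -h2')
  · rw [← hn] at hkn
    by_cases hkd : k = d'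
    · rw [if_pos hkd, hkd]
      have e : hwsp σ a0 (ι (a0 : F) ^ d') = Submodule.span K {v1} := by
        refine le_antisymm (fun v hv => ?_) ((Submodule.span_singleton_le_iff_mem _ _).2 (mem_hwsp.2 ⟨hfix1, htv1⟩))
        obtain ⟨c, hc⟩ := hfix (Ψ v) (hM ▸ ⟨v, rfl⟩) fun b => by rw [← hequi, (mem_hwsp.1 hv).1 b]
        exact Submodule.mem_span_singleton.2 ⟨c, hΨi (by rw [map_smul, hv1, hc])⟩
      rw [e]
      refine finrank_span_singleton fun h => ?_
      rw [h, map_zero] at hv1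
      simpa [hd, p1] using congrFun hv1 (p1 F)
    · rw [if_neg hkd, Submodule.finrank_eq_zero]
      refine (Submodule.eq_bot_iff _).2 fun v hv => ?_
      obtain ⟨c, hc⟩ := hfix (Ψ v) (hM ▸ ⟨v, rfl⟩) fun b => by rw [← hequi, (mem_hwsp.1 hv).1 b]
      have hvc : v = c • v1 := hΨi (by rw [map_smul, hv1, hc])
      have h := (mem_hwsp.1 hv).2
      rw [hvc, map_smul, htv1, smul_comm] at h
      by_contra hne
      have h' : ι (a0 : F) ^ d' = ι (a0 : F) ^ k := smul_left_injective K (hvc ▸ hne) h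
      have hmod : d' % n = k % n := hζ.pow_inj (Nat.mod_lt _ hn0) (Nat.mod_lt _ hn0) (by
        rwa [pow_mod_natCard_aux hζ, pow_mod_natCard_aux hζ])
      rw [Nat.mod_eq_of_lt hkn] at hmod
      rcases Nat.lt_or_ge d' n with h'' | h''
      · rw [Nat.mod_eq_of_lt h''] at hmod; exact hkd hmod.symm
      · rw [show d' = n by omega, Nat.mod_self] at hmod; omega
  · obtain ⟨w, z, hB, hw, hz⟩ := hs.exists_forms
    have e : (eig (σ s) ν).map Ψ = M ⊓ eig (funRep s) ν := by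
      refine le_antisymm ?_ fun f hf => ?_
      · rintro _ ⟨v, hv, rfl⟩
        exact Submodule.mem_inf.2 ⟨hM ▸ ⟨v, rfl⟩, mem_eig.2 (by rw [← hequi, mem_eig.1 hv, map_smul])⟩
      · obtain ⟨hf1, hf2⟩ := Submodule.mem_inf.1 hf
        obtain ⟨v, rfl⟩ : f ∈ LinearMap.range Ψ := hM ▸ hf1
        exact ⟨v, mem_eig.2 (hΨi (by rw [hequi, map_smul, mem_eig.1 hf2])), rfl⟩
    rw [← LinearEquiv.finrank_eq (Submodule.equivMapOfInjective Ψ hΨi _).symm, e, hMd,
      finrank_Vd_eig ι (hn ▸ hd'le) s hB hw hz ν]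
    rfl

end CfsgLib.Known.E8SL2
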