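import Cfsg.Agent.Lib.Perm.AltSection.Lin

/-!
# Weights of the spaces of homogeneous functions of the special linear group of degree two

For a finite field `F` inside `K` and `d ≤ #F - 1`, the translates of the `d`-th power of the second coordinate span
a space with a basis of eigenvectors for every diagonalisable element.
-/

set_option autoImplicit false

namespace CfsgLib.Known.E8SL2

open Module Matrix
open CfsgLib.Perm.AltSection (eig mem_eig)

section Generic

variable {K V : Type*} [Field K] [AddCommGroup V] [Module K V]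

/-- The eigenspace inside the span of independent eigenvectors. -/
theorem finrank_span_inf_eig {I : Type*} [Fintype I] {b : I → V} (hb : LinearIndependent K b) (T : End K V)
    (c : I → K) (hT : ∀ i, T (b i) = c i • b i) (ν : K) [DecidableEq K] :
    finrank K ↥(Submodule.span K (Set.range b) ⊓ eig T ν) = (Finset.univ.filter fun i => c i = ν).card := by
  classical
  have he : Submodule.span K (Set.range b) ⊓ eig T ν =
      Submodule.span K (Set.range (b ∘ (Subtype.val : {i // c i = ν} → I))) := by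
    refine le_antisymm (fun x hx => ?_) (Submodule.span_le.2 ?_)
    · obtain ⟨hx1, hx2⟩ := Submodule.mem_inf.1 hx
      obtain ⟨a, rfl⟩ := (Submodule.mem_span_range_iff_exists_fun K).1 hx1
      have h0 : ∑ i, (a i * c i - ν * a i) • b i = 0 := by
        have h := mem_eig.1 hx2
        simp only [map_sum, map_smul, hT, Finset.smul_sum, smul_smul] at h
        simp only [sub_smul, Finset.sum_sub_distrib, h, sub_self]
      have hz := fun i => Fintype.linearIndependent_iff.1 hb _ h0 i
      refine Submodule.sum_mem _ fun i _ => ?_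
      by_cases hi : c i = ν
      · exact Submodule.smul_mem _ _ (Submodule.subset_span ⟨⟨i, hi⟩, rfl⟩)
      · have h1 : (c i - ν) * a i = 0 := by rw [← hz i]; ring
        rw [(mul_eq_zero.1 h1).resolve_left (sub_ne_zero.2 hi), zero_smul]
        exact zero_mem _
    · rintro _ ⟨⟨i, hi⟩, rfl⟩
      exact Submodule.mem_inf.2 ⟨Submodule.subset_span ⟨i, rfl⟩, mem_eig.2 ((hT i).trans (congrArg (· • b i) hi))⟩
  rw [he, finrank_span_eq_card (hb.comp _ Subtype.val_injective)]
  exact Fintype.card_subtype _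

end Generic

variable {F : Type*} [Field F] {K : Type*} [Field K] (ι : F →+* K)

/-- The special linear group. -/
abbrev SL (F : Type*) [Field F] := Matrix.SpecialLinearGroup (Fin 2) F

/-- The nonzero vectors. -/
def Pts (F : Type*) [Field F] := {x : Fin 2 → F // x ≠ 0}

instance {F : Type*} [Field F] [Finite F] : Finite (Pts F) := Subtype.finite

/-- The action on the nonzero vectors. -/
def move (g : SL F) (x : Pts F) : Pts F := ⟨g.1 *ᵥ x.1, fun h => x.2 (by
  have e := congrArg (fun y => (g⁻¹ : SL F).1 *ᵥ y) h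
  rwa [Matrix.mulVec_mulVec, ← Matrix.SpecialLinearGroup.coe_mul, inv_mul_cancel, Matrix.SpecialLinearGroup.coe_one,
    Matrix.one_mulVec, Matrix.mulVec_zero] at e)⟩

theorem move_one (x : Pts F) : move 1 x = x := Subtype.ext (by simp [move])

theorem move_mul (g h : SL F) (x : Pts F) : move (g * h) x = move g (move h x) :=
  Subtype.ext (by
    show (g * h).1 *ᵥ x.1 = g.1 *ᵥ (h.1 *ᵥ x.1)
    rw [Matrix.mulVec_mulVec, Matrix.SpecialLinearGroup.coe_mul])

/-- The action on functions. -/
def funRep : SL F →* End K (Pts F → K) where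
  toFun g := LinearMap.funLeft K K (move g⁻¹)
  map_one' := LinearMap.ext fun f => funext fun x => by simp [move_one]
  map_mul' g h := LinearMap.ext fun f => funext fun x => by
    show f (move (g * h)⁻¹ x) = f (move h⁻¹ (move g⁻¹ x))
    rw [_root_.mul_inv_rev, move_mul]

theorem funRep_apply (g : SL F) (f : Pts F → K) (x : Pts F) : funRep g f x = f (move g⁻¹ x) := rfl

/-- A linear form. -/
def lin (w : Fin 2 → K) (x : Pts F) : K := w 0 * ι (x.1 0) + w 1 * ι (x.1 1)

/-- The power of the second coordinate. -/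
def hd (d : ℕ) : Pts F → K := fun x => ι (x.1 1) ^ d

/-- The span of its translates. -/
def Vd (d : ℕ) : Submodule K (Pts F → K) := Submodule.span K (Set.range fun g : SL F => funRep g (hd ι d))

/-- The degrees occurring. -/
def idx (K : Type*) [Field K] [DecidableEq K] (d : ℕ) : Finset ℕ :=
  (Finset.range (d + 1)).filter fun i => (d.choose i : K) ≠ 0

/-- The monomials in two forms. -/
def mon (w z : Fin 2 → K) (d i : ℕ) : Pts F → K := fun x => lin ι w x ^ i * lin ι z x ^ (d - i)

theorem funRep_mem_Vd {d : ℕ} {f : Pts F → K} (hf : f ∈ Vd ι d) (g : SL F) : funRep g f ∈ Vd ι d := by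
  refine Submodule.span_induction ?_ ?_ ?_ ?_ hf
  · rintro _ ⟨g', rfl⟩
    rw [← End.mul_apply, ← map_mul]
    exact Submodule.subset_span ⟨g * g', rfl⟩
  · rw [map_zero]; exact zero_mem _
  · intro a b _ _ ha hb; rw [map_add]; exact add_mem ha hb
  · intro c a _ ha; rw [map_smul]; exact Submodule.smul_mem _ c ha

theorem funRep_hd (g : SL F) (d : ℕ) :
    funRep g (hd ι d) = fun x => lin ι ![ι ((g⁻¹ : SL F).1 1 0), ι ((g⁻¹ : SL F).1 1 1)] x ^ d := by
  funext x
  simp [funRep_apply, hd, lin, move, Matrix.mulVec, dotProduct, Fin.sum_univ_two]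

theorem lin_pow_mem_Vd (d : ℕ) {a b : F} (h : ¬ (a = 0 ∧ b = 0)) :
    (fun x => lin ι ![ι a, ι b] x ^ d) ∈ Vd ι d := by
  obtain ⟨N, h0, h1⟩ : ∃ N : SL F, N.1 1 0 = a ∧ N.1 1 1 = b := by
    by_cases hb : b = 0
    · have ha : a ≠ 0 := fun ha => h ⟨ha, hb⟩
      exact ⟨⟨!![0, -a⁻¹; a, 0], by rw [Matrix.det_fin_two_of]; field_simp; ring⟩, by simp, by simp [hb]⟩
    · exact ⟨⟨!![b⁻¹, 0; a, b], by rw [Matrix.det_fin_two_of]; field_simp; ring⟩, by simp, by simp⟩
  refine Submodule.subset_span ⟨N⁻¹, ?_⟩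
  beta_reduce
  rw [funRep_hd, inv_inv, h0, h1]

variable [DecidableEq K]

/-- The expansion of a power of a combination of two forms. -/
theorem lin_pow_eq (w z : Fin 2 → K) (α β : K) (d : ℕ) :
    (fun x => lin ι (α • w + β • z) x ^ d) =
      ∑ i ∈ idx K d, ((d.choose i : K) * α ^ i * β ^ (d - i)) • mon ι w z d i := by
  funext x
  rw [Finset.sum_apply, show lin ι (α • w + β • z) x = α * lin ι w x + β * lin ι z x by simp [lin]; ring, add_pow,
    idx, Finset.sum_filter]
  refine Finset.sum_congr rfl fun i _ => ?_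
  split_ifs with h
  · simp [mon, mul_pow]; ring
  · rw [not_not.1 h]; simp

theorem Vd_le_span {w z : Fin 2 → K} {α β : K} (hB : ∀ c : Fin 2 → K, ∃ α β : K, c = α • w + β • z) (d : ℕ) :
    Vd ι d ≤ Submodule.span K (Set.range fun i : idx K d => mon ι w z d i) := by
  refine Submodule.span_le.2 ?_
  rintro _ ⟨g, rfl⟩
  obtain ⟨a, b, e⟩ := hB ![ι ((g⁻¹ : SL F).1 1 0), ι ((g⁻¹ : SL F).1 1 1)]
  rw [SetLike.mem_coe]
  beta_reduce
  rw [funRep_hd, e, lin_pow_eq]
  exact Submodule.sum_mem _ fun i hi => Submodule.smul_mem _ _ (Submodule.subset_span ⟨⟨i, hi⟩, rfl⟩)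

variable [Fintype F]

theorem sum_pow_eq [DecidableEq F] {m : ℕ} (hm : m ≠ 0) :
    ∑ a : F, ι a ^ m = if Fintype.card F - 1 ∣ m then (-1 : K) else 0 := by
  have h : ∑ a : F, a ^ m = if Fintype.card F - 1 ∣ m then (-1 : F) else 0 := by
    rw [← FiniteField.sum_pow_units F m, ← Finset.add_sum_erase _ _ (Finset.mem_univ (0 : F)), zero_pow hm, zero_add]
    refine Finset.sum_bij' (fun a ha => Units.mk0 a (Finset.ne_of_mem_erase ha)) (fun u _ => (u : F))
      (fun _ _ => Finset.mem_univ _) (fun u _ => Finset.mem_erase.2 ⟨u.ne_zero, Finset.mem_univ _⟩)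
      (fun _ _ => rfl) (fun u _ => Units.ext rfl) (fun _ _ => rfl)
  have e := congrArg ι h
  rw [map_sum] at e
  simp only [map_pow] at e
  rw [e]
  split_ifs <;> simp

/-- The monomials in the coordinates. -/
def mon0 (d i : ℕ) : Pts F → K := mon ι ![1, 0] ![0, 1] d i

theorem mon0_apply (d i : ℕ) (x : Pts F) : mon0 ι d i x = ι (x.1 0) ^ i * ι (x.1 1) ^ (d - i) := by
  simp [mon0, mon, lin]

theorem mon0_mem_Vd [DecidableEq F] {d i : ℕ} (hd' : d ≤ Fintype.card F - 1) (hi : i ∈ idx K d) :
    mon0 ι d i ∈ Vd ι d := by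
  obtain ⟨hle, hc⟩ := Finset.mem_filter.1 hi
  rw [Finset.mem_range] at hle
  rcases Nat.eq_zero_or_pos i with rfl | hpos
  · have e : mon0 ι d 0 = funRep (1 : SL F) (hd ι d) := by
      funext x; simp [mon0_apply, hd]
    rw [e]
    exact Submodule.subset_span ⟨1, rfl⟩
  obtain ⟨j, hj⟩ : ∃ j, j = Fintype.card F - 1 - i := ⟨_, rfl⟩
  have hmem : ∑ a : F, ι a ^ j • (fun x => lin ι ![ι a, ι 1] x ^ d) ∈ Vd ι d :=
    Submodule.sum_mem _ fun a _ => Submodule.smul_mem _ _ (lin_pow_mem_Vd ι d (by simp))
  have key : ∑ a : F, ι a ^ j • (fun x : Pts F => lin ι ![ι a, ι 1] x ^ d) = (-(d.choose i : K)) • mon0 ι d i := by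
    have hex : ∀ a : F, (fun x : Pts F => lin ι ![ι a, ι 1] x ^ d) =
        ∑ k ∈ idx K d, ((d.choose k : K) * ι a ^ k) • mon0 ι d k := fun a => by
      have e : (![ι a, ι 1] : Fin 2 → K) = ι a • ![1, 0] + (1 : K) • ![0, 1] := by
        funext k; fin_cases k <;> simp
      rw [e, lin_pow_eq]
      exact Finset.sum_congr rfl fun k _ => by rw [one_pow, mul_one]; rfl
    simp only [hex, Finset.smul_sum, smul_smul]
    rw [Finset.sum_comm, Finset.sum_eq_single i]
    · rw [← Finset.sum_smul]
      congr 1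
      rw [Finset.sum_congr rfl fun a _ => show ι a ^ j * ((d.choose i : K) * ι a ^ i) =
        (d.choose i : K) * ι a ^ (i + j) by rw [pow_add]; ring, ← Finset.mul_sum, sum_pow_eq ι (by omega),
        if_pos (by rw [hj, Nat.add_sub_cancel' (by omega)]), mul_neg_one]
    · intro k hk hne
      rw [← Finset.sum_smul, Finset.sum_congr rfl fun a _ => show ι a ^ j * ((d.choose k : K) * ι a ^ k) =
        (d.choose k : K) * ι a ^ (k + j) by rw [pow_add]; ring, ← Finset.mul_sum]
      have hk' : k ≤ d := Nat.lt_succ_iff.1 (Finset.mem_range.1 (Finset.mem_filter.1 hk).1)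
      by_cases h0 : k + j = 0
      · simp only [h0, pow_zero, Finset.sum_const, Finset.card_univ, nsmul_one]
        rw [← map_natCast ι (Fintype.card F), FiniteField.cast_card_eq_zero, map_zero, mul_zero, zero_smul]
      · rw [sum_pow_eq ι h0, if_neg, mul_zero, zero_smul]
        intro hdvd
        obtain ⟨c, hc'⟩ := hdvd
        have hlt : k + j < 2 * (Fintype.card F - 1) := by omega
        rcases Nat.lt_or_ge c 2 with h2 | h2
        · interval_cases c <;> omega
        · have := Nat.mul_le_mul_left (Fintype.card F - 1) h2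
          omega
    · exact fun h => absurd hi h
  rw [key] at hmem
  have := Submodule.smul_mem _ (-(d.choose i : K))⁻¹ hmem
  rwa [smul_smul, inv_mul_cancel₀ (neg_ne_zero.2 hc), one_smul] at this

theorem eq_zero_of_sum_mon0 {d : ℕ} (hd' : d ≤ Fintype.card F - 1) (c : ℕ → K)
    (h : ∀ x : Pts F, x.1 1 = 1 → ∑ i ∈ idx K d, c i * mon0 ι d i x = 0) : ∀ i ∈ idx K d, c i = 0 := by
  classical
  obtain ⟨P, hP⟩ : ∃ P : Polynomial K, P = ∑ i ∈ idx K d, Polynomial.monomial i (c i) := ⟨_, rfl⟩
  have hP0 : P = 0 := by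
    refine Polynomial.eq_zero_of_natDegree_lt_card_of_eval_eq_zero P (f := ι) ι.injective (fun a => ?_) ?_
    · have e := h ⟨![a, 1], fun e => by simpa using congrFun e 1⟩ (by simp)
      rw [hP, Polynomial.eval_finsetSum]
      refine Eq.trans (Finset.sum_congr rfl fun i _ => ?_) e
      rw [Polynomial.eval_monomial]
      refine Eq.trans ?_ (congrArg (c i * ·) (mon0_apply ι d i _).symm)
      show c i * ι a ^ i = c i * (ι a ^ i * ι 1 ^ (d - i))
      rw [map_one, one_pow, mul_one]
    · have hle : P.natDegree ≤ d := hP ▸ Polynomial.natDegree_sum_le_of_forall_le _ _ fun i hi =>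
        (Polynomial.natDegree_monomial_le _).trans (Nat.lt_succ_iff.1 (Finset.mem_range.1 (Finset.mem_filter.1 hi).1))
      have := Fintype.card_pos (α := F)
      omega
  intro i hi
  have e := congrArg (Polynomial.coeff · i) hP0
  rw [hP] at e
  simpa [Polynomial.finsetSum_coeff, Polynomial.coeff_monomial, hi] using e

theorem linearIndependent_mon0 {d : ℕ} (hd' : d ≤ Fintype.card F - 1) :
    LinearIndependent K fun i : idx K d => mon0 ι d i := by
  classical
  rw [Fintype.linearIndependent_iff]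
  intro c hc i
  have h := eq_zero_of_sum_mon0 ι hd' (fun k => if hk : k ∈ idx K d then c ⟨k, hk⟩ else 0) (fun x _ => ?_) i i.2
  · rw [dif_pos i.2] at h; exact h
  · rw [← Finset.sum_coe_sort]
    have e := congrFun hc x
    simpa using e

/-- The dimensions of the eigenspaces of a diagonalisable element on the span of the translates. -/
theorem finrank_Vd_eig [DecidableEq F] {d : ℕ} (hd' : d ≤ Fintype.card F - 1) (s : SL F) {μ : K} {w z : Fin 2 → K}
    (hB : ∀ c : Fin 2 → K, ∃ α β : K, c = α • w + β • z) (hw : ∀ x, lin ι w (move s⁻¹ x) = μ * lin ι w x)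
    (hz : ∀ x, lin ι z (move s⁻¹ x) = μ⁻¹ * lin ι z x) (ν : K) :
    finrank K ↥(Vd ι d ⊓ eig (funRep (K := K) s) ν) =
      ((idx K d).filter fun i => μ ^ i * μ⁻¹ ^ (d - i) = ν).card := by
  classical
  obtain ⟨b, hb⟩ : ∃ b : idx K d → Pts F → K, b = fun i : idx K d => mon ι w z d i := ⟨_, rfl⟩
  have hle : Vd ι d ≤ Submodule.span K (Set.range b) := hb ▸ Vd_le_span ι (α := 0) (β := 0) hB d
  have hge : (idx K d).card ≤ finrank K ↥(Vd ι d) := by
    have := LinearMap.finrank_le_finrank_of_injective (f := Submodule.inclusion (show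
      Submodule.span K (Set.range fun i : idx K d => mon0 ι d i) ≤ Vd ι d from Submodule.span_le.2 (by
        rintro _ ⟨i, rfl⟩; exact mon0_mem_Vd ι hd' i.2))) (Submodule.inclusion_injective _)
    rwa [finrank_span_eq_card (linearIndependent_mon0 ι hd'), Fintype.card_coe] at this
  have hcard : finrank K ↥(Submodule.span K (Set.range b)) ≤ (idx K d).card :=
    (finrank_range_le_card b).trans (Fintype.card_coe _).le
  have heq : Vd ι d = Submodule.span K (Set.range b) := Submodule.eq_of_le_of_finrank_le hle (hcard.trans hge)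
  have hli : LinearIndependent K b := by
    rw [linearIndependent_iff_card_eq_finrank_span, Fintype.card_coe]
    refine le_antisymm ?_ hcard
    rw [heq] at hge
    exact hge
  rw [heq, finrank_span_inf_eig hli _ (fun i => μ ^ (i : ℕ) * μ⁻¹ ^ (d - i)) (fun i => funext fun x => by
    simp only [hb, funRep_apply, mon, hw, hz, Pi.smul_apply, smul_eq_mul]; ring) ν]
  rw [← Fintype.card_coe ((idx K d).filter _), ← Fintype.card_subtype]
  exact Fintype.card_congr ⟨fun i => ⟨i.1.1, Finset.mem_filter.2 ⟨i.1.2, i.2⟩⟩,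
    fun i => ⟨⟨i.1, (Finset.mem_filter.1 i.2).1⟩, (Finset.mem_filter.1 i.2).2⟩, fun _ => rfl, fun _ => rfl⟩

end CfsgLib.Known.E8SL2
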