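import Cfsg.Agent.Lib.Known.E8SL2.Arith
import Cfsg.Agent.Lib.Known.AltE8.Kernel
import Cfsg.Agent.Lib.Known.E8SL2.Fun

/-!
# Elements of order prime to the Weyl group fixed by the Frobenius map
-/

set_option autoImplicit false
set_option maxRecDepth 20000
set_option maxHeartbeats 1000000

namespace CfsgLib.Known.E8SL2

open Module
open Cfsg.Lie (chevE8)
open CfsgLib.Lie.Chev hiding monP
open CfsgLib.Known.AltE6 (chi monMatrix monMatrix_mul monMatrix_inj monP monP_one cartBlock_one torus_monMatrix rep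
  rep_apply exists_monMatrix monP_mulVec)
open CfsgLib.Perm.AltSection (eig mem_eig)
open scoped Matrix

variable {K : Type*} [Field K] [Fintype K]

theorem not_dvd_index_HS {l : ℕ} [Fact l.Prime] (h : l ∣ Fintype.card K - 1) (h2 : l ≠ 2)
    (hW : ¬ l ∣ 696729600) : ¬ l ∣ (chevRel certE8 K).HS.index := by
  haveI := (chevRel certE8 K).Finite_of_field
  intro hd
  have e := AltE8.val_prod_degrees K h h2
  rw [padicValNat.eq_zero_of_not_dvd hW] at e
  rcases padicValNat.eq_zero_iff.1 e with h1 | h1 | h1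
  · exact (Fact.out : l.Prime).ne_one h1
  · exact Subgroup.index_ne_zero_of_finite h1
  · exact h1 hd

theorem card_filter_sum' {α β : Type*} [Fintype α] [Fintype β] (P : α ⊕ β → Prop) [DecidablePred P] :
    (Finset.univ.filter P).card =
      (Finset.univ.filter fun a => P (Sum.inl a)).card + (Finset.univ.filter fun b => P (Sum.inr b)).card := by
  simp only [Finset.card_filter, Fintype.sum_sum_type]

/-- An element of the torus with exponents. -/
def HasExp {M : ℕ} (ζ : Kˣ) (h : ↥(chevE8.group K)) (f : Fin 8 → ZMod M) : Prop :=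
  (chevRel certE8 K).mat h = monMatrix (chevRel certE8 K) 1 fun r => ζ ^ (fv f (r : ℕ)).val

omit [Fintype K] in
theorem monMatrix_one_one : monMatrix (chevRel certE8 K) 1 (fun _ => (1 : Kˣ)) = 1 := by
  simp [monMatrix, cartBlock_one, monP_one, Matrix.fromBlocks_one]

omit [Fintype K] in
theorem mat_pow {h : ↥(chevE8.group K)} {a : Fin chevE8.nroots → Kˣ}
    (ha : (chevRel certE8 K).mat h = monMatrix (chevRel certE8 K) 1 a) :
    ∀ k : ℕ, (chevRel certE8 K).mat (h ^ k) = monMatrix (chevRel certE8 K) 1 fun r => a r ^ k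
  | 0 => by simp [monMatrix, cartBlock_one, monP_one, Matrix.fromBlocks_one, (chevRel certE8 K).mat_one]
  | k + 1 => by
    rw [pow_succ, (chevRel certE8 K).mat_mul, mat_pow ha k, ha, monMatrix_mul _ (chevRel certE8 K).isLin_one, one_mul]
    simp [pow_succ]

omit [Fintype K] in
theorem exists_exp {M : ℕ} [NeZero M] {ζ : Kˣ} (hζ : orderOf ζ = M) {h : ↥(chevE8.group K)}
    (hh : h ∈ (chevRel certE8 K).HS) (hM : h ^ M = 1) : ∃ f : Fin 8 → ZMod M, HasExp ζ h f := by
  classical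
  obtain ⟨v, hv⟩ := torus_monMatrix K certE8 hh
  have e := mat_pow hv M
  rw [hM, (chevRel certE8 K).mat_one, ← monMatrix_one_one] at e
  have hpow := congrFun (monMatrix_inj _ e).2
  have hk : ∀ k : Fin chevE8.rank, ∃ i : ℕ, ζ ^ i = v k := fun k => by
    have h1 := hpow ((chevRel certE8 K).sroot k)
    have e' : chi auxE8 v (((chevRel certE8 K).sroot k : Fin chevE8.nroots) : ℕ) = v k := by
      rw [chi, Finset.prod_eq_single k]
      · rw [(chevRel certE8 K).coef_sroot, if_pos rfl, zpow_one]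
      · intro j _ hj; rw [(chevRel certE8 K).coef_sroot, if_neg hj, zpow_zero]
      · simp
    simp only [e'] at h1
    have hprim : IsPrimitiveRoot (ζ : K) M :=
      (hζ ▸ IsPrimitiveRoot.orderOf ζ).map_of_injective (f := Units.coeHom K) Units.val_injective
    obtain ⟨i, -, hi⟩ := hprim.eq_pow_of_pow_eq_one (ξ := ((v k : Kˣ) : K))
      (by rw [← Units.val_pow_eq_pow_val, ← h1, Units.val_one])
    exact ⟨i, Units.ext (by rw [Units.val_pow_eq_pow_val, hi])⟩
  choose i hi using hk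
  refine ⟨fun k => (i k : ℕ), ?_⟩
  rw [HasExp, hv]
  refine congrArg (monMatrix (chevRel certE8 K) 1) (funext fun r => ?_)
  rw [show chi auxE8 v (r : ℕ) = ∏ j : Fin 8, ζ ^ (auxE8.coef j r * (i j : ℤ)) from Finset.prod_congr rfl fun j _ => by
      rw [← hi j, ← zpow_natCast, ← zpow_mul, mul_comm], ← zpow_finset_sum, ← zpow_natCast]
  refine zpow_eq_zpow_iff_modEq.2 ?_
  rw [hζ]
  refine (ZMod.intCast_eq_intCast_iff _ _ M).1 ?_
  rw [Int.cast_natCast, ZMod.natCast_zmod_val]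
  simp [fv]

omit [Fintype K] in
theorem eq_one_of_smul_eq_zero {M : ℕ} [NeZero M] {ζ : Kˣ} (hζ : orderOf ζ = M) {h : ↥(chevE8.group K)}
    {f : Fin 8 → ZMod M} (hf : HasExp ζ h f) {d : ℕ} (hd : (d : ZMod M) • f = 0) : h ^ d = 1 := by
  refine chevRel_injective certE8 K ((chevRel certE8 K).θ_eq_of_mat ?_)
  rw [mat_pow hf d, (chevRel certE8 K).mat_one, ← monMatrix_one_one]
  refine congrArg (monMatrix (chevRel certE8 K) 1) (funext fun r => ?_)
  rw [← pow_mul]
  refine orderOf_dvd_iff_pow_eq_one.1 ?_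
  rw [hζ, ← ZMod.natCast_eq_zero_iff, Nat.cast_mul, ZMod.natCast_zmod_val, mul_comm, ← fv_smul, hd]
  simp [fv]

omit [Fintype K] in
theorem finrank_eig_exp {M : ℕ} [NeZero M] {ζ : Kˣ} (hζ : orderOf ζ = M) {h : ↥(chevE8.group K)}
    {f : Fin 8 → ZMod M} (hf : HasExp ζ h f) (x : ZMod M) :
    finrank K ↥(eig (rep chevE8 K h) ((ζ : K) ^ x.val)) =
      (if x = 0 then 8 else 0) + (Finset.univ.filter fun r : Fin chevE8.nroots => fv f (r : ℕ) = x).card := by
  classical
  obtain ⟨a, ha⟩ : ∃ a : chevE8.Idx → Kˣ, a = Sum.elim (fun _ : Fin chevE8.rank => (1 : Kˣ))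
      (fun r : Fin chevE8.nroots => ζ ^ (fv f (r : ℕ)).val) := ⟨_, rfl⟩
  have hrep : rep chevE8 K h = Matrix.toLin' (monP 1 a) := by
    rw [rep_apply certE8, hf, monMatrix, cartBlock_one, ha]
    congr 1
    ext u s
    rcases u with u | u <;> rcases s with s | s <;> simp [monP, Matrix.one_apply]
    exact ite_congr rfl (fun _ => rfl) (fun _ => rfl)
  obtain ⟨b, hb⟩ : ∃ b, b = Pi.basisFun K chevE8.Idx := ⟨_, rfl⟩
  have hT : ∀ i, rep chevE8 K h (b i) = ((a i : Kˣ) : K) • b i := fun i => by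
    rw [hrep, Matrix.toLin'_apply, hb, Pi.basisFun_apply]
    refine funext fun r => (monP_mulVec (1 : Equiv.Perm chevE8.Idx) a (Pi.single i 1) r).trans ?_
    rcases eq_or_ne r i with e | e
    · subst e; simp
    · simp [e]
  have h1 := finrank_span_inf_eig b.linearIndependent (rep chevE8 K h) (fun i => ((a i : Kˣ) : K)) hT
    ((ζ : K) ^ x.val)
  rw [b.span_eq, top_inf_eq] at h1
  have hinj : ∀ y : ZMod M, ((ζ ^ y.val : Kˣ) : K) = (ζ : K) ^ x.val ↔ y = x := fun y =>
    ⟨fun e => ZMod.val_injective M (pow_injOn_Iio_orderOf (x := ζ) (by rw [hζ]; exact ZMod.val_lt y)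
      (by rw [hζ]; exact ZMod.val_lt x) (Units.ext (by rw [e, Units.val_pow_eq_pow_val]))),
      fun e => by rw [e, Units.val_pow_eq_pow_val]⟩
  have e0 : ((1 : Kˣ) : K) = (ζ : K) ^ x.val ↔ x = 0 := by
    rw [show (1 : Kˣ) = ζ ^ (0 : ZMod M).val by simp, hinj, eq_comm]
  rw [h1, card_filter_sum' (fun i : Fin chevE8.rank ⊕ Fin chevE8.nroots => ((a i : Kˣ) : K) = (ζ : K) ^ x.val)]
  refine congrArg₂ (· + ·) ?_ (congrArg Finset.card (Finset.filter_congr fun r _ => ?_))
  · rw [ha]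
    simp only [Sum.elim_inl, e0]
    by_cases hx : x = 0
    · rw [if_pos hx, Finset.filter_eq_self.2 fun _ _ => hx, Finset.card_univ, Fintype.card_fin]; rfl
    · rw [if_neg hx, Finset.filter_eq_empty_iff.2 fun _ _ => hx, Finset.card_empty]
  · rw [ha]
    simp only [Sum.elim_inr, hinj]

omit [Fintype K] in
theorem finrank_eig_conj (g x : ↥(chevE8.group K)) (ν : K) :
    finrank K ↥(eig (rep chevE8 K (g * x * g⁻¹)) ν) = finrank K ↥(eig (rep chevE8 K x) ν) := by
  have hgi : Function.Injective (rep chevE8 K g) := fun a b e => by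
    have := congrArg (rep chevE8 K g⁻¹) e
    rwa [← End.mul_apply, ← End.mul_apply, ← map_mul, inv_mul_cancel, map_one, End.one_apply, End.one_apply] at this
  have e : eig (rep chevE8 K (g * x * g⁻¹)) ν = (eig (rep chevE8 K x) ν).map (rep chevE8 K g) := by
    ext v
    simp only [mem_eig, Submodule.mem_map]
    constructor
    · intro hv
      refine ⟨rep chevE8 K g⁻¹ v, hgi ?_, ?_⟩
      · rw [map_smul, ← End.mul_apply, ← End.mul_apply, ← map_mul, ← map_mul, ← End.mul_apply, ← map_mul,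
          mul_inv_cancel, map_one, End.one_apply]
        exact hv
      · rw [← End.mul_apply, ← map_mul, mul_inv_cancel, map_one, End.one_apply]
    · rintro ⟨w, hw, rfl⟩
      rw [← End.mul_apply, ← map_mul, show g * x * g⁻¹ * g = g * x by group, map_mul, End.mul_apply, hw, map_smul]
  rw [e, ← LinearEquiv.finrank_eq (Submodule.equivMapOfInjective _ hgi _)]

/-- The exponents of an element fixed by the Frobenius map are scaled by three by the Weyl group. -/
theorem exists_wq_of_frob (τ : K ≃+* K) (hτ : ∀ a, τ a = a ^ 3) {M : ℕ} [NeZero M] {ζ : Kˣ} (hζ : orderOf ζ = M)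
    {x g : ↥(chevE8.group K)} (hfix : fieldAut chevE8 τ x = x) (hh : g * x * g⁻¹ ∈ (chevRel certE8 K).HS)
    {f : Fin 8 → ZMod M} (hf : HasExp ζ (g * x * g⁻¹) f) :
    ∃ π : (chevRel certE8 K).WQ, ∀ r : Fin chevE8.nroots,
      fv f ((chevRel certE8 K).qact π r : ℕ) = 3 * fv f (r : ℕ) := by
  classical
  obtain ⟨h, hhe⟩ : ∃ h, h = g * x * g⁻¹ := ⟨_, rfl⟩
  rw [← hhe] at hh hf
  have h3 : fieldAut chevE8 τ h = h ^ 3 := by
    obtain ⟨c, hc⟩ := (chevRel certE8 K).torusHom_surjective ⟨h, hh⟩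
    have e : (((chevRel certE8 K).torusHom c : (chevRel certE8 K).HS) : ↥(chevE8.group K)) = h := congrArg Subtype.val hc
    rw [← e, ChevFixed.fieldAut_torusHom certE8 τ, ← Subgroup.coe_pow, ← map_pow]
    refine congrArg (fun c => (((chevRel certE8 K).torusHom c : (chevRel certE8 K).HS) : ↥(chevE8.group K)))
      (funext fun i => Units.ext ?_)
    simp [hτ]
  obtain ⟨γ, hγ⟩ : ∃ γ, γ = fieldAut chevE8 τ g * g⁻¹ := ⟨_, rfl⟩
  have hγh : γ * h * γ⁻¹ = h ^ 3 := by
    rw [← h3, hγ, hhe, map_mul, map_mul, map_inv, hfix]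
    group
  obtain ⟨b, hb, n, u, hu, e⟩ := (chevRel certE8 K).exists_bnu γ
  have hn := AltTorus.conj_eq_of_bnu (chevRel certE8 K) hb hu e hh (by rw [hγh]; exact pow_mem hh 3)
  rw [hγh] at hn
  have hn' : (n : ↥(chevE8.group K)) * h = h ^ 3 * n := by rw [← hn]; group
  obtain ⟨a, -, ha, -⟩ := exists_monMatrix K certE8 AltE8.symE8 n
  have e2 := congrArg (chevRel certE8 K).mat hn'
  rw [(chevRel certE8 K).mat_mul, (chevRel certE8 K).mat_mul, mat_pow hf 3, hf, ha,
    monMatrix_mul _ ((chevRel certE8 K).isLin_nsPerm n), monMatrix_mul _ (chevRel certE8 K).isLin_one] at e2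
  have h1 := congrFun (monMatrix_inj _ e2).2
  refine ⟨((chevRel certE8 K).qmk n)⁻¹, fun r => ?_⟩
  obtain ⟨s, rfl⟩ : ∃ s, (chevRel certE8 K).nsPerm n s = r := ((chevRel certE8 K).nsPerm n).surjective r
  rw [map_inv, (chevRel certE8 K).qact_qmk, Equiv.Perm.inv_def, Equiv.symm_apply_apply]
  have h2 := h1 s
  simp only [Equiv.Perm.one_apply] at h2
  rw [mul_comm] at h2
  have h4 := mul_right_cancel h2
  rw [← pow_mul, pow_eq_pow_iff_modEq, hζ, ← ZMod.natCast_eq_natCast_iff, Nat.cast_mul, ZMod.natCast_zmod_val,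
    ZMod.natCast_zmod_val] at h4
  rw [h4]
  push_cast
  ring

/-- The functional of an element of prime power order fixed by the Frobenius map. -/
theorem exists_functional (τ : K ≃+* K) (hτ : ∀ a, τ a = a ^ 3) {l e : ℕ} [Fact l.Prime] [NeZero (l ^ (e + 1))]
    (hl : l ∣ Fintype.card K - 1) (hl2 : l ≠ 2) (hW : ¬ l ∣ 696729600) {ζ : Kˣ} (hζ : orderOf ζ = l ^ (e + 1))
    {x : ↥(chevE8.group K)} (hfix : fieldAut chevE8 τ x = x) (hx : x ^ (l ^ (e + 1)) = 1) (hx1 : x ^ (l ^ e) ≠ 1) :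
    ∃ f : Fin 8 → ZMod (l ^ (e + 1)), ((l ^ e : ℕ) : ZMod (l ^ (e + 1))) • f ≠ 0 ∧
      (∃ π : (chevRel certE8 K).WQ, ∀ r : Fin chevE8.nroots,
        fv f ((chevRel certE8 K).qact π r : ℕ) = 3 * fv f (r : ℕ)) ∧
      ∀ y : ZMod (l ^ (e + 1)), finrank K ↥(eig (rep chevE8 K x) ((ζ : K) ^ y.val)) =
        (if y = 0 then 8 else 0) + (Finset.univ.filter fun r : Fin chevE8.nroots => fv f (r : ℕ) = y).card := by
  haveI : Finite ↥(chevE8.group K) := (chevRel certE8 K).Finite_of_field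
  have hp : IsPGroup l (Subgroup.zpowers x) := by
    rintro ⟨z, k, rfl⟩
    refine ⟨e + 1, Subtype.ext ?_⟩
    show (x ^ k) ^ (l ^ (e + 1)) = 1
    rw [← zpow_natCast, ← zpow_mul, mul_comm, zpow_mul, zpow_natCast, hx, one_zpow]
  obtain ⟨g, hg⟩ := AltTorus.exists_conj_into (not_dvd_index_HS hl hl2 hW) hp
  have hh := hg x (Subgroup.mem_zpowers x)
  obtain ⟨f, hf⟩ := exists_exp hζ hh (by rw [conj_pow, hx, mul_one, mul_inv_cancel])
  refine ⟨f, fun h0 => hx1 ?_, exists_wq_of_frob τ hτ hζ hfix hh hf, fun y => ?_⟩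
  · have h := eq_one_of_smul_eq_zero hζ hf h0
    rwa [conj_pow, mul_inv_eq_one, mul_eq_left] at h
  · rw [← finrank_eig_conj g x, finrank_eig_exp hζ hf y]

end CfsgLib.Known.E8SL2
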