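import Cfsg.Agent.Lib.Known.E8SL2.Weights
import Cfsg.Agent.Lib.Known.E8SL2.Toral

/-!
# The representation of a special linear subgroup on the Lie algebra of type E8
-/

set_option autoImplicit false
set_option maxRecDepth 20000

namespace CfsgLib.Known.E8SL2

open Module Matrix
open Cfsg.Lie (chevE8)
open CfsgLib.Lie.Chev hiding monP
open CfsgLib.Known.AltE6 (rep rep_apply)
open CfsgLib.Known.ChevFixed (groupMap groupMap_injective)
open CfsgLib.Perm.AltSection (eig mem_eig)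

section Diag

variable {F : Type*} [Field F] {K : Type*} [Field K] (ι : F →+* K)

/-- The companion element of a trace. -/
def cmp (τ : F) : SL F := ⟨!![τ, -1; 1, 0], by simp [Matrix.det_fin_two_of]⟩

theorem cmp_inv (τ : F) : (cmp τ)⁻¹ = ⟨!![0, 1; -1, τ], by simp [Matrix.det_fin_two_of]⟩ :=
  inv_eq_of_mul_eq_one_right (Subtype.ext (by
    show !![τ, -1; 1, 0] * !![0, 1; -1, τ] = 1
    simp [Matrix.mul_fin_two, Matrix.one_fin_two]))

theorem cmp_zero_sq : cmp (0 : F) * cmp 0 = negOne F := Subtype.ext (by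
  show !![(0 : F), -1; 1, 0] * !![0, -1; 1, 0] = !![-1, 0; 0, -1]
  simp [Matrix.mul_fin_two])

theorem cmp_diag {τ : F} {μ : K} (hμ0 : μ ≠ 0) (hne : μ * μ ≠ 1) (hτ : ι τ = μ + μ⁻¹) :
    IsDiag ι (cmp τ) μ ∧ ∀ k : ℕ, cmp τ ^ k = 1 → μ ^ k = 1 := by
  have hm : ∀ ν : K, ν = μ ∨ ν = μ⁻¹ → ∀ x : Pts F,
      lin ι ![1, -ν] (move (cmp τ)⁻¹ x) = ν * lin ι ![1, -ν] x := by
    intro ν hν x
    have e : ν * (μ + μ⁻¹) = 1 + ν * ν := by
      rcases hν with rfl | rfl
      · field_simp; ring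
      · field_simp
    rw [cmp_inv]
    simp [lin, move, Matrix.vecHead, Matrix.vecTail, map_neg, hτ]
    linear_combination (-(ι (x.1 1))) * e
  have hw := hm μ (Or.inl rfl)
  have hz := hm μ⁻¹ (Or.inr rfl)
  refine ⟨⟨![1, -μ], ![1, -μ⁻¹], fun c => ?_, hw, hz⟩, fun k hk => ?_⟩
  · have hd : μ - μ⁻¹ ≠ 0 := fun e => hne (by rw [sub_eq_zero] at e; nth_rw 2 [e]; exact mul_inv_cancel₀ hμ0)
    refine ⟨c 0 - (c 1 + μ * c 0) / (μ - μ⁻¹), (c 1 + μ * c 0) / (μ - μ⁻¹), funext fun i => ?_⟩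
    fin_cases i
    · simp
    · simp only [Fin.mk_one, Pi.add_apply, Pi.smul_apply, smul_eq_mul, Matrix.cons_val_one, Matrix.cons_val_fin_one]
      have e : (c 1 + μ * c 0) / (μ - μ⁻¹) * (μ - μ⁻¹) = c 1 + μ * c 0 := div_mul_cancel₀ _ hd
      linear_combination -e
  · have key : ∀ (n : ℕ) (x : Pts F), lin ι ![1, -μ] (move (cmp τ ^ n)⁻¹ x) = μ ^ n * lin ι ![1, -μ] x := by
      intro n
      induction n with
      | zero => intro x; simp [move_one]
      | succ n ih => intro x; rw [pow_succ', _root_.mul_inv_rev, move_mul, ih, hw, pow_succ, mul_assoc]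
    have h := key k (p0 F)
    rw [hk, inv_one, move_one] at h
    simpa [lin, p0] using h.symm

theorem exists_cmp [Fintype F] {μ : K} (hμ0 : μ ≠ 0) (hne : μ * μ ≠ 1)
    (hfix : (μ + μ⁻¹) ^ Fintype.card F = μ + μ⁻¹) :
    ∃ s : SL F, IsDiag ι s μ ∧ ∀ k : ℕ, s ^ k = 1 → μ ^ k = 1 := by
  obtain ⟨τ, hτ⟩ := Lie.OddInvolution.mem_range_of_pow_eq ι hfix
  exact ⟨cmp τ, cmp_diag ι hμ0 hne hτ⟩

theorem sq_eq_one_of_center {s : SL F} (h : s ∈ Subgroup.center (SL F)) : s ^ 2 = 1 := by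
  obtain ⟨r, hr, hs⟩ := Matrix.SpecialLinearGroup.mem_center_iff.1 h
  rw [Fintype.card_fin] at hr
  refine Subtype.ext ?_
  rw [Matrix.SpecialLinearGroup.coe_pow, ← hs, ← map_pow, hr, map_one, Matrix.SpecialLinearGroup.coe_one]

theorem negOne_mem_center : negOne F ∈ Subgroup.center (SL F) :=
  Matrix.SpecialLinearGroup.mem_center_iff.2 ⟨-1, by simp, by
    ext i j
    fin_cases i <;> fin_cases j <;> simp [negOne, Matrix.scalar]⟩

end Diag

theorem exists_orderOf {G : Type*} [Group G] [IsCyclic G] [Finite G] {d : ℕ} (hd : d ∣ Nat.card G) :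
    ∃ g : G, orderOf g = d := by
  obtain ⟨g, hg⟩ := IsCyclic.exists_generator (α := G)
  have h := orderOf_eq_card_of_forall_mem_zpowers hg
  obtain ⟨c, hc⟩ := hd
  have hpos : 0 < Nat.card G := Nat.card_pos
  have hc0 : c ≠ 0 := fun e => by rw [e, mul_zero] at hc; omega
  exact ⟨g ^ c, by rw [orderOf_pow_of_dvd hc0 (by rw [h, hc]; exact dvd_mul_left _ _), h, hc,
    Nat.mul_div_cancel _ (Nat.pos_of_ne_zero hc0)]⟩

theorem charP_three (F : Type*) [Field F] [Fintype F] {n : ℕ} (hn : n ≠ 0) (h : Fintype.card F = 3 ^ n) :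
    CharP F 3 := by
  obtain ⟨p, hp⟩ := CharP.exists F
  obtain ⟨m, hp', hm⟩ := @FiniteField.card F _ _ p hp
  obtain rfl : p = 3 := (Nat.prime_dvd_prime_iff_eq hp' Nat.prime_three).1
    (hp'.dvd_of_dvd_pow (show p ∣ 3 ^ n from h ▸ hm ▸ dvd_pow_self p m.pos.ne'))
  exact hp

theorem exists_iota (F : Type*) [Field F] [Fintype F] [CharP F 3] [Fact (Nat.Prime 3)] {n k : ℕ} (hk : k ≠ 0)
    (hnk : n ∣ k) (h : Fintype.card F = 3 ^ n) : Nonempty (F →+* GaloisField 3 k) := by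
  letI : Algebra (ZMod 3) F := ZMod.algebra F 3
  have hdim : Module.finrank (ZMod 3) F = n :=
    Nat.pow_right_injective (le_refl 3 |>.trans' (by norm_num : 2 ≤ 3)) (by
      have h' := Module.card_eq_pow_finrank (K := ZMod 3) (V := F)
      rw [ZMod.card, h] at h'
      exact h'.symm)
  obtain ⟨ι⟩ := FiniteField.nonempty_algHom_of_finrank_dvd (F := ZMod 3) (K := F) (L := GaloisField 3 k) (by
    rw [hdim, GaloisField.finrank 3 hk]; exact hnk)
  exact ⟨ι.toRingHom⟩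

/-- The representation attached to a subgroup of the group over the prime field, and its multiplicities. -/
theorem exists_setup {F : Type*} [Field F] [Fintype F] [DecidableEq F] [CharP F 3] {K : Type*} [Field K] [Fintype K]
    [DecidableEq K] [CharP K 3] [Fact (Nat.Prime 3)] (ι : F →+* K) (τ : K ≃+* K) (hτ : ∀ a, τ a = a ^ 3)
    {H : Subgroup ↥(chevE8.group (ZMod 3))} (e : ↥H ≃* Matrix.ProjectiveSpecialLinearGroup (Fin 2) F) :
    ∃ (ψ : SL F →* ↥(chevE8.group K)) (N : ℕ → ℕ), (∀ s, fieldAut chevE8 τ (ψ s) = ψ s) ∧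
      (∀ s, ψ s = 1 → s ^ 2 = 1) ∧ ψ (negOne F) = 1 ∧ (∀ d, N d ≠ 0 → d ≤ Fintype.card F - 1 ∧ Even d) ∧
      (∀ d, 0 < d → d < Fintype.card F - 1 → N (3 * d % (Fintype.card F - 1)) = N d) ∧
      ∀ (s : SL F) (μ : K) (M : ℕ), IsDiag ι s μ → (M : K) ≠ 0 → μ ^ M = 1 → ∀ ν,
        finrank K ↥(eig (rep chevE8 K (ψ s)) ν) = ∑ d ∈ Finset.range (Fintype.card F), N d * cnt μ d ν := by
  classical
  obtain ⟨j, hj⟩ : ∃ j : ZMod 3 →+* K, j = ZMod.castHom dvd_rfl K := ⟨_, rfl⟩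
  obtain ⟨pr, hpr⟩ : ∃ pr : SL F →* Matrix.ProjectiveSpecialLinearGroup (Fin 2) F, pr = QuotientGroup.mk' _ :=
    ⟨_, rfl⟩
  obtain ⟨ψ, hψ⟩ : ∃ ψ : SL F →* ↥(chevE8.group K),
      ψ = (groupMap chevE8 j).comp (H.subtype.comp (e.symm.toMonoidHom.comp pr)) := ⟨_, rfl⟩
  have hker : ∀ s, ψ s = 1 → s ^ 2 = 1 := fun s hs => by
    refine sq_eq_one_of_center ?_
    rw [hψ, MonoidHom.comp_apply, MonoidHom.comp_apply, MonoidHom.comp_apply] at hs
    have h1 : pr s = 1 := by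
      apply e.symm.injective
      rw [map_one]
      exact H.subtype_injective ((groupMap_injective j) (hs.trans (by rw [map_one, map_one])))
    rw [hpr] at h1
    exact (QuotientGroup.eq_one_iff s).1 h1
  have hneg : ψ (negOne F) = 1 := by
    have h1 : pr (negOne F) = 1 := by rw [hpr]; exact (QuotientGroup.eq_one_iff _).2 negOne_mem_center
    rw [hψ, MonoidHom.comp_apply, MonoidHom.comp_apply, MonoidHom.comp_apply, h1, map_one, map_one, map_one]
  have hτj : ∀ a : ZMod 3, τ (j a) = j a := fun a => by rw [hτ, ← map_pow, ZMod.pow_card]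
  have hfix : ∀ s, fieldAut chevE8 τ (ψ s) = ψ s := fun s => by
    rw [hψ, MonoidHom.comp_apply]
    exact Subtype.ext (Units.ext (Matrix.ext fun a b => hτj _))
  obtain ⟨fr, hfr⟩ : ∃ fr : K →+* K, fr = τ.toRingHom := ⟨_, rfl⟩
  haveI : RingHomSurjective fr := ⟨hfr ▸ τ.surjective⟩
  have hfr3 : ∀ a, fr a = a ^ 3 := fun a => by rw [hfr]; exact hτ a
  obtain ⟨φ, hφ⟩ : ∃ φ : (chevE8.Idx → K) →ₛₗ[fr] (chevE8.Idx → K), ∀ v i, φ v i = v i ^ 3 :=
    ⟨{ toFun := fun v i => v i ^ 3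
       map_add' := fun v w => funext fun i => add_pow_char (v i) (w i) 3
       map_smul' := fun c v => funext fun i => by simp [hfr3, mul_pow] }, fun _ _ => rfl⟩
  have hbij : Function.Bijective φ := by
    refine Finite.injective_iff_bijective.1 fun v w h => funext fun i => τ.injective ?_
    have := congrFun h i
    rw [hφ, hφ] at this
    rw [hτ, hτ, this]
  have hcomm : ∀ g v, φ (rep chevE8 K (ψ g) v) = rep chevE8 K (ψ g) (φ v) := fun g v => funext fun i => by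
    obtain ⟨A, hA⟩ : ∃ A, A = (chevRel certE8 K).mat (ψ g) := ⟨_, rfl⟩
    have hA3 : ∀ a b, A a b ^ 3 = A a b := fun a b => by
      have h := congrArg (fun m => (chevRel certE8 K).mat m a b) (hfix g)
      rw [hA, ← hτ]
      exact h
    rw [rep_apply certE8, ← hA, hφ, Matrix.toLin'_apply, Matrix.toLin'_apply]
    simp only [Matrix.mulVec, dotProduct, hφ]
    rw [sum_pow_char 3 Finset.univ]
    exact Finset.sum_congr rfl fun k _ => by rw [mul_pow, hA3]
  have h2 : (2 : K) ≠ 0 := by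
    intro h
    have : ((2 : ℕ) : K) = 0 := by exact_mod_cast h
    rw [CharP.cast_eq_zero_iff K 3] at this
    omega
  obtain ⟨N, hN1, hN2, hN3⟩ := exists_mult ι (p := 3) h2 ((rep chevE8 K).comp ψ)
    (by rw [MonoidHom.comp_apply, hneg, map_one]) fr hfr3 φ hbij hcomm
  exact ⟨ψ, N, hfix, hker, hneg, hN1, hN2, hN3⟩

end CfsgLib.Known.E8SL2
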