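import Cfsg.Agent.Lib.Known.AltE6.W
import Cfsg.Agent.Lib.Lie.Chev.Data.CertE8

/-!
# Functionals modulo a number on the roots of type E8 and the counting of their values
-/

set_option autoImplicit false
set_option maxRecDepth 20000

namespace CfsgLib.Known.E8SL2

open Cfsg.Lie (chevE8)
open CfsgLib.Lie.Chev
open CfsgLib.Known.CyclicTorus (cvec wMat vecMul_wMat cvec_sroot)
open scoped Matrix

/-- The coordinates of the roots, increased by six. -/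
def coT : List (List ℕ) := [
  [4,3,2,0,1,2,3,4], [4,3,2,0,1,2,3,5], [4,3,2,0,1,2,4,5], [4,3,2,0,1,3,4,5],
  [4,3,2,0,2,3,4,5], [4,3,2,1,2,3,4,5], [4,3,3,1,2,3,4,5], [4,4,2,1,2,3,4,5],
  [4,4,3,1,2,3,4,5], [4,4,3,2,2,3,4,5], [4,4,3,2,3,3,4,5], [4,4,3,2,3,4,4,5],
  [4,4,3,2,3,4,5,5], [4,4,3,2,3,4,5,6], [5,3,3,1,2,3,4,5], [5,4,3,1,2,3,4,5],
  [5,4,3,2,2,3,4,5], [5,4,3,2,3,3,4,5], [5,4,3,2,3,4,4,5], [5,4,3,2,3,4,5,5],
  [5,4,3,2,3,4,5,6], [5,4,4,2,2,3,4,5], [5,4,4,2,3,3,4,5], [5,4,4,2,3,4,4,5],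
  [5,4,4,2,3,4,5,5], [5,4,4,2,3,4,5,6], [5,4,4,3,3,3,4,5], [5,4,4,3,3,4,4,5],
  [5,4,4,3,3,4,5,5], [5,4,4,3,3,4,5,6], [5,4,4,3,4,4,4,5], [5,4,4,3,4,4,5,5],
  [5,4,4,3,4,4,5,6], [5,4,4,3,4,5,5,5], [5,4,4,3,4,5,5,6], [5,4,4,3,4,5,6,6],
  [5,5,4,3,3,3,4,5], [5,5,4,3,3,4,4,5], [5,5,4,3,3,4,5,5], [5,5,4,3,3,4,5,6],
  [5,5,4,3,4,4,4,5], [5,5,4,3,4,4,5,5], [5,5,4,3,4,4,5,6], [5,5,4,3,4,5,5,5],
  [5,5,4,3,4,5,5,6], [5,5,4,3,4,5,6,6], [5,5,4,4,4,4,4,5], [5,5,4,4,4,4,5,5],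
  [5,5,4,4,4,4,5,6], [5,5,4,4,4,5,5,5], [5,5,4,4,4,5,5,6], [5,5,4,4,4,5,6,6],
  [5,5,4,4,5,5,5,5], [5,5,4,4,5,5,5,6], [5,5,4,4,5,5,6,6], [5,5,4,4,5,6,6,6],
  [5,5,5,4,4,4,4,5], [5,5,5,4,4,4,5,5], [5,5,5,4,4,4,5,6], [5,5,5,4,4,5,5,5],
  [5,5,5,4,4,5,5,6], [5,5,5,4,4,5,6,6], [5,5,5,4,5,5,5,5], [5,5,5,4,5,5,5,6],
  [5,5,5,4,5,5,6,6], [5,5,5,4,5,6,6,6], [5,5,5,5,5,5,5,5], [5,5,5,5,5,5,5,6],
  [5,5,5,5,5,5,6,6], [5,5,5,5,5,6,6,6], [5,5,5,5,6,6,6,6], [5,6,5,5,5,5,5,5],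
  [5,6,5,5,5,5,5,6], [5,6,5,5,5,5,6,6], [5,6,5,5,5,6,6,6], [5,6,5,5,6,6,6,6],
  [5,6,5,6,6,6,6,6], [5,6,6,6,6,6,6,6], [6,5,5,4,4,4,4,5], [6,5,5,4,4,4,5,5],
  [6,5,5,4,4,4,5,6], [6,5,5,4,4,5,5,5], [6,5,5,4,4,5,5,6], [6,5,5,4,4,5,6,6],
  [6,5,5,4,5,5,5,5], [6,5,5,4,5,5,5,6], [6,5,5,4,5,5,6,6], [6,5,5,4,5,6,6,6],
  [6,5,5,5,5,5,5,5], [6,5,5,5,5,5,5,6], [6,5,5,5,5,5,6,6], [6,5,5,5,5,6,6,6],
  [6,5,5,5,6,6,6,6], [6,5,6,5,5,5,5,5], [6,5,6,5,5,5,5,6], [6,5,6,5,5,5,6,6],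
  [6,5,6,5,5,6,6,6], [6,5,6,5,6,6,6,6], [6,5,6,6,6,6,6,6], [6,6,5,5,5,5,5,5],
  [6,6,5,5,5,5,5,6], [6,6,5,5,5,5,6,6], [6,6,5,5,5,6,6,6], [6,6,5,5,6,6,6,6],
  [6,6,5,6,6,6,6,6], [6,6,6,5,5,5,5,5], [6,6,6,5,5,5,5,6], [6,6,6,5,5,5,6,6],
  [6,6,6,5,5,6,6,6], [6,6,6,5,6,6,6,6], [6,6,6,6,5,5,5,5], [6,6,6,6,5,5,5,6],
  [6,6,6,6,5,5,6,6], [6,6,6,6,5,6,6,6], [6,6,6,6,6,5,5,5], [6,6,6,6,6,5,5,6],
  [6,6,6,6,6,5,6,6], [6,6,6,6,6,6,5,5], [6,6,6,6,6,6,5,6], [6,6,6,6,6,6,6,5],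
  [6,6,6,6,6,6,6,7], [6,6,6,6,6,6,7,6], [6,6,6,6,6,6,7,7], [6,6,6,6,6,7,6,6],
  [6,6,6,6,6,7,7,6], [6,6,6,6,6,7,7,7], [6,6,6,6,7,6,6,6], [6,6,6,6,7,7,6,6],
  [6,6,6,6,7,7,7,6], [6,6,6,6,7,7,7,7], [6,6,6,7,6,6,6,6], [6,6,6,7,7,6,6,6],
  [6,6,6,7,7,7,6,6], [6,6,6,7,7,7,7,6], [6,6,6,7,7,7,7,7], [6,6,7,6,6,6,6,6],
  [6,6,7,7,6,6,6,6], [6,6,7,7,7,6,6,6], [6,6,7,7,7,7,6,6], [6,6,7,7,7,7,7,6],
  [6,6,7,7,7,7,7,7], [6,7,6,6,6,6,6,6], [6,7,6,7,6,6,6,6], [6,7,6,7,7,6,6,6],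
  [6,7,6,7,7,7,6,6], [6,7,6,7,7,7,7,6], [6,7,6,7,7,7,7,7], [6,7,7,7,6,6,6,6],
  [6,7,7,7,7,6,6,6], [6,7,7,7,7,7,6,6], [6,7,7,7,7,7,7,6], [6,7,7,7,7,7,7,7],
  [6,7,7,8,7,6,6,6], [6,7,7,8,7,7,6,6], [6,7,7,8,7,7,7,6], [6,7,7,8,7,7,7,7],
  [6,7,7,8,8,7,6,6], [6,7,7,8,8,7,7,6], [6,7,7,8,8,7,7,7], [6,7,7,8,8,8,7,6],
  [6,7,7,8,8,8,7,7], [6,7,7,8,8,8,8,7], [7,6,6,6,6,6,6,6], [7,6,7,6,6,6,6,6],
  [7,6,7,7,6,6,6,6], [7,6,7,7,7,6,6,6], [7,6,7,7,7,7,6,6], [7,6,7,7,7,7,7,6],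
  [7,6,7,7,7,7,7,7], [7,7,7,7,6,6,6,6], [7,7,7,7,7,6,6,6], [7,7,7,7,7,7,6,6],
  [7,7,7,7,7,7,7,6], [7,7,7,7,7,7,7,7], [7,7,7,8,7,6,6,6], [7,7,7,8,7,7,6,6],
  [7,7,7,8,7,7,7,6], [7,7,7,8,7,7,7,7], [7,7,7,8,8,7,6,6], [7,7,7,8,8,7,7,6],
  [7,7,7,8,8,7,7,7], [7,7,7,8,8,8,7,6], [7,7,7,8,8,8,7,7], [7,7,7,8,8,8,8,7],
  [7,7,8,8,7,6,6,6], [7,7,8,8,7,7,6,6], [7,7,8,8,7,7,7,6], [7,7,8,8,7,7,7,7],
  [7,7,8,8,8,7,6,6], [7,7,8,8,8,7,7,6], [7,7,8,8,8,7,7,7], [7,7,8,8,8,8,7,6],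
  [7,7,8,8,8,8,7,7], [7,7,8,8,8,8,8,7], [7,7,8,9,8,7,6,6], [7,7,8,9,8,7,7,6],
  [7,7,8,9,8,7,7,7], [7,7,8,9,8,8,7,6], [7,7,8,9,8,8,7,7], [7,7,8,9,8,8,8,7],
  [7,7,8,9,9,8,7,6], [7,7,8,9,9,8,7,7], [7,7,8,9,9,8,8,7], [7,7,8,9,9,9,8,7],
  [7,8,8,9,8,7,6,6], [7,8,8,9,8,7,7,6], [7,8,8,9,8,7,7,7], [7,8,8,9,8,8,7,6],
  [7,8,8,9,8,8,7,7], [7,8,8,9,8,8,8,7], [7,8,8,9,9,8,7,6], [7,8,8,9,9,8,7,7],
  [7,8,8,9,9,8,8,7], [7,8,8,9,9,9,8,7], [7,8,8,10,9,8,7,6], [7,8,8,10,9,8,7,7],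
  [7,8,8,10,9,8,8,7], [7,8,8,10,9,9,8,7], [7,8,8,10,10,9,8,7], [7,8,9,10,9,8,7,6],
  [7,8,9,10,9,8,7,7], [7,8,9,10,9,8,8,7], [7,8,9,10,9,9,8,7], [7,8,9,10,10,9,8,7],
  [7,8,9,11,10,9,8,7], [7,9,9,11,10,9,8,7], [8,8,9,10,9,8,7,6], [8,8,9,10,9,8,7,7],
  [8,8,9,10,9,8,8,7], [8,8,9,10,9,9,8,7], [8,8,9,10,10,9,8,7], [8,8,9,11,10,9,8,7],
  [8,8,10,11,10,9,8,7], [8,9,9,11,10,9,8,7], [8,9,10,11,10,9,8,7], [8,9,10,12,10,9,8,7],
  [8,9,10,12,11,9,8,7], [8,9,10,12,11,10,8,7], [8,9,10,12,11,10,9,7], [8,9,10,12,11,10,9,8]]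

theorem coT_ok : (coT.length = 240 ∧ ∀ r : Fin 240, (coT.getD (r : ℕ) []).length = 8 ∧
    ∀ j : Fin 8, ((coT.getD (r : ℕ) []).getD (j : ℕ) 0 : ℤ) = auxE8.coef j r + 6) := by decide +kernel

section Fv

variable {M : ℕ}

/-- The value of a functional on a root. -/
def fv (f : Fin 8 → ZMod M) (r : ℕ) : ZMod M := ∑ j : Fin 8, (auxE8.coef j r : ZMod M) * f j

theorem fv_add (f g : Fin 8 → ZMod M) (r : ℕ) : fv (f + g) r = fv f r + fv g r := by
  simp [fv, mul_add, Finset.sum_add_distrib]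

theorem fv_smul (c : ZMod M) (f : Fin 8 → ZMod M) (r : ℕ) : fv (c • f) r = c * fv f r := by
  simp [fv, Finset.mul_sum, mul_left_comm]

theorem coef_simple_E8 : ∀ i j : Fin 8, auxE8.coef j (chevE8.simple i) = if j = i then 1 else 0 := by decide +kernel

theorem fv_simple (f : Fin 8 → ZMod M) (i : Fin 8) : fv f (chevE8.simple i) = f i := by
  rw [fv, Finset.sum_eq_single i]
  · simp [coef_simple_E8]
  · intro j _ hj; simp [coef_simple_E8, hj]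
  · simp

/-- The functionals scaled by three by a permutation of the roots. -/
def Good (f : Fin 8 → ZMod M) : Prop :=
  ∃ π : Equiv.Perm (Fin chevE8.nroots), ∀ r, fv f (π r : ℕ) = 3 * fv f (r : ℕ)

theorem Good.smul {f : Fin 8 → ZMod M} (h : Good f) (c : ZMod M) : Good (c • f) := by
  obtain ⟨π, hπ⟩ := h
  exact ⟨π, fun r => by rw [fv_smul, fv_smul, hπ]; ring⟩

variable {F : Type*} [Field F] {G : Type*} [Group G] (R : Rel chevE8 auxE8 F G)

/-- The transform of a functional by an element of the Weyl group. -/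
noncomputable def comp (f : Fin 8 → ZMod M) (w : R.WQ) : Fin 8 → ZMod M := fun i => fv f (R.qact w (R.sroot i) : ℕ)

theorem fv_comp (f : Fin 8 → ZMod M) (w : R.WQ) (r : Fin chevE8.nroots) :
    fv (comp R f w) (r : ℕ) = fv f (R.qact w r : ℕ) := by
  have hc : ∀ j : Fin 8, auxE8.coef j (R.qact w r : ℕ) =
      ∑ i : Fin 8, auxE8.coef i r * auxE8.coef j (R.qact w (R.sroot i) : ℕ) := fun j =>
    (congrFun (vecMul_wMat R (R.isLin_qact w) r) j).symm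
  simp only [fv, comp, hc, Int.cast_sum, Int.cast_mul, Finset.mul_sum, Finset.sum_mul]
  rw [Finset.sum_comm]
  simp only [mul_assoc]

theorem Good.comp {f : Fin 8 → ZMod M} (h : Good f) (w : R.WQ) : Good (comp R f w) := by
  obtain ⟨π, hπ⟩ := h
  exact ⟨(R.qact w).symm * π * R.qact w, fun r => by simp [fv_comp, hπ]⟩

end Fv

section Key

variable {M : ℕ}

/-- The numbers of roots in the orbits. -/
def keyv (no : ℕ) (oid : ℕ → ℕ) (f : Fin 8 → ZMod M) : List ℕ :=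
  (List.range no).map fun o => (if o = 0 then 8 else 0) +
    (Finset.univ.filter fun r : Fin chevE8.nroots => oid (fv f (r : ℕ)).val = o).card

theorem keyv_comp {F : Type*} [Field F] {G : Type*} [Group G] (R : Rel chevE8 auxE8 F G) (no : ℕ) (oid : ℕ → ℕ)
    (f : Fin 8 → ZMod M) (w : R.WQ) : keyv no oid (E8SL2.comp R f w) = keyv no oid f := by
  refine List.map_congr_left fun o _ => ?_
  congr 1
  exact Finset.card_equiv (R.qact w) fun r => by simp [fv_comp]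

/-- The check that a list of keys is closed under scaling. -/
def scaleOK (M no : ℕ) (oid : ℕ → ℕ) (σ : ℕ → ℕ → ℕ) (ks : List (List ℕ)) (c : ℕ) : Bool :=
  ((List.range M).all fun x => oid (c * x % M) == σ c (oid x) && decide (oid x < no)) &&
    ((List.range no).all fun o => ((σ c o == 0) == (o == 0)) && decide (σ c o < no) &&
      (List.range no).all fun o' => !(σ c o == σ c o') || o == o') &&
    ks.all fun k => ks.contains ((List.range no).map fun o => k.getD (σ c o) 0)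

theorem keyv_mem_of_smul [NeZero M] {no : ℕ} {oid : ℕ → ℕ} {σ : ℕ → ℕ → ℕ} {ks : List (List ℕ)} (c : ZMod M)
    (hc : scaleOK M no oid σ ks c.val = true) (f : Fin 8 → ZMod M) (h : keyv no oid (c • f) ∈ ks) :
    keyv no oid f ∈ ks := by
  simp only [scaleOK, Bool.and_eq_true, List.all_eq_true, List.mem_range, beq_iff_eq, decide_eq_true_eq,
    Bool.or_eq_true, Bool.not_eq_true', beq_eq_false_iff_ne, List.contains_iff_mem] at hc
  obtain ⟨⟨h1, h2⟩, h3⟩ := hc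
  suffices e : keyv no oid f = (List.range no).map fun o => (keyv no oid (c • f)).getD (σ c.val o) 0 by
    rw [e]; exact h3 _ h
  refine List.map_congr_left fun o ho => ?_
  rw [List.mem_range] at ho
  obtain ⟨⟨hz, hlt⟩, hinj⟩ := h2 o ho
  rw [keyv, List.getD_eq_getElem _ _ (by simpa using hlt), List.getElem_map, List.getElem_range]
  congr 1
  · by_cases h0 : o = 0
    · have : σ c.val o = 0 := by simpa [h0] using hz
      rw [if_pos h0, if_pos this]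
    · have : σ c.val o ≠ 0 := by simpa [h0] using hz
      rw [if_neg h0, if_neg this]
  · refine congrArg Finset.card (Finset.filter_congr fun r _ => ?_)
    rw [fv_smul, ZMod.val_mul, (h1 _ (ZMod.val_lt (fv f (r : ℕ)))).1]
    refine ⟨fun e => by rw [e], fun e => ?_⟩
    have hlt' := (h1 _ (ZMod.val_lt (fv f (r : ℕ)))).2
    exact ((hinj _ hlt').resolve_left fun hne => hne e.symm).symm

end Key

section Hist

/-- A digit in base 256. -/
def byte (h c : ℕ) : ℕ := Nat.land (Nat.shiftRight h (8 * c)) 255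

/-- The packed histogram of the classes. -/
def hist (cls : ℕ → ℕ) : List ℕ → ℕ
  | [] => 0
  | v :: l => Nat.shiftLeft 1 (8 * cls v) + hist cls l

theorem byte_eq (h c : ℕ) : byte h c = h / 256 ^ c % 256 := by
  show (h >>> (8 * c)) &&& (2 ^ 8 - 1) = _
  rw [Nat.and_two_pow_sub_one_eq_mod, Nat.shiftRight_eq_div_pow, pow_mul]
  norm_num

theorem div_add_pow {h a : ℕ} (hh : h / 256 ^ a % 256 < 255) (c : ℕ) :
    (256 ^ a + h) / 256 ^ c % 256 = (if a = c then 1 else 0) + h / 256 ^ c % 256 := by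
  rcases lt_trichotomy a c with hac | rfl | hca
  · obtain ⟨e, rfl⟩ := Nat.exists_eq_add_of_le (Nat.succ_le_of_lt hac)
    rw [if_neg (by omega), zero_add]
    have h1 : (256 ^ a + h) / 256 ^ (a + 1) = h / 256 ^ (a + 1) := by
      rw [pow_succ, ← Nat.div_div_eq_div_mul, ← Nat.div_div_eq_div_mul, Nat.add_div_left _ (pow_pos (by norm_num) a)]
      omega
    rw [Nat.succ_eq_add_one, pow_add, ← Nat.div_div_eq_div_mul, h1, Nat.div_div_eq_div_mul]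
  · rw [if_pos rfl, Nat.add_div_left _ (pow_pos (by norm_num) a)]
    omega
  · obtain ⟨e, rfl⟩ := Nat.exists_eq_add_of_le (Nat.succ_le_of_lt hca)
    rw [if_neg (by omega), zero_add, show 256 ^ (c + 1 + e) = 256 ^ c * (256 * 256 ^ e) by ring,
      Nat.mul_add_div (pow_pos (by norm_num) c), Nat.mul_add_mod]

theorem byte_hist (cls : ℕ → ℕ) : ∀ (l : List ℕ), l.length < 256 → ∀ c,
    byte (hist cls l) c = l.countP fun v => cls v == c
  | [], _, c => by simp [hist, byte_eq]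
  | v :: l, hl, c => by
    have ih := byte_hist cls l (by simp at hl; omega)
    have hb : hist cls l / 256 ^ cls v % 256 < 255 := by
      have h1 := ih (cls v)
      rw [byte_eq] at h1
      have := List.countP_le_length (p := fun w => cls w == cls v) (l := l)
      simp at hl
      omega
    rw [byte_eq, hist, show Nat.shiftLeft 1 (8 * cls v) = 256 ^ cls v by
      show 1 <<< (8 * cls v) = _
      rw [Nat.one_shiftLeft, pow_mul]; norm_num, div_add_pow hb, ← byte_eq, ih, List.countP_cons, add_comm]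
    simp only [beq_iff_eq]

/-- The data of a search. -/
structure Scan where
  /-- the modulus -/
  M : ℕ
  /-- the class of a value -/
  cls : ℕ → ℕ
  /-- the number of classes -/
  nc : ℕ
  /-- the class of three times a value -/
  tau : ℕ → ℕ
  /-- the orbit of a class -/
  orb : ℕ → ℕ
  /-- the number of orbits -/
  no : ℕ
  /-- the allowed keys -/
  ks : List (List ℕ)

/-- The checks on the classes. -/
def Scan.ok (S : Scan) : Bool :=
  ((List.range S.M).all fun x => (S.cls (3 * x % S.M) == S.tau (S.cls x)) && decide (S.cls x < S.nc)) &&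
    (List.range S.nc).all fun c => decide (S.tau c < S.nc) && (List.range S.nc).all fun c' =>
      !(S.tau c == S.tau c') || c == c'

/-- The test of a histogram. -/
def Scan.test (S : Scan) (mult h : ℕ) : Bool :=
  (!((List.range S.nc).all fun c => Nat.beq (byte h c) (byte h (S.tau c)))) ||
    S.ks.contains ((List.range S.no).map fun o => (if o = 0 then 8 else 0) +
      mult * (((List.range S.nc).filter fun c => S.orb c == o).map (byte h)).sum)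

theorem countP_eq_sum : ∀ (l : List ℕ) (p : ℕ → Bool),
    l.countP p = ∑ i : Fin l.length, if p (l.getD (i : ℕ) 0) then 1 else 0
  | [], p => by simp
  | a :: l, p => by
    simp only [List.length_cons, Fin.sum_univ_succ, List.countP_cons, Fin.val_zero, List.getD_cons_zero,
      Fin.val_succ, List.getD_cons_succ, ← countP_eq_sum l p]
    omega

theorem sum_filter_map (n : ℕ) (p : ℕ → Bool) (g : ℕ → ℕ) :
    (((List.range n).filter p).map g).sum = ∑ c ∈ Finset.range n, if p c then g c else 0 := by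
  induction n with
  | zero => simp
  | succ n ih => by_cases h : p n <;> simp [List.range_succ, Finset.sum_range_succ, ih, h]

/-- The roots of a list represent all roots, up to the class, evenly. -/
def Rep (S : Scan) (mult : ℕ) (L : List ℕ) (rp : ℕ → ℕ) (f : Fin 8 → ZMod S.M) : Prop :=
  (∀ r : Fin chevE8.nroots, rp r < L.length ∧
    S.cls (fv f (r : ℕ)).val = S.cls (fv f (L.getD (rp r) 0)).val) ∧
  ∀ i : Fin L.length, (Finset.univ.filter fun r : Fin chevE8.nroots => rp r = i).card = mult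

theorem key_mem_of_test (S : Scan) [NeZero S.M] (hok : S.ok = true) {mult : ℕ} {L : List ℕ} (hL : L.length < 256)
    {rp : ℕ → ℕ} {f : Fin 8 → ZMod S.M} (hf : Good f) (hrep : Rep S mult L rp f)
    (h : S.test mult (hist S.cls (L.map fun r => (fv f r).val)) = true) :
    keyv S.no (fun x => S.orb (S.cls x)) f ∈ S.ks := by
  classical
  simp only [Scan.ok, Bool.and_eq_true, List.all_eq_true, List.mem_range, beq_iff_eq, decide_eq_true_eq,
    Bool.or_eq_true, Bool.not_eq_true', beq_eq_false_iff_ne] at hok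
  obtain ⟨h1, h2⟩ := hok
  obtain ⟨cnt, hcnt⟩ : ∃ cnt : ℕ → ℕ, ∀ c, cnt c =
      (Finset.univ.filter fun r : Fin chevE8.nroots => S.cls (fv f (r : ℕ)).val = c).card := ⟨_, fun _ => rfl⟩
  obtain ⟨hR1, hR2⟩ := hrep
  have hb : ∀ c, mult * byte (hist S.cls (L.map fun r => (fv f r).val)) c = cnt c := by
    intro c
    rw [byte_hist _ _ (by simpa using hL), List.countP_map, countP_eq_sum, Finset.mul_sum, hcnt]
    rw [Finset.card_filter]
    rw [← Finset.sum_fiberwise (Finset.univ : Finset (Fin chevE8.nroots))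
      (fun r => (⟨rp r, (hR1 r).1⟩ : Fin L.length))]
    refine Finset.sum_congr rfl fun i _ => ?_
    refine Eq.trans ?_ (Finset.sum_congr rfl fun r hr => show (if S.cls (fv f (L.getD (i : ℕ) 0)).val = c then 1
        else 0) = (if S.cls (fv f (r : ℕ)).val = c then 1 else 0) by
      rw [(hR1 r).2, show rp r = (i : ℕ) from congrArg Fin.val (Finset.mem_filter.1 hr).2])
    rw [Finset.sum_const, smul_eq_mul, Finset.filter_congr (fun r _ => Fin.ext_iff), hR2 i]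
    simp only [Function.comp_apply, beq_iff_eq]
  obtain ⟨π, hπ⟩ := hf
  have hτ : ∀ c < S.nc, cnt (S.tau c) = cnt c := by
    intro c hc
    rw [hcnt, hcnt]
    refine (Finset.card_equiv π fun r => ?_).symm
    simp only [Finset.mem_filter, Finset.mem_univ, true_and]
    rw [hπ r, ZMod.val_mul]
    have e := h1 _ (ZMod.val_lt (fv f (r : ℕ)))
    rw [show (3 : ZMod S.M).val * (fv f (r : ℕ)).val % S.M = 3 * (fv f (r : ℕ)).val % S.M by
      rw [show (3 : ZMod S.M) = ((3 : ℕ) : ZMod S.M) by norm_num, ZMod.val_natCast, Nat.mod_mul_mod], e.1]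
    exact ⟨fun e' => by rw [e'], fun e' => ((h2 _ e.2).2 c hc).resolve_left fun hne => hne e'⟩
  simp only [Scan.test, Bool.or_eq_true, Bool.not_eq_true', List.all_eq_false, List.mem_range,
    List.contains_iff_mem] at h
  rcases h with ⟨c, hc, hne⟩ | h
  · rcases Nat.eq_zero_or_pos mult with hm | hm
    · subst hm
      have hne' : (Finset.univ : Finset (Fin chevE8.nroots)).Nonempty := ⟨⟨0, by decide⟩, Finset.mem_univ _⟩
      obtain ⟨r, -⟩ := hne'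
      have := hR2 ⟨rp r, (hR1 r).1⟩
      rw [Finset.card_eq_zero, Finset.filter_eq_empty_iff] at this
      exact absurd rfl (this (Finset.mem_univ r))
    · refine absurd ?_ hne
      rw [Nat.eq_of_mul_eq_mul_left hm ((hb c).trans ((hτ c hc).symm.trans (hb (S.tau c)).symm))]
      exact Nat.beq_refl _
  · convert h using 1
    refine List.map_congr_left fun o _ => ?_
    congr 1
    rw [sum_filter_map, Finset.mul_sum, Finset.card_filter]
    rw [← Finset.sum_fiberwise_of_maps_to (g := fun r : Fin chevE8.nroots => S.cls (fv f (r : ℕ)).val)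
      (fun r _ => Finset.mem_range.2 (h1 _ (ZMod.val_lt (fv f (r : ℕ)))).2)]
    refine Finset.sum_congr rfl fun c _ => ?_
    rw [mul_ite, mul_zero, hb, hcnt, Finset.card_filter, Finset.sum_filter]
    by_cases ho : S.orb c = o
    · rw [if_pos (by simpa using ho)]
      refine Finset.sum_congr rfl fun r _ => ?_
      by_cases hr : S.cls (fv f (r : ℕ)).val = c <;> simp [hr, ho]
    · rw [if_neg (by simpa using ho)]
      refine Finset.sum_eq_zero fun r _ => ?_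
      by_cases hr : S.cls (fv f (r : ℕ)).val = c <;> simp [hr, ho]

end Hist

end CfsgLib.Known.E8SL2
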