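import Cfsg.Agent.Lib.Known.E8SL2.Check121
import Cfsg.Agent.Lib.Known.AltE8.W3Data

/-!
# The keys of the elements of order 121
-/

set_option autoImplicit false
set_option maxRecDepth 100000
set_option maxHeartbeats 1000000

namespace CfsgLib.Known.E8SL2.D121

open Cfsg.Lie (chevE8)
open CfsgLib.Lie.Chev
open CfsgLib.Known.AltE6 (wq keyW)

instance : NeZero scanS.M := ⟨by decide⟩

theorem isUnit_or (x : ZMod 121) : IsUnit x ∨ ∃ k : ZMod 121, x = 11 * k := by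
  by_cases h : x.val % 11 = 0
  · refine Or.inr ⟨((x.val / 11 : ℕ) : ZMod 121), ?_⟩
    rw [show (11 : ZMod 121) = ((11 : ℕ) : ZMod 121) from rfl, ← Nat.cast_mul, Nat.mul_div_cancel' (Nat.dvd_of_mod_eq_zero h),
      ZMod.natCast_zmod_val]
  · refine Or.inl ?_
    have hc : Nat.Coprime x.val 121 :=
      show Nat.Coprime x.val (11 ^ 2) from Nat.Coprime.pow_right _
        ((Nat.Prime.coprime_iff_not_dvd (by norm_num : Nat.Prime 11)).2
          fun hd => h (Nat.dvd_iff_mod_eq_zero.1 hd)).symm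
    exact ⟨ZMod.unitOfCoprime _ hc, by rw [ZMod.coe_unitOfCoprime, ZMod.natCast_zmod_val]⟩

theorem hscale (c : ZMod scanS.M) (hc : IsUnit c) :
    scaleOK scanS.M scanS.no (fun x => scanS.orb (scanS.cls x)) sig scanS.ks c.val = true := by
  have h := scale_ok
  simp only [List.all_eq_true, List.mem_range, Bool.or_eq_true, beq_iff_eq] at h
  refine (h c.val (ZMod.val_lt c)).resolve_left fun h0 => ?_
  obtain ⟨u, rfl⟩ := hc
  have hcop : Nat.Coprime ((u : ZMod 121)).val 121 := ZMod.val_coe_unit_coprime u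
  exact absurd (Nat.eq_one_of_dvd_coprimes hcop (Nat.dvd_of_mod_eq_zero h0) (by norm_num : (11 : ℕ) ∣ 121)) (by norm_num)

theorem key_of_sol (i : ℕ) (hi : i < 25) (hz : isZ ((solAt i).dir 2) = true) (hlen : ((solAt i).dir 0).length = 8)
    {f : Fin 8 → ZMod 121} (hgood : Good f) (hne : (11 : ZMod 121) • f ≠ 0) {x y z : ZMod 121}
    (hf : f = x • toF ((solAt i).dir 0) + y • toF ((solAt i).dir 1) + z • toF ((solAt i).dir 2)) :
    keyv 25 (fun x => oid x) f ∈ keys := by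
  obtain ⟨d, hd⟩ : ∃ d, d = solAt i := ⟨_, rfl⟩
  rw [← hd] at hz hlen hf
  rw [toF_of_isZ hz, smul_zero, add_zero] at hf
  have h := List.all_eq_true.1 fams_ok i (List.mem_range.2 hi)
  rw [Bool.and_eq_true] at h
  rw [← hd] at h
  have hL : (List.range 240).length < 256 ∧ ∀ r ∈ List.range 240, r < 240 :=
    ⟨by simp, fun r hr => List.mem_range.1 hr⟩
  have h121 : (11 : ZMod 121) * 11 = 0 := by decide
  by_cases h0 : IsUnit x ∧ isZ (d.dir 0) = false
  · obtain ⟨⟨u, rfl⟩, h0'⟩ := h0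
    obtain ⟨a, ha, ea⟩ := exists_step (((u⁻¹ : (ZMod 121)ˣ) : ZMod 121) * y) (d.dir 1)
    refine key_of_line scanS scanS_ok (by decide) hL (lineFam 121 d 0) h.1 h0' hscale (a := a) (b := 0) ha
      ?_ hgood (fun c => rep_all scanS _) (Units.isUnit u) ?_
    · show 0 < steps 121 (d.dir 2)
      rw [steps, if_pos hz]; norm_num
    · show f = (u : ZMod 121) • (toF (d.dir 0) + (a : ZMod 121) • toF (d.dir 1) +
        ((0 : ℕ) : ZMod 121) • toF (d.dir 2))
      rw [ea, Nat.cast_zero, zero_smul, add_zero, smul_add, smul_smul, ← mul_assoc, Units.mul_inv, one_mul]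
      exact hf
  obtain ⟨x', hx'⟩ : ∃ x' : ZMod 121, x • (toF (d.dir 0) : Fin 8 → ZMod 121) = (11 * x') • toF (d.dir 0) := by
    rcases isUnit_or x with hu | ⟨k, hk⟩
    · refine ⟨0, ?_⟩
      rw [toF_of_isZ (by simpa [hu] using h0), smul_zero, smul_zero]
    · exact ⟨k, by rw [hk]⟩
  rw [hx'] at hf
  by_cases h1 : IsUnit y ∧ isZ (d.dir 1) = false
  · obtain ⟨⟨u, rfl⟩, h1'⟩ := h1
    obtain ⟨a, ha⟩ : ∃ a, a = (x' * ((u⁻¹ : (ZMod 121)ˣ) : ZMod 121)).val % 11 := ⟨_, rfl⟩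
    refine key_of_line scanS scanS_ok (by decide) hL (fam1 d) h.2 h1' hscale (a := a) (b := 0)
      (ha ▸ Nat.mod_lt _ (by norm_num)) Nat.one_pos hgood (fun c => rep_all scanS _) (Units.isUnit u) ?_
    show f = (u : ZMod 121) • (toF (d.dir 1) + (a : ZMod 121) • toF ((d.dir 0).map fun v => 11 * v % 121) +
        ((0 : ℕ) : ZMod 121) • toF zv)
    have e11 : (toF ((d.dir 0).map fun v => 11 * v % 121) : Fin 8 → ZMod 121) = (11 : ZMod 121) • toF (d.dir 0) := by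
      funext j
      have hj : (j : ℕ) < (d.dir 0).length := by omega
      simp only [toF, Pi.smul_apply, smul_eq_mul]
      rw [List.getD_eq_getElem _ _ (by simpa using hj), List.getElem_map, List.getD_eq_getElem _ _ hj,
        ZMod.natCast_mod, Nat.cast_mul]
      rfl
    have ea : (a : ZMod 121) * 11 = x' * ((u⁻¹ : (ZMod 121)ˣ) : ZMod 121) * 11 := by
      obtain ⟨n, hn⟩ : ∃ n, n = (x' * ((u⁻¹ : (ZMod 121)ˣ) : ZMod 121)).val := ⟨_, rfl⟩
      have e2 : (n : ZMod 121) = (a : ZMod 121) + 11 * ((n / 11 : ℕ) : ZMod 121) := by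
        rw [ha, ← hn, show (11 : ZMod 121) = ((11 : ℕ) : ZMod 121) from rfl, ← Nat.cast_mul, ← Nat.cast_add,
          Nat.mod_add_div]
      have e3 : x' * ((u⁻¹ : (ZMod 121)ˣ) : ZMod 121) = (n : ZMod 121) := by rw [hn, ZMod.natCast_zmod_val]
      rw [e3, e2, add_mul, mul_right_comm, h121, zero_mul, add_zero]
    rw [Nat.cast_zero, zero_smul, add_zero, e11, smul_add, smul_smul, smul_smul, mul_assoc, ea]
    rw [show (u : ZMod 121) * (x' * ((u⁻¹ : (ZMod 121)ˣ) : ZMod 121) * 11) =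
      (u : ZMod 121) * ((u⁻¹ : (ZMod 121)ˣ) : ZMod 121) * (11 * x') by ring, Units.mul_inv, one_mul, add_comm]
    exact hf
  obtain ⟨y', hy'⟩ : ∃ y' : ZMod 121, y • (toF (d.dir 1) : Fin 8 → ZMod 121) = (11 * y') • toF (d.dir 1) := by
    rcases isUnit_or y with hu | ⟨k, hk⟩
    · refine ⟨0, ?_⟩
      rw [toF_of_isZ (by simpa [hu] using h1), smul_zero, smul_zero]
    · exact ⟨k, by rw [hk]⟩
  refine absurd ?_ hne
  rw [hf, hy', smul_add, smul_smul, smul_smul, ← mul_assoc, ← mul_assoc, h121, zero_mul, zero_mul, zero_smul,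
    zero_smul, add_zero]

theorem three_pow : ∀ r < 5, r ≠ 0 → (3 : ZMod 121) ^ r ≠ 1 := by decide

/-- The keys. -/
theorem key_mem {F : Type*} [Field F] {G : Type*} [Group G] (R : Rel chevE8 auxE8 F G) [Finite R.WQ]
    (f : Fin 8 → ZMod 121) (hne : (11 : ZMod 121) • f ≠ 0) (π : R.WQ)
    (hπ : ∀ r : Fin chevE8.nroots, fv f (R.qact π r : ℕ) = 3 * fv f (r : ℕ)) :
    keyv 25 (fun x => oid x) f ∈ keys := by
  haveI : Fact (Nat.Prime 5) := ⟨by norm_num⟩
  have hiter : ∀ (n : ℕ) (r : Fin chevE8.nroots), fv f (R.qact (π ^ n) r : ℕ) = 3 ^ n * fv f (r : ℕ) := by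
    intro n
    induction n with
    | zero => intro r; simp
    | succ n ih => intro r; rw [pow_succ' π, map_mul, Equiv.Perm.mul_apply, hπ, ih]; ring
  obtain ⟨o, ho⟩ : ∃ o, o = orderOf π := ⟨_, rfl⟩
  have h3 : (3 : ZMod 121) ^ o = 1 := by
    obtain ⟨j, hj⟩ := Function.ne_iff.1 hne
    rw [Pi.smul_apply, smul_eq_mul, Pi.zero_apply] at hj
    have e := hiter o (R.sroot j)
    rw [ho, pow_orderOf_eq_one, map_one, Equiv.Perm.one_apply,
      show ((R.sroot j : Fin chevE8.nroots) : ℕ) = chevE8.simple j from rfl, fv_simple, ← ho] at e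
    rcases isUnit_or (f j) with hu | ⟨k, hk⟩
    · exact hu.mul_right_cancel (by rw [one_mul]; exact e.symm)
    · exact absurd (by rw [hk, ← mul_assoc, show (11 : ZMod 121) * 11 = 0 by decide, zero_mul]) hj
  have h5 : 5 ∣ o := by
    refine Nat.dvd_of_mod_eq_zero (by_contra fun hc => three_pow (o % 5) (Nat.mod_lt _ (by norm_num)) hc ?_)
    rw [← pow_eq_pow_mod o (by decide : (3 : ZMod 121) ^ 5 = 1)]
    exact h3
  have ho0 : o ≠ 0 := ho ▸ (orderOf_pos π).ne'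
  obtain ⟨b, hb⟩ : ∃ b, b = o / 5 ^ o.factorization 5 := ⟨_, rfl⟩
  obtain ⟨a, hab⟩ : ∃ a, 5 ^ a * b = o := ⟨_, hb ▸ Nat.ordProj_mul_ordCompl_eq_self o 5⟩
  have hb5 : ¬ 5 ∣ b := hb ▸ Nat.not_dvd_ordCompl (by norm_num) ho0
  obtain ⟨u, hu⟩ : ∃ u, u = π ^ (b ^ 4) := ⟨_, rfl⟩
  have hu5 : u ^ (5 ^ a) = 1 := by
    rw [hu, ← pow_mul, show b ^ 4 * 5 ^ a = o * b ^ 3 by rw [← hab]; ring, pow_mul, ho, pow_orderOf_eq_one, one_pow]
  have hb4 : b ^ 4 % 5 = 1 := by
    rw [Nat.pow_mod]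
    have : b % 5 ≠ 0 := fun e => hb5 (Nat.dvd_of_mod_eq_zero e)
    have hlt := Nat.mod_lt b (show 0 < 5 by norm_num)
    interval_cases b % 5 <;> simp at this ⊢
  have hueig : ∀ r : Fin chevE8.nroots, fv f (R.qact u r : ℕ) = 3 * fv f (r : ℕ) := fun r => by
    rw [hu, hiter, pow_eq_pow_mod (b ^ 4) (by decide : (3 : ZMod 121) ^ 5 = 1), hb4, pow_one]
  have hp : IsPGroup 5 (Subgroup.zpowers u) := by
    rintro ⟨z, k, rfl⟩
    refine ⟨a, Subtype.ext ?_⟩
    show (u ^ k) ^ (5 ^ a) = 1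
    rw [← zpow_natCast, ← zpow_mul, mul_comm, zpow_mul, zpow_natCast, hu5, one_zpow]
  obtain ⟨w, hw⟩ := fiveT_ok.conj_into R (p := 5) (N := 27869184)
    (by rw [AltE8.card_WQ_E8]) (by norm_num) hp
  obtain ⟨i, hi⟩ := fiveT_ok.exists_of_mem _ (hw _ (Subgroup.mem_zpowers _))
  obtain ⟨f', hf'⟩ : ∃ f', f' = comp R f w⁻¹ := ⟨_, rfl⟩
  have heig : ∀ r : Fin chevE8.nroots, fv f' (R.qact (wq R (fiveT.wd i)) r : ℕ) = 3 * fv f' (r : ℕ) := fun r => by
    rw [← hi, hf', fv_comp, fv_comp, ← Equiv.Perm.mul_apply, ← map_mul,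
      show w⁻¹ * (w * u * w⁻¹) = u * w⁻¹ by group, map_mul, Equiv.Perm.mul_apply, hueig]
  have hne' : (11 : ZMod 121) • f' ≠ 0 := fun h => hne (funext fun j => by
    obtain ⟨s, hs⟩ : ∃ s, R.qact w⁻¹ s = R.sroot j := (R.qact w⁻¹).surjective _
    have h1 : fv ((11 : ZMod 121) • f') (s : ℕ) = 0 := by rw [h]; simp [fv]
    rw [fv_smul, hf', fv_comp, hs, show ((R.sroot j : Fin chevE8.nroots) : ℕ) = chevE8.simple j from rfl,
      fv_simple] at h1
    simpa using h1)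
  have hgood : Good f' := hf' ▸ Good.comp R (f := f) ⟨R.qact π, hπ⟩ w⁻¹
  rw [← keyv_comp R 25 (fun x => oid x) f w⁻¹, ← hf']
  rcases sols_ok i with h | ⟨hok, hz, hlen⟩
  · refine absurd ?_ hne'
    have e : wq R (fiveT.wd i) = 1 := (AltE6.wq_eq R h).trans (AltE6.wq_nil R)
    funext j
    have h1 := heig (R.sroot j)
    rw [e, map_one, Equiv.Perm.one_apply, show ((R.sroot j : Fin chevE8.nroots) : ℕ) = chevE8.simple j from rfl,
      fv_simple] at h1
    have h2 : (2 : ZMod 121) * f' j = 0 := by linear_combination -h1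
    have h22 : (61 : ZMod 121) * 2 = 1 := by decide
    have : f' j = 0 := by rw [← one_mul (f' j), ← h22, mul_assoc, h2, mul_zero]
    simp [this]
  · obtain ⟨x, y, z, e⟩ := SolD.eq hok (f := f') fun k => eigA_eq R _ _ heig k
    rw [toF_zv, zero_add] at e
    exact key_of_sol i i.2 hz hlen hgood hne' e

end CfsgLib.Known.E8SL2.D121
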