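import Cfsg.Agent.Lib.Known.E8SL2.Check73A

/-!
# The searches through the solutions of the systems
-/

set_option autoImplicit false
set_option maxRecDepth 100000
set_option maxHeartbeats 1000000

namespace CfsgLib.Known.E8SL2.D73

/-- The family of a system. -/
def sysFam (g : ℕ) : Fam := ⟨sysBase.getD g zv, (sysAt g).dir 0, (sysAt g).dir 1, 73, 73⟩

theorem sysFams_ok0 : ((List.range' 0 3).all fun g => chkFam scanS 6 reps40 (sysFam g) (sysFams.getD g [])) = true := by
  decide +kernel

theorem sysFams_ok1 : ((List.range' 3 4).all fun g => chkFam scanS 6 reps40 (sysFam g) (sysFams.getD g [])) = true := by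
  decide +kernel

end CfsgLib.Known.E8SL2.D73
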