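import Cfsg.Agent.Lib.Known.E8SL2.Check73B
import Cfsg.Agent.Lib.Known.E8SL2.Check73C
import Cfsg.Agent.Lib.Known.AltE6.Toral

/-!
# The keys of the elements of order 73
-/

set_option autoImplicit false
set_option maxRecDepth 100000
set_option maxHeartbeats 1000000

namespace CfsgLib.Known.E8SL2.D73

open Cfsg.Lie (chevE8)
open CfsgLib.Lie.Chev
open CfsgLib.Known.AltE6 (wq keyW)
open CfsgLib.Known.AltE8 (threeT8 threeT8_ok actW w3Reps w3Class class_ok rev_ok card_WQ_E8)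

instance : Fact (Nat.Prime scanS.M) := ⟨(by norm_num : Nat.Prime 73)⟩
instance : Fact (Nat.Prime 73) := ⟨by norm_num⟩

theorem hscale (c : ZMod scanS.M) (hc : IsUnit c) :
    scaleOK scanS.M scanS.no (fun x => scanS.orb (scanS.cls x)) sig scanS.ks c.val = true := by
  have h := scale_ok
  simp only [List.all_eq_true, List.mem_range, Bool.or_eq_true, beq_iff_eq] at h
  exact (h c.val (ZMod.val_lt c)).resolve_left fun h0 => hc.ne_zero ((ZMod.val_eq_zero c).1 h0)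

theorem cls_stable {c : ZMod 73} (hc : c.val ∈ [1, 72, 8, 64, 65, 9]) (x : ℕ) (hx : x < 73) :
    cls (c.val * x % 73) = cls x := by
  obtain ⟨h1, h2, h3, h4, h5⟩ := cls_ok ⟨x, hx⟩
  simp only [List.mem_cons, List.not_mem_nil, or_false] at hc
  rcases hc with e | e | e | e | e | e <;> rw [e]
  · rw [one_mul, Nat.mod_eq_of_lt hx]
  all_goals assumption

theorem hL120 : pos120.length < 256 ∧ ∀ r ∈ pos120, r < 240 :=
  ⟨by rw [pos120_ok.1]; norm_num, pos120_ok.2.1⟩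

theorem card_filter_eq_countP (i : ℕ) (rp : ℕ → ℕ) :
    (Finset.univ.filter fun r : Fin chevE8.nroots => rp r = i).card = (List.range 240).countP fun r => rp r == i :=
  AltE6.card_filter_countP (n := chevE8.nroots) _ _ fun r => by simp

theorem rep120 (f : Fin 8 → ZMod 73) : Rep scanS 2 pos120 rp120 f := by
  refine rep_of_scalar scanS f (fun r => ⟨?_, ?_⟩) fun i => ?_
  · rw [pos120_ok.1]; exact (pos120_ok.2.2 r).1
  · rcases (pos120_ok.2.2 r).2 with e | e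
    · refine ⟨(1 : ZMod 73), fun x hx => cls_stable (c := 1) (by decide) x hx, ?_⟩
      rw [e]; exact (one_mul _).symm
    · refine ⟨(-1 : ZMod 73), fun x hx => cls_stable (c := -1) (by decide) x hx, ?_⟩
      simp only [fv, Finset.mul_sum, e, Int.cast_neg]
      exact Finset.sum_congr rfl fun j _ => by ring
  · rw [card_filter_eq_countP]
    exact fib120_ok ⟨i, i.2.trans_eq pos120_ok.1⟩

section

variable {F : Type*} [Field F] {G : Type*} [Group G] (R : Rel chevE8 auxE8 F G)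

theorem qact_actW (l : List ℕ) (r : Fin chevE8.nroots) : (R.qact (wq R l) r : ℕ) = actW l r :=
  AltE6.qact_wq R l r

theorem fv_iterU {f : Fin 8 → ZMod 73}
    (hu : ∀ r : Fin chevE8.nroots, fv f (R.qact (wq R u4) r : ℕ) = 8 * fv f (r : ℕ)) (e : ℕ) (x : Fin chevE8.nroots) :
    fv f (iterU e x) = 8 ^ e * fv f (x : ℕ) := by
  have key : ∀ e, iterU e (x : ℕ) = (R.qact (wq R u4 ^ e) x : ℕ) := by
    intro e
    induction e with
    | zero => simp [iterU]
    | succ e ih => rw [iterU, ih, ← qact_actW R, pow_succ', map_mul]; rfl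
  induction e with
  | zero => simp [iterU]
  | succ e ih =>
    rw [key, pow_succ', map_mul, Equiv.Perm.mul_apply, hu, ← key, ih, pow_succ']
    ring

include R in
theorem rep40 {f : Fin 8 → ZMod 73}
    (hu : ∀ r : Fin chevE8.nroots, fv f (R.qact (wq R u4) r : ℕ) = 8 * fv f (r : ℕ)) :
    Rep scanS 6 reps40 (fun r => (pos40.getD r (0, false, 0)).1) f := by
  refine rep_of_scalar scanS f (fun r => ⟨?_, ?_⟩) fun i => ?_
  · rw [reps40_ok.1]; exact (reps40_ok.2.2 r).1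
  · obtain ⟨p, hp⟩ : ∃ p, p = pos40.getD (r : ℕ) (0, false, 0) := ⟨_, rfl⟩
    obtain ⟨h1, h2, h3⟩ := reps40_ok.2.2 r
    rw [← hp] at h1 h2 h3
    have hx : reps40.getD p.1 0 < 240 := by
      rw [List.getD_eq_getElem _ _ (by rw [reps40_ok.1]; exact h1)]
      exact reps40_ok.2.1 _ (List.getElem_mem _)
    refine ⟨(if p.2.1 then -1 else 1) * (8 : ZMod 73) ^ p.2.2, fun x hx' => cls_stable
      (c := (if p.2.1 then -1 else 1) * (8 : ZMod 73) ^ p.2.2) ?_ x hx', ?_⟩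
    · exact (by decide : ∀ (b : Bool) (e : Fin 3), ((if b then -1 else 1) * (8 : ZMod 73) ^ (e : ℕ)).val ∈
        [1, 72, 8, 64, 65, 9]) p.2.1 ⟨p.2.2, h2⟩
    · show fv f (r : ℕ) = (if p.2.1 then -1 else 1) * (8 : ZMod 73) ^ p.2.2 *
        fv f (reps40.getD (pos40.getD (r : ℕ) (0, false, 0)).1 0)
      rw [← hp, mul_assoc, ← fv_iterU R hu p.2.2 ⟨_, hx⟩]
      simp only [fv, h3, Int.cast_mul, Finset.mul_sum]
      refine Finset.sum_congr rfl fun j _ => ?_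
      split_ifs <;> push_cast <;> ring
  · rw [card_filter_eq_countP (rp := fun r => (pos40.getD r (0, false, 0)).1)]
    exact fib40_ok ⟨i, i.2.trans_eq reps40_ok.1⟩

theorem Good_of_perm {f : Fin 8 → ZMod 73} (π : R.WQ)
    (hπ : ∀ r : Fin chevE8.nroots, fv f (R.qact π r : ℕ) = 3 * fv f (r : ℕ)) : Good f := ⟨R.qact π, hπ⟩

theorem comp_ne_zero {f : Fin 8 → ZMod 73} (hne : f ≠ 0) (w : R.WQ) : comp R f w ≠ 0 := fun h => hne (funext fun j => by
  obtain ⟨s, hs⟩ : ∃ s, R.qact w s = R.sroot j := (R.qact w).surjective _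
  have h1 : fv (comp R f w) (s : ℕ) = 0 := by rw [h]; simp [fv]
  rwa [fv_comp, hs, show ((R.sroot j : Fin chevE8.nroots) : ℕ) = chevE8.simple j from rfl, fv_simple] at h1)

theorem comp_eig {f : Fin 8 → ZMod 73} {c : ZMod 73} {u w : R.WQ} (h : w * u = u * w)
    (hu : ∀ r : Fin chevE8.nroots, fv f (R.qact u r : ℕ) = c * fv f (r : ℕ)) (r : Fin chevE8.nroots) :
    fv (comp R f w) (R.qact u r : ℕ) = c * fv (comp R f w) (r : ℕ) := by
  rw [fv_comp, fv_comp, ← Equiv.Perm.mul_apply, ← map_mul, h, map_mul, Equiv.Perm.mul_apply, hu]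

/-- The keys of the eigenvectors of the fourth representative. -/
theorem key_four {f : Fin 8 → ZMod 73} (hne : f ≠ 0) (hgood : Good f)
    (hu : ∀ r : Fin chevE8.nroots, fv f (R.qact (wq R u4) r : ℕ) = 8 * fv f (r : ℕ)) :
    keyv 7 (fun x => orb (cls x)) f ∈ keys := by
  obtain ⟨r, hr⟩ : ∃ r : Fin chevE8.nroots, fv f (r : ℕ) ≠ 0 := by
    by_contra hc
    refine hne (funext fun j => ?_)
    have h := not_exists.1 hc (R.sroot j)
    rwa [not_not, show ((R.sroot j : Fin chevE8.nroots) : ℕ) = chevE8.simple j from rfl, fv_simple] at h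
  obtain ⟨hm1, hm2⟩ := moves_ok r
  obtain ⟨w, hw⟩ : ∃ w, w = wq R (moves.getD r []) := ⟨_, rfl⟩
  have hwu : w * wq R u4 = wq R u4 * w := by
    rw [hw, ← AltE6.wq_append, ← AltE6.wq_append]; exact AltE6.wq_eq R hm1
  obtain ⟨g, hg⟩ : ∃ g, g = comp R f w := ⟨_, rfl⟩
  obtain ⟨p0, hp0⟩ : ∃ p0 : Fin chevE8.nroots, p0 = R.sroot ⟨0, by decide⟩ := ⟨_, rfl⟩
  have hp0v : (p0 : ℕ) = r0 := by rw [hp0]; rfl
  have hg0 : fv g (p0 : ℕ) ≠ 0 := by
    rw [hg, fv_comp, hw, qact_actW, hp0v, hm2]; exact hr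
  obtain ⟨c, hc⟩ : ∃ c, c = (fv g (p0 : ℕ))⁻¹ := ⟨_, rfl⟩
  have hgu := hg ▸ comp_eig R hwu hu
  have hggood : Good g := hg ▸ Good.comp R hgood w
  rw [← keyv_comp R 7 _ f w, ← hg]
  refine keyv_mem_of_smul (M := scanS.M) c (hscale c (isUnit_iff_ne_zero.2 (hc ▸ inv_ne_zero hg0))) g ?_
  obtain ⟨h, hh⟩ : ∃ h, h = c • g := ⟨_, rfl⟩
  show keyv 7 (fun x => orb (cls x)) (c • g) ∈ keys
  rw [← hh]
  have hh0 : fv h (p0 : ℕ) = 1 := by rw [hh, fv_smul, hc, inv_mul_cancel₀ hg0]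
  have hhu : ∀ r : Fin chevE8.nroots, fv h (R.qact (wq R u4) r : ℕ) = 8 * fv h (r : ℕ) := fun r => by
    rw [hh, fv_smul, fv_smul, hgu]; ring
  have hhgood : Good h := hh ▸ hggood.smul c
  obtain ⟨π, hπ⟩ := hhgood
  obtain ⟨x, hx⟩ : ∃ x, x = π p0 := ⟨_, rfl⟩
  have hx3 : fv h (x : ℕ) = 3 := by rw [hx, hπ, hh0, mul_one]
  obtain ⟨hf1, hf2, hf3, hf4⟩ := fixes_ok x
  obtain ⟨t, ht⟩ : ∃ t, t = wq R (fixes.getD x []) := ⟨_, rfl⟩
  have htu : t * wq R u4 = wq R u4 * t := by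
    rw [ht, ← AltE6.wq_append, ← AltE6.wq_append]; exact AltE6.wq_eq R hf1
  obtain ⟨k, hk⟩ : ∃ k, k = comp R h t := ⟨_, rfl⟩
  have hku := hk ▸ comp_eig R htu hhu
  have hkgood : Good k := hk ▸ Good.comp R ⟨π, hπ⟩ t
  rw [← keyv_comp R 7 _ h t, ← hk]
  obtain ⟨g', hg'⟩ : ∃ g', g' = sysOf.getD (x : ℕ) 0 := ⟨_, rfl⟩
  rw [← hg'] at hf3 hf4
  have hrt : ∀ g : Fin 13, sysRoot.getD g 0 < 240 := by decide +kernel
  have hk0 : fv k r0 = 1 := by
    rw [← hp0v, hk, fv_comp, ht, qact_actW, hp0v, hf2, ← hp0v, hh0]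
  have hk1 : fv k (sysRoot.getD g' 0) = 3 := by
    have e := fv_comp R h t (⟨_, hrt ⟨g', hf3⟩⟩ : Fin chevE8.nroots)
    simp only at e
    rw [hk, e, ht, qact_actW, hf4, hx3]
  have heq : ∀ i, ∑ m, sysA g' i m * k m = sysRhs i := by
    intro i
    unfold sysRhs sysA
    by_cases hi : (i : ℕ) < 8
    · simp only [dif_pos hi, if_pos hi]
      have h4 : repKeys.getD 4 [] = keyW chevE8 auxE8 u4 := (repKeys_ok 4).symm
      rw [h4]
      exact eigA_eq R u4 8 hku ⟨i, hi⟩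
    · simp only [dif_neg hi, if_neg hi]
      by_cases hi8 : (i : ℕ) = 8
      · simp only [if_pos hi8]; exact hk0
      · simp only [if_neg hi8]; exact hk1
  rcases Nat.lt_or_ge g' 7 with hlt | hge
  · obtain ⟨hz, hb, hok⟩ := sys_ok ⟨g', hlt⟩
    obtain ⟨a, b, z, e⟩ := SolD.eq hok heq
    rw [toF_of_isZ hz, smul_zero, add_zero] at e
    have hscan : chkFam scanS 6 reps40 (sysFam g') (sysFams.getD g' []) = true := by
      rcases Nat.lt_or_ge g' 3 with h3 | h3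
      · exact List.all_eq_true.1 sysFams_ok0 g' (List.mem_range'_1.2 ⟨Nat.zero_le _, by omega⟩)
      · exact List.all_eq_true.1 sysFams_ok1 g' (List.mem_range'_1.2 ⟨h3, by omega⟩)
    refine key_of_line scanS scanS_ok (by decide) ⟨by rw [reps40_ok.1]; norm_num, reps40_ok.2.1⟩ (sysFam g') hscan hb
      hscale (a := a.val) (b := b.val) (ZMod.val_lt a) (ZMod.val_lt b) hkgood (fun c => rep40 R fun r => ?_)
      (c := 1) isUnit_one ?_
    · rw [fv_smul, fv_smul, hku]; ring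
    · rw [one_smul]
      show k = toF (sysBase.getD g' zv) + ((a.val : ℕ) : ZMod 73) • toF ((sysAt g').dir 0) +
        ((b.val : ℕ) : ZMod 73) • toF ((sysAt g').dir 1)
      rw [ZMod.natCast_zmod_val, ZMod.natCast_zmod_val]
      exact e
  · obtain ⟨h1, h2⟩ := inc_ok ⟨g' - 7, by omega⟩
    refine (false_of_inc _ h1 h2 (f := k) fun i => ?_).elim
    have e7 : 7 + (g' - 7) = g' := by omega
    simp only [e7]
    exact heq i

theorem twelve_dvd : ∀ r < 12, r ≠ 0 → (3 : ZMod 73) ^ r ≠ 1 := by decide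

/-- The keys. -/
theorem key_mem [Finite R.WQ] (f : Fin 8 → ZMod 73) (hne : f ≠ 0) (π : R.WQ)
    (hπ : ∀ r : Fin chevE8.nroots, fv f (R.qact π r : ℕ) = 3 * fv f (r : ℕ)) :
    keyv 7 (fun x => orb (cls x)) f ∈ keys := by
  haveI : Fact (Nat.Prime 3) := ⟨Nat.prime_three⟩
  have hiter : ∀ (n : ℕ) (r : Fin chevE8.nroots), fv f (R.qact (π ^ n) r : ℕ) = 3 ^ n * fv f (r : ℕ) := by
    intro n
    induction n with
    | zero => intro r; simp
    | succ n ih => intro r; rw [pow_succ' π, map_mul, Equiv.Perm.mul_apply, hπ, ih]; ring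
  obtain ⟨o, ho⟩ : ∃ o, o = orderOf π := ⟨_, rfl⟩
  have h3 : (3 : ZMod 73) ^ o = 1 := by
    obtain ⟨j, hj⟩ := Function.ne_iff.1 hne
    rw [Pi.zero_apply] at hj
    have e := hiter o (R.sroot j)
    rw [ho, pow_orderOf_eq_one, map_one, Equiv.Perm.one_apply,
      show ((R.sroot j : Fin chevE8.nroots) : ℕ) = chevE8.simple j from rfl, fv_simple, ← ho] at e
    exact mul_right_cancel₀ hj (by rw [one_mul]; exact e.symm)
  have h12 : 12 ∣ o := by
    refine Nat.dvd_of_mod_eq_zero (by_contra fun hc => twelve_dvd (o % 12) (Nat.mod_lt _ (by norm_num)) hc ?_)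
    rw [← pow_eq_pow_mod o (by decide : (3 : ZMod 73) ^ 12 = 1)]
    exact h3
  have ho0 : o ≠ 0 := ho ▸ (orderOf_pos π).ne'
  obtain ⟨b, hb⟩ : ∃ b, b = o / 3 ^ o.factorization 3 := ⟨_, rfl⟩
  obtain ⟨a, hab⟩ : ∃ a, 3 ^ a * b = o := ⟨_, hb ▸ Nat.ordProj_mul_ordCompl_eq_self o 3⟩
  have hb3 : ¬ 3 ∣ b := hb ▸ Nat.not_dvd_ordCompl Nat.prime_three ho0
  obtain ⟨t, rfl⟩ : 4 ∣ b := by
    refine (Nat.Coprime.pow_right a (by decide : Nat.Coprime 4 3)).dvd_of_dvd_mul_left ?_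
    rw [hab]
    exact (by norm_num : (4 : ℕ) ∣ 12).trans h12
  obtain ⟨u, hu⟩ : ∃ u, u = π ^ (4 * t * t) := ⟨_, rfl⟩
  have hu3 : u ^ (3 ^ a) = 1 := by
    rw [hu, ← pow_mul, show 4 * t * t * 3 ^ a = o * t by rw [← hab]; ring, pow_mul, ho, pow_orderOf_eq_one, one_pow]
  have ht4 : 4 * t * t % 12 = 4 := by
    have h1 : t % 3 ≠ 0 := fun e => hb3 (dvd_mul_of_dvd_right (Nat.dvd_of_mod_eq_zero e) 4)
    have h2 : t * t % 3 = 1 := by
      rw [Nat.mul_mod]
      have hlt := Nat.mod_lt t (show 0 < 3 by norm_num)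
      interval_cases t % 3 <;> simp at h1 ⊢
    rw [mul_assoc]
    omega
  have hueig : ∀ r : Fin chevE8.nroots, fv f (R.qact u r : ℕ) = 8 * fv f (r : ℕ) := fun r => by
    rw [hu, hiter, pow_eq_pow_mod (4 * t * t) (by decide : (3 : ZMod 73) ^ 12 = 1), ht4]
    exact congrArg (· * fv f (r : ℕ)) (by decide : (3 : ZMod 73) ^ 4 = 8)
  have hp : IsPGroup 3 (Subgroup.zpowers u) := by
    rintro ⟨z, k, rfl⟩
    refine ⟨a, Subtype.ext ?_⟩
    show (u ^ k) ^ (3 ^ a) = 1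
    rw [← zpow_natCast, ← zpow_mul, mul_comm, zpow_mul, zpow_natCast, hu3, one_zpow]
  obtain ⟨w, hw⟩ := threeT8_ok.conj_into R (p := 3) (N := 2867200) (by rw [card_WQ_E8]) (by norm_num) hp
  obtain ⟨i, hi⟩ := threeT8_ok.exists_of_mem _ (hw _ (Subgroup.mem_zpowers _))
  obtain ⟨f', hf'⟩ : ∃ f', f' = comp R f w⁻¹ := ⟨_, rfl⟩
  have heig : ∀ r : Fin chevE8.nroots, fv f' (R.qact (wq R (threeT8.wd i)) r : ℕ) = 8 * fv f' (r : ℕ) := fun r => by
    rw [← hi, hf', fv_comp, fv_comp, ← Equiv.Perm.mul_apply, ← map_mul,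
      show w⁻¹ * (w * u * w⁻¹) = u * w⁻¹ by group, map_mul, Equiv.Perm.mul_apply, hueig]
  have hne' : f' ≠ 0 := hf' ▸ comp_ne_zero R hne _
  have hgood : Good f' := hf' ▸ Good.comp R (Good_of_perm R π hπ) w⁻¹
  rw [← keyv_comp R 7 (fun x => orb (cls x)) f w⁻¹, ← hf']
  by_cases hthree : keyW chevE8 auxE8 (threeT8.wd i ++ threeT8.wd i ++ threeT8.wd i) = keyW chevE8 auxE8 []
  swap
  · have hok := (nine_ok i).resolve_left hthree
    rw [← nineKeys_ok i] at hok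
    obtain ⟨x, y, z, e⟩ := SolD.eq hok (f := f') fun k => eigA_eq R _ _ heig k
    rw [toF_zv, zero_add] at e
    refine key_of_span scanS scanS_ok (by decide) hL120 (nineAt i) (tr := fun k => (nineFams.getD i []).getD k [])
      (fun k hk => ?_) hscale hgood (fun c => rep120 _) hne' e
    exact List.all_eq_true.1 (List.all_eq_true.1 nineFams_ok i (List.mem_range.2 i.2)) k (List.mem_range.2 hk)
  obtain ⟨hj, hc⟩ := class_ok i hthree
  obtain ⟨c, hcdef⟩ : ∃ c, c = (w3Class.getD (i : ℕ) (0, [])).2 := ⟨_, rfl⟩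
  obtain ⟨k, hkdef⟩ : ∃ k, k = (w3Class.getD (i : ℕ) (0, [])).1 := ⟨_, rfl⟩
  rw [← hkdef] at hj hc
  rw [← hcdef] at hc
  have hrev : wq R c.reverse = (wq R c)⁻¹ :=
    eq_inv_of_mul_eq_one_left (by rw [← AltE6.wq_append, ← AltE6.wq_nil R, hcdef]; exact AltE6.wq_eq _ (rev_ok i))
  have hrep : (wq R c)⁻¹ * wq R (threeT8.wd i) * wq R c = wq R (w3Reps.getD k []) := by
    rw [← hrev, ← AltE6.wq_append, ← AltE6.wq_append]
    exact AltE6.wq_eq _ hc
  obtain ⟨g, hg⟩ : ∃ g, g = comp R f' (wq R c) := ⟨_, rfl⟩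
  have hgne : g ≠ 0 := hg ▸ comp_ne_zero R hne' _
  have hggood : Good g := hg ▸ Good.comp R hgood _
  have hgeig : ∀ r : Fin chevE8.nroots, fv g (R.qact (wq R (w3Reps.getD k [])) r : ℕ) = 8 * fv g (r : ℕ) := fun r => by
    rw [hg, fv_comp, fv_comp, ← hrep, ← Equiv.Perm.mul_apply, ← map_mul,
      show wq R c * ((wq R c)⁻¹ * wq R (threeT8.wd i) * wq R c) = wq R (threeT8.wd i) * wq R c by group, map_mul,
      Equiv.Perm.mul_apply, heig]
  rw [← keyv_comp R 7 (fun x => orb (cls x)) f' (wq R c), ← hg]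
  rcases (by omega : k = 0 ∨ (1 ≤ k ∧ k ≤ 3) ∨ k = 4) with hk0 | ⟨hk1, hk3⟩ | hk4
  · refine absurd ?_ hgne
    funext j
    have h1 := hgeig (R.sroot j)
    rw [hk0, show w3Reps.getD 0 [] = [] from rfl, AltE6.wq_nil, map_one, Equiv.Perm.one_apply,
      show ((R.sroot j : Fin chevE8.nroots) : ℕ) = chevE8.simple j from rfl, fv_simple] at h1
    have h2 : (7 : ZMod 73) * g j = 0 := by linear_combination -h1
    exact (mul_eq_zero.1 h2).resolve_left (by decide)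
  · obtain ⟨m, rfl⟩ : ∃ m, k = m + 1 := ⟨k - 1, by omega⟩
    have hok := small_ok ⟨m, by omega⟩
    have hkey : repKeys.getD (m + 1) [] = keyW chevE8 auxE8 (w3Reps.getD (m + 1) []) :=
      (repKeys_ok ⟨m + 1, hj⟩).symm
    simp only [hkey] at hok
    obtain ⟨x, y, z, e⟩ := SolD.eq hok (f := g) fun k => eigA_eq R _ _ hgeig k
    rw [toF_zv, zero_add] at e
    refine key_of_span scanS scanS_ok (by decide) hL120 (smallAt m) (tr := fun k => (smallFams.getD m []).getD k [])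
      (fun k hk => ?_) hscale hggood (fun c => rep120 _) hgne e
    exact List.all_eq_true.1 (List.all_eq_true.1 smallFams_ok m (List.mem_range.2 (by omega))) k (List.mem_range.2 hk)
  · subst hk4
    exact key_four R hgne hggood hgeig

end

end CfsgLib.Known.E8SL2.D73
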