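import Cfsg.Agent.Lib.Known.E8SL2.Data121

/-!
# The checks for elements of order 121
-/

set_option autoImplicit false
set_option maxRecDepth 100000
set_option maxHeartbeats 1000000

namespace CfsgLib.Known.E8SL2.D121

open Cfsg.Lie (chevE8)
open CfsgLib.Lie.Chev
open CfsgLib.Known.AltE6 (wq keyW)

/-- The second family of lines. -/
def fam1 (d : SolD) : Fam := ⟨d.dir 1, (d.dir 0).map fun v => 11 * v % 121, zv, 11, 1⟩

/-- The data of an element. -/
def solAt (i : ℕ) : SolD := sols.getD i ⟨[], [], []⟩

theorem fiveT_ok : fiveT.OK := ⟨by decide +kernel, by decide +kernel, by decide, by decide +kernel⟩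

theorem scanS_ok : scanS.ok = true := by decide +kernel

theorem scale_ok : ((List.range 121).all fun c => c % 11 == 0 ||
    scaleOK 121 25 (fun x => oid x) sig keys c) = true := by decide +kernel

theorem sols_ok : ∀ i : Fin 25, keyW chevE8 auxE8 (fiveT.wd i) = keyW chevE8 auxE8 [] ∨
    ((solAt i).ok zv (eigA 121 (keyW chevE8 auxE8 (fiveT.wd i)) 3) (fun _ => 0) ∧
      isZ ((solAt i).dir 2) = true ∧ ((solAt i).dir 0).length = 8) := by decide +kernel

theorem fams_ok : ((List.range 25).all fun i =>
    chkFam scanS 1 (List.range 240) (lineFam 121 (solAt i) 0) ((fams.getD i []).getD 0 []) &&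
      chkFam scanS 1 (List.range 240) (fam1 (solAt i)) ((fams.getD i []).getD 1 [])) = true := by decide +kernel

end CfsgLib.Known.E8SL2.D121
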