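import Cfsg.Agent.Lib.Known.E8SL2.Data73
import Cfsg.Agent.Lib.Known.AltE8.Count

/-!
# The checks of the tables for elements of order 73
-/

set_option autoImplicit false
set_option maxRecDepth 100000
set_option maxHeartbeats 1000000

namespace CfsgLib.Known.E8SL2.D73

open Cfsg.Lie (chevE8)
open CfsgLib.Lie.Chev
open CfsgLib.Known.AltE6 (keyW)
open CfsgLib.Known.AltE8 (threeT8 actW w3Reps)

/-- The solutions at an element of the table. -/
def nineAt (i : ℕ) : SolD := nineSols.getD i ⟨[], [], []⟩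

/-- The solutions at a representative. -/
def smallAt (k : ℕ) : SolD := smallSols.getD k ⟨[], [], []⟩

/-- The solutions of a system. -/
def sysAt (g : ℕ) : SolD := sysSols.getD g ⟨[], [], []⟩

/-- The fourth representative. -/
def u4 : List ℕ := w3Reps.getD 4 []

/-- The base root. -/
def r0 : ℕ := chevE8.simple 0

/-- The equations of a system. -/
def sysA (g : ℕ) (i : Fin 10) (m : Fin 8) : ZMod 73 :=
  if h : (i : ℕ) < 8 then eigA 73 (repKeys.getD 4 []) 8 ⟨i, h⟩ m
  else if (i : ℕ) = 8 then (auxE8.coef m r0 : ZMod 73) else (auxE8.coef m (sysRoot.getD g 0) : ZMod 73)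

/-- The right hand sides. -/
def sysRhs (i : Fin 10) : ZMod 73 := if (i : ℕ) < 8 then 0 else if (i : ℕ) = 8 then 1 else 3

theorem scanS_ok : scanS.ok = true := by decide +kernel

theorem scale_ok : ((List.range 73).all fun c => c == 0 ||
    scaleOK 73 7 (fun x => orb (cls x)) sig keys c) = true := by decide +kernel

theorem nineKeys_ok : ∀ i : Fin 243, keyW chevE8 auxE8 (threeT8.wd i) = nineKeys.getD i [] := by decide +kernel

theorem nine_ok : ∀ i : Fin 243,
    keyW chevE8 auxE8 (threeT8.wd i ++ threeT8.wd i ++ threeT8.wd i) = keyW chevE8 auxE8 [] ∨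
      (nineAt i).ok zv (eigA 73 (nineKeys.getD i []) 8) (fun _ => 0) := by decide +kernel

theorem repKeys_ok : ∀ k : Fin 5, keyW chevE8 auxE8 (w3Reps.getD k []) = repKeys.getD k [] := by decide +kernel

theorem small_ok : ∀ k : Fin 3, (smallAt k).ok zv (eigA 73 (repKeys.getD ((k : ℕ) + 1) []) 8) (fun _ => 0) := by
  decide +kernel

theorem sys_ok : ∀ g : Fin 7, isZ ((sysAt g).dir 2) = true ∧ isZ (sysBase.getD g zv) = false ∧
    (sysAt g).ok (sysBase.getD g zv) (sysA g) sysRhs := by decide +kernel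

theorem inc_ok : ∀ g : Fin 6,
    (∀ m, ∑ i : Fin 10, (((sysInc.getD g []).getD i 0 : ℕ) : ZMod 73) * sysA (7 + g) i m = 0) ∧
      ∑ i : Fin 10, (((sysInc.getD g []).getD i 0 : ℕ) : ZMod 73) * sysRhs i ≠ 0 := by decide +kernel

theorem moves_ok : ∀ r : Fin 240, keyW chevE8 auxE8 (moves.getD r [] ++ u4) =
    keyW chevE8 auxE8 (u4 ++ moves.getD r []) ∧ actW (moves.getD r []) r0 = r := by decide +kernel

theorem fixes_ok : ∀ r : Fin 240, keyW chevE8 auxE8 (fixes.getD r [] ++ u4) =
    keyW chevE8 auxE8 (u4 ++ fixes.getD r []) ∧ actW (fixes.getD r []) r0 = r0 ∧ sysOf.getD r 0 < 13 ∧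
      actW (fixes.getD r []) (sysRoot.getD (sysOf.getD r 0) 0) = r := by decide +kernel

theorem pos120_ok : pos120.length = 120 ∧ (∀ r ∈ pos120, r < 240) ∧ (∀ r : Fin 240, rp120 r < 120 ∧
    ((pos120.getD (rp120 r) 0 = r) ∨ ∀ j : Fin 8, auxE8.coef j (r : ℕ) = -auxE8.coef j (pos120.getD (rp120 r) 0))) :=
  by decide +kernel

theorem fib120_ok : ∀ i : Fin 120, ((List.range 240).countP fun r => rp120 r == (i : ℕ)) = 2 := by decide +kernel

/-- Apply the fourth representative repeatedly. -/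
def iterU : ℕ → ℕ → ℕ
  | 0, r => r
  | e + 1, r => actW u4 (iterU e r)

theorem reps40_ok : reps40.length = 40 ∧ (∀ r ∈ reps40, r < 240) ∧ (∀ r : Fin 240, (pos40.getD r (0, false, 0)).1 < 40 ∧
    (pos40.getD r (0, false, 0)).2.2 < 3 ∧ ∀ j : Fin 8, auxE8.coef j (r : ℕ) =
      (if (pos40.getD r (0, false, 0)).2.1 then -1 else 1) *
        auxE8.coef j (iterU (pos40.getD r (0, false, 0)).2.2 (reps40.getD (pos40.getD r (0, false, 0)).1 0))) := by
  decide +kernel

theorem fib40_ok : ∀ i : Fin 40, ((List.range 240).countP fun r => (pos40.getD r (0, false, 0)).1 == (i : ℕ)) = 6 := by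
  decide +kernel

theorem cls_ok : ∀ x : Fin 73, cls (72 * x % 73) = cls x ∧ cls (8 * x % 73) = cls x ∧ cls (64 * x % 73) = cls x ∧
    cls (65 * x % 73) = cls x ∧ cls (9 * x % 73) = cls x := by decide +kernel

end CfsgLib.Known.E8SL2.D73
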