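import Cfsg.Agent.Lib.Known.E8SL2.Check73A

/-!
# The searches through the lines of eigenvectors
-/

set_option autoImplicit false
set_option maxRecDepth 100000
set_option maxHeartbeats 1000000

namespace CfsgLib.Known.E8SL2.D73

theorem nineFams_ok : ((List.range 243).all fun i => (List.range 3).all fun k =>
    chkFam scanS 2 pos120 (lineFam 73 (nineAt i) k) ((nineFams.getD i []).getD k [])) = true := by decide +kernel

theorem smallFams_ok : ((List.range 3).all fun i => (List.range 3).all fun k =>
    chkFam scanS 2 pos120 (lineFam 73 (smallAt i) k) ((smallFams.getD i []).getD k [])) = true := by decide +kernel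

end CfsgLib.Known.E8SL2.D73
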