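import Cfsg.Agent.Lib.Known.E8SL2.Kill

/-!
# The equations on the multiplicities of the degrees
-/

set_option autoImplicit false

namespace CfsgLib.Known.E8SL2

/-- The exponent of a weight. -/
def ev (M d i : ℕ) : ℕ := (i + (M - 1) * (d - i)) % M

/-- The number of weights of a degree in an orbit. -/
def wv (M : ℕ) (oid : ℕ → ℕ) (f d o : ℕ) : ℕ := (subs f d).countP fun i => oid (ev M d i) == o

theorem mu_pow_eq {K : Type*} [Field K] {μ : K} {M : ℕ} (hμ : IsPrimitiveRoot μ M) (hM : 0 < M) (d i x : ℕ)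
    (hx : x < M) : μ ^ i * μ⁻¹ ^ (d - i) = μ ^ x ↔ ev M d i = x := by
  have hinv : μ⁻¹ = μ ^ (M - 1) := inv_eq_of_mul_eq_one_left (by
    rw [← pow_succ, Nat.sub_add_cancel hM, hμ.pow_eq_one])
  rw [hinv, ← pow_mul, ← pow_add]
  have e : μ ^ (i + (M - 1) * (d - i)) = μ ^ ev M d i := pow_eq_pow_mod _ hμ.pow_eq_one
  rw [e]
  exact ⟨hμ.pow_inj (Nat.mod_lt _ hM) hx, fun h => by rw [h]⟩

theorem list_sum_nat (n : ℕ) (g : ℕ → ℕ) : ((List.range n).map g).sum = ∑ q ∈ Finset.range n, g q := by
  induction n with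
  | zero => simp
  | succ n ih => simp [List.range_succ, Finset.sum_range_succ, ih]

/-- The sum of the eigenvalue multiplicities over an orbit. -/
theorem sum_orbit {K : Type*} [Field K] [DecidableEq K] [CharP K 3] {μ : K} {M : ℕ} (hμ : IsPrimitiveRoot μ M)
    (hM : 0 < M) (oid : ℕ → ℕ) {q f : ℕ} (hq : q ≤ 3 ^ f) (D : K → ℕ) (N : ℕ → ℕ)
    (hD : ∀ ν, D ν = ∑ d ∈ Finset.range q, N d * cnt μ d ν) (o : ℕ) :
    ∑ x ∈ (Finset.range M).filter (fun x => oid x = o), D (μ ^ x) =
      ∑ d ∈ Finset.range q, N d * wv M oid f d o := by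
  simp only [hD]
  rw [Finset.sum_comm]
  refine Finset.sum_congr rfl fun d hd => ?_
  rw [← Finset.mul_sum]
  congr 1
  rw [Finset.mem_range] at hd
  have hidx : idx K d = (subs f d).toFinset := idx_eq (by omega)
  simp only [cnt, hidx, Finset.card_filter]
  rw [Finset.sum_comm, wv, List.countP_eq_length_filter, ← List.toFinset_card_of_nodup ((nodup_subs f d).filter _),
    List.toFinset_filter, Finset.card_filter]
  refine Finset.sum_congr rfl fun i _ => ?_
  rw [Finset.sum_filter]
  rw [Finset.sum_eq_single (ev M d i)]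
  · have e : μ ^ i * μ⁻¹ ^ (d - i) = μ ^ ev M d i := (mu_pow_eq hμ hM d i (ev M d i) (Nat.mod_lt _ hM)).2 rfl
    simp only [e, if_true, beq_iff_eq]
  · intro x hx hne
    rw [if_neg (fun h => hne ((mu_pow_eq hμ hM d i x (Finset.mem_range.1 hx)).1 h).symm)]
    split <;> rfl
  · intro h; exact absurd (Finset.mem_range.2 (Nat.mod_lt _ hM)) h

/-- Every member is three times the one before. -/
def chain (n : ℕ) : List ℕ → Bool
  | a :: b :: l => decide (0 < a) && decide (a < n) && Nat.beq b (3 * a % n) && chain n (b :: l)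
  | _ => true

theorem chain_eq {n : ℕ} {N : ℕ → ℕ} (hinv : ∀ d, 0 < d → d < n → N (3 * d % n) = N d) :
    ∀ (a : ℕ) (l : List ℕ), chain n (a :: l) = true → ∀ x ∈ a :: l, N x = N a
  | a, [], _, x, hx => by simp at hx; rw [hx]
  | a, b :: l, h, x, hx => by
    simp only [chain, Bool.and_eq_true, decide_eq_true_eq] at h
    obtain ⟨⟨⟨h0, h1⟩, h2⟩, h3⟩ := h
    rcases List.mem_cons.1 hx with rfl | hx
    · rfl
    · rw [chain_eq hinv b l h3 x hx, Nat.eq_of_beq_eq_true h2, hinv a h0 h1]

/-- The check of the orbits of the degrees and of the table of their weights. -/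
def orbitsOK (q : ℕ) (mem : List (List ℕ)) (W : List (List ℤ)) (no : ℕ) (V : ℕ → ℕ → ℕ) : Bool :=
  mem.flatten.isPerm ((List.range q).filter fun d => Nat.beq (d % 2) 0) &&
    (mem.all fun l => !l.isEmpty && chain (q - 1) l) && mem.length == W.length &&
    (List.range mem.length).all fun j => (W.getD j []).length == no && (List.range no).all fun o =>
      (W.getD j []).getD o 0 == (((mem.getD j []).map fun d => V d o).sum : ℕ)

theorem solves_of_orbitsOK {q no : ℕ} {mem : List (List ℕ)} {W : List (List ℤ)} {V : ℕ → ℕ → ℕ} {N : ℕ → ℕ}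
    (h : orbitsOK q mem W no V = true) (hev : ∀ d, N d ≠ 0 → Even d)
    (hinv : ∀ d, 0 < d → d < q - 1 → N (3 * d % (q - 1)) = N d) (t : List ℤ) (ht : t.length = no)
    (hsum : ∀ o < no, t.getD o 0 = ((∑ d ∈ Finset.range q, N d * V d o : ℕ) : ℤ)) :
    Solves W t fun j => N ((mem.getD j []).headD 0) := by
  simp only [orbitsOK, Bool.and_eq_true, List.all_eq_true, List.mem_range, beq_iff_eq, List.isPerm_iff] at h
  obtain ⟨⟨⟨hp, hc⟩, hl⟩, hW⟩ := h
  intro o
  by_cases ho : o < no
  · rw [hsum o ho, ← hl]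
    have h1 : ∑ d ∈ Finset.range q, N d * V d o = (mem.flatten.map fun d => N d * V d o).sum := by
      rw [(hp.map _).sum_eq, ← list_sum_nat]
      induction List.range q with
      | nil => rfl
      | cons a l ih =>
        by_cases ha : a % 2 = 0
        · simp [ha, ih]
        · have : N a = 0 := by
            by_contra hne
            exact ha (Nat.even_iff.1 (hev a hne))
          simp [ha, ih, this]
    have h2 : (mem.flatten.map fun d => N d * V d o).sum =
        ∑ j ∈ Finset.range mem.length, N ((mem.getD j []).headD 0) * ((mem.getD j []).map fun d => V d o).sum := by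
      rw [List.map_flatten, List.sum_flatten, List.map_map, ← list_sum_nat]
      congr 1
      refine List.ext_getElem (by simp) fun j hj hj' => ?_
      simp only [List.getElem_map, List.getElem_range, Function.comp_apply]
      rw [List.getD_eq_getElem _ _ (by simpa using hj)]
      have hmem : mem[j]'(by simpa using hj) ∈ mem := List.getElem_mem _
      obtain ⟨hne, hch⟩ := hc _ hmem
      obtain ⟨a, l, hal⟩ : ∃ a l, mem[j]'(by simpa using hj) = a :: l := by
        cases hh : mem[j]'(by simpa using hj) with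
        | nil => rw [hh] at hne; simp at hne
        | cons a l => exact ⟨a, l, rfl⟩
      rw [hal] at hch ⊢
      rw [List.headD_cons, ← List.sum_map_mul_left]
      exact congrArg List.sum (List.map_congr_left fun x hx => by rw [chain_eq hinv a l hch x hx])
    rw [h1, h2, Nat.cast_sum]
    refine Finset.sum_congr rfl fun j hj => ?_
    rw [Nat.cast_mul, (hW j (Finset.mem_range.1 hj)).2 o ho]
  · rw [List.getD_eq_default _ _ (by omega)]
    refine (Finset.sum_eq_zero fun j hj => ?_).symm
    rw [List.getD_eq_default _ _ (by rw [(hW j (hl ▸ Finset.mem_range.1 hj)).1]; omega), mul_zero]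

end CfsgLib.Known.E8SL2
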