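import Cfsg.Agent.Lib.Known.E8SL2.Cover
import Cfsg.Agent.Lib.Known.E8SL2.Orbit

/-!
# The data for elements of order 73
-/

set_option autoImplicit false
set_option maxRecDepth 100000

namespace CfsgLib.Known.E8SL2.D73

/-- The class of a value. -/
def cls (x : ℕ) : ℕ := Nat.land (Nat.shiftRight 595119050862386604826869727689823208593179266171106572271276873520109296950814145061648 (4 * x)) 15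

/-- The orbit of a class. -/
def orb (c : ℕ) : ℕ := (c + 1) / 2

/-- The least members of the orbits. -/
def orbRep : List ℕ := [0, 1, 2, 4, 5, 7, 13]

/-- The scaling of the orbits. -/
def sig (c o : ℕ) : ℕ := orb (cls (c * orbRep.getD o 0 % 73))

/-- The keys. -/
def keys : List (List ℕ) := [
  [8, 24, 36, 48, 60, 48, 24],
  [8, 24, 60, 48, 24, 36, 48],
  [8, 36, 36, 36, 36, 48, 48],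
  [8, 36, 36, 36, 48, 36, 48],
  [8, 36, 36, 36, 48, 48, 36],
  [8, 36, 36, 48, 48, 36, 36],
  [8, 36, 48, 24, 48, 24, 60],
  [8, 36, 48, 36, 36, 36, 48],
  [8, 36, 48, 48, 36, 36, 36],
  [8, 48, 24, 36, 24, 60, 48],
  [8, 48, 24, 60, 48, 24, 36],
  [8, 48, 36, 36, 36, 48, 36],
  [8, 48, 36, 48, 36, 36, 36],
  [8, 48, 48, 36, 36, 36, 36],
  [8, 60, 48, 24, 36, 48, 24],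
  [20, 0, 36, 12, 108, 36, 36],
  [20, 12, 0, 36, 36, 108, 36],
  [20, 36, 12, 0, 36, 36, 108],
  [20, 36, 36, 108, 12, 0, 36],
  [20, 36, 108, 36, 0, 36, 12],
  [20, 108, 36, 36, 36, 12, 0],
  [32, 0, 12, 12, 96, 96, 0],
  [32, 0, 96, 96, 0, 12, 12],
  [32, 12, 0, 12, 0, 96, 96],
  [32, 12, 12, 0, 96, 0, 96],
  [32, 96, 0, 96, 12, 0, 12],
  [32, 96, 96, 0, 12, 12, 0]]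

/-- The search. -/
abbrev scanS : Scan := ⟨73, cls, 13, fun c => if c = 0 then 0 else if c % 2 = 1 then c + 1 else c - 1, orb, 7, keys⟩

/-- The positive roots. -/
def pos120 : List ℕ := List.range' 120 120

/-- The root of a pair. -/
def rp120 (r : ℕ) : ℕ := if r < 120 then 119 - r else r - 120

/-- One root of each line. -/
def reps40 : List ℕ := [0, 2, 3, 4, 5, 6, 7, 8, 9, 10, 11, 14, 15, 16, 17, 18, 21, 22, 23, 26, 27, 30, 35, 36, 37, 40, 46, 51, 54, 55, 56, 61, 64, 65, 76, 78, 83, 86, 87, 112]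

/-- The line, the sign and the power of each root. -/
def pos40 : List (ℕ × Bool × ℕ) := [(0, false, 0), (0, true, 2), (1, false, 0), (2, false, 0), (3, false, 0), (4, false, 0), (5, false, 0), (6, false, 0), (7, false, 0), (8, false, 0), (9, false, 0), (10, false, 0), (7, true, 1), (4, true, 2), (11, false, 0), (12, false, 0), (13, false, 0), (14, false, 0), (15, false, 0), (6, true, 1), (11, true, 2), (16, false, 0), (17, false, 0), (18, false, 0), (12, true, 1), (5, true, 2), (19, false, 0), (20, false, 0), (2, true, 1), (19, true, 2), (21, false, 0), (1, true, 1), (21, true, 2), (3, true, 1), (20, true, 2), (22, false, 0), (23, false, 0), (24, false, 0), (24, true, 1), (1, true, 2), (25, false, 0), (23, true, 1), (3, true, 2),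 (25, true, 1), (2, true, 2), (22, true, 2), (26, false, 0), (8, true, 1), (14, true, 2), (10, true, 1), (13, true, 2), (27, false, 0), (9, true, 1), (15, true, 2), (28, false, 0), (29, false, 0), (30, false, 0), (16, true, 1), (9, true, 2), (18, true, 1), (8, true, 2), (31, false, 0), (17, true, 1), (10, true, 2), (32, false, 0), (33, false, 0), (5, true, 1), (26, true, 2), (31, true, 1), (33, true, 1), (32, true, 1), (30, true, 1), (6, true, 2), (28, true, 2), (27, true, 2), (29, true, 2), (34, false, 0), (34, true, 2), (35, false, 0), (13, true, 1), (17, true, 2), (15, true, 1), (16, true, 2), (36, false, 0), (14, true, 1), (18, true, 2), (37, false, 0), (38, false, 0), (4, true, 1), (35, true, 2), (27, true, 1), (29, true, 1),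 (28, true, 1), (11, true, 1), (30, true, 2), (36, true, 1), (38, true, 1), (37, true, 1), (22, true, 1), (26, true, 1), (12, true, 2), (37, true, 2), (36, true, 2), (38, true, 2), (34, true, 1), (35, true, 1), (7, true, 2), (32, true, 2), (31, true, 2), (33, true, 2), (20, true, 1), (23, true, 2), (39, false, 0), (39, true, 2), (19, true, 1), (25, true, 2), (39, true, 1), (21, true, 1), (24, true, 2), (0, true, 1), (0, false, 1), (24, false, 2), (21, false, 1), (39, false, 1), (25, false, 2), (19, false, 1), (39, false, 2), (39, true, 0), (23, false, 2), (20, false, 1), (33, false, 2), (31, false, 2), (32, false, 2), (7, false, 2), (35, false, 1), (34, false, 1), (38, false, 2), (36, false, 2), (37, false, 2), (12, false, 2), (26,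 false, 1), (22, false, 1), (37, false, 1), (38, false, 1), (36, false, 1), (30, false, 2), (11, false, 1), (28, false, 1), (29, false, 1), (27, false, 1), (35, false, 2), (4, false, 1), (38, true, 0), (37, true, 0), (18, false, 2), (14, false, 1), (36, true, 0), (16, false, 2), (15, false, 1), (17, false, 2), (13, false, 1), (35, true, 0), (34, false, 2), (34, true, 0), (29, false, 2), (27, false, 2), (28, false, 2), (6, false, 2), (30, false, 1), (32, false, 1), (33, false, 1), (31, false, 1), (26, false, 2), (5, false, 1), (33, true, 0), (32, true, 0), (10, false, 2), (17, false, 1), (31, true, 0), (8, false, 2), (18, false, 1), (9, false, 2), (16, false, 1), (30, true, 0), (29, true, 0), (28, true, 0), (15, false, 2), (9, false,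 1), (27, true, 0), (13, false, 2), (10, false, 1), (14, false, 2), (8, false, 1), (26, true, 0), (22, false, 2), (2, false, 2), (25, false, 1), (3, false, 2), (23, false, 1), (25, true, 0), (1, false, 2), (24, false, 1), (24, true, 0), (23, true, 0), (22, true, 0), (20, false, 2), (3, false, 1), (21, false, 2), (1, false, 1), (21, true, 0), (19, false, 2), (2, false, 1), (20, true, 0), (19, true, 0), (5, false, 2), (12, false, 1), (18, true, 0), (17, true, 0), (16, true, 0), (11, false, 2), (6, false, 1), (15, true, 0), (14, true, 0), (13, true, 0), (12, true, 0), (11, true, 0), (4, false, 2), (7, false, 1), (10, true, 0), (9, true, 0), (8, true, 0), (7, true, 0), (6, true, 0), (5, true, 0), (4, true, 0), (3, true, 0), (2, true, 0),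 (1, true, 0), (0, false, 2), (0, true, 0)]

/-- The eigenvectors of the elements of order nine. -/
def nineSols : List SolD := [
  ⟨[], [], []⟩,
  ⟨[], [], []⟩,
  ⟨[], [], []⟩,
  ⟨[], [], []⟩,
  ⟨[], [], []⟩,
  ⟨[], [], []⟩,
  ⟨[[0, 0, 0, 0, 0, 0, 0, 0], [0, 0, 0, 0, 0, 0, 0, 0], [0, 0, 0, 0, 0, 0, 0, 0]], [0, 0, 0], [[1, 65, 66, 58, 36, 14, 65, 65], [72, 72, 63, 62, 41, 20, 72, 0], [65, 66, 66, 58, 36, 14, 65, 0], [54, 59, 13, 24, 57, 69, 8, 51], [0, 0, 0, 0, 52, 0, 0, 0], [0, 0, 0, 0, 0, 52, 0, 0], [49, 22, 47, 66, 27, 61, 1, 22], [9, 9, 17, 26, 69, 39, 9, 9]]⟩,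
  ⟨[], [], []⟩,
  ⟨[], [], []⟩,
  ⟨[[0, 0, 0, 0, 0, 0, 0, 0], [0, 0, 0, 0, 0, 0, 0, 0], [0, 0, 0, 0, 0, 0, 0, 0]], [0, 0, 0], [[1, 65, 66, 58, 36, 14, 65, 0], [1, 2, 67, 68, 46, 24, 2, 1], [8, 17, 25, 33, 3, 46, 16, 8], [67, 42, 39, 63, 53, 22, 64, 43], [0, 0, 0, 0, 52, 0, 0, 0], [0, 0, 0, 0, 0, 52, 0, 0], [27, 21, 2, 72, 55, 38, 0, 21], [0, 1, 1, 2, 53, 31, 9, 9]]⟩,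
  ⟨[], [], []⟩,
  ⟨[], [], []⟩,
  ⟨[[0, 0, 0, 0, 0, 0, 0, 0], [0, 0, 0, 0, 0, 0, 0, 0], [0, 0, 0, 0, 0, 0, 0, 0]], [0, 0, 0], [[9, 9, 9, 18, 39, 60, 8, 0], [72, 7, 71, 5, 27, 49, 71, 72], [65, 57, 57, 40, 70, 27, 57, 65], [3, 30, 36, 18, 29, 19, 9, 30], [0, 0, 0, 0, 52, 0, 0, 0], [0, 0, 0, 0, 0, 52, 0, 0], [27, 52, 25, 1, 35, 69, 9, 52], [0, 72, 72, 71, 20, 42, 64, 0]]⟩,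
  ⟨[], [], []⟩,
  ⟨[[0, 0, 0, 9, 56, 7, 1, 0], [0, 0, 0, 0, 0, 0, 0, 0], [0, 0, 0, 0, 0, 0, 0, 0]], [6, 0, 0], [[1, 65, 66, 58, 2, 0, 65, 65], [72, 72, 63, 62, 55, 0, 72, 0], [65, 66, 66, 58, 2, 0, 65, 0], [51, 7, 28, 14, 11, 0, 72, 72], [30, 9, 69, 27, 3, 0, 17, 9], [22, 65, 36, 49, 45, 0, 66, 65], [0, 0, 0, 0, 0, 0, 0, 0], [9, 9, 17, 26, 16, 0, 9, 9]]⟩,
  ⟨[[0, 0, 0, 0, 0, 0, 0, 0], [0, 0, 0, 0, 0, 0, 0, 0], [0, 0, 0, 0, 0, 0, 0, 0]], [0, 0, 0], [[66, 58, 50, 43, 72, 28, 57, 65], [1, 10, 2, 11, 32, 53, 1, 1], [8, 8, 16, 15, 37, 59, 8, 8], [45, 20, 47, 71, 61, 30, 72, 21], [0, 0, 0, 0, 52, 0, 0, 0], [0, 0, 0, 0, 0, 52, 0, 0], [58, 61, 13, 19, 23, 27, 10, 52], [64, 56, 55, 47, 4, 34, 64, 0]]⟩,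
  ⟨[[0, 0, 0, 0, 0, 0, 0, 0], [0, 0, 0, 0, 0, 0, 0, 0], [0, 0, 0, 0, 0, 0, 0, 0]], [0, 0, 0], [[0, 64, 64, 55, 12, 42, 72, 72], [65, 65, 57, 48, 5, 35, 65, 0], [72, 72, 7, 6, 28, 50, 72, 0], [28, 31, 4, 11, 46, 60, 1, 22], [0, 0, 0, 0, 52, 0, 0, 0], [0, 0, 0, 0, 0, 52, 0, 0], [2, 51, 56, 7, 63, 46, 8, 51], [9, 9, 10, 19, 40, 61, 9, 9]]⟩,
  ⟨[], [], []⟩,
  ⟨[[0, 0, 0, 9, 56, 7, 1, 0], [0, 0, 0, 0, 0, 0, 0, 0], [0, 0, 0, 0, 0, 0, 0, 0]], [6, 0, 0], [[1, 65, 66, 58, 2, 0, 65, 0], [1, 2, 67, 68, 19, 0, 2, 1], [8, 17, 25, 33, 6, 0, 16, 8], [43, 72, 21, 72, 13, 0, 64, 0], [21, 65, 34, 56, 52, 0, 0, 65], [30, 72, 59, 7, 42, 0, 0, 72], [0, 0, 0, 0, 0, 0, 0, 0], [0, 1, 1, 2, 9, 0, 9, 9]]⟩,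
  ⟨[], [], []⟩,
  ⟨[[0, 0, 0, 0, 0, 0, 0, 0], [0, 0, 0, 0, 0, 0, 0, 0], [0, 0, 0, 0, 0, 0, 0, 0]], [0, 0, 0], [[9, 9, 9, 18, 39, 60, 8, 8], [1, 10, 2, 11, 32, 53, 1, 0], [8, 8, 16, 15, 37, 59, 8, 0], [16, 13, 62, 57, 25, 45, 65, 22], [0, 0, 0, 0, 52, 0, 0, 0], [0, 0, 0, 0, 0, 52, 0, 0], [5, 51, 53, 7, 63, 46, 8, 51], [64, 64, 56, 47, 4, 34, 64, 0]]⟩,
  ⟨[[0, 0, 0, 0, 0, 0, 0, 0], [0, 0, 0, 0, 0, 0, 0, 0], [0, 0, 0, 0, 0, 0, 0, 0]], [0, 0, 0], [[8, 72, 7, 6, 28, 50, 72, 0], [65, 65, 56, 48, 5, 35, 65, 0], [1, 10, 11, 12, 33, 54, 2, 1], [48, 21, 45, 72, 13, 6, 72, 21], [0, 0, 0, 0, 52, 0, 0, 0], [0, 0, 0, 0, 0, 52, 0, 0], [54, 51, 5, 7, 63, 46, 8, 51], [1, 9, 10, 19, 40, 61, 9, 9]]⟩,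
  ⟨[[0, 0, 0, 0, 0, 0, 0, 0], [0, 0, 0, 0, 0, 0, 0, 0], [0, 0, 0, 0, 0, 0, 0, 0]], [0, 0, 0], [[0, 64, 64, 55, 12, 42, 72, 0], [8, 16, 16, 23, 45, 67, 16, 8], [1, 2, 11, 12, 33, 54, 2, 1], [70, 21, 15, 64, 5, 71, 64, 21], [0, 0, 0, 0, 52, 0, 0, 0], [0, 0, 0, 0, 0, 52, 0, 0], [24, 43, 19, 65, 26, 60, 0, 43], [0, 8, 8, 16, 38, 60, 9, 9]]⟩,
  ⟨[], [], []⟩,
  ⟨[[0, 0, 0, 9, 56, 7, 1, 0], [0, 0, 0, 0, 0, 0, 0, 0], [0, 0, 0, 0, 0, 0, 0, 0]], [6, 0, 0], [[9, 9, 9, 18, 8, 0, 8, 0], [72, 7, 71, 5, 54, 0, 71, 72], [65, 57, 57, 40, 67, 0, 57, 65], [52, 0, 30, 9, 30, 0, 1, 0], [21, 8, 60, 17, 59, 0, 7, 8], [30, 1, 44, 66, 52, 0, 10, 1], [0, 0, 0, 0, 0, 0, 0, 0], [0, 72, 72, 71, 64, 0, 64, 0]]⟩,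
  ⟨[], [], []⟩,
  ⟨[[0, 0, 0, 0, 0, 0, 0, 0], [0, 0, 0, 0, 0, 0, 0, 0], [0, 0, 0, 0, 0, 0, 0, 0]], [0, 0, 0], [[1, 1, 66, 67, 45, 23, 1, 0], [65, 66, 58, 50, 28, 6, 57, 65], [72, 63, 71, 61, 40, 19, 71, 72], [6, 60, 63, 26, 10, 46, 9, 52], [0, 0, 0, 0, 52, 0, 0, 0], [0, 0, 0, 0, 0, 52, 0, 0], [24, 30, 5, 8, 64, 47, 9, 30], [0, 65, 65, 57, 35, 13, 64, 0]]⟩,
  ⟨[[0, 0, 0, 65, 17, 63, 1, 0], [0, 0, 0, 0, 0, 0, 0, 0], [0, 0, 0, 0, 0, 0, 0, 0]], [6, 0, 0], [[1, 65, 66, 58, 56, 0, 65, 65], [72, 72, 63, 62, 7, 0, 72, 0], [65, 66, 66, 58, 56, 0, 65, 0], [8, 16, 24, 41, 27, 0, 16, 8], [43, 64, 4, 46, 49, 0, 56, 64], [52, 1, 32, 3, 28, 0, 10, 1], [0, 0, 0, 0, 0, 0, 0, 0], [9, 9, 17, 26, 10, 0, 9, 9]]⟩,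
  ⟨[[0, 0, 0, 9, 56, 7, 1, 0], [0, 0, 0, 0, 0, 0, 0, 0], [0, 0, 0, 0, 0, 0, 0, 0]], [6, 0, 0], [[66, 58, 50, 43, 4, 0, 57, 65], [1, 10, 2, 11, 18, 0, 1, 1], [8, 8, 16, 15, 71, 0, 8, 8], [34, 55, 3, 46, 70, 0, 55, 64], [37, 15, 2, 31, 56, 0, 24, 8], [32, 11, 55, 13, 6, 0, 3, 1], [0, 0, 0, 0, 0, 0, 0, 0], [64, 56, 55, 47, 57, 0, 64, 0]]⟩,
  ⟨[[0, 0, 0, 9, 56, 7, 1, 0], [0, 0, 0, 0, 0, 0, 0, 0], [0, 0, 0, 0, 0, 0, 0, 0]], [6, 0, 0], [[0, 64, 64, 55, 56, 0, 72, 72], [65, 65, 57, 48, 66, 0, 65, 0], [72, 72, 7, 6, 63, 0, 72, 0], [10, 10, 11, 21, 27, 0, 2, 1], [34, 64, 3, 46, 35, 0, 63, 64], [59, 8, 46, 24, 49, 0, 17, 8], [0, 0, 0, 0, 0, 0, 0, 0], [9, 9, 10, 19, 17, 0, 9, 9]]⟩,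
  ⟨[], [], []⟩,
  ⟨[[0, 0, 0, 0, 0, 0, 0, 0], [0, 0, 0, 0, 0, 0, 0, 0], [0, 0, 0, 0, 0, 0, 0, 0]], [0, 0, 0], [[72, 63, 62, 61, 40, 19, 71, 72], [66, 66, 58, 50, 28, 6, 57, 65], [9, 9, 18, 18, 61, 31, 1, 1], [48, 51, 2, 8, 22, 15, 8, 51], [0, 0, 0, 0, 52, 0, 0, 0], [0, 0, 0, 0, 0, 52, 0, 0], [54, 30, 57, 8, 64, 47, 9, 30], [65, 65, 57, 57, 35, 13, 64, 0]]⟩,
  ⟨[[0, 0, 0, 0, 0, 0, 0, 0], [0, 0, 0, 0, 0, 0, 0, 0], [0, 0, 0, 0, 0, 0, 0, 0]], [0, 0, 0], [[72, 71, 62, 61, 40, 19, 71, 72], [8, 17, 17, 25, 68, 38, 8, 8], [1, 66, 2, 67, 45, 23, 1, 1], [19, 43, 16, 65, 6, 72, 65, 43], [0, 0, 0, 0, 52, 0, 0, 0], [0, 0, 0, 0, 0, 52, 0, 0], [11, 39, 44, 26, 30, 34, 17, 30], [64, 63, 55, 54, 33, 12, 64, 0]]⟩,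
  ⟨[[0, 0, 0, 65, 17, 63, 1, 0], [0, 0, 0, 0, 0, 0, 0, 0], [0, 0, 0, 0, 0, 0, 0, 0]], [6, 0, 0], [[1, 65, 66, 58, 56, 0, 65, 0], [1, 2, 67, 68, 49, 0, 2, 1], [8, 17, 25, 33, 27, 0, 16, 8], [64, 64, 55, 55, 63, 0, 64, 65], [52, 8, 39, 17, 69, 0, 0, 8], [51, 64, 20, 63, 42, 0, 0, 64], [0, 0, 0, 0, 0, 0, 0, 0], [0, 1, 1, 2, 66, 0, 9, 9]]⟩,
  ⟨[], [], []⟩,
  ⟨[[0, 0, 0, 9, 56, 7, 1, 0], [0, 0, 0, 0, 0, 0, 0, 0], [0, 0, 0, 0, 0, 0, 0, 0]], [6, 0, 0], [[9, 9, 9, 18, 8, 0, 8, 8], [1, 10, 2, 11, 18, 0, 1, 0], [8, 8, 16, 15, 71, 0, 8, 0], [44, 65, 23, 67, 32, 0, 66, 1], [12, 64, 25, 46, 35, 0, 63, 64], [38, 8, 67, 24, 49, 0, 17, 8], [0, 0, 0, 0, 0, 0, 0, 0], [64, 64, 56, 47, 57, 0, 64, 0]]⟩,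
  ⟨[[0, 0, 0, 9, 56, 7, 1, 0], [0, 0, 0, 0, 0, 0, 0, 0], [0, 0, 0, 0, 0, 0, 0, 0]], [6, 0, 0], [[8, 72, 7, 6, 63, 0, 72, 0], [65, 65, 56, 48, 66, 0, 65, 0], [1, 10, 11, 12, 27, 0, 2, 1], [0, 0, 0, 9, 0, 0, 0, 0], [42, 64, 12, 46, 35, 0, 63, 64], [60, 8, 38, 24, 49, 0, 17, 8], [0, 0, 0, 0, 0, 0, 0, 0], [1, 9, 10, 19, 17, 0, 9, 9]]⟩,
  ⟨[[0, 0, 0, 9, 56, 7, 1, 0], [0, 0, 0, 0, 0, 0, 0, 0], [0, 0, 0, 0, 0, 0, 0, 0]], [6, 0, 0], [[0, 64, 64, 55, 56, 0, 72, 0], [8, 16, 16, 23, 70, 0, 16, 8], [1, 2, 11, 12, 27, 0, 2, 1], [0, 72, 63, 63, 56, 0, 64, 72], [43, 1, 31, 10, 69, 0, 0, 1], [51, 64, 13, 56, 35, 0, 0, 64], [0, 0, 0, 0, 0, 0, 0, 0], [0, 8, 8, 16, 7, 0, 9, 9]]⟩,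
  ⟨[[0, 0, 0, 0, 0, 0, 0, 0], [0, 0, 0, 0, 0, 0, 0, 0], [0, 0, 0, 0, 0, 0, 0, 0]], [0, 0, 0], [[9, 9, 9, 18, 61, 31, 1, 1], [65, 66, 57, 50, 28, 6, 57, 65], [1, 1, 2, 67, 45, 23, 1, 0], [26, 50, 31, 14, 50, 65, 7, 51], [0, 0, 0, 0, 52, 0, 0, 0], [0, 0, 0, 0, 0, 52, 0, 0], [3, 30, 27, 8, 64, 47, 9, 30], [65, 65, 65, 57, 35, 13, 64, 0]]⟩,
  ⟨[[0, 0, 0, 0, 0, 0, 0, 0], [0, 0, 0, 0, 0, 0, 0, 0], [0, 0, 0, 0, 0, 0, 0, 0]], [0, 0, 0], [[1, 66, 66, 67, 45, 23, 1, 1], [9, 17, 17, 25, 68, 38, 8, 8], [9, 9, 18, 18, 61, 31, 1, 0], [61, 34, 28, 47, 18, 41, 64, 43], [0, 0, 0, 0, 52, 0, 0, 0], [0, 0, 0, 0, 0, 52, 0, 0], [33, 39, 15, 26, 30, 34, 17, 30], [64, 63, 63, 54, 33, 12, 64, 0]]⟩,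
  ⟨[], [], []⟩,
  ⟨[[0, 0, 0, 0, 0, 0, 0, 0], [0, 0, 0, 0, 0, 0, 0, 0], [0, 0, 0, 0, 0, 0, 0, 0]], [0, 0, 0], [[1, 1, 66, 67, 45, 23, 1, 1], [8, 17, 17, 25, 68, 38, 8, 0], [1, 66, 2, 67, 45, 23, 1, 0], [48, 50, 1, 6, 42, 57, 72, 51], [0, 0, 0, 0, 52, 0, 0, 0], [0, 0, 0, 0, 0, 52, 0, 0], [46, 22, 41, 66, 27, 61, 1, 22], [64, 64, 63, 54, 33, 12, 64, 0]]⟩,
  ⟨[], [], []⟩,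
  ⟨[[0, 0, 0, 65, 17, 63, 1, 0], [0, 0, 0, 0, 0, 0, 0, 0], [0, 0, 0, 0, 0, 0, 0, 0]], [6, 0, 0], [[9, 9, 9, 18, 10, 0, 8, 0], [72, 7, 71, 5, 24, 0, 71, 72], [65, 57, 57, 40, 46, 0, 57, 65], [0, 8, 17, 26, 10, 0, 8, 8], [52, 65, 13, 56, 42, 0, 66, 65], [51, 9, 31, 10, 45, 0, 17, 9], [0, 0, 0, 0, 0, 0, 0, 0], [0, 72, 72, 71, 7, 0, 64, 0]]⟩,
  ⟨[], [], []⟩,
  ⟨[[0, 0, 0, 9, 56, 7, 1, 0], [0, 0, 0, 0, 0, 0, 0, 0], [0, 0, 0, 0, 0, 0, 0, 0]], [6, 0, 0], [[1, 1, 66, 67, 10, 0, 1, 0], [65, 66, 58, 50, 3, 0, 57, 65], [72, 63, 71, 61, 46, 0, 71, 72], [9, 9, 18, 27, 17, 0, 1, 1], [43, 72, 12, 63, 42, 0, 7, 72], [51, 9, 38, 17, 59, 0, 10, 9], [0, 0, 0, 0, 0, 0, 0, 0], [0, 65, 65, 57, 66, 0, 64, 0]]⟩,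
  ⟨[[0, 0, 0, 0, 0, 0, 0, 0], [0, 0, 0, 0, 0, 0, 0, 0], [0, 0, 0, 0, 0, 0, 0, 0]], [0, 0, 0], [[17, 16, 25, 33, 3, 46, 16, 8], [72, 72, 63, 62, 41, 20, 72, 72], [65, 66, 66, 58, 36, 14, 65, 65], [25, 52, 28, 10, 21, 11, 1, 52], [0, 0, 0, 0, 52, 0, 0, 0], [0, 0, 0, 0, 0, 52, 0, 0], [69, 12, 14, 54, 67, 7, 72, 21], [9, 17, 18, 26, 69, 39, 9, 9]]⟩,
  ⟨[], [], []⟩,
  ⟨[], [], []⟩,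
  ⟨[[0, 0, 0, 65, 17, 63, 1, 0], [0, 0, 0, 0, 0, 0, 0, 0], [0, 0, 0, 0, 0, 0, 0, 0]], [6, 0, 0], [[66, 58, 50, 43, 39, 0, 57, 65], [1, 10, 2, 11, 66, 0, 1, 1], [8, 8, 16, 15, 17, 0, 8, 8], [71, 70, 5, 4, 24, 0, 6, 72], [36, 58, 71, 42, 25, 0, 49, 65], [69, 26, 57, 44, 55, 0, 27, 9], [0, 0, 0, 0, 0, 0, 0, 0], [64, 56, 55, 47, 63, 0, 64, 0]]⟩,
  ⟨[[0, 0, 0, 65, 17, 63, 1, 0], [0, 0, 0, 0, 0, 0, 0, 0], [0, 0, 0, 0, 0, 0, 0, 0]], [6, 0, 0], [[0, 64, 64, 55, 72, 0, 72, 72], [65, 65, 57, 48, 55, 0, 65, 0], [72, 72, 7, 6, 16, 0, 72, 0], [44, 1, 14, 67, 5, 0, 65, 65], [39, 9, 70, 27, 62, 0, 10, 9], [20, 72, 49, 70, 59, 0, 7, 72], [0, 0, 0, 0, 0, 0, 0, 0], [9, 9, 10, 19, 2, 0, 9, 9]]⟩,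
  ⟨[], [], []⟩,
  ⟨[[0, 0, 0, 9, 56, 7, 1, 0], [0, 0, 0, 0, 0, 0, 0, 0], [0, 0, 0, 0, 0, 0, 0, 0]], [6, 0, 0], [[72, 63, 62, 61, 46, 0, 71, 72], [66, 66, 58, 50, 3, 0, 57, 65], [9, 9, 18, 18, 17, 0, 1, 1], [0, 0, 0, 9, 0, 0, 0, 0], [42, 72, 20, 63, 42, 0, 7, 72], [60, 9, 39, 17, 59, 0, 10, 9], [0, 0, 0, 0, 0, 0, 0, 0], [65, 65, 57, 57, 66, 0, 64, 0]]⟩,
  ⟨[[0, 0, 0, 9, 56, 7, 1, 0], [0, 0, 0, 0, 0, 0, 0, 0], [0, 0, 0, 0, 0, 0, 0, 0]], [6, 0, 0], [[72, 71, 62, 61, 46, 0, 71, 72], [8, 17, 17, 25, 7, 0, 8, 8], [1, 66, 2, 67, 10, 0, 1, 1], [66, 57, 58, 50, 3, 0, 58, 65], [41, 6, 18, 4, 32, 0, 70, 72], [69, 19, 57, 37, 3, 0, 27, 9], [0, 0, 0, 0, 0, 0, 0, 0], [64, 63, 55, 54, 56, 0, 64, 0]]⟩,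
  ⟨[], [], []⟩,
  ⟨[], [], []⟩,
  ⟨[], [], []⟩,
  ⟨[], [], []⟩,
  ⟨[], [], []⟩,
  ⟨[[0, 0, 0, 65, 17, 63, 1, 0], [0, 0, 0, 0, 0, 0, 0, 0], [0, 0, 0, 0, 0, 0, 0, 0]], [6, 0, 0], [[9, 9, 9, 18, 10, 0, 8, 8], [1, 10, 2, 11, 66, 0, 1, 0], [8, 8, 16, 15, 17, 0, 8, 0], [56, 56, 48, 40, 46, 0, 56, 65], [61, 9, 48, 27, 62, 0, 10, 9], [50, 72, 19, 70, 59, 0, 7, 72], [0, 0, 0, 0, 0, 0, 0, 0], [64, 64, 56, 47, 63, 0, 64, 0]]⟩,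
  ⟨[[0, 0, 0, 65, 17, 63, 1, 0], [0, 0, 0, 0, 0, 0, 0, 0], [0, 0, 0, 0, 0, 0, 0, 0]], [6, 0, 0], [[8, 72, 7, 6, 16, 0, 72, 0], [65, 65, 56, 48, 55, 0, 65, 0], [1, 10, 11, 12, 58, 0, 2, 1], [42, 64, 12, 55, 20, 0, 63, 64], [31, 9, 61, 27, 62, 0, 10, 9], [29, 72, 50, 70, 59, 0, 7, 72], [0, 0, 0, 0, 0, 0, 0, 0], [1, 9, 10, 19, 2, 0, 9, 9]]⟩,
  ⟨[[0, 0, 0, 65, 17, 63, 1, 0], [0, 0, 0, 0, 0, 0, 0, 0], [0, 0, 0, 0, 0, 0, 0, 0]], [6, 0, 0], [[0, 64, 64, 55, 72, 0, 72, 0], [8, 16, 16, 23, 26, 0, 16, 8], [1, 2, 11, 12, 58, 0, 2, 1], [43, 0, 21, 0, 21, 0, 64, 0], [30, 72, 42, 63, 59, 0, 0, 72], [21, 65, 44, 66, 35, 0, 0, 65], [0, 0, 0, 0, 0, 0, 0, 0], [0, 8, 8, 16, 9, 0, 9, 9]]⟩,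
  ⟨[[0, 0, 0, 9, 56, 7, 1, 0], [0, 0, 0, 0, 0, 0, 0, 0], [0, 0, 0, 0, 0, 0, 0, 0]], [6, 0, 0], [[9, 9, 9, 18, 17, 0, 1, 1], [65, 66, 57, 50, 3, 0, 57, 65], [1, 1, 2, 67, 10, 0, 1, 0], [72, 72, 7, 15, 63, 0, 72, 0], [51, 72, 21, 63, 42, 0, 7, 72], [52, 9, 30, 17, 59, 0, 10, 9], [0, 0, 0, 0, 0, 0, 0, 0], [65, 65, 65, 57, 66, 0, 64, 0]]⟩,
  ⟨[[0, 0, 0, 9, 56, 7, 1, 0], [0, 0, 0, 0, 0, 0, 0, 0], [0, 0, 0, 0, 0, 0, 0, 0]], [6, 0, 0], [[1, 66, 66, 67, 10, 0, 1, 1], [9, 17, 17, 25, 7, 0, 8, 8], [9, 9, 18, 18, 17, 0, 1, 0], [56, 48, 39, 32, 59, 0, 57, 65], [50, 6, 36, 4, 32, 0, 70, 72], [61, 19, 41, 37, 3, 0, 27, 9], [0, 0, 0, 0, 0, 0, 0, 0], [64, 63, 63, 54, 56, 0, 64, 0]]⟩,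
  ⟨[], [], []⟩,
  ⟨[[0, 0, 0, 9, 56, 7, 1, 0], [0, 0, 0, 0, 0, 0, 0, 0], [0, 0, 0, 0, 0, 0, 0, 0]], [6, 0, 0], [[1, 1, 66, 67, 10, 0, 1, 1], [8, 17, 17, 25, 7, 0, 8, 0], [1, 66, 2, 67, 10, 0, 1, 0], [72, 71, 70, 69, 46, 0, 63, 72], [52, 9, 40, 27, 3, 0, 17, 9], [43, 65, 5, 49, 45, 0, 66, 65], [0, 0, 0, 0, 0, 0, 0, 0], [64, 64, 63, 54, 56, 0, 64, 0]]⟩,
  ⟨[], [], []⟩,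
  ⟨[], [], []⟩,
  ⟨[], [], []⟩,
  ⟨[], [], []⟩,
  ⟨[], [], []⟩,
  ⟨[], [], []⟩,
  ⟨[[0, 0, 0, 0, 0, 0, 0, 0], [0, 0, 0, 0, 0, 0, 0, 0], [0, 0, 0, 0, 0, 0, 0, 0]], [0, 0, 0], [[0, 64, 64, 55, 34, 13, 65, 65], [1, 2, 2, 68, 46, 24, 2, 1], [65, 65, 66, 58, 36, 14, 65, 0], [32, 59, 34, 23, 56, 68, 7, 51], [0, 0, 0, 0, 52, 0, 0, 0], [0, 0, 0, 0, 0, 52, 0, 0], [70, 21, 24, 72, 55, 38, 0, 21], [1, 1, 1, 2, 53, 31, 9, 9]]⟩,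
  ⟨[], [], []⟩,
  ⟨[[0, 0, 0, 65, 17, 63, 1, 0], [0, 0, 0, 0, 0, 0, 0, 0], [0, 0, 0, 0, 0, 0, 0, 0]], [6, 0, 0], [[1, 1, 66, 67, 57, 0, 1, 0], [65, 66, 58, 50, 47, 0, 57, 65], [72, 63, 71, 61, 15, 0, 71, 72], [52, 8, 30, 17, 31, 0, 8, 0], [30, 1, 61, 10, 52, 0, 66, 1], [21, 8, 50, 7, 52, 0, 17, 8], [0, 0, 0, 0, 0, 0, 0, 0], [0, 65, 65, 57, 64, 0, 64, 0]]⟩,
  ⟨[[0, 0, 0, 9, 56, 7, 1, 0], [0, 0, 0, 0, 0, 0, 0, 0], [0, 0, 0, 0, 0, 0, 0, 0]], [6, 0, 0], [[17, 16, 25, 33, 6, 0, 16, 8], [72, 72, 63, 62, 55, 0, 72, 72], [65, 66, 66, 58, 2, 0, 65, 65], [61, 17, 48, 35, 46, 0, 10, 9], [5, 58, 19, 42, 55, 0, 56, 65], [28, 62, 48, 60, 15, 0, 7, 72], [0, 0, 0, 0, 0, 0, 0, 0], [9, 17, 18, 26, 16, 0, 9, 9]]⟩,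
  ⟨[], [], []⟩,
  ⟨[], [], []⟩,
  ⟨[[0, 0, 0, 0, 0, 0, 0, 0], [0, 0, 0, 0, 0, 0, 0, 0], [0, 0, 0, 0, 0, 0, 0, 0]], [0, 0, 0], [[10, 10, 11, 12, 33, 54, 2, 1], [64, 65, 56, 48, 5, 35, 65, 0], [64, 64, 64, 55, 12, 42, 72, 72], [6, 30, 33, 17, 1, 37, 0, 22], [0, 0, 0, 0, 52, 0, 0, 0], [0, 0, 0, 0, 0, 52, 0, 0], [24, 51, 26, 7, 63, 46, 8, 51], [9, 9, 18, 19, 40, 61, 9, 9]]⟩,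
  ⟨[[0, 0, 0, 0, 0, 0, 0, 0], [0, 0, 0, 0, 0, 0, 0, 0], [0, 0, 0, 0, 0, 0, 0, 0]], [0, 0, 0], [[10, 2, 11, 12, 33, 54, 2, 1], [8, 16, 15, 23, 45, 67, 16, 8], [72, 7, 7, 6, 28, 50, 72, 72], [19, 14, 60, 58, 50, 21, 65, 22], [0, 0, 0, 0, 52, 0, 0, 0], [0, 0, 0, 0, 0, 52, 0, 0], [68, 43, 41, 65, 26, 60, 0, 43], [8, 8, 16, 16, 38, 60, 9, 9]]⟩,
  ⟨[], [], []⟩,
  ⟨[[0, 0, 0, 0, 0, 0, 0, 0], [0, 0, 0, 0, 0, 0, 0, 0], [0, 0, 0, 0, 0, 0, 0, 0]], [0, 0, 0], [[2, 67, 68, 61, 17, 46, 2, 1], [65, 65, 57, 48, 5, 35, 65, 65], [72, 72, 7, 6, 28, 50, 72, 72], [57, 38, 62, 25, 9, 45, 8, 30], [0, 0, 0, 0, 52, 0, 0, 0], [0, 0, 0, 0, 0, 52, 0, 0], [37, 34, 53, 47, 60, 0, 65, 43], [9, 10, 18, 19, 40, 61, 9, 9]]⟩,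
  ⟨[], [], []⟩,
  ⟨[], [], []⟩,
  ⟨[[0, 0, 0, 65, 17, 63, 1, 0], [0, 0, 0, 0, 0, 0, 0, 0], [0, 0, 0, 0, 0, 0, 0, 0]], [6, 0, 0], [[72, 63, 62, 61, 15, 0, 71, 72], [66, 66, 58, 50, 47, 0, 57, 65], [9, 9, 18, 18, 1, 0, 1, 1], [42, 72, 20, 72, 30, 0, 7, 72], [31, 1, 53, 10, 52, 0, 66, 1], [29, 8, 59, 7, 52, 0, 17, 8], [0, 0, 0, 0, 0, 0, 0, 0], [65, 65, 57, 57, 64, 0, 64, 0]]⟩,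
  ⟨[[0, 0, 0, 65, 17, 63, 1, 0], [0, 0, 0, 0, 0, 0, 0, 0], [0, 0, 0, 0, 0, 0, 0, 0]], [6, 0, 0], [[72, 71, 62, 61, 15, 0, 71, 72], [8, 17, 17, 25, 18, 0, 8, 8], [1, 66, 2, 67, 57, 0, 1, 1], [34, 63, 3, 54, 19, 0, 55, 64], [32, 67, 55, 69, 28, 0, 3, 1], [37, 25, 2, 41, 6, 0, 24, 8], [0, 0, 0, 0, 0, 0, 0, 0], [64, 63, 55, 54, 71, 0, 64, 0]]⟩,
  ⟨[], [], []⟩,
  ⟨[], [], []⟩,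
  ⟨[], [], []⟩,
  ⟨[], [], []⟩,
  ⟨[], [], []⟩,
  ⟨[[0, 0, 0, 0, 0, 0, 0, 0], [0, 0, 0, 0, 0, 0, 0, 0], [0, 0, 0, 0, 0, 0, 0, 0]], [0, 0, 0], [[8, 7, 7, 6, 28, 50, 72, 72], [7, 16, 15, 23, 45, 67, 16, 8], [64, 64, 64, 55, 12, 42, 72, 0], [50, 23, 48, 3, 38, 52, 66, 22], [0, 0, 0, 0, 52, 0, 0, 0], [0, 0, 0, 0, 0, 52, 0, 0], [46, 43, 70, 65, 26, 60, 0, 43], [8, 8, 8, 16, 38, 60, 9, 9]]⟩,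
  ⟨[], [], []⟩,
  ⟨[[0, 0, 0, 0, 0, 0, 0, 0], [0, 0, 0, 0, 0, 0, 0, 0], [0, 0, 0, 0, 0, 0, 0, 0]], [0, 0, 0], [[8, 72, 7, 6, 28, 50, 72, 72], [65, 65, 56, 48, 5, 35, 65, 65], [72, 7, 7, 6, 28, 50, 72, 0], [6, 31, 34, 19, 54, 68, 9, 30], [0, 0, 0, 0, 52, 0, 0, 0], [0, 0, 0, 0, 0, 52, 0, 0], [16, 34, 10, 47, 60, 0, 65, 43], [9, 10, 10, 19, 40, 61, 9, 9]]⟩,
  ⟨[], [], []⟩,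
  ⟨[], [], []⟩,
  ⟨[[0, 0, 0, 0, 0, 0, 0, 0], [0, 0, 0, 0, 0, 0, 0, 0], [0, 0, 0, 0, 0, 0, 0, 0]], [0, 0, 0], [[8, 7, 7, 15, 37, 59, 8, 0], [9, 10, 10, 11, 32, 53, 1, 1], [66, 58, 59, 43, 72, 28, 57, 65], [23, 28, 3, 13, 25, 16, 7, 29], [0, 0, 0, 0, 52, 0, 0, 0], [0, 0, 0, 0, 0, 52, 0, 0], [6, 61, 64, 19, 23, 27, 10, 52], [65, 56, 56, 47, 4, 34, 64, 0]]⟩,
  ⟨[[0, 0, 0, 65, 17, 63, 1, 0], [0, 0, 0, 0, 0, 0, 0, 0], [0, 0, 0, 0, 0, 0, 0, 0]], [6, 0, 0], [[9, 9, 9, 18, 1, 0, 1, 1], [65, 66, 57, 50, 47, 0, 57, 65], [1, 1, 2, 67, 57, 0, 1, 0], [50, 71, 28, 5, 46, 0, 6, 72], [22, 1, 52, 10, 52, 0, 66, 1], [30, 8, 51, 7, 52, 0, 17, 8], [0, 0, 0, 0, 0, 0, 0, 0], [65, 65, 65, 57, 64, 0, 64, 0]]⟩,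
  ⟨[[0, 0, 0, 65, 17, 63, 1, 0], [0, 0, 0, 0, 0, 0, 0, 0], [0, 0, 0, 0, 0, 0, 0, 0]], [6, 0, 0], [[1, 66, 66, 67, 57, 0, 1, 1], [9, 17, 17, 25, 18, 0, 8, 8], [9, 9, 18, 18, 1, 0, 1, 0], [33, 54, 2, 36, 18, 0, 54, 64], [23, 67, 37, 69, 28, 0, 3, 1], [38, 25, 4, 41, 6, 0, 24, 8], [0, 0, 0, 0, 0, 0, 0, 0], [64, 63, 63, 54, 71, 0, 64, 0]]⟩,
  ⟨[], [], []⟩,
  ⟨[[0, 0, 0, 65, 17, 63, 1, 0], [0, 0, 0, 0, 0, 0, 0, 0], [0, 0, 0, 0, 0, 0, 0, 0]], [6, 0, 0], [[1, 1, 66, 67, 57, 0, 1, 1], [8, 17, 17, 25, 18, 0, 8, 0], [1, 66, 2, 67, 57, 0, 1, 0], [51, 7, 37, 23, 47, 0, 7, 8], [21, 64, 33, 46, 49, 0, 56, 64], [22, 1, 45, 3, 28, 0, 10, 1], [0, 0, 0, 0, 0, 0, 0, 0], [64, 64, 63, 54, 71, 0, 64, 0]]⟩,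
  ⟨[], [], []⟩,
  ⟨[], [], []⟩,
  ⟨[], [], []⟩,
  ⟨[], [], []⟩,
  ⟨[], [], []⟩,
  ⟨[], [], []⟩,
  ⟨[[0, 0, 0, 9, 56, 7, 1, 0], [0, 0, 0, 0, 0, 0, 0, 0], [0, 0, 0, 0, 0, 0, 0, 0]], [6, 0, 0], [[0, 64, 64, 55, 65, 0, 65, 65], [1, 2, 2, 68, 19, 0, 2, 1], [65, 65, 66, 58, 2, 0, 65, 0], [59, 16, 37, 32, 19, 0, 7, 8], [22, 65, 43, 56, 52, 0, 0, 65], [21, 72, 51, 7, 42, 0, 0, 72], [0, 0, 0, 0, 0, 0, 0, 0], [1, 1, 1, 2, 9, 0, 9, 9]]⟩,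
  ⟨[[0, 0, 0, 0, 0, 0, 0, 0], [0, 0, 0, 0, 0, 0, 0, 0], [0, 0, 0, 0, 0, 0, 0, 0]], [0, 0, 0], [[8, 7, 7, 6, 28, 50, 72, 0], [64, 65, 56, 48, 5, 35, 65, 65], [66, 67, 68, 61, 17, 46, 2, 1], [35, 37, 18, 31, 37, 22, 7, 29], [0, 0, 0, 0, 52, 0, 0, 0], [0, 0, 0, 0, 0, 52, 0, 0], [67, 34, 31, 47, 60, 0, 65, 43], [1, 10, 10, 19, 40, 61, 9, 9]]⟩,
  ⟨[], [], []⟩,
  ⟨[], [], []⟩,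
  ⟨[[0, 0, 0, 0, 0, 0, 0, 0], [0, 0, 0, 0, 0, 0, 0, 0], [0, 0, 0, 0, 0, 0, 0, 0]], [0, 0, 0], [[65, 56, 48, 40, 70, 27, 57, 65], [9, 10, 10, 11, 32, 53, 1, 0], [9, 9, 18, 18, 39, 60, 8, 8], [67, 21, 18, 72, 62, 31, 0, 22], [0, 0, 0, 0, 52, 0, 0, 0], [0, 0, 0, 0, 0, 52, 0, 0], [27, 51, 32, 7, 63, 46, 8, 51], [64, 64, 55, 47, 4, 34, 64, 0]]⟩,
  ⟨[[0, 0, 0, 0, 0, 0, 0, 0], [0, 0, 0, 0, 0, 0, 0, 0], [0, 0, 0, 0, 0, 0, 0, 0]], [0, 0, 0], [[8, 8, 7, 15, 37, 59, 8, 0], [1, 10, 10, 11, 32, 53, 1, 0], [65, 56, 57, 40, 70, 27, 57, 65], [54, 30, 57, 17, 28, 18, 8, 30], [0, 0, 0, 0, 52, 0, 0, 0], [0, 0, 0, 0, 0, 52, 0, 0], [48, 51, 2, 7, 63, 46, 8, 51], [65, 64, 56, 47, 4, 34, 64, 0]]⟩,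
  ⟨[[0, 0, 0, 65, 17, 63, 1, 0], [0, 0, 0, 0, 0, 0, 0, 0], [0, 0, 0, 0, 0, 0, 0, 0]], [6, 0, 0], [[17, 16, 25, 33, 27, 0, 16, 8], [72, 72, 63, 62, 7, 0, 72, 72], [65, 66, 66, 58, 56, 0, 65, 65], [66, 2, 67, 4, 49, 0, 66, 1], [68, 15, 54, 31, 13, 0, 17, 8], [33, 47, 67, 29, 32, 0, 63, 64], [0, 0, 0, 0, 0, 0, 0, 0], [9, 17, 18, 26, 10, 0, 9, 9]]⟩,
  ⟨[], [], []⟩,
  ⟨[], [], []⟩,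
  ⟨[[0, 0, 0, 9, 56, 7, 1, 0], [0, 0, 0, 0, 0, 0, 0, 0], [0, 0, 0, 0, 0, 0, 0, 0]], [6, 0, 0], [[10, 10, 11, 12, 27, 0, 2, 1], [64, 65, 56, 48, 66, 0, 65, 0], [64, 64, 64, 55, 56, 0, 72, 72], [9, 9, 18, 27, 17, 0, 1, 1], [43, 64, 4, 46, 35, 0, 63, 64], [51, 8, 37, 24, 49, 0, 17, 8], [0, 0, 0, 0, 0, 0, 0, 0], [9, 9, 18, 19, 17, 0, 9, 9]]⟩,
  ⟨[[0, 0, 0, 9, 56, 7, 1, 0], [0, 0, 0, 0, 0, 0, 0, 0], [0, 0, 0, 0, 0, 0, 0, 0]], [6, 0, 0], [[10, 2, 11, 12, 27, 0, 2, 1], [8, 16, 15, 23, 70, 0, 16, 8], [72, 7, 7, 6, 63, 0, 72, 72], [64, 65, 56, 57, 66, 0, 65, 0], [61, 1, 40, 10, 69, 0, 0, 1], [35, 64, 5, 56, 35, 0, 0, 64], [0, 0, 0, 0, 0, 0, 0, 0], [8, 8, 16, 16, 7, 0, 9, 9]]⟩,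
  ⟨[], [], []⟩,
  ⟨[[0, 0, 0, 9, 56, 7, 1, 0], [0, 0, 0, 0, 0, 0, 0, 0], [0, 0, 0, 0, 0, 0, 0, 0]], [6, 0, 0], [[2, 67, 68, 61, 20, 0, 2, 1], [65, 65, 57, 48, 66, 0, 65, 65], [72, 72, 7, 6, 63, 0, 72, 72], [16, 24, 23, 40, 70, 0, 7, 8], [45, 67, 25, 69, 6, 0, 10, 1], [33, 54, 67, 36, 18, 0, 56, 64], [0, 0, 0, 0, 0, 0, 0, 0], [9, 10, 18, 19, 17, 0, 9, 9]]⟩,
  ⟨[], [], []⟩,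
  ⟨[[0, 0, 0, 0, 0, 0, 0, 0], [0, 0, 0, 0, 0, 0, 0, 0], [0, 0, 0, 0, 0, 0, 0, 0]], [0, 0, 0], [[9, 9, 9, 18, 61, 31, 1, 0], [8, 17, 16, 25, 68, 38, 8, 8], [72, 71, 71, 61, 40, 19, 71, 72], [41, 36, 61, 59, 51, 22, 66, 44], [0, 0, 0, 0, 52, 0, 0, 0], [0, 0, 0, 0, 0, 52, 0, 0], [55, 39, 66, 26, 30, 34, 17, 30], [72, 63, 63, 54, 33, 12, 64, 0]]⟩,
  ⟨[], [], []⟩,
  ⟨[[0, 0, 0, 0, 0, 0, 0, 0], [0, 0, 0, 0, 0, 0, 0, 0], [0, 0, 0, 0, 0, 0, 0, 0]], [0, 0, 0], [[1, 66, 66, 67, 45, 23, 1, 0], [9, 17, 17, 25, 68, 38, 8, 0], [7, 6, 14, 12, 56, 27, 71, 72], [19, 44, 17, 67, 59, 30, 1, 52], [0, 0, 0, 0, 52, 0, 0, 0], [0, 0, 0, 0, 0, 52, 0, 0], [68, 22, 20, 66, 27, 61, 1, 22], [72, 64, 63, 54, 33, 12, 64, 0]]⟩,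
  ⟨[], [], []⟩,
  ⟨[], [], []⟩,
  ⟨[], [], []⟩,
  ⟨[], [], []⟩,
  ⟨[], [], []⟩,
  ⟨[], [], []⟩,
  ⟨[], [], []⟩,
  ⟨[], [], []⟩,
  ⟨[[0, 0, 0, 9, 56, 7, 1, 0], [0, 0, 0, 0, 0, 0, 0, 0], [0, 0, 0, 0, 0, 0, 0, 0]], [6, 0, 0], [[8, 7, 7, 6, 63, 0, 72, 72], [7, 16, 15, 23, 70, 0, 16, 8], [64, 64, 64, 55, 56, 0, 72, 0], [1, 1, 2, 2, 10, 0, 66, 0], [52, 1, 22, 10, 69, 0, 0, 1], [43, 64, 21, 56, 35, 0, 0, 64], [0, 0, 0, 0, 0, 0, 0, 0], [8, 8, 8, 16, 7, 0, 9, 9]]⟩,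
  ⟨[], [], []⟩,
  ⟨[[0, 0, 0, 9, 56, 7, 1, 0], [0, 0, 0, 0, 0, 0, 0, 0], [0, 0, 0, 0, 0, 0, 0, 0]], [6, 0, 0], [[8, 72, 7, 6, 63, 0, 72, 72], [65, 65, 56, 48, 66, 0, 65, 65], [72, 7, 7, 6, 63, 0, 72, 0], [8, 17, 17, 34, 7, 0, 8, 8], [53, 67, 24, 69, 6, 0, 10, 1], [34, 54, 3, 36, 18, 0, 56, 64], [0, 0, 0, 0, 0, 0, 0, 0], [9, 10, 10, 19, 17, 0, 9, 9]]⟩,
  ⟨[], [], []⟩,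
  ⟨[], [], []⟩,
  ⟨[[0, 0, 0, 9, 56, 7, 1, 0], [0, 0, 0, 0, 0, 0, 0, 0], [0, 0, 0, 0, 0, 0, 0, 0]], [6, 0, 0], [[8, 7, 7, 15, 71, 0, 8, 0], [9, 10, 10, 11, 18, 0, 1, 1], [66, 58, 59, 43, 4, 0, 57, 65], [42, 63, 11, 61, 68, 0, 63, 72], [29, 15, 66, 31, 56, 0, 24, 8], [31, 11, 63, 13, 6, 0, 3, 1], [0, 0, 0, 0, 0, 0, 0, 0], [65, 56, 56, 47, 57, 0, 64, 0]]⟩,
  ⟨[[0, 0, 0, 0, 0, 0, 0, 0], [0, 0, 0, 0, 0, 0, 0, 0], [0, 0, 0, 0, 0, 0, 0, 0]], [0, 0, 0], [[7, 6, 5, 12, 56, 27, 71, 72], [8, 17, 16, 25, 68, 38, 8, 0], [1, 1, 2, 67, 45, 23, 1, 1], [70, 43, 46, 0, 14, 7, 0, 51], [0, 0, 0, 0, 52, 0, 0, 0], [0, 0, 0, 0, 0, 52, 0, 0], [25, 22, 71, 66, 27, 61, 1, 22], [64, 64, 55, 54, 33, 12, 64, 0]]⟩,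
  ⟨[], [], []⟩,
  ⟨[], [], []⟩,
  ⟨[], [], []⟩,
  ⟨[], [], []⟩,
  ⟨[], [], []⟩,
  ⟨[], [], []⟩,
  ⟨[], [], []⟩,
  ⟨[], [], []⟩,
  ⟨[], [], []⟩,
  ⟨[[0, 0, 0, 65, 17, 63, 1, 0], [0, 0, 0, 0, 0, 0, 0, 0], [0, 0, 0, 0, 0, 0, 0, 0]], [6, 0, 0], [[0, 64, 64, 55, 63, 0, 65, 65], [1, 2, 2, 68, 49, 0, 2, 1], [65, 65, 66, 58, 56, 0, 65, 0], [8, 8, 7, 15, 17, 0, 7, 0], [51, 8, 30, 17, 69, 0, 0, 8], [43, 64, 21, 63, 42, 0, 0, 64], [0, 0, 0, 0, 0, 0, 0, 0], [1, 1, 1, 2, 66, 0, 9, 9]]⟩,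
  ⟨[[0, 0, 0, 9, 56, 7, 1, 0], [0, 0, 0, 0, 0, 0, 0, 0], [0, 0, 0, 0, 0, 0, 0, 0]], [6, 0, 0], [[8, 7, 7, 6, 63, 0, 72, 0], [64, 65, 56, 48, 66, 0, 65, 65], [66, 67, 68, 61, 20, 0, 2, 1], [16, 23, 31, 46, 60, 0, 6, 7], [44, 67, 16, 69, 6, 0, 10, 1], [42, 54, 2, 36, 18, 0, 56, 64], [0, 0, 0, 0, 0, 0, 0, 0], [1, 10, 10, 19, 17, 0, 9, 9]]⟩,
  ⟨[], [], []⟩,
  ⟨[], [], []⟩,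
  ⟨[[0, 0, 0, 9, 56, 7, 1, 0], [0, 0, 0, 0, 0, 0, 0, 0], [0, 0, 0, 0, 0, 0, 0, 0]], [6, 0, 0], [[65, 56, 48, 40, 67, 0, 57, 65], [9, 10, 10, 11, 18, 0, 1, 0], [9, 9, 18, 18, 8, 0, 8, 8], [43, 0, 22, 9, 30, 0, 1, 1], [21, 64, 33, 46, 35, 0, 63, 64], [30, 8, 68, 24, 49, 0, 17, 8], [0, 0, 0, 0, 0, 0, 0, 0], [64, 64, 55, 47, 57, 0, 64, 0]]⟩,
  ⟨[[0, 0, 0, 9, 56, 7, 1, 0], [0, 0, 0, 0, 0, 0, 0, 0], [0, 0, 0, 0, 0, 0, 0, 0]], [6, 0, 0], [[8, 8, 7, 15, 71, 0, 8, 0], [1, 10, 10, 11, 18, 0, 1, 0], [65, 56, 57, 40, 67, 0, 57, 65], [60, 9, 39, 27, 38, 0, 9, 9], [13, 64, 34, 46, 35, 0, 63, 64], [29, 8, 59, 24, 49, 0, 17, 8], [0, 0, 0, 0, 0, 0, 0, 0], [65, 64, 56, 47, 57, 0, 64, 0]]⟩,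
  ⟨[], [], []⟩,
  ⟨[], [], []⟩,
  ⟨[], [], []⟩,
  ⟨[[0, 0, 0, 65, 17, 63, 1, 0], [0, 0, 0, 0, 0, 0, 0, 0], [0, 0, 0, 0, 0, 0, 0, 0]], [6, 0, 0], [[10, 10, 11, 12, 58, 0, 2, 1], [64, 65, 56, 48, 55, 0, 65, 0], [64, 64, 64, 55, 72, 0, 72, 72], [52, 0, 22, 0, 21, 0, 64, 65], [30, 9, 69, 27, 62, 0, 10, 9], [21, 72, 41, 70, 59, 0, 7, 72], [0, 0, 0, 0, 0, 0, 0, 0], [9, 9, 18, 19, 2, 0, 9, 9]]⟩,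
  ⟨[[0, 0, 0, 65, 17, 63, 1, 0], [0, 0, 0, 0, 0, 0, 0, 0], [0, 0, 0, 0, 0, 0, 0, 0]], [6, 0, 0], [[10, 2, 11, 12, 58, 0, 2, 1], [8, 16, 15, 23, 26, 0, 16, 8], [72, 7, 7, 6, 16, 0, 72, 72], [52, 66, 23, 67, 5, 0, 65, 1], [12, 72, 33, 63, 59, 0, 0, 72], [23, 65, 45, 66, 35, 0, 0, 65], [0, 0, 0, 0, 0, 0, 0, 0], [8, 8, 16, 16, 9, 0, 9, 9]]⟩,
  ⟨[], [], []⟩,
  ⟨[[0, 0, 0, 65, 17, 63, 1, 0], [0, 0, 0, 0, 0, 0, 0, 0], [0, 0, 0, 0, 0, 0, 0, 0]], [6, 0, 0], [[2, 67, 68, 61, 41, 0, 2, 1], [65, 65, 57, 48, 55, 0, 65, 65], [72, 72, 7, 6, 16, 0, 72, 72], [61, 18, 48, 36, 33, 0, 17, 9], [28, 6, 48, 4, 10, 0, 63, 72], [5, 48, 19, 32, 8, 0, 66, 65], [0, 0, 0, 0, 0, 0, 0, 0], [9, 10, 18, 19, 2, 0, 9, 9]]⟩,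
  ⟨[], [], []⟩,
  ⟨[[0, 0, 0, 9, 56, 7, 1, 0], [0, 0, 0, 0, 0, 0, 0, 0], [0, 0, 0, 0, 0, 0, 0, 0]], [6, 0, 0], [[9, 9, 9, 18, 17, 0, 1, 0], [8, 17, 16, 25, 7, 0, 8, 8], [72, 71, 71, 61, 46, 0, 71, 72], [57, 50, 51, 44, 13, 0, 59, 66], [59, 6, 27, 4, 32, 0, 70, 72], [53, 19, 49, 37, 3, 0, 27, 9], [0, 0, 0, 0, 0, 0, 0, 0], [72, 63, 63, 54, 56, 0, 64, 0]]⟩,
  ⟨[], [], []⟩,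
  ⟨[[0, 0, 0, 9, 56, 7, 1, 0], [0, 0, 0, 0, 0, 0, 0, 0], [0, 0, 0, 0, 0, 0, 0, 0]], [6, 0, 0], [[1, 66, 66, 67, 10, 0, 1, 0], [9, 17, 17, 25, 7, 0, 8, 0], [7, 6, 14, 12, 53, 0, 71, 72], [64, 65, 56, 57, 66, 0, 65, 0], [61, 9, 48, 27, 3, 0, 17, 9], [35, 65, 6, 49, 45, 0, 66, 65], [0, 0, 0, 0, 0, 0, 0, 0], [72, 64, 63, 54, 56, 0, 64, 0]]⟩,
  ⟨[], [], []⟩,
  ⟨[], [], []⟩,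
  ⟨[], [], []⟩,
  ⟨[], [], []⟩,
  ⟨[], [], []⟩,
  ⟨[], [], []⟩,
  ⟨[[0, 0, 0, 0, 0, 0, 0, 0], [0, 0, 0, 0, 0, 0, 0, 0], [0, 0, 0, 0, 0, 0, 0, 0]], [0, 0, 0], [[0, 64, 64, 55, 34, 13, 65, 0], [72, 72, 71, 62, 41, 20, 72, 72], [8, 16, 25, 33, 3, 46, 16, 8], [47, 45, 64, 68, 57, 25, 66, 44], [0, 0, 0, 0, 52, 0, 0, 0], [0, 0, 0, 0, 0, 52, 0, 0], [40, 12, 36, 54, 67, 7, 72, 21], [8, 17, 17, 26, 69, 39, 9, 9]]⟩,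
  ⟨[[0, 0, 0, 0, 0, 0, 0, 0], [0, 0, 0, 0, 0, 0, 0, 0], [0, 0, 0, 0, 0, 0, 0, 0]], [0, 0, 0], [[1, 66, 66, 58, 36, 14, 65, 65], [64, 72, 63, 62, 41, 20, 72, 72], [64, 64, 64, 55, 34, 13, 65, 0], [12, 61, 67, 28, 60, 71, 9, 52], [0, 0, 0, 0, 52, 0, 0, 0], [0, 0, 0, 0, 0, 52, 0, 0], [18, 12, 58, 54, 67, 7, 72, 21], [9, 17, 17, 26, 69, 39, 9, 9]]⟩,
  ⟨[[0, 0, 0, 65, 17, 63, 1, 0], [0, 0, 0, 0, 0, 0, 0, 0], [0, 0, 0, 0, 0, 0, 0, 0]], [6, 0, 0], [[8, 7, 7, 6, 16, 0, 72, 72], [7, 16, 15, 23, 26, 0, 16, 8], [64, 64, 64, 55, 72, 0, 72, 0], [53, 2, 24, 12, 6, 0, 66, 1], [21, 72, 51, 63, 59, 0, 0, 72], [22, 65, 43, 66, 35, 0, 0, 65], [0, 0, 0, 0, 0, 0, 0, 0], [8, 8, 8, 16, 9, 0, 9, 9]]⟩,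
  ⟨[], [], []⟩,
  ⟨[[0, 0, 0, 65, 17, 63, 1, 0], [0, 0, 0, 0, 0, 0, 0, 0], [0, 0, 0, 0, 0, 0, 0, 0]], [6, 0, 0], [[8, 72, 7, 6, 16, 0, 72, 72], [65, 65, 56, 48, 55, 0, 65, 65], [72, 7, 7, 6, 16, 0, 72, 0], [61, 11, 41, 30, 17, 0, 18, 9], [20, 6, 49, 4, 10, 0, 63, 72], [14, 48, 27, 32, 8, 0, 66, 65], [0, 0, 0, 0, 0, 0, 0, 0], [9, 10, 10, 19, 2, 0, 9, 9]]⟩,
  ⟨[], [], []⟩,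
  ⟨[], [], []⟩,
  ⟨[[0, 0, 0, 65, 17, 63, 1, 0], [0, 0, 0, 0, 0, 0, 0, 0], [0, 0, 0, 0, 0, 0, 0, 0]], [6, 0, 0], [[8, 7, 7, 15, 17, 0, 8, 0], [9, 10, 10, 11, 66, 0, 1, 1], [66, 58, 59, 43, 39, 0, 57, 65], [71, 5, 4, 19, 41, 0, 14, 7], [44, 58, 7, 42, 25, 0, 49, 65], [60, 26, 56, 44, 55, 0, 27, 9], [0, 0, 0, 0, 0, 0, 0, 0], [65, 56, 56, 47, 63, 0, 64, 0]]⟩,
  ⟨[[0, 0, 0, 9, 56, 7, 1, 0], [0, 0, 0, 0, 0, 0, 0, 0], [0, 0, 0, 0, 0, 0, 0, 0]], [6, 0, 0], [[7, 6, 5, 12, 53, 0, 71, 72], [8, 17, 16, 25, 7, 0, 8, 0], [1, 1, 2, 67, 10, 0, 1, 1], [64, 64, 64, 63, 56, 0, 64, 72], [60, 9, 39, 27, 3, 0, 17, 9], [44, 65, 14, 49, 45, 0, 66, 65], [0, 0, 0, 0, 0, 0, 0, 0], [64, 64, 55, 54, 56, 0, 64, 0]]⟩,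
  ⟨[], [], []⟩,
  ⟨[], [], []⟩,
  ⟨[], [], []⟩,
  ⟨[], [], []⟩,
  ⟨[], [], []⟩,
  ⟨[[0, 0, 0, 0, 0, 0, 0, 0], [0, 0, 0, 0, 0, 0, 0, 0], [0, 0, 0, 0, 0, 0, 0, 0]], [0, 0, 0], [[16, 15, 23, 30, 1, 45, 16, 8], [72, 72, 71, 62, 41, 20, 72, 0], [65, 65, 66, 58, 36, 14, 65, 65], [3, 52, 49, 9, 20, 10, 0, 51], [0, 0, 0, 0, 52, 0, 0, 0], [0, 0, 0, 0, 0, 52, 0, 0], [19, 22, 68, 66, 27, 61, 1, 22], [9, 9, 18, 26, 69, 39, 9, 9]]⟩,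
  ⟨[[0, 0, 0, 0, 0, 0, 0, 0], [0, 0, 0, 0, 0, 0, 0, 0], [0, 0, 0, 0, 0, 0, 0, 0]], [0, 0, 0], [[1, 66, 66, 58, 36, 14, 65, 0], [64, 72, 63, 62, 41, 20, 72, 0], [7, 15, 23, 30, 1, 45, 16, 8], [25, 44, 20, 67, 56, 24, 65, 43], [0, 0, 0, 0, 52, 0, 0, 0], [0, 0, 0, 0, 0, 52, 0, 0], [71, 22, 17, 66, 27, 61, 1, 22], [8, 9, 17, 26, 69, 39, 9, 9]]⟩,
  ⟨[[0, 0, 0, 65, 17, 63, 1, 0], [0, 0, 0, 0, 0, 0, 0, 0], [0, 0, 0, 0, 0, 0, 0, 0]], [6, 0, 0], [[8, 7, 7, 6, 16, 0, 72, 0], [64, 65, 56, 48, 55, 0, 65, 65], [66, 67, 68, 61, 41, 0, 2, 1], [60, 17, 47, 42, 49, 0, 16, 8], [29, 6, 57, 4, 10, 0, 63, 72], [13, 48, 18, 32, 8, 0, 66, 65], [0, 0, 0, 0, 0, 0, 0, 0], [1, 10, 10, 19, 2, 0, 9, 9]]⟩,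
  ⟨[], [], []⟩,
  ⟨[], [], []⟩,
  ⟨[[0, 0, 0, 65, 17, 63, 1, 0], [0, 0, 0, 0, 0, 0, 0, 0], [0, 0, 0, 0, 0, 0, 0, 0]], [6, 0, 0], [[65, 56, 48, 40, 46, 0, 57, 65], [9, 10, 10, 11, 66, 0, 1, 0], [9, 9, 18, 18, 10, 0, 8, 8], [64, 64, 55, 55, 63, 0, 64, 65], [52, 9, 40, 27, 62, 0, 10, 9], [51, 72, 28, 70, 59, 0, 7, 72], [0, 0, 0, 0, 0, 0, 0, 0], [64, 64, 55, 47, 63, 0, 64, 0]]⟩,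
  ⟨[[0, 0, 0, 65, 17, 63, 1, 0], [0, 0, 0, 0, 0, 0, 0, 0], [0, 0, 0, 0, 0, 0, 0, 0]], [6, 0, 0], [[8, 8, 7, 15, 17, 0, 8, 0], [1, 10, 10, 11, 66, 0, 1, 0], [65, 56, 57, 40, 46, 0, 57, 65], [0, 0, 0, 0, 0, 0, 72, 0], [60, 9, 39, 27, 62, 0, 10, 9], [42, 72, 20, 70, 59, 0, 7, 72], [0, 0, 0, 0, 0, 0, 0, 0], [65, 64, 56, 47, 63, 0, 64, 0]]⟩,
  ⟨[], [], []⟩,
  ⟨[], [], []⟩,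
  ⟨[], [], []⟩,
  ⟨[[0, 0, 0, 0, 0, 0, 0, 0], [0, 0, 0, 0, 0, 0, 0, 0], [0, 0, 0, 0, 0, 0, 0, 0]], [0, 0, 0], [[17, 17, 25, 33, 3, 46, 16, 8], [66, 2, 67, 68, 46, 24, 2, 1], [64, 64, 64, 55, 34, 13, 65, 65], [54, 51, 5, 8, 19, 9, 72, 51], [0, 0, 0, 0, 52, 0, 0, 0], [0, 0, 0, 0, 0, 52, 0, 0], [48, 21, 45, 72, 55, 38, 0, 21], [1, 1, 2, 2, 53, 31, 9, 9]]⟩,
  ⟨[[0, 0, 0, 65, 17, 63, 1, 0], [0, 0, 0, 0, 0, 0, 0, 0], [0, 0, 0, 0, 0, 0, 0, 0]], [6, 0, 0], [[9, 9, 9, 18, 1, 0, 1, 0], [8, 17, 16, 25, 18, 0, 8, 8], [72, 71, 71, 61, 15, 0, 71, 72], [43, 56, 5, 48, 3, 0, 56, 65], [14, 67, 46, 69, 28, 0, 3, 1], [39, 25, 3, 41, 6, 0, 24, 8], [0, 0, 0, 0, 0, 0, 0, 0], [72, 63, 63, 54, 71, 0, 64, 0]]⟩,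
  ⟨[], [], []⟩,
  ⟨[[0, 0, 0, 65, 17, 63, 1, 0], [0, 0, 0, 0, 0, 0, 0, 0], [0, 0, 0, 0, 0, 0, 0, 0]], [6, 0, 0], [[1, 66, 66, 67, 57, 0, 1, 0], [9, 17, 17, 25, 18, 0, 8, 0], [7, 6, 14, 12, 32, 0, 71, 72], [52, 1, 31, 11, 15, 0, 9, 9], [12, 64, 25, 46, 49, 0, 56, 64], [23, 1, 54, 3, 28, 0, 10, 1], [0, 0, 0, 0, 0, 0, 0, 0], [72, 64, 63, 54, 71, 0, 64, 0]]⟩,
  ⟨[], [], []⟩,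
  ⟨[], [], []⟩,
  ⟨[], [], []⟩,
  ⟨[], [], []⟩,
  ⟨[], [], []⟩,
  ⟨[], [], []⟩,
  ⟨[[0, 0, 0, 9, 56, 7, 1, 0], [0, 0, 0, 0, 0, 0, 0, 0], [0, 0, 0, 0, 0, 0, 0, 0]], [6, 0, 0], [[0, 64, 64, 55, 65, 0, 65, 0], [72, 72, 71, 62, 55, 0, 72, 72], [8, 16, 25, 33, 6, 0, 16, 8], [52, 10, 32, 20, 48, 0, 2, 1], [23, 58, 28, 42, 55, 0, 56, 65], [12, 62, 40, 60, 15, 0, 7, 72], [0, 0, 0, 0, 0, 0, 0, 0], [8, 17, 17, 26, 16, 0, 9, 9]]⟩,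
  ⟨[[0, 0, 0, 9, 56, 7, 1, 0], [0, 0, 0, 0, 0, 0, 0, 0], [0, 0, 0, 0, 0, 0, 0, 0]], [6, 0, 0], [[1, 66, 66, 58, 2, 0, 65, 65], [64, 72, 63, 62, 55, 0, 72, 72], [64, 64, 64, 55, 65, 0, 65, 0], [69, 26, 56, 53, 54, 0, 18, 9], [14, 58, 37, 42, 55, 0, 56, 65], [20, 62, 32, 60, 15, 0, 7, 72], [0, 0, 0, 0, 0, 0, 0, 0], [9, 17, 17, 26, 16, 0, 9, 9]]⟩,
  ⟨[], [], []⟩,
  ⟨[[0, 0, 0, 0, 0, 0, 0, 0], [0, 0, 0, 0, 0, 0, 0, 0], [0, 0, 0, 0, 0, 0, 0, 0]], [0, 0, 0], [[8, 7, 7, 15, 37, 59, 8, 8], [7, 7, 6, 5, 27, 49, 71, 72], [9, 9, 18, 18, 39, 60, 8, 0], [38, 14, 33, 58, 26, 46, 66, 22], [0, 0, 0, 0, 52, 0, 0, 0], [0, 0, 0, 0, 0, 52, 0, 0], [49, 52, 3, 1, 35, 69, 9, 52], [72, 72, 72, 71, 20, 42, 64, 0]]⟩,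
  ⟨[[0, 0, 0, 0, 0, 0, 0, 0], [0, 0, 0, 0, 0, 0, 0, 0], [0, 0, 0, 0, 0, 0, 0, 0]], [0, 0, 0], [[65, 57, 48, 40, 70, 27, 57, 65], [72, 7, 6, 5, 27, 49, 71, 72], [8, 7, 16, 15, 37, 59, 8, 8], [25, 23, 72, 3, 65, 33, 1, 22], [0, 0, 0, 0, 52, 0, 0, 0], [0, 0, 0, 0, 0, 52, 0, 0], [71, 52, 47, 1, 35, 69, 9, 52], [72, 72, 71, 71, 20, 42, 64, 0]]⟩,
  ⟨[[0, 0, 0, 65, 17, 63, 1, 0], [0, 0, 0, 0, 0, 0, 0, 0], [0, 0, 0, 0, 0, 0, 0, 0]], [6, 0, 0], [[7, 6, 5, 12, 32, 0, 71, 72], [8, 17, 16, 25, 18, 0, 8, 0], [1, 1, 2, 67, 57, 0, 1, 1], [51, 0, 30, 17, 31, 0, 8, 8], [13, 64, 34, 46, 49, 0, 56, 64], [31, 1, 53, 3, 28, 0, 10, 1], [0, 0, 0, 0, 0, 0, 0, 0], [64, 64, 55, 54, 71, 0, 64, 0]]⟩,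
  ⟨[], [], []⟩,
  ⟨[], [], []⟩,
  ⟨[], [], []⟩,
  ⟨[], [], []⟩,
  ⟨[], [], []⟩,
  ⟨[[0, 0, 0, 9, 56, 7, 1, 0], [0, 0, 0, 0, 0, 0, 0, 0], [0, 0, 0, 0, 0, 0, 0, 0]], [6, 0, 0], [[16, 15, 23, 30, 69, 0, 16, 8], [72, 72, 71, 62, 55, 0, 72, 0], [65, 65, 66, 58, 2, 0, 65, 65], [51, 0, 21, 72, 13, 0, 64, 72], [31, 9, 61, 27, 3, 0, 17, 9], [13, 65, 35, 49, 45, 0, 66, 65], [0, 0, 0, 0, 0, 0, 0, 0], [9, 9, 18, 26, 16, 0, 9, 9]]⟩,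
  ⟨[[0, 0, 0, 9, 56, 7, 1, 0], [0, 0, 0, 0, 0, 0, 0, 0], [0, 0, 0, 0, 0, 0, 0, 0]], [6, 0, 0], [[1, 66, 66, 58, 2, 0, 65, 0], [64, 72, 63, 62, 55, 0, 72, 0], [7, 15, 23, 30, 69, 0, 16, 8], [43, 65, 13, 57, 15, 0, 56, 64], [39, 9, 70, 27, 3, 0, 17, 9], [14, 65, 27, 49, 45, 0, 66, 65], [0, 0, 0, 0, 0, 0, 0, 0], [8, 9, 17, 26, 16, 0, 9, 9]]⟩,
  ⟨[[0, 0, 0, 0, 0, 0, 0, 0], [0, 0, 0, 0, 0, 0, 0, 0], [0, 0, 0, 0, 0, 0, 0, 0]], [0, 0, 0], [[8, 8, 7, 15, 37, 59, 8, 8], [1, 10, 10, 11, 32, 53, 1, 1], [8, 7, 16, 15, 37, 59, 8, 0], [67, 13, 10, 56, 24, 44, 64, 21], [0, 0, 0, 0, 52, 0, 0, 0], [0, 0, 0, 0, 0, 52, 0, 0], [28, 61, 34, 19, 23, 27, 10, 52], [64, 56, 56, 47, 4, 34, 64, 0]]⟩,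
  ⟨[], [], []⟩,
  ⟨[], [], []⟩,
  ⟨[], [], []⟩,
  ⟨[[0, 0, 0, 9, 56, 7, 1, 0], [0, 0, 0, 0, 0, 0, 0, 0], [0, 0, 0, 0, 0, 0, 0, 0]], [6, 0, 0], [[17, 17, 25, 33, 6, 0, 16, 8], [66, 2, 67, 68, 19, 0, 2, 1], [64, 64, 64, 55, 65, 0, 65, 65], [60, 8, 38, 17, 21, 0, 72, 8], [13, 65, 35, 56, 52, 0, 0, 65], [29, 72, 50, 7, 42, 0, 0, 72], [0, 0, 0, 0, 0, 0, 0, 0], [1, 1, 2, 2, 9, 0, 9, 9]]⟩,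
  ⟨[], [], []⟩,
  ⟨[], [], []⟩,
  ⟨[], [], []⟩,
  ⟨[[0, 0, 0, 65, 17, 63, 1, 0], [0, 0, 0, 0, 0, 0, 0, 0], [0, 0, 0, 0, 0, 0, 0, 0]], [6, 0, 0], [[0, 64, 64, 55, 63, 0, 65, 0], [72, 72, 71, 62, 7, 0, 72, 72], [8, 16, 25, 33, 27, 0, 16, 8], [2, 68, 60, 62, 32, 0, 58, 66], [50, 15, 45, 31, 13, 0, 17, 8], [35, 47, 68, 29, 32, 0, 63, 64], [0, 0, 0, 0, 0, 0, 0, 0], [8, 17, 17, 26, 10, 0, 9, 9]]⟩,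
  ⟨[[0, 0, 0, 65, 17, 63, 1, 0], [0, 0, 0, 0, 0, 0, 0, 0], [0, 0, 0, 0, 0, 0, 0, 0]], [6, 0, 0], [[1, 66, 66, 58, 56, 0, 65, 65], [64, 72, 63, 62, 7, 0, 72, 72], [64, 64, 64, 55, 63, 0, 65, 0], [10, 11, 20, 22, 59, 0, 1, 1], [59, 15, 36, 31, 13, 0, 17, 8], [34, 47, 69, 29, 32, 0, 63, 64], [0, 0, 0, 0, 0, 0, 0, 0], [9, 17, 17, 26, 10, 0, 9, 9]]⟩,
  ⟨[], [], []⟩,
  ⟨[[0, 0, 0, 9, 56, 7, 1, 0], [0, 0, 0, 0, 0, 0, 0, 0], [0, 0, 0, 0, 0, 0, 0, 0]], [6, 0, 0], [[8, 7, 7, 15, 71, 0, 8, 8], [7, 7, 6, 5, 54, 0, 71, 72], [9, 9, 18, 18, 8, 0, 8, 0], [35, 57, 6, 49, 24, 0, 58, 65], [30, 8, 51, 17, 59, 0, 7, 8], [22, 1, 52, 66, 52, 0, 10, 1], [0, 0, 0, 0, 0, 0, 0, 0], [72, 72, 72, 71, 64, 0, 64, 0]]⟩,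
  ⟨[[0, 0, 0, 9, 56, 7, 1, 0], [0, 0, 0, 0, 0, 0, 0, 0], [0, 0, 0, 0, 0, 0, 0, 0]], [6, 0, 0], [[65, 57, 48, 40, 67, 0, 57, 65], [72, 7, 6, 5, 54, 0, 71, 72], [8, 7, 16, 15, 71, 0, 8, 8], [43, 66, 14, 67, 32, 0, 66, 65], [39, 8, 69, 17, 59, 0, 7, 8], [14, 1, 36, 66, 52, 0, 10, 1], [0, 0, 0, 0, 0, 0, 0, 0], [72, 72, 71, 71, 64, 0, 64, 0]]⟩,
  ⟨[], [], []⟩,
  ⟨[], [], []⟩,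
  ⟨[[0, 0, 0, 65, 17, 63, 1, 0], [0, 0, 0, 0, 0, 0, 0, 0], [0, 0, 0, 0, 0, 0, 0, 0]], [6, 0, 0], [[16, 15, 23, 30, 34, 0, 16, 8], [72, 72, 71, 62, 7, 0, 72, 0], [65, 65, 66, 58, 56, 0, 65, 65], [9, 9, 9, 26, 10, 0, 8, 8], [42, 64, 12, 46, 49, 0, 56, 64], [44, 1, 23, 3, 28, 0, 10, 1], [0, 0, 0, 0, 0, 0, 0, 0], [9, 9, 18, 26, 10, 0, 9, 9]]⟩,
  ⟨[[0, 0, 0, 65, 17, 63, 1, 0], [0, 0, 0, 0, 0, 0, 0, 0], [0, 0, 0, 0, 0, 0, 0, 0]], [6, 0, 0], [[1, 66, 66, 58, 56, 0, 65, 0], [64, 72, 63, 62, 7, 0, 72, 0], [7, 15, 23, 30, 34, 0, 16, 8], [9, 1, 10, 11, 66, 0, 0, 0], [34, 64, 3, 46, 49, 0, 56, 64], [53, 1, 24, 3, 28, 0, 10, 1], [0, 0, 0, 0, 0, 0, 0, 0], [8, 9, 17, 26, 10, 0, 9, 9]]⟩,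
  ⟨[[0, 0, 0, 9, 56, 7, 1, 0], [0, 0, 0, 0, 0, 0, 0, 0], [0, 0, 0, 0, 0, 0, 0, 0]], [6, 0, 0], [[8, 8, 7, 15, 71, 0, 8, 8], [1, 10, 10, 11, 18, 0, 1, 1], [8, 7, 16, 15, 71, 0, 8, 0], [34, 48, 69, 31, 72, 0, 47, 64], [38, 15, 67, 31, 56, 0, 24, 8], [23, 11, 54, 13, 6, 0, 3, 1], [0, 0, 0, 0, 0, 0, 0, 0], [64, 56, 56, 47, 57, 0, 64, 0]]⟩,
  ⟨[[0, 0, 0, 65, 17, 63, 1, 0], [0, 0, 0, 0, 0, 0, 0, 0], [0, 0, 0, 0, 0, 0, 0, 0]], [6, 0, 0], [[17, 17, 25, 33, 27, 0, 16, 8], [66, 2, 67, 68, 49, 0, 2, 1], [64, 64, 64, 55, 63, 0, 65, 65], [0, 0, 0, 0, 0, 0, 72, 0], [60, 8, 38, 17, 69, 0, 0, 8], [42, 64, 12, 63, 42, 0, 0, 64], [0, 0, 0, 0, 0, 0, 0, 0], [1, 1, 2, 2, 66, 0, 9, 9]]⟩,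
  ⟨[], [], []⟩,
  ⟨[[0, 0, 0, 65, 17, 63, 1, 0], [0, 0, 0, 0, 0, 0, 0, 0], [0, 0, 0, 0, 0, 0, 0, 0]], [6, 0, 0], [[8, 7, 7, 15, 17, 0, 8, 8], [7, 7, 6, 5, 24, 0, 71, 72], [9, 9, 18, 18, 10, 0, 8, 0], [65, 65, 57, 66, 56, 0, 65, 0], [43, 65, 22, 56, 42, 0, 66, 65], [52, 9, 30, 10, 45, 0, 17, 9], [0, 0, 0, 0, 0, 0, 0, 0], [72, 72, 72, 71, 7, 0, 64, 0]]⟩,
  ⟨[[0, 0, 0, 65, 17, 63, 1, 0], [0, 0, 0, 0, 0, 0, 0, 0], [0, 0, 0, 0, 0, 0, 0, 0]], [6, 0, 0], [[65, 57, 48, 40, 46, 0, 57, 65], [72, 7, 6, 5, 24, 0, 71, 72], [8, 7, 16, 15, 17, 0, 8, 8], [9, 1, 10, 11, 66, 0, 0, 0], [34, 65, 4, 56, 42, 0, 66, 65], [53, 9, 32, 10, 45, 0, 17, 9], [0, 0, 0, 0, 0, 0, 0, 0], [72, 72, 71, 71, 7, 0, 64, 0]]⟩,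
  ⟨[], [], []⟩,
  ⟨[[0, 0, 0, 65, 17, 63, 1, 0], [0, 0, 0, 0, 0, 0, 0, 0], [0, 0, 0, 0, 0, 0, 0, 0]], [6, 0, 0], [[8, 8, 7, 15, 17, 0, 8, 8], [1, 10, 10, 11, 66, 0, 1, 1], [8, 7, 16, 15, 17, 0, 8, 0], [72, 63, 63, 62, 7, 0, 71, 72], [35, 58, 6, 42, 25, 0, 49, 65], [61, 26, 48, 44, 55, 0, 27, 9], [0, 0, 0, 0, 0, 0, 0, 0], [64, 56, 56, 47, 63, 0, 64, 0]]⟩,
  ⟨[], [], []⟩]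

/-- The values of their families. -/
def nineFams : List (List (List (ℕ × ℕ × ℕ))) := [
  [[], [], []],
  [[], [], []],
  [[], [], []],
  [[], [], []],
  [[], [], []],
  [[], [], []],
  [[], [], []],
  [[], [], []],
  [[], [], []],
  [[], [], []],
  [[], [], []],
  [[], [], []],
  [[], [], []],
  [[], [], []],
  [[(0, 0, 0), (1, 0, 0), (1, 0, 0), (7, 0, 0), (8, 0, 0), (8, 0, 0), (56, 0, 0), (63, 0, 0), (64, 0, 0), (64, 0, 0), (9, 0, 0), (65, 0, 0), (72, 0, 0), (0, 0, 0), (0, 0, 0), (0, 0, 0), (9, 0, 0), (65, 0, 0), (72, 0, 0), (0, 0, 0), (0, 0, 0), (0, 0, 0), (9, 0, 0), (65, 0, 0), (72, 0, 0), (0, 0, 0), (0, 0, 0), (9, 0, 0), (65, 0, 0), (72, 0, 0), (0, 0, 0), (0, 0, 0), (1, 0, 0), (8, 0, 0), (9, 0, 0), (9, 0, 0), (64, 0, 0), (65,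 0, 0), (65, 0, 0), (72, 0, 0), (72, 0, 0), (0, 0, 0), (0, 0, 0), (0, 0, 0), (9, 0, 0), (65, 0, 0), (72, 0, 0), (0, 0, 0), (0, 0, 0), (9, 0, 0), (65, 0, 0), (72, 0, 0), (0, 0, 0), (0, 0, 0), (1, 0, 0), (8, 0, 0), (9, 0, 0), (9, 0, 0), (64, 0, 0), (65, 0, 0), (65, 0, 0), (72, 0, 0), (72, 0, 0), (0, 0, 0), (1, 0, 0), (8, 0, 0), (9, 0, 0), (9, 0, 0), (64, 0, 0), (65, 0, 0), (65, 0, 0), (72, 0, 0), (72, 0, 0), (0, 0, 0), (0, 0, 0), (1, 0, 0), (1, 0, 0), (8, 0, 0), (8, 0, 0), (9, 0, 0), (64, 0, 0), (64, 0, 0), (65, 0, 0), (72, 0, 0), (0, 0, 0), (1, 0, 0), (1, 0, 0), (8, 0, 0), (8, 0, 0), (9, 0, 0), (64, 0, 0), (64, 0, 0), (65, 0, 0), (72, 0, 0), (0, 0, 0), (0, 0, 0), (1, 0, 0), (8, 0, 0), (64, 0, 0), (0, 0, 0), (0, 0, 0), (1, 0, 0), (8,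 0, 0), (64, 0, 0), (0, 0, 0), (0, 0, 0), (0, 0, 0), (0, 0, 0), (1, 0, 0), (8, 0, 0), (64, 0, 0), (0, 0, 0), (0, 0, 0), (0, 0, 0), (0, 0, 0), (9, 0, 0), (65, 0, 0), (72, 0, 0), (0, 0, 0), (0, 0, 0)], [], []],
  [[], [], []],
  [[], [], []],
  [[], [], []],
  [[(0, 0, 0), (1, 0, 0), (1, 0, 0), (7, 0, 0), (8, 0, 0), (8, 0, 0), (56, 0, 0), (63, 0, 0), (64, 0, 0), (64, 0, 0), (9, 0, 0), (65, 0, 0), (72, 0, 0), (0, 0, 0), (0, 0, 0), (0, 0, 0), (9, 0, 0), (65, 0, 0), (72, 0, 0), (0, 0, 0), (0, 0, 0), (0, 0, 0), (9, 0, 0), (65, 0, 0), (72, 0, 0), (0, 0, 0), (0, 0, 0), (9, 0, 0), (65, 0, 0), (72, 0, 0), (0, 0, 0), (0, 0, 0), (1, 0, 0), (8, 0, 0), (9, 0, 0), (9, 0, 0), (64, 0, 0), (65, 0, 0), (65, 0, 0), (72, 0, 0), (72, 0, 0), (0, 0, 0), (0,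 0, 0), (0, 0, 0), (9, 0, 0), (65, 0, 0), (72, 0, 0), (0, 0, 0), (0, 0, 0), (9, 0, 0), (65, 0, 0), (72, 0, 0), (0, 0, 0), (0, 0, 0), (1, 0, 0), (8, 0, 0), (9, 0, 0), (9, 0, 0), (64, 0, 0), (65, 0, 0), (65, 0, 0), (72, 0, 0), (72, 0, 0), (0, 0, 0), (1, 0, 0), (8, 0, 0), (9, 0, 0), (9, 0, 0), (64, 0, 0), (65, 0, 0), (65, 0, 0), (72, 0, 0), (72, 0, 0), (0, 0, 0), (0, 0, 0), (1, 0, 0), (1, 0, 0), (8, 0, 0), (8, 0, 0), (9, 0, 0), (64, 0, 0), (64, 0, 0), (65, 0, 0), (72, 0, 0), (0, 0, 0), (1, 0, 0), (1, 0, 0), (8, 0, 0), (8, 0, 0), (9, 0, 0), (64, 0, 0), (64, 0, 0), (65, 0, 0), (72, 0, 0), (0, 0, 0), (0, 0, 0), (1, 0, 0), (8, 0, 0), (64, 0, 0), (0, 0, 0), (0, 0, 0), (1, 0, 0), (8, 0, 0), (64, 0, 0), (0, 0, 0), (0, 0, 0), (0, 0, 0), (0, 0,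 0), (1, 0, 0), (8, 0, 0), (64, 0, 0), (0, 0, 0), (0, 0, 0), (0, 0, 0), (0, 0, 0), (9, 0, 0), (65, 0, 0), (72, 0, 0), (0, 0, 0), (0, 0, 0)], [], []],
  [[], [], []],
  [[], [], []],
  [[], [], []],
  [[], [], []],
  [[], [], []],
  [[(0, 0, 0), (1, 0, 0), (1, 0, 0), (7, 0, 0), (8, 0, 0), (8, 0, 0), (56, 0, 0), (63, 0, 0), (64, 0, 0), (64, 0, 0), (9, 0, 0), (65, 0, 0), (72, 0, 0), (0, 0, 0), (0, 0, 0), (0, 0, 0), (9, 0, 0), (65, 0, 0), (72, 0, 0), (0, 0, 0), (0, 0, 0), (0, 0, 0), (9, 0, 0), (65, 0, 0), (72, 0, 0), (0, 0, 0), (0, 0, 0), (9, 0, 0), (65, 0, 0), (72, 0, 0), (0, 0, 0), (0, 0, 0), (1, 0, 0), (8, 0, 0), (9, 0, 0), (9, 0, 0), (64, 0, 0), (65, 0, 0), (65, 0, 0), (72, 0, 0), (72, 0, 0), (0, 0, 0), (0, 0, 0), (0, 0, 0), (9, 0,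 0), (65, 0, 0), (72, 0, 0), (0, 0, 0), (0, 0, 0), (9, 0, 0), (65, 0, 0), (72, 0, 0), (0, 0, 0), (0, 0, 0), (1, 0, 0), (8, 0, 0), (9, 0, 0), (9, 0, 0), (64, 0, 0), (65, 0, 0), (65, 0, 0), (72, 0, 0), (72, 0, 0), (0, 0, 0), (1, 0, 0), (8, 0, 0), (9, 0, 0), (9, 0, 0), (64, 0, 0), (65, 0, 0), (65, 0, 0), (72, 0, 0), (72, 0, 0), (0, 0, 0), (0, 0, 0), (1, 0, 0), (1, 0, 0), (8, 0, 0), (8, 0, 0), (9, 0, 0), (64, 0, 0), (64, 0, 0), (65, 0, 0), (72, 0, 0), (0, 0, 0), (1, 0, 0), (1, 0, 0), (8, 0, 0), (8, 0, 0), (9, 0, 0), (64, 0, 0), (64, 0, 0), (65, 0, 0), (72, 0, 0), (0, 0, 0), (0, 0, 0), (1, 0, 0), (8, 0, 0), (64, 0, 0), (0, 0, 0), (0, 0, 0), (1, 0, 0), (8, 0, 0), (64, 0, 0), (0, 0, 0), (0, 0, 0), (0, 0, 0), (0, 0, 0), (1, 0, 0), (8, 0, 0),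 (64, 0, 0), (0, 0, 0), (0, 0, 0), (0, 0, 0), (0, 0, 0), (9, 0, 0), (65, 0, 0), (72, 0, 0), (0, 0, 0), (0, 0, 0)], [], []],
  [[], [], []],
  [[], [], []],
  [[(0, 0, 0), (1, 0, 0), (1, 0, 0), (63, 0, 0), (64, 0, 0), (64, 0, 0), (17, 0, 0), (7, 0, 0), (8, 0, 0), (8, 0, 0), (65, 0, 0), (9, 0, 0), (72, 0, 0), (0, 0, 0), (0, 0, 0), (0, 0, 0), (65, 0, 0), (9, 0, 0), (72, 0, 0), (0, 0, 0), (0, 0, 0), (0, 0, 0), (65, 0, 0), (9, 0, 0), (72, 0, 0), (0, 0, 0), (0, 0, 0), (65, 0, 0), (9, 0, 0), (72, 0, 0), (0, 0, 0), (0, 0, 0), (1, 0, 0), (64, 0, 0), (65, 0, 0), (65, 0, 0), (8, 0, 0), (9, 0, 0), (9, 0, 0), (72, 0, 0), (72, 0, 0), (0, 0, 0), (0, 0, 0), (0, 0, 0), (65, 0, 0), (9, 0, 0), (72, 0, 0), (0, 0, 0), (0, 0, 0), (65, 0, 0), (9, 0, 0),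 (72, 0, 0), (0, 0, 0), (0, 0, 0), (1, 0, 0), (64, 0, 0), (65, 0, 0), (65, 0, 0), (8, 0, 0), (9, 0, 0), (9, 0, 0), (72, 0, 0), (72, 0, 0), (0, 0, 0), (1, 0, 0), (64, 0, 0), (65, 0, 0), (65, 0, 0), (8, 0, 0), (9, 0, 0), (9, 0, 0), (72, 0, 0), (72, 0, 0), (0, 0, 0), (0, 0, 0), (1, 0, 0), (1, 0, 0), (64, 0, 0), (64, 0, 0), (65, 0, 0), (8, 0, 0), (8, 0, 0), (9, 0, 0), (72, 0, 0), (0, 0, 0), (1, 0, 0), (1, 0, 0), (64, 0, 0), (64, 0, 0), (65, 0, 0), (8, 0, 0), (8, 0, 0), (9, 0, 0), (72, 0, 0), (0, 0, 0), (0, 0, 0), (1, 0, 0), (64, 0, 0), (8, 0, 0), (0, 0, 0), (0, 0, 0), (1, 0, 0), (64, 0, 0), (8, 0, 0), (0, 0, 0), (0, 0, 0), (0, 0, 0), (0, 0, 0), (1, 0, 0), (64, 0, 0), (8, 0, 0), (0, 0, 0), (0, 0, 0), (0, 0, 0), (0, 0, 0), (65, 0, 0), (9,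 0, 0), (72, 0, 0), (0, 0, 0), (0, 0, 0)], [], []],
  [[(0, 0, 0), (1, 0, 0), (1, 0, 0), (7, 0, 0), (8, 0, 0), (8, 0, 0), (56, 0, 0), (63, 0, 0), (64, 0, 0), (64, 0, 0), (9, 0, 0), (65, 0, 0), (72, 0, 0), (0, 0, 0), (0, 0, 0), (0, 0, 0), (9, 0, 0), (65, 0, 0), (72, 0, 0), (0, 0, 0), (0, 0, 0), (0, 0, 0), (9, 0, 0), (65, 0, 0), (72, 0, 0), (0, 0, 0), (0, 0, 0), (9, 0, 0), (65, 0, 0), (72, 0, 0), (0, 0, 0), (0, 0, 0), (1, 0, 0), (8, 0, 0), (9, 0, 0), (9, 0, 0), (64, 0, 0), (65, 0, 0), (65, 0, 0), (72, 0, 0), (72, 0, 0), (0, 0, 0), (0, 0, 0), (0, 0, 0), (9, 0, 0), (65, 0, 0), (72, 0, 0), (0, 0, 0), (0, 0, 0), (9, 0, 0), (65, 0, 0), (72, 0, 0), (0, 0, 0), (0, 0, 0), (1, 0, 0), (8, 0, 0), (9, 0, 0), (9, 0, 0), (64, 0, 0), (65, 0, 0), (65,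 0, 0), (72, 0, 0), (72, 0, 0), (0, 0, 0), (1, 0, 0), (8, 0, 0), (9, 0, 0), (9, 0, 0), (64, 0, 0), (65, 0, 0), (65, 0, 0), (72, 0, 0), (72, 0, 0), (0, 0, 0), (0, 0, 0), (1, 0, 0), (1, 0, 0), (8, 0, 0), (8, 0, 0), (9, 0, 0), (64, 0, 0), (64, 0, 0), (65, 0, 0), (72, 0, 0), (0, 0, 0), (1, 0, 0), (1, 0, 0), (8, 0, 0), (8, 0, 0), (9, 0, 0), (64, 0, 0), (64, 0, 0), (65, 0, 0), (72, 0, 0), (0, 0, 0), (0, 0, 0), (1, 0, 0), (8, 0, 0), (64, 0, 0), (0, 0, 0), (0, 0, 0), (1, 0, 0), (8, 0, 0), (64, 0, 0), (0, 0, 0), (0, 0, 0), (0, 0, 0), (0, 0, 0), (1, 0, 0), (8, 0, 0), (64, 0, 0), (0, 0, 0), (0, 0, 0), (0, 0, 0), (0, 0, 0), (9, 0, 0), (65, 0, 0), (72, 0, 0), (0, 0, 0), (0, 0, 0)], [], []],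
  [[(0, 0, 0), (1, 0, 0), (1, 0, 0), (7, 0, 0), (8, 0, 0), (8, 0, 0), (56, 0, 0), (63, 0, 0), (64, 0, 0), (64, 0, 0), (9, 0, 0), (65, 0, 0), (72, 0, 0), (0, 0, 0), (0, 0, 0), (0, 0, 0), (9, 0, 0), (65, 0, 0), (72, 0, 0), (0, 0, 0), (0, 0, 0), (0, 0, 0), (9, 0, 0), (65, 0, 0), (72, 0, 0), (0, 0, 0), (0, 0, 0), (9, 0, 0), (65, 0, 0), (72, 0, 0), (0, 0, 0), (0, 0, 0), (1, 0, 0), (8, 0, 0), (9, 0, 0), (9, 0, 0), (64, 0, 0), (65, 0, 0), (65, 0, 0), (72, 0, 0), (72, 0, 0), (0, 0, 0), (0, 0, 0), (0, 0, 0), (9, 0, 0), (65, 0, 0), (72, 0, 0), (0, 0, 0), (0, 0, 0), (9, 0, 0), (65, 0, 0), (72, 0, 0), (0, 0, 0), (0, 0, 0), (1, 0, 0), (8, 0, 0), (9, 0, 0), (9, 0, 0), (64, 0, 0), (65, 0, 0), (65, 0, 0), (72, 0, 0), (72, 0, 0), (0, 0, 0), (1, 0,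 0), (8, 0, 0), (9, 0, 0), (9, 0, 0), (64, 0, 0), (65, 0, 0), (65, 0, 0), (72, 0, 0), (72, 0, 0), (0, 0, 0), (0, 0, 0), (1, 0, 0), (1, 0, 0), (8, 0, 0), (8, 0, 0), (9, 0, 0), (64, 0, 0), (64, 0, 0), (65, 0, 0), (72, 0, 0), (0, 0, 0), (1, 0, 0), (1, 0, 0), (8, 0, 0), (8, 0, 0), (9, 0, 0), (64, 0, 0), (64, 0, 0), (65, 0, 0), (72, 0, 0), (0, 0, 0), (0, 0, 0), (1, 0, 0), (8, 0, 0), (64, 0, 0), (0, 0, 0), (0, 0, 0), (1, 0, 0), (8, 0, 0), (64, 0, 0), (0, 0, 0), (0, 0, 0), (0, 0, 0), (0, 0, 0), (1, 0, 0), (8, 0, 0), (64, 0, 0), (0, 0, 0), (0, 0, 0), (0, 0, 0), (0, 0, 0), (9, 0, 0), (65, 0, 0), (72, 0, 0), (0, 0, 0), (0, 0, 0)], [], []],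
  [[], [], []],
  [[], [], []],
  [[], [], []],
  [[(0, 0, 0), (1, 0, 0), (1, 0, 0), (63, 0, 0), (64, 0, 0), (64, 0, 0), (17, 0, 0), (7, 0, 0), (8, 0, 0), (8, 0, 0), (65, 0, 0), (9, 0, 0), (72, 0, 0), (0, 0, 0), (0, 0, 0), (0, 0, 0), (65, 0, 0), (9, 0, 0), (72, 0, 0), (0, 0, 0), (0, 0, 0), (0, 0, 0), (65, 0, 0), (9, 0, 0), (72, 0, 0), (0, 0, 0), (0, 0, 0), (65, 0, 0), (9, 0, 0), (72, 0, 0), (0, 0, 0), (0, 0, 0), (1, 0, 0), (64, 0, 0), (65, 0, 0), (65, 0, 0), (8, 0, 0), (9, 0, 0), (9, 0, 0), (72, 0, 0), (72, 0, 0), (0, 0, 0), (0, 0, 0), (0, 0, 0), (65, 0, 0), (9, 0, 0), (72, 0, 0), (0, 0, 0), (0, 0, 0), (65, 0, 0), (9, 0, 0), (72, 0, 0), (0, 0, 0), (0, 0, 0), (1, 0, 0), (64, 0, 0), (65, 0, 0), (65, 0, 0), (8, 0, 0), (9, 0, 0), (9,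 0, 0), (72, 0, 0), (72, 0, 0), (0, 0, 0), (1, 0, 0), (64, 0, 0), (65, 0, 0), (65, 0, 0), (8, 0, 0), (9, 0, 0), (9, 0, 0), (72, 0, 0), (72, 0, 0), (0, 0, 0), (0, 0, 0), (1, 0, 0), (1, 0, 0), (64, 0, 0), (64, 0, 0), (65, 0, 0), (8, 0, 0), (8, 0, 0), (9, 0, 0), (72, 0, 0), (0, 0, 0), (1, 0, 0), (1, 0, 0), (64, 0, 0), (64, 0, 0), (65, 0, 0), (8, 0, 0), (8, 0, 0), (9, 0, 0), (72, 0, 0), (0, 0, 0), (0, 0, 0), (1, 0, 0), (64, 0, 0), (8, 0, 0), (0, 0, 0), (0, 0, 0), (1, 0, 0), (64, 0, 0), (8, 0, 0), (0, 0, 0), (0, 0, 0), (0, 0, 0), (0, 0, 0), (1, 0, 0), (64, 0, 0), (8, 0, 0), (0, 0, 0), (0, 0, 0), (0, 0, 0), (0, 0, 0), (65, 0, 0), (9, 0, 0), (72, 0, 0), (0, 0, 0), (0, 0, 0)], [], []],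
  [[], [], []],
  [[(0, 0, 0), (1, 0, 0), (1, 0, 0), (7, 0, 0), (8, 0, 0), (8, 0, 0), (56, 0, 0), (63, 0, 0), (64, 0, 0), (64, 0, 0), (9, 0, 0), (65, 0, 0), (72, 0, 0), (0, 0, 0), (0, 0, 0), (0, 0, 0), (9, 0, 0), (65, 0, 0), (72, 0, 0), (0, 0, 0), (0, 0, 0), (0, 0, 0), (9, 0, 0), (65, 0, 0), (72, 0, 0), (0, 0, 0), (0, 0, 0), (9, 0, 0), (65, 0, 0), (72, 0, 0), (0, 0, 0), (0, 0, 0), (1, 0, 0), (8, 0, 0), (9, 0, 0), (9, 0, 0), (64, 0, 0), (65, 0, 0), (65, 0, 0), (72, 0, 0), (72, 0, 0), (0, 0, 0), (0, 0, 0), (0, 0, 0), (9, 0, 0), (65, 0, 0), (72, 0, 0), (0, 0, 0), (0, 0, 0), (9, 0, 0), (65, 0, 0), (72, 0, 0), (0, 0, 0), (0, 0, 0), (1, 0, 0), (8, 0, 0), (9, 0, 0), (9, 0, 0), (64, 0, 0), (65, 0, 0), (65, 0, 0), (72, 0, 0), (72, 0, 0), (0,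 0, 0), (1, 0, 0), (8, 0, 0), (9, 0, 0), (9, 0, 0), (64, 0, 0), (65, 0, 0), (65, 0, 0), (72, 0, 0), (72, 0, 0), (0, 0, 0), (0, 0, 0), (1, 0, 0), (1, 0, 0), (8, 0, 0), (8, 0, 0), (9, 0, 0), (64, 0, 0), (64, 0, 0), (65, 0, 0), (72, 0, 0), (0, 0, 0), (1, 0, 0), (1, 0, 0), (8, 0, 0), (8, 0, 0), (9, 0, 0), (64, 0, 0), (64, 0, 0), (65, 0, 0), (72, 0, 0), (0, 0, 0), (0, 0, 0), (1, 0, 0), (8, 0, 0), (64, 0, 0), (0, 0, 0), (0, 0, 0), (1, 0, 0), (8, 0, 0), (64, 0, 0), (0, 0, 0), (0, 0, 0), (0, 0, 0), (0, 0, 0), (1, 0, 0), (8, 0, 0), (64, 0, 0), (0, 0, 0), (0, 0, 0), (0, 0, 0), (0, 0, 0), (9, 0, 0), (65, 0, 0), (72, 0, 0), (0, 0, 0), (0, 0, 0)], [], []],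
  [[(0, 0, 0), (1, 0, 0), (1, 0, 0), (7, 0, 0), (8, 0, 0), (8, 0, 0), (56, 0, 0), (63, 0, 0), (64, 0, 0), (64, 0, 0), (9, 0, 0), (65, 0, 0), (72, 0, 0), (0, 0, 0), (0, 0, 0), (0, 0, 0), (9, 0, 0), (65, 0, 0), (72, 0, 0), (0, 0, 0), (0, 0, 0), (0, 0, 0), (9, 0, 0), (65, 0, 0), (72, 0, 0), (0, 0, 0), (0, 0, 0), (9, 0, 0), (65, 0, 0), (72, 0, 0), (0, 0, 0), (0, 0, 0), (1, 0, 0), (8, 0, 0), (9, 0, 0), (9, 0, 0), (64, 0, 0), (65, 0, 0), (65, 0, 0), (72, 0, 0), (72, 0, 0), (0, 0, 0), (0, 0, 0), (0, 0, 0), (9, 0, 0), (65, 0, 0), (72, 0, 0), (0, 0, 0), (0, 0, 0), (9, 0, 0), (65, 0, 0), (72, 0, 0), (0, 0, 0), (0, 0, 0), (1, 0, 0), (8, 0, 0), (9, 0, 0), (9, 0, 0), (64, 0, 0), (65, 0, 0), (65, 0, 0), (72, 0, 0), (72, 0, 0), (0, 0, 0), (1, 0,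 0), (8, 0, 0), (9, 0, 0), (9, 0, 0), (64, 0, 0), (65, 0, 0), (65, 0, 0), (72, 0, 0), (72, 0, 0), (0, 0, 0), (0, 0, 0), (1, 0, 0), (1, 0, 0), (8, 0, 0), (8, 0, 0), (9, 0, 0), (64, 0, 0), (64, 0, 0), (65, 0, 0), (72, 0, 0), (0, 0, 0), (1, 0, 0), (1, 0, 0), (8, 0, 0), (8, 0, 0), (9, 0, 0), (64, 0, 0), (64, 0, 0), (65, 0, 0), (72, 0, 0), (0, 0, 0), (0, 0, 0), (1, 0, 0), (8, 0, 0), (64, 0, 0), (0, 0, 0), (0, 0, 0), (1, 0, 0), (8, 0, 0), (64, 0, 0), (0, 0, 0), (0, 0, 0), (0, 0, 0), (0, 0, 0), (1, 0, 0), (8, 0, 0), (64, 0, 0), (0, 0, 0), (0, 0, 0), (0, 0, 0), (0, 0, 0), (9, 0, 0), (65, 0, 0), (72, 0, 0), (0, 0, 0), (0, 0, 0)], [], []],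
  [[(0, 0, 0), (1, 0, 0), (1, 0, 0), (7, 0, 0), (8, 0, 0), (8, 0, 0), (56, 0, 0), (63, 0, 0), (64, 0, 0), (64, 0, 0), (9, 0, 0), (65, 0, 0), (72, 0, 0), (0, 0, 0), (0, 0, 0), (0, 0, 0), (9, 0, 0), (65, 0, 0), (72, 0, 0), (0, 0, 0), (0, 0, 0), (0, 0, 0), (9, 0, 0), (65, 0, 0), (72, 0, 0), (0, 0, 0), (0, 0, 0), (9, 0, 0), (65, 0, 0), (72, 0, 0), (0, 0, 0), (0, 0, 0), (1, 0, 0), (8, 0, 0), (9, 0, 0), (9, 0, 0), (64, 0, 0), (65, 0, 0), (65, 0, 0), (72, 0, 0), (72, 0, 0), (0, 0, 0), (0, 0, 0), (0, 0, 0), (9, 0, 0), (65, 0, 0), (72, 0, 0), (0, 0, 0), (0, 0, 0), (9, 0, 0), (65, 0, 0), (72, 0, 0), (0, 0, 0), (0, 0, 0), (1, 0, 0), (8, 0, 0), (9, 0, 0), (9, 0, 0), (64, 0, 0), (65, 0, 0), (65, 0, 0), (72, 0, 0), (72, 0, 0), (0, 0, 0), (1, 0,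 0), (8, 0, 0), (9, 0, 0), (9, 0, 0), (64, 0, 0), (65, 0, 0), (65, 0, 0), (72, 0, 0), (72, 0, 0), (0, 0, 0), (0, 0, 0), (1, 0, 0), (1, 0, 0), (8, 0, 0), (8, 0, 0), (9, 0, 0), (64, 0, 0), (64, 0, 0), (65, 0, 0), (72, 0, 0), (0, 0, 0), (1, 0, 0), (1, 0, 0), (8, 0, 0), (8, 0, 0), (9, 0, 0), (64, 0, 0), (64, 0, 0), (65, 0, 0), (72, 0, 0), (0, 0, 0), (0, 0, 0), (1, 0, 0), (8, 0, 0), (64, 0, 0), (0, 0, 0), (0, 0, 0), (1, 0, 0), (8, 0, 0), (64, 0, 0), (0, 0, 0), (0, 0, 0), (0, 0, 0), (0, 0, 0), (1, 0, 0), (8, 0, 0), (64, 0, 0), (0, 0, 0), (0, 0, 0), (0, 0, 0), (0, 0, 0), (9, 0, 0), (65, 0, 0), (72, 0, 0), (0, 0, 0), (0, 0, 0)], [], []],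
  [[], [], []],
  [[], [], []],
  [[], [], []],
  [[], [], []],
  [[], [], []],
  [[(0, 0, 0), (1, 0, 0), (1, 0, 0), (63, 0, 0), (64, 0, 0), (64, 0, 0), (17, 0, 0), (7, 0, 0), (8, 0, 0), (8, 0, 0), (65, 0, 0), (9, 0, 0), (72, 0, 0), (0, 0, 0), (0, 0, 0), (0, 0, 0), (65, 0, 0), (9, 0, 0), (72, 0, 0), (0, 0, 0), (0, 0, 0), (0, 0, 0), (65, 0, 0), (9, 0, 0), (72, 0, 0), (0, 0, 0), (0, 0, 0), (65, 0, 0), (9, 0, 0), (72, 0, 0), (0, 0, 0), (0, 0, 0), (1, 0, 0), (64, 0, 0), (65, 0, 0), (65, 0, 0), (8, 0, 0), (9, 0, 0), (9, 0, 0), (72, 0, 0), (72, 0, 0), (0, 0, 0), (0, 0, 0), (0, 0, 0), (65, 0, 0), (9, 0, 0), (72, 0, 0), (0, 0, 0), (0, 0, 0), (65, 0, 0), (9, 0, 0), (72, 0, 0), (0, 0, 0), (0, 0, 0), (1, 0, 0), (64, 0, 0), (65, 0, 0), (65, 0,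 0), (8, 0, 0), (9, 0, 0), (9, 0, 0), (72, 0, 0), (72, 0, 0), (0, 0, 0), (1, 0, 0), (64, 0, 0), (65, 0, 0), (65, 0, 0), (8, 0, 0), (9, 0, 0), (9, 0, 0), (72, 0, 0), (72, 0, 0), (0, 0, 0), (0, 0, 0), (1, 0, 0), (1, 0, 0), (64, 0, 0), (64, 0, 0), (65, 0, 0), (8, 0, 0), (8, 0, 0), (9, 0, 0), (72, 0, 0), (0, 0, 0), (1, 0, 0), (1, 0, 0), (64, 0, 0), (64, 0, 0), (65, 0, 0), (8, 0, 0), (8, 0, 0), (9, 0, 0), (72, 0, 0), (0, 0, 0), (0, 0, 0), (1, 0, 0), (64, 0, 0), (8, 0, 0), (0, 0, 0), (0, 0, 0), (1, 0, 0), (64, 0, 0), (8, 0, 0), (0, 0, 0), (0, 0, 0), (0, 0, 0), (0, 0, 0), (1, 0, 0), (64, 0, 0), (8, 0, 0), (0, 0, 0), (0, 0, 0), (0, 0, 0), (0, 0, 0), (65, 0, 0), (9, 0, 0), (72, 0, 0), (0, 0, 0), (0, 0, 0)], [], []],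
  [[], [], []],
  [[(0, 0, 0), (1, 0, 0), (1, 0, 0), (7, 0, 0), (8, 0, 0), (8, 0, 0), (56, 0, 0), (63, 0, 0), (64, 0, 0), (64, 0, 0), (9, 0, 0), (65, 0, 0), (72, 0, 0), (0, 0, 0), (0, 0, 0), (0, 0, 0), (9, 0, 0), (65, 0, 0), (72, 0, 0), (0, 0, 0), (0, 0, 0), (0, 0, 0), (9, 0, 0), (65, 0, 0), (72, 0, 0), (0, 0, 0), (0, 0, 0), (9, 0, 0), (65, 0, 0), (72, 0, 0), (0, 0, 0), (0, 0, 0), (1, 0, 0), (8, 0, 0), (9, 0, 0), (9, 0, 0), (64, 0, 0), (65, 0, 0), (65, 0, 0), (72, 0, 0), (72, 0, 0), (0, 0, 0), (0, 0, 0), (0, 0, 0), (9, 0, 0), (65, 0, 0), (72, 0, 0), (0, 0, 0), (0, 0, 0), (9, 0, 0), (65, 0, 0), (72, 0, 0), (0, 0, 0), (0, 0, 0), (1, 0, 0), (8, 0, 0), (9, 0, 0), (9, 0, 0), (64, 0, 0), (65, 0, 0), (65, 0, 0), (72, 0, 0), (72, 0, 0), (0,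 0, 0), (1, 0, 0), (8, 0, 0), (9, 0, 0), (9, 0, 0), (64, 0, 0), (65, 0, 0), (65, 0, 0), (72, 0, 0), (72, 0, 0), (0, 0, 0), (0, 0, 0), (1, 0, 0), (1, 0, 0), (8, 0, 0), (8, 0, 0), (9, 0, 0), (64, 0, 0), (64, 0, 0), (65, 0, 0), (72, 0, 0), (0, 0, 0), (1, 0, 0), (1, 0, 0), (8, 0, 0), (8, 0, 0), (9, 0, 0), (64, 0, 0), (64, 0, 0), (65, 0, 0), (72, 0, 0), (0, 0, 0), (0, 0, 0), (1, 0, 0), (8, 0, 0), (64, 0, 0), (0, 0, 0), (0, 0, 0), (1, 0, 0), (8, 0, 0), (64, 0, 0), (0, 0, 0), (0, 0, 0), (0, 0, 0), (0, 0, 0), (1, 0, 0), (8, 0, 0), (64, 0, 0), (0, 0, 0), (0, 0, 0), (0, 0, 0), (0, 0, 0), (9, 0, 0), (65, 0, 0), (72, 0, 0), (0, 0, 0), (0, 0, 0)], [], []],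
  [[], [], []],
  [[], [], []],
  [[], [], []],
  [[(0, 0, 0), (1, 0, 0), (1, 0, 0), (63, 0, 0), (64, 0, 0), (64, 0, 0), (17, 0, 0), (7, 0, 0), (8, 0, 0), (8, 0, 0), (65, 0, 0), (9, 0, 0), (72, 0, 0), (0, 0, 0), (0, 0, 0), (0, 0, 0), (65, 0, 0), (9, 0, 0), (72, 0, 0), (0, 0, 0), (0, 0, 0), (0, 0, 0), (65, 0, 0), (9, 0, 0), (72, 0, 0), (0, 0, 0), (0, 0, 0), (65, 0, 0), (9, 0, 0), (72, 0, 0), (0, 0, 0), (0, 0, 0), (1, 0, 0), (64, 0, 0), (65, 0, 0), (65, 0, 0), (8, 0, 0), (9, 0, 0), (9, 0, 0), (72, 0, 0), (72, 0, 0), (0, 0, 0), (0, 0, 0), (0, 0, 0), (65, 0, 0), (9, 0, 0), (72, 0, 0), (0, 0, 0), (0, 0, 0), (65, 0, 0), (9, 0, 0), (72, 0, 0), (0, 0, 0), (0, 0, 0), (1, 0, 0), (64, 0, 0), (65, 0, 0), (65, 0, 0), (8, 0, 0), (9, 0, 0), (9,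 0, 0), (72, 0, 0), (72, 0, 0), (0, 0, 0), (1, 0, 0), (64, 0, 0), (65, 0, 0), (65, 0, 0), (8, 0, 0), (9, 0, 0), (9, 0, 0), (72, 0, 0), (72, 0, 0), (0, 0, 0), (0, 0, 0), (1, 0, 0), (1, 0, 0), (64, 0, 0), (64, 0, 0), (65, 0, 0), (8, 0, 0), (8, 0, 0), (9, 0, 0), (72, 0, 0), (0, 0, 0), (1, 0, 0), (1, 0, 0), (64, 0, 0), (64, 0, 0), (65, 0, 0), (8, 0, 0), (8, 0, 0), (9, 0, 0), (72, 0, 0), (0, 0, 0), (0, 0, 0), (1, 0, 0), (64, 0, 0), (8, 0, 0), (0, 0, 0), (0, 0, 0), (1, 0, 0), (64, 0, 0), (8, 0, 0), (0, 0, 0), (0, 0, 0), (0, 0, 0), (0, 0, 0), (1, 0, 0), (64, 0, 0), (8, 0, 0), (0, 0, 0), (0, 0, 0), (0, 0, 0), (0, 0, 0), (65, 0, 0), (9, 0, 0), (72, 0, 0), (0, 0, 0), (0, 0, 0)], [], []],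
  [[(0, 0, 0), (1, 0, 0), (1, 0, 0), (63, 0, 0), (64, 0, 0), (64, 0, 0), (17, 0, 0), (7, 0, 0), (8, 0, 0), (8, 0, 0), (65, 0, 0), (9, 0, 0), (72, 0, 0), (0, 0, 0), (0, 0, 0), (0, 0, 0), (65, 0, 0), (9, 0, 0), (72, 0, 0), (0, 0, 0), (0, 0, 0), (0, 0, 0), (65, 0, 0), (9, 0, 0), (72, 0, 0), (0, 0, 0), (0, 0, 0), (65, 0, 0), (9, 0, 0), (72, 0, 0), (0, 0, 0), (0, 0, 0), (1, 0, 0), (64, 0, 0), (65, 0, 0), (65, 0, 0), (8, 0, 0), (9, 0, 0), (9, 0, 0), (72, 0, 0), (72, 0, 0), (0, 0, 0), (0, 0, 0), (0, 0, 0), (65, 0, 0), (9, 0, 0), (72, 0, 0), (0, 0, 0), (0, 0, 0), (65, 0, 0), (9, 0, 0), (72, 0, 0), (0, 0, 0), (0, 0, 0), (1, 0, 0), (64, 0, 0), (65, 0, 0), (65, 0, 0), (8, 0, 0), (9, 0, 0), (9, 0, 0), (72, 0, 0), (72, 0, 0), (0, 0, 0), (1, 0,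 0), (64, 0, 0), (65, 0, 0), (65, 0, 0), (8, 0, 0), (9, 0, 0), (9, 0, 0), (72, 0, 0), (72, 0, 0), (0, 0, 0), (0, 0, 0), (1, 0, 0), (1, 0, 0), (64, 0, 0), (64, 0, 0), (65, 0, 0), (8, 0, 0), (8, 0, 0), (9, 0, 0), (72, 0, 0), (0, 0, 0), (1, 0, 0), (1, 0, 0), (64, 0, 0), (64, 0, 0), (65, 0, 0), (8, 0, 0), (8, 0, 0), (9, 0, 0), (72, 0, 0), (0, 0, 0), (0, 0, 0), (1, 0, 0), (64, 0, 0), (8, 0, 0), (0, 0, 0), (0, 0, 0), (1, 0, 0), (64, 0, 0), (8, 0, 0), (0, 0, 0), (0, 0, 0), (0, 0, 0), (0, 0, 0), (1, 0, 0), (64, 0, 0), (8, 0, 0), (0, 0, 0), (0, 0, 0), (0, 0, 0), (0, 0, 0), (65, 0, 0), (9, 0, 0), (72, 0, 0), (0, 0, 0), (0, 0, 0)], [], []],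
  [[], [], []],
  [[(0, 0, 0), (1, 0, 0), (1, 0, 0), (7, 0, 0), (8, 0, 0), (8, 0, 0), (56, 0, 0), (63, 0, 0), (64, 0, 0), (64, 0, 0), (9, 0, 0), (65, 0, 0), (72, 0, 0), (0, 0, 0), (0, 0, 0), (0, 0, 0), (9, 0, 0), (65, 0, 0), (72, 0, 0), (0, 0, 0), (0, 0, 0), (0, 0, 0), (9, 0, 0), (65, 0, 0), (72, 0, 0), (0, 0, 0), (0, 0, 0), (9, 0, 0), (65, 0, 0), (72, 0, 0), (0, 0, 0), (0, 0, 0), (1, 0, 0), (8, 0, 0), (9, 0, 0), (9, 0, 0), (64, 0, 0), (65, 0, 0), (65, 0, 0), (72, 0, 0), (72, 0, 0), (0, 0, 0), (0, 0, 0), (0, 0, 0), (9, 0, 0), (65, 0, 0), (72, 0, 0), (0, 0, 0), (0, 0, 0), (9, 0, 0), (65, 0, 0), (72, 0, 0), (0, 0, 0), (0, 0, 0), (1, 0, 0), (8, 0, 0), (9, 0, 0), (9, 0, 0), (64, 0, 0), (65, 0, 0), (65, 0, 0), (72, 0, 0), (72, 0, 0), (0,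 0, 0), (1, 0, 0), (8, 0, 0), (9, 0, 0), (9, 0, 0), (64, 0, 0), (65, 0, 0), (65, 0, 0), (72, 0, 0), (72, 0, 0), (0, 0, 0), (0, 0, 0), (1, 0, 0), (1, 0, 0), (8, 0, 0), (8, 0, 0), (9, 0, 0), (64, 0, 0), (64, 0, 0), (65, 0, 0), (72, 0, 0), (0, 0, 0), (1, 0, 0), (1, 0, 0), (8, 0, 0), (8, 0, 0), (9, 0, 0), (64, 0, 0), (64, 0, 0), (65, 0, 0), (72, 0, 0), (0, 0, 0), (0, 0, 0), (1, 0, 0), (8, 0, 0), (64, 0, 0), (0, 0, 0), (0, 0, 0), (1, 0, 0), (8, 0, 0), (64, 0, 0), (0, 0, 0), (0, 0, 0), (0, 0, 0), (0, 0, 0), (1, 0, 0), (8, 0, 0), (64, 0, 0), (0, 0, 0), (0, 0, 0), (0, 0, 0), (0, 0, 0), (9, 0, 0), (65, 0, 0), (72, 0, 0), (0, 0, 0), (0, 0, 0)], [], []],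
  [[(0, 0, 0), (1, 0, 0), (1, 0, 0), (7, 0, 0), (8, 0, 0), (8, 0, 0), (56, 0, 0), (63, 0, 0), (64, 0, 0), (64, 0, 0), (9, 0, 0), (65, 0, 0), (72, 0, 0), (0, 0, 0), (0, 0, 0), (0, 0, 0), (9, 0, 0), (65, 0, 0), (72, 0, 0), (0, 0, 0), (0, 0, 0), (0, 0, 0), (9, 0, 0), (65, 0, 0), (72, 0, 0), (0, 0, 0), (0, 0, 0), (9, 0, 0), (65, 0, 0), (72, 0, 0), (0, 0, 0), (0, 0, 0), (1, 0, 0), (8, 0, 0), (9, 0, 0), (9, 0, 0), (64, 0, 0), (65, 0, 0), (65, 0, 0), (72, 0, 0), (72, 0, 0), (0, 0, 0), (0, 0, 0), (0, 0, 0), (9, 0, 0), (65, 0, 0), (72, 0, 0), (0, 0, 0), (0, 0, 0), (9, 0, 0), (65, 0, 0), (72, 0, 0), (0, 0, 0), (0, 0, 0), (1, 0, 0), (8, 0, 0), (9, 0, 0), (9, 0, 0), (64, 0, 0), (65, 0, 0), (65, 0, 0), (72, 0, 0), (72, 0, 0), (0, 0, 0), (1, 0,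 0), (8, 0, 0), (9, 0, 0), (9, 0, 0), (64, 0, 0), (65, 0, 0), (65, 0, 0), (72, 0, 0), (72, 0, 0), (0, 0, 0), (0, 0, 0), (1, 0, 0), (1, 0, 0), (8, 0, 0), (8, 0, 0), (9, 0, 0), (64, 0, 0), (64, 0, 0), (65, 0, 0), (72, 0, 0), (0, 0, 0), (1, 0, 0), (1, 0, 0), (8, 0, 0), (8, 0, 0), (9, 0, 0), (64, 0, 0), (64, 0, 0), (65, 0, 0), (72, 0, 0), (0, 0, 0), (0, 0, 0), (1, 0, 0), (8, 0, 0), (64, 0, 0), (0, 0, 0), (0, 0, 0), (1, 0, 0), (8, 0, 0), (64, 0, 0), (0, 0, 0), (0, 0, 0), (0, 0, 0), (0, 0, 0), (1, 0, 0), (8, 0, 0), (64, 0, 0), (0, 0, 0), (0, 0, 0), (0, 0, 0), (0, 0, 0), (9, 0, 0), (65, 0, 0), (72, 0, 0), (0, 0, 0), (0, 0, 0)], [], []],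
  [[], [], []],
  [[], [], []],
  [[], [], []],
  [[], [], []],
  [[], [], []],
  [[(0, 0, 0), (1, 0, 0), (1, 0, 0), (63, 0, 0), (64, 0, 0), (64, 0, 0), (17, 0, 0), (7, 0, 0), (8, 0, 0), (8, 0, 0), (65, 0, 0), (9, 0, 0), (72, 0, 0), (0, 0, 0), (0, 0, 0), (0, 0, 0), (65, 0, 0), (9, 0, 0), (72, 0, 0), (0, 0, 0), (0, 0, 0), (0, 0, 0), (65, 0, 0), (9, 0, 0), (72, 0, 0), (0, 0, 0), (0, 0, 0), (65, 0, 0), (9, 0, 0), (72, 0, 0), (0, 0, 0), (0, 0, 0), (1, 0, 0), (64, 0, 0), (65, 0, 0), (65, 0, 0), (8, 0, 0), (9, 0, 0), (9, 0, 0), (72, 0, 0), (72, 0, 0), (0, 0, 0), (0, 0, 0), (0, 0, 0), (65, 0, 0), (9, 0, 0), (72, 0, 0), (0, 0, 0), (0, 0, 0), (65, 0, 0), (9, 0, 0), (72, 0, 0), (0, 0, 0), (0, 0, 0), (1, 0, 0), (64, 0, 0), (65, 0, 0), (65, 0,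 0), (8, 0, 0), (9, 0, 0), (9, 0, 0), (72, 0, 0), (72, 0, 0), (0, 0, 0), (1, 0, 0), (64, 0, 0), (65, 0, 0), (65, 0, 0), (8, 0, 0), (9, 0, 0), (9, 0, 0), (72, 0, 0), (72, 0, 0), (0, 0, 0), (0, 0, 0), (1, 0, 0), (1, 0, 0), (64, 0, 0), (64, 0, 0), (65, 0, 0), (8, 0, 0), (8, 0, 0), (9, 0, 0), (72, 0, 0), (0, 0, 0), (1, 0, 0), (1, 0, 0), (64, 0, 0), (64, 0, 0), (65, 0, 0), (8, 0, 0), (8, 0, 0), (9, 0, 0), (72, 0, 0), (0, 0, 0), (0, 0, 0), (1, 0, 0), (64, 0, 0), (8, 0, 0), (0, 0, 0), (0, 0, 0), (1, 0, 0), (64, 0, 0), (8, 0, 0), (0, 0, 0), (0, 0, 0), (0, 0, 0), (0, 0, 0), (1, 0, 0), (64, 0, 0), (8, 0, 0), (0, 0, 0), (0, 0, 0), (0, 0, 0), (0, 0, 0), (65, 0, 0), (9, 0, 0), (72, 0, 0), (0, 0, 0), (0, 0, 0)], [], []],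
  [[(0, 0, 0), (1, 0, 0), (1, 0, 0), (63, 0, 0), (64, 0, 0), (64, 0, 0), (17, 0, 0), (7, 0, 0), (8, 0, 0), (8, 0, 0), (65, 0, 0), (9, 0, 0), (72, 0, 0), (0, 0, 0), (0, 0, 0), (0, 0, 0), (65, 0, 0), (9, 0, 0), (72, 0, 0), (0, 0, 0), (0, 0, 0), (0, 0, 0), (65, 0, 0), (9, 0, 0), (72, 0, 0), (0, 0, 0), (0, 0, 0), (65, 0, 0), (9, 0, 0), (72, 0, 0), (0, 0, 0), (0, 0, 0), (1, 0, 0), (64, 0, 0), (65, 0, 0), (65, 0, 0), (8, 0, 0), (9, 0, 0), (9, 0, 0), (72, 0, 0), (72, 0, 0), (0, 0, 0), (0, 0, 0), (0, 0, 0), (65, 0, 0), (9, 0, 0), (72, 0, 0), (0, 0, 0), (0, 0, 0), (65, 0, 0), (9, 0, 0), (72, 0, 0), (0, 0, 0), (0, 0, 0), (1, 0, 0), (64, 0, 0), (65, 0, 0), (65, 0, 0), (8, 0, 0), (9, 0, 0), (9, 0, 0), (72, 0, 0), (72, 0, 0), (0, 0, 0), (1, 0,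 0), (64, 0, 0), (65, 0, 0), (65, 0, 0), (8, 0, 0), (9, 0, 0), (9, 0, 0), (72, 0, 0), (72, 0, 0), (0, 0, 0), (0, 0, 0), (1, 0, 0), (1, 0, 0), (64, 0, 0), (64, 0, 0), (65, 0, 0), (8, 0, 0), (8, 0, 0), (9, 0, 0), (72, 0, 0), (0, 0, 0), (1, 0, 0), (1, 0, 0), (64, 0, 0), (64, 0, 0), (65, 0, 0), (8, 0, 0), (8, 0, 0), (9, 0, 0), (72, 0, 0), (0, 0, 0), (0, 0, 0), (1, 0, 0), (64, 0, 0), (8, 0, 0), (0, 0, 0), (0, 0, 0), (1, 0, 0), (64, 0, 0), (8, 0, 0), (0, 0, 0), (0, 0, 0), (0, 0, 0), (0, 0, 0), (1, 0, 0), (64, 0, 0), (8, 0, 0), (0, 0, 0), (0, 0, 0), (0, 0, 0), (0, 0, 0), (65, 0, 0), (9, 0, 0), (72, 0, 0), (0, 0, 0), (0, 0, 0)], [], []],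
  [[(0, 0, 0), (1, 0, 0), (1, 0, 0), (63, 0, 0), (64, 0, 0), (64, 0, 0), (17, 0, 0), (7, 0, 0), (8, 0, 0), (8, 0, 0), (65, 0, 0), (9, 0, 0), (72, 0, 0), (0, 0, 0), (0, 0, 0), (0, 0, 0), (65, 0, 0), (9, 0, 0), (72, 0, 0), (0, 0, 0), (0, 0, 0), (0, 0, 0), (65, 0, 0), (9, 0, 0), (72, 0, 0), (0, 0, 0), (0, 0, 0), (65, 0, 0), (9, 0, 0), (72, 0, 0), (0, 0, 0), (0, 0, 0), (1, 0, 0), (64, 0, 0), (65, 0, 0), (65, 0, 0), (8, 0, 0), (9, 0, 0), (9, 0, 0), (72, 0, 0), (72, 0, 0), (0, 0, 0), (0, 0, 0), (0, 0, 0), (65, 0, 0), (9, 0, 0), (72, 0, 0), (0, 0, 0), (0, 0, 0), (65, 0, 0), (9, 0, 0), (72, 0, 0), (0, 0, 0), (0, 0, 0), (1, 0, 0), (64, 0, 0), (65, 0, 0), (65, 0, 0), (8, 0, 0), (9, 0, 0), (9, 0, 0), (72, 0, 0), (72, 0, 0), (0, 0, 0), (1, 0,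 0), (64, 0, 0), (65, 0, 0), (65, 0, 0), (8, 0, 0), (9, 0, 0), (9, 0, 0), (72, 0, 0), (72, 0, 0), (0, 0, 0), (0, 0, 0), (1, 0, 0), (1, 0, 0), (64, 0, 0), (64, 0, 0), (65, 0, 0), (8, 0, 0), (8, 0, 0), (9, 0, 0), (72, 0, 0), (0, 0, 0), (1, 0, 0), (1, 0, 0), (64, 0, 0), (64, 0, 0), (65, 0, 0), (8, 0, 0), (8, 0, 0), (9, 0, 0), (72, 0, 0), (0, 0, 0), (0, 0, 0), (1, 0, 0), (64, 0, 0), (8, 0, 0), (0, 0, 0), (0, 0, 0), (1, 0, 0), (64, 0, 0), (8, 0, 0), (0, 0, 0), (0, 0, 0), (0, 0, 0), (0, 0, 0), (1, 0, 0), (64, 0, 0), (8, 0, 0), (0, 0, 0), (0, 0, 0), (0, 0, 0), (0, 0, 0), (65, 0, 0), (9, 0, 0), (72, 0, 0), (0, 0, 0), (0, 0, 0)], [], []],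
  [[(0, 0, 0), (1, 0, 0), (1, 0, 0), (7, 0, 0), (8, 0, 0), (8, 0, 0), (56, 0, 0), (63, 0, 0), (64, 0, 0), (64, 0, 0), (9, 0, 0), (65, 0, 0), (72, 0, 0), (0, 0, 0), (0, 0, 0), (0, 0, 0), (9, 0, 0), (65, 0, 0), (72, 0, 0), (0, 0, 0), (0, 0, 0), (0, 0, 0), (9, 0, 0), (65, 0, 0), (72, 0, 0), (0, 0, 0), (0, 0, 0), (9, 0, 0), (65, 0, 0), (72, 0, 0), (0, 0, 0), (0, 0, 0), (1, 0, 0), (8, 0, 0), (9, 0, 0), (9, 0, 0), (64, 0, 0), (65, 0, 0), (65, 0, 0), (72, 0, 0), (72, 0, 0), (0, 0, 0), (0, 0, 0), (0, 0, 0), (9, 0, 0), (65, 0, 0), (72, 0, 0), (0, 0, 0), (0, 0, 0), (9, 0, 0), (65, 0, 0), (72, 0, 0), (0, 0, 0), (0, 0, 0), (1, 0, 0), (8, 0, 0), (9, 0, 0), (9, 0, 0), (64, 0, 0), (65, 0, 0), (65, 0, 0), (72, 0, 0), (72, 0, 0), (0, 0, 0), (1, 0,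 0), (8, 0, 0), (9, 0, 0), (9, 0, 0), (64, 0, 0), (65, 0, 0), (65, 0, 0), (72, 0, 0), (72, 0, 0), (0, 0, 0), (0, 0, 0), (1, 0, 0), (1, 0, 0), (8, 0, 0), (8, 0, 0), (9, 0, 0), (64, 0, 0), (64, 0, 0), (65, 0, 0), (72, 0, 0), (0, 0, 0), (1, 0, 0), (1, 0, 0), (8, 0, 0), (8, 0, 0), (9, 0, 0), (64, 0, 0), (64, 0, 0), (65, 0, 0), (72, 0, 0), (0, 0, 0), (0, 0, 0), (1, 0, 0), (8, 0, 0), (64, 0, 0), (0, 0, 0), (0, 0, 0), (1, 0, 0), (8, 0, 0), (64, 0, 0), (0, 0, 0), (0, 0, 0), (0, 0, 0), (0, 0, 0), (1, 0, 0), (8, 0, 0), (64, 0, 0), (0, 0, 0), (0, 0, 0), (0, 0, 0), (0, 0, 0), (9, 0, 0), (65, 0, 0), (72, 0, 0), (0, 0, 0), (0, 0, 0)], [], []],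
  [[(0, 0, 0), (1, 0, 0), (1, 0, 0), (7, 0, 0), (8, 0, 0), (8, 0, 0), (56, 0, 0), (63, 0, 0), (64, 0, 0), (64, 0, 0), (9, 0, 0), (65, 0, 0), (72, 0, 0), (0, 0, 0), (0, 0, 0), (0, 0, 0), (9, 0, 0), (65, 0, 0), (72, 0, 0), (0, 0, 0), (0, 0, 0), (0, 0, 0), (9, 0, 0), (65, 0, 0), (72, 0, 0), (0, 0, 0), (0, 0, 0), (9, 0, 0), (65, 0, 0), (72, 0, 0), (0, 0, 0), (0, 0, 0), (1, 0, 0), (8, 0, 0), (9, 0, 0), (9, 0, 0), (64, 0, 0), (65, 0, 0), (65, 0, 0), (72, 0, 0), (72, 0, 0), (0, 0, 0), (0, 0, 0), (0, 0, 0), (9, 0, 0), (65, 0, 0), (72, 0, 0), (0, 0, 0), (0, 0, 0), (9, 0, 0), (65, 0, 0), (72, 0, 0), (0, 0, 0), (0, 0, 0), (1, 0, 0), (8, 0, 0), (9, 0, 0), (9, 0, 0), (64, 0, 0), (65, 0, 0), (65, 0, 0), (72, 0, 0), (72, 0, 0), (0, 0, 0), (1, 0,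 0), (8, 0, 0), (9, 0, 0), (9, 0, 0), (64, 0, 0), (65, 0, 0), (65, 0, 0), (72, 0, 0), (72, 0, 0), (0, 0, 0), (0, 0, 0), (1, 0, 0), (1, 0, 0), (8, 0, 0), (8, 0, 0), (9, 0, 0), (64, 0, 0), (64, 0, 0), (65, 0, 0), (72, 0, 0), (0, 0, 0), (1, 0, 0), (1, 0, 0), (8, 0, 0), (8, 0, 0), (9, 0, 0), (64, 0, 0), (64, 0, 0), (65, 0, 0), (72, 0, 0), (0, 0, 0), (0, 0, 0), (1, 0, 0), (8, 0, 0), (64, 0, 0), (0, 0, 0), (0, 0, 0), (1, 0, 0), (8, 0, 0), (64, 0, 0), (0, 0, 0), (0, 0, 0), (0, 0, 0), (0, 0, 0), (1, 0, 0), (8, 0, 0), (64, 0, 0), (0, 0, 0), (0, 0, 0), (0, 0, 0), (0, 0, 0), (9, 0, 0), (65, 0, 0), (72, 0, 0), (0, 0, 0), (0, 0, 0)], [], []],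
  [[], [], []],
  [[(0, 0, 0), (1, 0, 0), (1, 0, 0), (7, 0, 0), (8, 0, 0), (8, 0, 0), (56, 0, 0), (63, 0, 0), (64, 0, 0), (64, 0, 0), (9, 0, 0), (65, 0, 0), (72, 0, 0), (0, 0, 0), (0, 0, 0), (0, 0, 0), (9, 0, 0), (65, 0, 0), (72, 0, 0), (0, 0, 0), (0, 0, 0), (0, 0, 0), (9, 0, 0), (65, 0, 0), (72, 0, 0), (0, 0, 0), (0, 0, 0), (9, 0, 0), (65, 0, 0), (72, 0, 0), (0, 0, 0), (0, 0, 0), (1, 0, 0), (8, 0, 0), (9, 0, 0), (9, 0, 0), (64, 0, 0), (65, 0, 0), (65, 0, 0), (72, 0, 0), (72, 0, 0), (0, 0, 0), (0, 0, 0), (0, 0, 0), (9, 0, 0), (65, 0, 0), (72, 0, 0), (0, 0, 0), (0, 0, 0), (9, 0, 0), (65, 0, 0), (72, 0, 0), (0, 0, 0), (0, 0, 0), (1, 0, 0), (8, 0, 0), (9, 0, 0), (9, 0, 0), (64, 0, 0), (65, 0, 0), (65, 0, 0), (72, 0, 0), (72, 0, 0), (0,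 0, 0), (1, 0, 0), (8, 0, 0), (9, 0, 0), (9, 0, 0), (64, 0, 0), (65, 0, 0), (65, 0, 0), (72, 0, 0), (72, 0, 0), (0, 0, 0), (0, 0, 0), (1, 0, 0), (1, 0, 0), (8, 0, 0), (8, 0, 0), (9, 0, 0), (64, 0, 0), (64, 0, 0), (65, 0, 0), (72, 0, 0), (0, 0, 0), (1, 0, 0), (1, 0, 0), (8, 0, 0), (8, 0, 0), (9, 0, 0), (64, 0, 0), (64, 0, 0), (65, 0, 0), (72, 0, 0), (0, 0, 0), (0, 0, 0), (1, 0, 0), (8, 0, 0), (64, 0, 0), (0, 0, 0), (0, 0, 0), (1, 0, 0), (8, 0, 0), (64, 0, 0), (0, 0, 0), (0, 0, 0), (0, 0, 0), (0, 0, 0), (1, 0, 0), (8, 0, 0), (64, 0, 0), (0, 0, 0), (0, 0, 0), (0, 0, 0), (0, 0, 0), (9, 0, 0), (65, 0, 0), (72, 0, 0), (0, 0, 0), (0, 0, 0)], [], []],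
  [[], [], []],
  [[], [], []],
  [[], [], []],
  [[], [], []],
  [[], [], []],
  [[], [], []],
  [[], [], []],
  [[], [], []],
  [[(0, 0, 0), (1, 0, 0), (1, 0, 0), (63, 0, 0), (64, 0, 0), (64, 0, 0), (17, 0, 0), (7, 0, 0), (8, 0, 0), (8, 0, 0), (65, 0, 0), (9, 0, 0), (72, 0, 0), (0, 0, 0), (0, 0, 0), (0, 0, 0), (65, 0, 0), (9, 0, 0), (72, 0, 0), (0, 0, 0), (0, 0, 0), (0, 0, 0), (65, 0, 0), (9, 0, 0), (72, 0, 0), (0, 0, 0), (0, 0, 0), (65, 0, 0), (9, 0, 0), (72, 0, 0), (0, 0, 0), (0, 0, 0), (1, 0, 0), (64, 0, 0), (65, 0, 0), (65, 0, 0), (8, 0, 0), (9, 0, 0), (9, 0, 0), (72, 0, 0), (72, 0, 0), (0, 0, 0), (0, 0, 0), (0, 0, 0), (65, 0, 0), (9, 0, 0), (72, 0, 0), (0, 0, 0), (0, 0, 0), (65, 0, 0), (9, 0, 0), (72, 0, 0), (0, 0, 0), (0,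 0, 0), (1, 0, 0), (64, 0, 0), (65, 0, 0), (65, 0, 0), (8, 0, 0), (9, 0, 0), (9, 0, 0), (72, 0, 0), (72, 0, 0), (0, 0, 0), (1, 0, 0), (64, 0, 0), (65, 0, 0), (65, 0, 0), (8, 0, 0), (9, 0, 0), (9, 0, 0), (72, 0, 0), (72, 0, 0), (0, 0, 0), (0, 0, 0), (1, 0, 0), (1, 0, 0), (64, 0, 0), (64, 0, 0), (65, 0, 0), (8, 0, 0), (8, 0, 0), (9, 0, 0), (72, 0, 0), (0, 0, 0), (1, 0, 0), (1, 0, 0), (64, 0, 0), (64, 0, 0), (65, 0, 0), (8, 0, 0), (8, 0, 0), (9, 0, 0), (72, 0, 0), (0, 0, 0), (0, 0, 0), (1, 0, 0), (64, 0, 0), (8, 0, 0), (0, 0, 0), (0, 0, 0), (1, 0, 0), (64, 0, 0), (8, 0, 0), (0, 0, 0), (0, 0, 0), (0, 0, 0), (0, 0, 0), (1, 0, 0), (64, 0, 0), (8, 0, 0), (0, 0, 0), (0, 0, 0), (0, 0, 0), (0, 0, 0), (65, 0, 0), (9, 0, 0), (72, 0, 0), (0, 0,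 0), (0, 0, 0)], [], []],
  [[(0, 0, 0), (1, 0, 0), (1, 0, 0), (7, 0, 0), (8, 0, 0), (8, 0, 0), (56, 0, 0), (63, 0, 0), (64, 0, 0), (64, 0, 0), (9, 0, 0), (65, 0, 0), (72, 0, 0), (0, 0, 0), (0, 0, 0), (0, 0, 0), (9, 0, 0), (65, 0, 0), (72, 0, 0), (0, 0, 0), (0, 0, 0), (0, 0, 0), (9, 0, 0), (65, 0, 0), (72, 0, 0), (0, 0, 0), (0, 0, 0), (9, 0, 0), (65, 0, 0), (72, 0, 0), (0, 0, 0), (0, 0, 0), (1, 0, 0), (8, 0, 0), (9, 0, 0), (9, 0, 0), (64, 0, 0), (65, 0, 0), (65, 0, 0), (72, 0, 0), (72, 0, 0), (0, 0, 0), (0, 0, 0), (0, 0, 0), (9, 0, 0), (65, 0, 0), (72, 0, 0), (0, 0, 0), (0, 0, 0), (9, 0, 0), (65, 0, 0), (72, 0, 0), (0, 0, 0), (0, 0, 0), (1, 0, 0), (8, 0, 0), (9, 0, 0), (9, 0, 0), (64, 0, 0), (65, 0, 0), (65, 0, 0), (72, 0, 0), (72,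 0, 0), (0, 0, 0), (1, 0, 0), (8, 0, 0), (9, 0, 0), (9, 0, 0), (64, 0, 0), (65, 0, 0), (65, 0, 0), (72, 0, 0), (72, 0, 0), (0, 0, 0), (0, 0, 0), (1, 0, 0), (1, 0, 0), (8, 0, 0), (8, 0, 0), (9, 0, 0), (64, 0, 0), (64, 0, 0), (65, 0, 0), (72, 0, 0), (0, 0, 0), (1, 0, 0), (1, 0, 0), (8, 0, 0), (8, 0, 0), (9, 0, 0), (64, 0, 0), (64, 0, 0), (65, 0, 0), (72, 0, 0), (0, 0, 0), (0, 0, 0), (1, 0, 0), (8, 0, 0), (64, 0, 0), (0, 0, 0), (0, 0, 0), (1, 0, 0), (8, 0, 0), (64, 0, 0), (0, 0, 0), (0, 0, 0), (0, 0, 0), (0, 0, 0), (1, 0, 0), (8, 0, 0), (64, 0, 0), (0, 0, 0), (0, 0, 0), (0, 0, 0), (0, 0, 0), (9, 0, 0), (65, 0, 0), (72, 0, 0), (0, 0, 0), (0, 0, 0)], [], []],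
  [[], [], []],
  [[], [], []],
  [[], [], []],
  [[], [], []],
  [[], [], []],
  [[], [], []],
  [[], [], []],
  [[], [], []],
  [[(0, 0, 0), (1, 0, 0), (1, 0, 0), (63, 0, 0), (64, 0, 0), (64, 0, 0), (17, 0, 0), (7, 0, 0), (8, 0, 0), (8, 0, 0), (65, 0, 0), (9, 0, 0), (72, 0, 0), (0, 0, 0), (0, 0, 0), (0, 0, 0), (65, 0, 0), (9, 0, 0), (72, 0, 0), (0, 0, 0), (0, 0, 0), (0, 0, 0), (65, 0, 0), (9, 0, 0), (72, 0, 0), (0, 0, 0), (0, 0, 0), (65, 0, 0), (9, 0, 0), (72, 0, 0), (0, 0, 0), (0, 0, 0), (1, 0, 0), (64, 0, 0), (65, 0, 0), (65, 0, 0), (8, 0, 0), (9, 0, 0), (9, 0, 0), (72, 0, 0), (72, 0, 0), (0, 0, 0), (0, 0, 0), (0, 0, 0), (65, 0, 0), (9, 0, 0), (72, 0, 0), (0, 0, 0), (0, 0, 0), (65, 0, 0), (9, 0, 0), (72, 0, 0), (0, 0, 0), (0,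 0, 0), (1, 0, 0), (64, 0, 0), (65, 0, 0), (65, 0, 0), (8, 0, 0), (9, 0, 0), (9, 0, 0), (72, 0, 0), (72, 0, 0), (0, 0, 0), (1, 0, 0), (64, 0, 0), (65, 0, 0), (65, 0, 0), (8, 0, 0), (9, 0, 0), (9, 0, 0), (72, 0, 0), (72, 0, 0), (0, 0, 0), (0, 0, 0), (1, 0, 0), (1, 0, 0), (64, 0, 0), (64, 0, 0), (65, 0, 0), (8, 0, 0), (8, 0, 0), (9, 0, 0), (72, 0, 0), (0, 0, 0), (1, 0, 0), (1, 0, 0), (64, 0, 0), (64, 0, 0), (65, 0, 0), (8, 0, 0), (8, 0, 0), (9, 0, 0), (72, 0, 0), (0, 0, 0), (0, 0, 0), (1, 0, 0), (64, 0, 0), (8, 0, 0), (0, 0, 0), (0, 0, 0), (1, 0, 0), (64, 0, 0), (8, 0, 0), (0, 0, 0), (0, 0, 0), (0, 0, 0), (0, 0, 0), (1, 0, 0), (64, 0, 0), (8, 0, 0), (0, 0, 0), (0, 0, 0), (0, 0, 0), (0, 0, 0), (65, 0, 0), (9, 0, 0), (72, 0, 0), (0, 0,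 0), (0, 0, 0)], [], []],
  [[(0, 0, 0), (1, 0, 0), (1, 0, 0), (63, 0, 0), (64, 0, 0), (64, 0, 0), (17, 0, 0), (7, 0, 0), (8, 0, 0), (8, 0, 0), (65, 0, 0), (9, 0, 0), (72, 0, 0), (0, 0, 0), (0, 0, 0), (0, 0, 0), (65, 0, 0), (9, 0, 0), (72, 0, 0), (0, 0, 0), (0, 0, 0), (0, 0, 0), (65, 0, 0), (9, 0, 0), (72, 0, 0), (0, 0, 0), (0, 0, 0), (65, 0, 0), (9, 0, 0), (72, 0, 0), (0, 0, 0), (0, 0, 0), (1, 0, 0), (64, 0, 0), (65, 0, 0), (65, 0, 0), (8, 0, 0), (9, 0, 0), (9, 0, 0), (72, 0, 0), (72, 0, 0), (0, 0, 0), (0, 0, 0), (0, 0, 0), (65, 0, 0), (9, 0, 0), (72, 0, 0), (0, 0, 0), (0, 0, 0), (65, 0, 0), (9, 0, 0), (72, 0, 0), (0, 0, 0), (0, 0, 0), (1, 0, 0), (64, 0, 0), (65, 0, 0), (65, 0, 0), (8, 0, 0), (9, 0, 0), (9, 0, 0), (72, 0, 0), (72,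 0, 0), (0, 0, 0), (1, 0, 0), (64, 0, 0), (65, 0, 0), (65, 0, 0), (8, 0, 0), (9, 0, 0), (9, 0, 0), (72, 0, 0), (72, 0, 0), (0, 0, 0), (0, 0, 0), (1, 0, 0), (1, 0, 0), (64, 0, 0), (64, 0, 0), (65, 0, 0), (8, 0, 0), (8, 0, 0), (9, 0, 0), (72, 0, 0), (0, 0, 0), (1, 0, 0), (1, 0, 0), (64, 0, 0), (64, 0, 0), (65, 0, 0), (8, 0, 0), (8, 0, 0), (9, 0, 0), (72, 0, 0), (0, 0, 0), (0, 0, 0), (1, 0, 0), (64, 0, 0), (8, 0, 0), (0, 0, 0), (0, 0, 0), (1, 0, 0), (64, 0, 0), (8, 0, 0), (0, 0, 0), (0, 0, 0), (0, 0, 0), (0, 0, 0), (1, 0, 0), (64, 0, 0), (8, 0, 0), (0, 0, 0), (0, 0, 0), (0, 0, 0), (0, 0, 0), (65, 0, 0), (9, 0, 0), (72, 0, 0), (0, 0, 0), (0, 0, 0)], [], []],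
  [[], [], []],
  [[], [], []],
  [[], [], []],
  [[], [], []],
  [[], [], []],
  [[], [], []],
  [[], [], []],
  [[], [], []],
  [[], [], []],
  [[], [], []],
  [[], [], []],
  [[(0, 0, 0), (1, 0, 0), (1, 0, 0), (63, 0, 0), (64, 0, 0), (64, 0, 0), (17, 0, 0), (7, 0, 0), (8, 0, 0), (8, 0, 0), (65, 0, 0), (9, 0, 0), (72, 0, 0), (0, 0, 0), (0, 0, 0), (0, 0, 0), (65, 0, 0), (9, 0, 0), (72, 0, 0), (0, 0, 0), (0, 0, 0), (0, 0, 0), (65, 0, 0), (9, 0, 0), (72, 0, 0), (0, 0, 0), (0, 0, 0), (65, 0, 0), (9, 0, 0), (72, 0, 0), (0, 0, 0), (0, 0, 0), (1, 0, 0), (64, 0, 0), (65, 0, 0), (65, 0, 0), (8, 0, 0), (9, 0, 0), (9, 0, 0), (72, 0, 0), (72, 0, 0), (0, 0, 0), (0, 0, 0), (0, 0, 0), (65, 0, 0), (9, 0, 0), (72, 0, 0), (0, 0, 0), (0, 0, 0), (65,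 0, 0), (9, 0, 0), (72, 0, 0), (0, 0, 0), (0, 0, 0), (1, 0, 0), (64, 0, 0), (65, 0, 0), (65, 0, 0), (8, 0, 0), (9, 0, 0), (9, 0, 0), (72, 0, 0), (72, 0, 0), (0, 0, 0), (1, 0, 0), (64, 0, 0), (65, 0, 0), (65, 0, 0), (8, 0, 0), (9, 0, 0), (9, 0, 0), (72, 0, 0), (72, 0, 0), (0, 0, 0), (0, 0, 0), (1, 0, 0), (1, 0, 0), (64, 0, 0), (64, 0, 0), (65, 0, 0), (8, 0, 0), (8, 0, 0), (9, 0, 0), (72, 0, 0), (0, 0, 0), (1, 0, 0), (1, 0, 0), (64, 0, 0), (64, 0, 0), (65, 0, 0), (8, 0, 0), (8, 0, 0), (9, 0, 0), (72, 0, 0), (0, 0, 0), (0, 0, 0), (1, 0, 0), (64, 0, 0), (8, 0, 0), (0, 0, 0), (0, 0, 0), (1, 0, 0), (64, 0, 0), (8, 0, 0), (0, 0, 0), (0, 0, 0), (0, 0, 0), (0, 0, 0), (1, 0, 0), (64, 0, 0), (8, 0, 0), (0, 0, 0), (0, 0, 0), (0, 0, 0), (0, 0,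 0), (65, 0, 0), (9, 0, 0), (72, 0, 0), (0, 0, 0), (0, 0, 0)], [], []],
  [[(0, 0, 0), (1, 0, 0), (1, 0, 0), (63, 0, 0), (64, 0, 0), (64, 0, 0), (17, 0, 0), (7, 0, 0), (8, 0, 0), (8, 0, 0), (65, 0, 0), (9, 0, 0), (72, 0, 0), (0, 0, 0), (0, 0, 0), (0, 0, 0), (65, 0, 0), (9, 0, 0), (72, 0, 0), (0, 0, 0), (0, 0, 0), (0, 0, 0), (65, 0, 0), (9, 0, 0), (72, 0, 0), (0, 0, 0), (0, 0, 0), (65, 0, 0), (9, 0, 0), (72, 0, 0), (0, 0, 0), (0, 0, 0), (1, 0, 0), (64, 0, 0), (65, 0, 0), (65, 0, 0), (8, 0, 0), (9, 0, 0), (9, 0, 0), (72, 0, 0), (72, 0, 0), (0, 0, 0), (0, 0, 0), (0, 0, 0), (65, 0, 0), (9, 0, 0), (72, 0, 0), (0, 0, 0), (0, 0, 0), (65, 0, 0), (9, 0, 0), (72, 0, 0), (0, 0, 0), (0, 0, 0), (1, 0, 0), (64, 0, 0), (65, 0, 0), (65, 0, 0), (8,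 0, 0), (9, 0, 0), (9, 0, 0), (72, 0, 0), (72, 0, 0), (0, 0, 0), (1, 0, 0), (64, 0, 0), (65, 0, 0), (65, 0, 0), (8, 0, 0), (9, 0, 0), (9, 0, 0), (72, 0, 0), (72, 0, 0), (0, 0, 0), (0, 0, 0), (1, 0, 0), (1, 0, 0), (64, 0, 0), (64, 0, 0), (65, 0, 0), (8, 0, 0), (8, 0, 0), (9, 0, 0), (72, 0, 0), (0, 0, 0), (1, 0, 0), (1, 0, 0), (64, 0, 0), (64, 0, 0), (65, 0, 0), (8, 0, 0), (8, 0, 0), (9, 0, 0), (72, 0, 0), (0, 0, 0), (0, 0, 0), (1, 0, 0), (64, 0, 0), (8, 0, 0), (0, 0, 0), (0, 0, 0), (1, 0, 0), (64, 0, 0), (8, 0, 0), (0, 0, 0), (0, 0, 0), (0, 0, 0), (0, 0, 0), (1, 0, 0), (64, 0, 0), (8, 0, 0), (0, 0, 0), (0, 0, 0), (0, 0, 0), (0, 0, 0), (65, 0, 0), (9, 0, 0), (72, 0, 0), (0, 0, 0), (0, 0, 0)], [], []],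
  [[], [], []],
  [[(0, 0, 0), (1, 0, 0), (1, 0, 0), (63, 0, 0), (64, 0, 0), (64, 0, 0), (17, 0, 0), (7, 0, 0), (8, 0, 0), (8, 0, 0), (65, 0, 0), (9, 0, 0), (72, 0, 0), (0, 0, 0), (0, 0, 0), (0, 0, 0), (65, 0, 0), (9, 0, 0), (72, 0, 0), (0, 0, 0), (0, 0, 0), (0, 0, 0), (65, 0, 0), (9, 0, 0), (72, 0, 0), (0, 0, 0), (0, 0, 0), (65, 0, 0), (9, 0, 0), (72, 0, 0), (0, 0, 0), (0, 0, 0), (1, 0, 0), (64, 0, 0), (65, 0, 0), (65, 0, 0), (8, 0, 0), (9, 0, 0), (9, 0, 0), (72, 0, 0), (72, 0, 0), (0, 0, 0), (0, 0, 0), (0, 0, 0), (65, 0, 0), (9, 0, 0), (72, 0, 0), (0, 0, 0), (0, 0, 0), (65, 0, 0), (9, 0, 0), (72, 0, 0), (0, 0, 0), (0, 0, 0), (1, 0, 0), (64, 0, 0), (65, 0, 0), (65, 0, 0), (8, 0, 0), (9, 0, 0), (9, 0, 0), (72, 0, 0), (72, 0, 0), (0,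 0, 0), (1, 0, 0), (64, 0, 0), (65, 0, 0), (65, 0, 0), (8, 0, 0), (9, 0, 0), (9, 0, 0), (72, 0, 0), (72, 0, 0), (0, 0, 0), (0, 0, 0), (1, 0, 0), (1, 0, 0), (64, 0, 0), (64, 0, 0), (65, 0, 0), (8, 0, 0), (8, 0, 0), (9, 0, 0), (72, 0, 0), (0, 0, 0), (1, 0, 0), (1, 0, 0), (64, 0, 0), (64, 0, 0), (65, 0, 0), (8, 0, 0), (8, 0, 0), (9, 0, 0), (72, 0, 0), (0, 0, 0), (0, 0, 0), (1, 0, 0), (64, 0, 0), (8, 0, 0), (0, 0, 0), (0, 0, 0), (1, 0, 0), (64, 0, 0), (8, 0, 0), (0, 0, 0), (0, 0, 0), (0, 0, 0), (0, 0, 0), (1, 0, 0), (64, 0, 0), (8, 0, 0), (0, 0, 0), (0, 0, 0), (0, 0, 0), (0, 0, 0), (65, 0, 0), (9, 0, 0), (72, 0, 0), (0, 0, 0), (0, 0, 0)], [], []],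
  [[], [], []],
  [[], [], []],
  [[], [], []],
  [[], [], []],
  [[], [], []],
  [[], [], []],
  [[(0, 0, 0), (1, 0, 0), (1, 0, 0), (7, 0, 0), (8, 0, 0), (8, 0, 0), (56, 0, 0), (63, 0, 0), (64, 0, 0), (64, 0, 0), (9, 0, 0), (65, 0, 0), (72, 0, 0), (0, 0, 0), (0, 0, 0), (0, 0, 0), (9, 0, 0), (65, 0, 0), (72, 0, 0), (0, 0, 0), (0, 0, 0), (0, 0, 0), (9, 0, 0), (65, 0, 0), (72, 0, 0), (0, 0, 0), (0, 0, 0), (9, 0, 0), (65, 0, 0), (72, 0, 0), (0, 0, 0), (0, 0, 0), (1, 0, 0), (8, 0, 0), (9, 0, 0), (9, 0, 0), (64, 0, 0), (65, 0, 0), (65, 0, 0), (72, 0, 0), (72, 0, 0), (0, 0, 0), (0, 0, 0), (0, 0, 0), (9, 0, 0), (65, 0, 0), (72, 0, 0), (0, 0, 0), (0, 0, 0), (9, 0, 0), (65, 0, 0), (72, 0, 0), (0, 0, 0), (0, 0, 0), (1, 0, 0), (8, 0, 0), (9,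 0, 0), (9, 0, 0), (64, 0, 0), (65, 0, 0), (65, 0, 0), (72, 0, 0), (72, 0, 0), (0, 0, 0), (1, 0, 0), (8, 0, 0), (9, 0, 0), (9, 0, 0), (64, 0, 0), (65, 0, 0), (65, 0, 0), (72, 0, 0), (72, 0, 0), (0, 0, 0), (0, 0, 0), (1, 0, 0), (1, 0, 0), (8, 0, 0), (8, 0, 0), (9, 0, 0), (64, 0, 0), (64, 0, 0), (65, 0, 0), (72, 0, 0), (0, 0, 0), (1, 0, 0), (1, 0, 0), (8, 0, 0), (8, 0, 0), (9, 0, 0), (64, 0, 0), (64, 0, 0), (65, 0, 0), (72, 0, 0), (0, 0, 0), (0, 0, 0), (1, 0, 0), (8, 0, 0), (64, 0, 0), (0, 0, 0), (0, 0, 0), (1, 0, 0), (8, 0, 0), (64, 0, 0), (0, 0, 0), (0, 0, 0), (0, 0, 0), (0, 0, 0), (1, 0, 0), (8, 0, 0), (64, 0, 0), (0, 0, 0), (0, 0, 0), (0, 0, 0), (0, 0, 0), (9, 0, 0), (65, 0, 0), (72, 0, 0), (0, 0, 0), (0, 0, 0)], [], []],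
  [[], [], []],
  [[], [], []],
  [[], [], []],
  [[], [], []],
  [[], [], []],
  [[(0, 0, 0), (1, 0, 0), (1, 0, 0), (63, 0, 0), (64, 0, 0), (64, 0, 0), (17, 0, 0), (7, 0, 0), (8, 0, 0), (8, 0, 0), (65, 0, 0), (9, 0, 0), (72, 0, 0), (0, 0, 0), (0, 0, 0), (0, 0, 0), (65, 0, 0), (9, 0, 0), (72, 0, 0), (0, 0, 0), (0, 0, 0), (0, 0, 0), (65, 0, 0), (9, 0, 0), (72, 0, 0), (0, 0, 0), (0, 0, 0), (65, 0, 0), (9, 0, 0), (72, 0, 0), (0, 0, 0), (0, 0, 0), (1, 0, 0), (64, 0, 0), (65, 0, 0), (65, 0, 0), (8, 0, 0), (9, 0, 0), (9, 0, 0), (72, 0, 0), (72, 0, 0), (0, 0, 0), (0, 0, 0), (0, 0, 0), (65, 0, 0), (9, 0, 0), (72, 0, 0), (0, 0, 0), (0, 0, 0), (65, 0, 0), (9, 0, 0), (72, 0, 0), (0, 0, 0), (0, 0, 0), (1, 0, 0), (64, 0, 0), (65, 0, 0), (65, 0,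 0), (8, 0, 0), (9, 0, 0), (9, 0, 0), (72, 0, 0), (72, 0, 0), (0, 0, 0), (1, 0, 0), (64, 0, 0), (65, 0, 0), (65, 0, 0), (8, 0, 0), (9, 0, 0), (9, 0, 0), (72, 0, 0), (72, 0, 0), (0, 0, 0), (0, 0, 0), (1, 0, 0), (1, 0, 0), (64, 0, 0), (64, 0, 0), (65, 0, 0), (8, 0, 0), (8, 0, 0), (9, 0, 0), (72, 0, 0), (0, 0, 0), (1, 0, 0), (1, 0, 0), (64, 0, 0), (64, 0, 0), (65, 0, 0), (8, 0, 0), (8, 0, 0), (9, 0, 0), (72, 0, 0), (0, 0, 0), (0, 0, 0), (1, 0, 0), (64, 0, 0), (8, 0, 0), (0, 0, 0), (0, 0, 0), (1, 0, 0), (64, 0, 0), (8, 0, 0), (0, 0, 0), (0, 0, 0), (0, 0, 0), (0, 0, 0), (1, 0, 0), (64, 0, 0), (8, 0, 0), (0, 0, 0), (0, 0, 0), (0, 0, 0), (0, 0, 0), (65, 0, 0), (9, 0, 0), (72, 0, 0), (0, 0, 0), (0, 0, 0)], [], []],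
  [[], [], []],
  [[], [], []],
  [[(0, 0, 0), (1, 0, 0), (1, 0, 0), (7, 0, 0), (8, 0, 0), (8, 0, 0), (56, 0, 0), (63, 0, 0), (64, 0, 0), (64, 0, 0), (9, 0, 0), (65, 0, 0), (72, 0, 0), (0, 0, 0), (0, 0, 0), (0, 0, 0), (9, 0, 0), (65, 0, 0), (72, 0, 0), (0, 0, 0), (0, 0, 0), (0, 0, 0), (9, 0, 0), (65, 0, 0), (72, 0, 0), (0, 0, 0), (0, 0, 0), (9, 0, 0), (65, 0, 0), (72, 0, 0), (0, 0, 0), (0, 0, 0), (1, 0, 0), (8, 0, 0), (9, 0, 0), (9, 0, 0), (64, 0, 0), (65, 0, 0), (65, 0, 0), (72, 0, 0), (72, 0, 0), (0, 0, 0), (0, 0, 0), (0, 0, 0), (9, 0, 0), (65, 0, 0), (72, 0, 0), (0, 0, 0), (0, 0, 0), (9, 0, 0), (65, 0, 0), (72, 0, 0), (0, 0, 0), (0, 0, 0), (1, 0, 0), (8, 0, 0), (9, 0, 0), (9, 0, 0), (64, 0, 0), (65, 0, 0), (65, 0, 0), (72, 0, 0),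 (72, 0, 0), (0, 0, 0), (1, 0, 0), (8, 0, 0), (9, 0, 0), (9, 0, 0), (64, 0, 0), (65, 0, 0), (65, 0, 0), (72, 0, 0), (72, 0, 0), (0, 0, 0), (0, 0, 0), (1, 0, 0), (1, 0, 0), (8, 0, 0), (8, 0, 0), (9, 0, 0), (64, 0, 0), (64, 0, 0), (65, 0, 0), (72, 0, 0), (0, 0, 0), (1, 0, 0), (1, 0, 0), (8, 0, 0), (8, 0, 0), (9, 0, 0), (64, 0, 0), (64, 0, 0), (65, 0, 0), (72, 0, 0), (0, 0, 0), (0, 0, 0), (1, 0, 0), (8, 0, 0), (64, 0, 0), (0, 0, 0), (0, 0, 0), (1, 0, 0), (8, 0, 0), (64, 0, 0), (0, 0, 0), (0, 0, 0), (0, 0, 0), (0, 0, 0), (1, 0, 0), (8, 0, 0), (64, 0, 0), (0, 0, 0), (0, 0, 0), (0, 0, 0), (0, 0, 0), (9, 0, 0), (65, 0, 0), (72, 0, 0), (0, 0, 0), (0, 0, 0)], [], []],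
  [[(0, 0, 0), (1, 0, 0), (1, 0, 0), (7, 0, 0), (8, 0, 0), (8, 0, 0), (56, 0, 0), (63, 0, 0), (64, 0, 0), (64, 0, 0), (9, 0, 0), (65, 0, 0), (72, 0, 0), (0, 0, 0), (0, 0, 0), (0, 0, 0), (9, 0, 0), (65, 0, 0), (72, 0, 0), (0, 0, 0), (0, 0, 0), (0, 0, 0), (9, 0, 0), (65, 0, 0), (72, 0, 0), (0, 0, 0), (0, 0, 0), (9, 0, 0), (65, 0, 0), (72, 0, 0), (0, 0, 0), (0, 0, 0), (1, 0, 0), (8, 0, 0), (9, 0, 0), (9, 0, 0), (64, 0, 0), (65, 0, 0), (65, 0, 0), (72, 0, 0), (72, 0, 0), (0, 0, 0), (0, 0, 0), (0, 0, 0), (9, 0, 0), (65, 0, 0), (72, 0, 0), (0, 0, 0), (0, 0, 0), (9, 0, 0), (65, 0, 0), (72, 0, 0), (0, 0, 0), (0, 0, 0), (1, 0, 0), (8, 0, 0), (9, 0, 0), (9, 0, 0), (64, 0, 0), (65, 0, 0), (65, 0, 0), (72, 0, 0), (72, 0, 0), (0, 0, 0), (1, 0,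 0), (8, 0, 0), (9, 0, 0), (9, 0, 0), (64, 0, 0), (65, 0, 0), (65, 0, 0), (72, 0, 0), (72, 0, 0), (0, 0, 0), (0, 0, 0), (1, 0, 0), (1, 0, 0), (8, 0, 0), (8, 0, 0), (9, 0, 0), (64, 0, 0), (64, 0, 0), (65, 0, 0), (72, 0, 0), (0, 0, 0), (1, 0, 0), (1, 0, 0), (8, 0, 0), (8, 0, 0), (9, 0, 0), (64, 0, 0), (64, 0, 0), (65, 0, 0), (72, 0, 0), (0, 0, 0), (0, 0, 0), (1, 0, 0), (8, 0, 0), (64, 0, 0), (0, 0, 0), (0, 0, 0), (1, 0, 0), (8, 0, 0), (64, 0, 0), (0, 0, 0), (0, 0, 0), (0, 0, 0), (0, 0, 0), (1, 0, 0), (8, 0, 0), (64, 0, 0), (0, 0, 0), (0, 0, 0), (0, 0, 0), (0, 0, 0), (9, 0, 0), (65, 0, 0), (72, 0, 0), (0, 0, 0), (0, 0, 0)], [], []],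
  [[], [], []],
  [[(0, 0, 0), (1, 0, 0), (1, 0, 0), (7, 0, 0), (8, 0, 0), (8, 0, 0), (56, 0, 0), (63, 0, 0), (64, 0, 0), (64, 0, 0), (9, 0, 0), (65, 0, 0), (72, 0, 0), (0, 0, 0), (0, 0, 0), (0, 0, 0), (9, 0, 0), (65, 0, 0), (72, 0, 0), (0, 0, 0), (0, 0, 0), (0, 0, 0), (9, 0, 0), (65, 0, 0), (72, 0, 0), (0, 0, 0), (0, 0, 0), (9, 0, 0), (65, 0, 0), (72, 0, 0), (0, 0, 0), (0, 0, 0), (1, 0, 0), (8, 0, 0), (9, 0, 0), (9, 0, 0), (64, 0, 0), (65, 0, 0), (65, 0, 0), (72, 0, 0), (72, 0, 0), (0, 0, 0), (0, 0, 0), (0, 0, 0), (9, 0, 0), (65, 0, 0), (72, 0, 0), (0, 0, 0), (0, 0, 0), (9, 0, 0), (65, 0, 0), (72, 0, 0), (0, 0, 0), (0, 0, 0), (1, 0, 0), (8, 0, 0), (9, 0, 0), (9, 0, 0), (64, 0, 0), (65, 0, 0), (65, 0, 0), (72, 0, 0), (72, 0, 0), (0,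 0, 0), (1, 0, 0), (8, 0, 0), (9, 0, 0), (9, 0, 0), (64, 0, 0), (65, 0, 0), (65, 0, 0), (72, 0, 0), (72, 0, 0), (0, 0, 0), (0, 0, 0), (1, 0, 0), (1, 0, 0), (8, 0, 0), (8, 0, 0), (9, 0, 0), (64, 0, 0), (64, 0, 0), (65, 0, 0), (72, 0, 0), (0, 0, 0), (1, 0, 0), (1, 0, 0), (8, 0, 0), (8, 0, 0), (9, 0, 0), (64, 0, 0), (64, 0, 0), (65, 0, 0), (72, 0, 0), (0, 0, 0), (0, 0, 0), (1, 0, 0), (8, 0, 0), (64, 0, 0), (0, 0, 0), (0, 0, 0), (1, 0, 0), (8, 0, 0), (64, 0, 0), (0, 0, 0), (0, 0, 0), (0, 0, 0), (0, 0, 0), (1, 0, 0), (8, 0, 0), (64, 0, 0), (0, 0, 0), (0, 0, 0), (0, 0, 0), (0, 0, 0), (9, 0, 0), (65, 0, 0), (72, 0, 0), (0, 0, 0), (0, 0, 0)], [], []],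
  [[], [], []],
  [[], [], []],
  [[], [], []],
  [[], [], []],
  [[], [], []],
  [[], [], []],
  [[], [], []],
  [[], [], []],
  [[], [], []],
  [[], [], []],
  [[], [], []],
  [[], [], []],
  [[(0, 0, 0), (1, 0, 0), (1, 0, 0), (7, 0, 0), (8, 0, 0), (8, 0, 0), (56, 0, 0), (63, 0, 0), (64, 0, 0), (64, 0, 0), (9, 0, 0), (65, 0, 0), (72, 0, 0), (0, 0, 0), (0, 0, 0), (0, 0, 0), (9, 0, 0), (65, 0, 0), (72, 0, 0), (0, 0, 0), (0, 0, 0), (0, 0, 0), (9, 0, 0), (65, 0, 0), (72, 0, 0), (0, 0, 0), (0, 0, 0), (9, 0, 0), (65, 0, 0), (72, 0, 0), (0, 0, 0), (0, 0, 0), (1, 0, 0), (8, 0, 0), (9, 0, 0), (9, 0, 0), (64, 0, 0), (65, 0, 0), (65, 0, 0), (72, 0, 0), (72, 0, 0), (0, 0, 0), (0, 0, 0), (0, 0, 0), (9, 0, 0), (65, 0, 0), (72, 0, 0), (0, 0, 0),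 (0, 0, 0), (9, 0, 0), (65, 0, 0), (72, 0, 0), (0, 0, 0), (0, 0, 0), (1, 0, 0), (8, 0, 0), (9, 0, 0), (9, 0, 0), (64, 0, 0), (65, 0, 0), (65, 0, 0), (72, 0, 0), (72, 0, 0), (0, 0, 0), (1, 0, 0), (8, 0, 0), (9, 0, 0), (9, 0, 0), (64, 0, 0), (65, 0, 0), (65, 0, 0), (72, 0, 0), (72, 0, 0), (0, 0, 0), (0, 0, 0), (1, 0, 0), (1, 0, 0), (8, 0, 0), (8, 0, 0), (9, 0, 0), (64, 0, 0), (64, 0, 0), (65, 0, 0), (72, 0, 0), (0, 0, 0), (1, 0, 0), (1, 0, 0), (8, 0, 0), (8, 0, 0), (9, 0, 0), (64, 0, 0), (64, 0, 0), (65, 0, 0), (72, 0, 0), (0, 0, 0), (0, 0, 0), (1, 0, 0), (8, 0, 0), (64, 0, 0), (0, 0, 0), (0, 0, 0), (1, 0, 0), (8, 0, 0), (64, 0, 0), (0, 0, 0), (0, 0, 0), (0, 0, 0), (0, 0, 0), (1, 0, 0), (8, 0, 0), (64, 0, 0), (0, 0, 0), (0, 0, 0), (0,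 0, 0), (0, 0, 0), (9, 0, 0), (65, 0, 0), (72, 0, 0), (0, 0, 0), (0, 0, 0)], [], []],
  [[], [], []],
  [[(0, 0, 0), (1, 0, 0), (1, 0, 0), (7, 0, 0), (8, 0, 0), (8, 0, 0), (56, 0, 0), (63, 0, 0), (64, 0, 0), (64, 0, 0), (9, 0, 0), (65, 0, 0), (72, 0, 0), (0, 0, 0), (0, 0, 0), (0, 0, 0), (9, 0, 0), (65, 0, 0), (72, 0, 0), (0, 0, 0), (0, 0, 0), (0, 0, 0), (9, 0, 0), (65, 0, 0), (72, 0, 0), (0, 0, 0), (0, 0, 0), (9, 0, 0), (65, 0, 0), (72, 0, 0), (0, 0, 0), (0, 0, 0), (1, 0, 0), (8, 0, 0), (9, 0, 0), (9, 0, 0), (64, 0, 0), (65, 0, 0), (65, 0, 0), (72, 0, 0), (72, 0, 0), (0, 0, 0), (0, 0, 0), (0, 0, 0), (9, 0, 0), (65, 0, 0), (72, 0, 0), (0, 0, 0), (0, 0, 0), (9, 0, 0), (65, 0, 0), (72, 0, 0), (0, 0, 0), (0, 0, 0), (1, 0, 0), (8, 0, 0),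 (9, 0, 0), (9, 0, 0), (64, 0, 0), (65, 0, 0), (65, 0, 0), (72, 0, 0), (72, 0, 0), (0, 0, 0), (1, 0, 0), (8, 0, 0), (9, 0, 0), (9, 0, 0), (64, 0, 0), (65, 0, 0), (65, 0, 0), (72, 0, 0), (72, 0, 0), (0, 0, 0), (0, 0, 0), (1, 0, 0), (1, 0, 0), (8, 0, 0), (8, 0, 0), (9, 0, 0), (64, 0, 0), (64, 0, 0), (65, 0, 0), (72, 0, 0), (0, 0, 0), (1, 0, 0), (1, 0, 0), (8, 0, 0), (8, 0, 0), (9, 0, 0), (64, 0, 0), (64, 0, 0), (65, 0, 0), (72, 0, 0), (0, 0, 0), (0, 0, 0), (1, 0, 0), (8, 0, 0), (64, 0, 0), (0, 0, 0), (0, 0, 0), (1, 0, 0), (8, 0, 0), (64, 0, 0), (0, 0, 0), (0, 0, 0), (0, 0, 0), (0, 0, 0), (1, 0, 0), (8, 0, 0), (64, 0, 0), (0, 0, 0), (0, 0, 0), (0, 0, 0), (0, 0, 0), (9, 0, 0), (65, 0, 0), (72, 0, 0), (0, 0, 0), (0, 0, 0)], [], []],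
  [[], [], []],
  [[], [], []],
  [[(0, 0, 0), (1, 0, 0), (1, 0, 0), (7, 0, 0), (8, 0, 0), (8, 0, 0), (56, 0, 0), (63, 0, 0), (64, 0, 0), (64, 0, 0), (9, 0, 0), (65, 0, 0), (72, 0, 0), (0, 0, 0), (0, 0, 0), (0, 0, 0), (9, 0, 0), (65, 0, 0), (72, 0, 0), (0, 0, 0), (0, 0, 0), (0, 0, 0), (9, 0, 0), (65, 0, 0), (72, 0, 0), (0, 0, 0), (0, 0, 0), (9, 0, 0), (65, 0, 0), (72, 0, 0), (0, 0, 0), (0, 0, 0), (1, 0, 0), (8, 0, 0), (9, 0, 0), (9, 0, 0), (64, 0, 0), (65, 0, 0), (65, 0, 0), (72, 0, 0), (72, 0, 0), (0, 0, 0), (0, 0, 0), (0, 0, 0), (9, 0, 0), (65, 0, 0), (72, 0, 0), (0, 0, 0), (0, 0, 0), (9, 0, 0), (65, 0, 0), (72, 0, 0), (0, 0, 0), (0, 0, 0), (1, 0, 0), (8, 0, 0), (9, 0, 0), (9, 0, 0), (64, 0, 0), (65, 0, 0), (65, 0, 0), (72, 0, 0),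 (72, 0, 0), (0, 0, 0), (1, 0, 0), (8, 0, 0), (9, 0, 0), (9, 0, 0), (64, 0, 0), (65, 0, 0), (65, 0, 0), (72, 0, 0), (72, 0, 0), (0, 0, 0), (0, 0, 0), (1, 0, 0), (1, 0, 0), (8, 0, 0), (8, 0, 0), (9, 0, 0), (64, 0, 0), (64, 0, 0), (65, 0, 0), (72, 0, 0), (0, 0, 0), (1, 0, 0), (1, 0, 0), (8, 0, 0), (8, 0, 0), (9, 0, 0), (64, 0, 0), (64, 0, 0), (65, 0, 0), (72, 0, 0), (0, 0, 0), (0, 0, 0), (1, 0, 0), (8, 0, 0), (64, 0, 0), (0, 0, 0), (0, 0, 0), (1, 0, 0), (8, 0, 0), (64, 0, 0), (0, 0, 0), (0, 0, 0), (0, 0, 0), (0, 0, 0), (1, 0, 0), (8, 0, 0), (64, 0, 0), (0, 0, 0), (0, 0, 0), (0, 0, 0), (0, 0, 0), (9, 0, 0), (65, 0, 0), (72, 0, 0), (0, 0, 0), (0, 0, 0)], [], []],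
  [[], [], []],
  [[], [], []],
  [[], [], []],
  [[], [], []],
  [[], [], []],
  [[], [], []],
  [[], [], []],
  [[], [], []],
  [[], [], []],
  [[], [], []],
  [[(0, 0, 0), (1, 0, 0), (1, 0, 0), (63, 0, 0), (64, 0, 0), (64, 0, 0), (17, 0, 0), (7, 0, 0), (8, 0, 0), (8, 0, 0), (65, 0, 0), (9, 0, 0), (72, 0, 0), (0, 0, 0), (0, 0, 0), (0, 0, 0), (65, 0, 0), (9, 0, 0), (72, 0, 0), (0, 0, 0), (0, 0, 0), (0, 0, 0), (65, 0, 0), (9, 0, 0), (72, 0, 0), (0, 0, 0), (0, 0, 0), (65, 0, 0), (9, 0, 0), (72, 0, 0), (0, 0, 0), (0, 0, 0), (1, 0, 0), (64, 0, 0), (65, 0, 0), (65, 0, 0), (8, 0, 0), (9, 0, 0), (9, 0, 0), (72, 0, 0), (72, 0, 0), (0, 0, 0), (0, 0, 0), (0, 0, 0), (65, 0, 0), (9, 0, 0), (72, 0, 0), (0, 0, 0), (0, 0, 0), (65, 0, 0), (9, 0,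 0), (72, 0, 0), (0, 0, 0), (0, 0, 0), (1, 0, 0), (64, 0, 0), (65, 0, 0), (65, 0, 0), (8, 0, 0), (9, 0, 0), (9, 0, 0), (72, 0, 0), (72, 0, 0), (0, 0, 0), (1, 0, 0), (64, 0, 0), (65, 0, 0), (65, 0, 0), (8, 0, 0), (9, 0, 0), (9, 0, 0), (72, 0, 0), (72, 0, 0), (0, 0, 0), (0, 0, 0), (1, 0, 0), (1, 0, 0), (64, 0, 0), (64, 0, 0), (65, 0, 0), (8, 0, 0), (8, 0, 0), (9, 0, 0), (72, 0, 0), (0, 0, 0), (1, 0, 0), (1, 0, 0), (64, 0, 0), (64, 0, 0), (65, 0, 0), (8, 0, 0), (8, 0, 0), (9, 0, 0), (72, 0, 0), (0, 0, 0), (0, 0, 0), (1, 0, 0), (64, 0, 0), (8, 0, 0), (0, 0, 0), (0, 0, 0), (1, 0, 0), (64, 0, 0), (8, 0, 0), (0, 0, 0), (0, 0, 0), (0, 0, 0), (0, 0, 0), (1, 0, 0), (64, 0, 0), (8, 0, 0), (0, 0, 0), (0, 0, 0), (0, 0, 0), (0, 0, 0), (65, 0, 0),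 (9, 0, 0), (72, 0, 0), (0, 0, 0), (0, 0, 0)], [], []],
  [[(0, 0, 0), (1, 0, 0), (1, 0, 0), (7, 0, 0), (8, 0, 0), (8, 0, 0), (56, 0, 0), (63, 0, 0), (64, 0, 0), (64, 0, 0), (9, 0, 0), (65, 0, 0), (72, 0, 0), (0, 0, 0), (0, 0, 0), (0, 0, 0), (9, 0, 0), (65, 0, 0), (72, 0, 0), (0, 0, 0), (0, 0, 0), (0, 0, 0), (9, 0, 0), (65, 0, 0), (72, 0, 0), (0, 0, 0), (0, 0, 0), (9, 0, 0), (65, 0, 0), (72, 0, 0), (0, 0, 0), (0, 0, 0), (1, 0, 0), (8, 0, 0), (9, 0, 0), (9, 0, 0), (64, 0, 0), (65, 0, 0), (65, 0, 0), (72, 0, 0), (72, 0, 0), (0, 0, 0), (0, 0, 0), (0, 0, 0), (9, 0, 0), (65, 0, 0), (72, 0, 0), (0, 0, 0), (0, 0, 0), (9, 0, 0), (65, 0, 0), (72, 0, 0), (0, 0, 0), (0, 0, 0), (1, 0, 0), (8, 0, 0), (9, 0, 0), (9, 0, 0), (64, 0, 0), (65, 0, 0),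 (65, 0, 0), (72, 0, 0), (72, 0, 0), (0, 0, 0), (1, 0, 0), (8, 0, 0), (9, 0, 0), (9, 0, 0), (64, 0, 0), (65, 0, 0), (65, 0, 0), (72, 0, 0), (72, 0, 0), (0, 0, 0), (0, 0, 0), (1, 0, 0), (1, 0, 0), (8, 0, 0), (8, 0, 0), (9, 0, 0), (64, 0, 0), (64, 0, 0), (65, 0, 0), (72, 0, 0), (0, 0, 0), (1, 0, 0), (1, 0, 0), (8, 0, 0), (8, 0, 0), (9, 0, 0), (64, 0, 0), (64, 0, 0), (65, 0, 0), (72, 0, 0), (0, 0, 0), (0, 0, 0), (1, 0, 0), (8, 0, 0), (64, 0, 0), (0, 0, 0), (0, 0, 0), (1, 0, 0), (8, 0, 0), (64, 0, 0), (0, 0, 0), (0, 0, 0), (0, 0, 0), (0, 0, 0), (1, 0, 0), (8, 0, 0), (64, 0, 0), (0, 0, 0), (0, 0, 0), (0, 0, 0), (0, 0, 0), (9, 0, 0), (65, 0, 0), (72, 0, 0), (0, 0, 0), (0, 0, 0)], [], []],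
  [[], [], []],
  [[], [], []],
  [[(0, 0, 0), (1, 0, 0), (1, 0, 0), (7, 0, 0), (8, 0, 0), (8, 0, 0), (56, 0, 0), (63, 0, 0), (64, 0, 0), (64, 0, 0), (9, 0, 0), (65, 0, 0), (72, 0, 0), (0, 0, 0), (0, 0, 0), (0, 0, 0), (9, 0, 0), (65, 0, 0), (72, 0, 0), (0, 0, 0), (0, 0, 0), (0, 0, 0), (9, 0, 0), (65, 0, 0), (72, 0, 0), (0, 0, 0), (0, 0, 0), (9, 0, 0), (65, 0, 0), (72, 0, 0), (0, 0, 0), (0, 0, 0), (1, 0, 0), (8, 0, 0), (9, 0, 0), (9, 0, 0), (64, 0, 0), (65, 0, 0), (65, 0, 0), (72, 0, 0), (72, 0, 0), (0, 0, 0), (0, 0, 0), (0, 0, 0), (9, 0, 0), (65, 0, 0), (72, 0, 0), (0, 0, 0), (0, 0, 0), (9, 0, 0), (65, 0, 0), (72, 0, 0), (0, 0, 0), (0, 0, 0), (1, 0, 0), (8, 0, 0), (9, 0, 0), (9, 0, 0), (64, 0, 0), (65, 0, 0), (65, 0, 0), (72, 0, 0),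 (72, 0, 0), (0, 0, 0), (1, 0, 0), (8, 0, 0), (9, 0, 0), (9, 0, 0), (64, 0, 0), (65, 0, 0), (65, 0, 0), (72, 0, 0), (72, 0, 0), (0, 0, 0), (0, 0, 0), (1, 0, 0), (1, 0, 0), (8, 0, 0), (8, 0, 0), (9, 0, 0), (64, 0, 0), (64, 0, 0), (65, 0, 0), (72, 0, 0), (0, 0, 0), (1, 0, 0), (1, 0, 0), (8, 0, 0), (8, 0, 0), (9, 0, 0), (64, 0, 0), (64, 0, 0), (65, 0, 0), (72, 0, 0), (0, 0, 0), (0, 0, 0), (1, 0, 0), (8, 0, 0), (64, 0, 0), (0, 0, 0), (0, 0, 0), (1, 0, 0), (8, 0, 0), (64, 0, 0), (0, 0, 0), (0, 0, 0), (0, 0, 0), (0, 0, 0), (1, 0, 0), (8, 0, 0), (64, 0, 0), (0, 0, 0), (0, 0, 0), (0, 0, 0), (0, 0, 0), (9, 0, 0), (65, 0, 0), (72, 0, 0), (0, 0, 0), (0, 0, 0)], [], []],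
  [[(0, 0, 0), (1, 0, 0), (1, 0, 0), (7, 0, 0), (8, 0, 0), (8, 0, 0), (56, 0, 0), (63, 0, 0), (64, 0, 0), (64, 0, 0), (9, 0, 0), (65, 0, 0), (72, 0, 0), (0, 0, 0), (0, 0, 0), (0, 0, 0), (9, 0, 0), (65, 0, 0), (72, 0, 0), (0, 0, 0), (0, 0, 0), (0, 0, 0), (9, 0, 0), (65, 0, 0), (72, 0, 0), (0, 0, 0), (0, 0, 0), (9, 0, 0), (65, 0, 0), (72, 0, 0), (0, 0, 0), (0, 0, 0), (1, 0, 0), (8, 0, 0), (9, 0, 0), (9, 0, 0), (64, 0, 0), (65, 0, 0), (65, 0, 0), (72, 0, 0), (72, 0, 0), (0, 0, 0), (0, 0, 0), (0, 0, 0), (9, 0, 0), (65, 0, 0), (72, 0, 0), (0, 0, 0), (0, 0, 0), (9, 0, 0), (65, 0, 0), (72, 0, 0), (0, 0, 0), (0, 0, 0), (1, 0, 0), (8, 0, 0), (9, 0, 0), (9, 0, 0), (64, 0, 0), (65, 0, 0), (65, 0, 0), (72, 0, 0), (72, 0, 0), (0, 0, 0), (1, 0,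 0), (8, 0, 0), (9, 0, 0), (9, 0, 0), (64, 0, 0), (65, 0, 0), (65, 0, 0), (72, 0, 0), (72, 0, 0), (0, 0, 0), (0, 0, 0), (1, 0, 0), (1, 0, 0), (8, 0, 0), (8, 0, 0), (9, 0, 0), (64, 0, 0), (64, 0, 0), (65, 0, 0), (72, 0, 0), (0, 0, 0), (1, 0, 0), (1, 0, 0), (8, 0, 0), (8, 0, 0), (9, 0, 0), (64, 0, 0), (64, 0, 0), (65, 0, 0), (72, 0, 0), (0, 0, 0), (0, 0, 0), (1, 0, 0), (8, 0, 0), (64, 0, 0), (0, 0, 0), (0, 0, 0), (1, 0, 0), (8, 0, 0), (64, 0, 0), (0, 0, 0), (0, 0, 0), (0, 0, 0), (0, 0, 0), (1, 0, 0), (8, 0, 0), (64, 0, 0), (0, 0, 0), (0, 0, 0), (0, 0, 0), (0, 0, 0), (9, 0, 0), (65, 0, 0), (72, 0, 0), (0, 0, 0), (0, 0, 0)], [], []],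
  [[], [], []],
  [[], [], []],
  [[], [], []],
  [[(0, 0, 0), (1, 0, 0), (1, 0, 0), (63, 0, 0), (64, 0, 0), (64, 0, 0), (17, 0, 0), (7, 0, 0), (8, 0, 0), (8, 0, 0), (65, 0, 0), (9, 0, 0), (72, 0, 0), (0, 0, 0), (0, 0, 0), (0, 0, 0), (65, 0, 0), (9, 0, 0), (72, 0, 0), (0, 0, 0), (0, 0, 0), (0, 0, 0), (65, 0, 0), (9, 0, 0), (72, 0, 0), (0, 0, 0), (0, 0, 0), (65, 0, 0), (9, 0, 0), (72, 0, 0), (0, 0, 0), (0, 0, 0), (1, 0, 0), (64, 0, 0), (65, 0, 0), (65, 0, 0), (8, 0, 0), (9, 0, 0), (9, 0, 0), (72, 0, 0), (72, 0, 0), (0, 0, 0), (0, 0, 0), (0, 0, 0), (65, 0, 0), (9, 0, 0), (72, 0, 0), (0, 0, 0), (0, 0, 0), (65, 0, 0), (9, 0, 0), (72, 0, 0), (0, 0, 0), (0, 0, 0), (1, 0, 0), (64, 0, 0), (65, 0, 0), (65, 0, 0), (8, 0, 0), (9, 0, 0), (9,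 0, 0), (72, 0, 0), (72, 0, 0), (0, 0, 0), (1, 0, 0), (64, 0, 0), (65, 0, 0), (65, 0, 0), (8, 0, 0), (9, 0, 0), (9, 0, 0), (72, 0, 0), (72, 0, 0), (0, 0, 0), (0, 0, 0), (1, 0, 0), (1, 0, 0), (64, 0, 0), (64, 0, 0), (65, 0, 0), (8, 0, 0), (8, 0, 0), (9, 0, 0), (72, 0, 0), (0, 0, 0), (1, 0, 0), (1, 0, 0), (64, 0, 0), (64, 0, 0), (65, 0, 0), (8, 0, 0), (8, 0, 0), (9, 0, 0), (72, 0, 0), (0, 0, 0), (0, 0, 0), (1, 0, 0), (64, 0, 0), (8, 0, 0), (0, 0, 0), (0, 0, 0), (1, 0, 0), (64, 0, 0), (8, 0, 0), (0, 0, 0), (0, 0, 0), (0, 0, 0), (0, 0, 0), (1, 0, 0), (64, 0, 0), (8, 0, 0), (0, 0, 0), (0, 0, 0), (0, 0, 0), (0, 0, 0), (65, 0, 0), (9, 0, 0), (72, 0, 0), (0, 0, 0), (0, 0, 0)], [], []],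
  [[(0, 0, 0), (1, 0, 0), (1, 0, 0), (63, 0, 0), (64, 0, 0), (64, 0, 0), (17, 0, 0), (7, 0, 0), (8, 0, 0), (8, 0, 0), (65, 0, 0), (9, 0, 0), (72, 0, 0), (0, 0, 0), (0, 0, 0), (0, 0, 0), (65, 0, 0), (9, 0, 0), (72, 0, 0), (0, 0, 0), (0, 0, 0), (0, 0, 0), (65, 0, 0), (9, 0, 0), (72, 0, 0), (0, 0, 0), (0, 0, 0), (65, 0, 0), (9, 0, 0), (72, 0, 0), (0, 0, 0), (0, 0, 0), (1, 0, 0), (64, 0, 0), (65, 0, 0), (65, 0, 0), (8, 0, 0), (9, 0, 0), (9, 0, 0), (72, 0, 0), (72, 0, 0), (0, 0, 0), (0, 0, 0), (0, 0, 0), (65, 0, 0), (9, 0, 0), (72, 0, 0), (0, 0, 0), (0, 0, 0), (65, 0, 0), (9, 0, 0), (72, 0, 0), (0, 0, 0), (0, 0, 0), (1, 0, 0), (64, 0, 0), (65, 0, 0), (65, 0, 0), (8, 0, 0), (9, 0, 0), (9, 0, 0), (72, 0, 0), (72, 0, 0), (0, 0, 0), (1, 0,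 0), (64, 0, 0), (65, 0, 0), (65, 0, 0), (8, 0, 0), (9, 0, 0), (9, 0, 0), (72, 0, 0), (72, 0, 0), (0, 0, 0), (0, 0, 0), (1, 0, 0), (1, 0, 0), (64, 0, 0), (64, 0, 0), (65, 0, 0), (8, 0, 0), (8, 0, 0), (9, 0, 0), (72, 0, 0), (0, 0, 0), (1, 0, 0), (1, 0, 0), (64, 0, 0), (64, 0, 0), (65, 0, 0), (8, 0, 0), (8, 0, 0), (9, 0, 0), (72, 0, 0), (0, 0, 0), (0, 0, 0), (1, 0, 0), (64, 0, 0), (8, 0, 0), (0, 0, 0), (0, 0, 0), (1, 0, 0), (64, 0, 0), (8, 0, 0), (0, 0, 0), (0, 0, 0), (0, 0, 0), (0, 0, 0), (1, 0, 0), (64, 0, 0), (8, 0, 0), (0, 0, 0), (0, 0, 0), (0, 0, 0), (0, 0, 0), (65, 0, 0), (9, 0, 0), (72, 0, 0), (0, 0, 0), (0, 0, 0)], [], []],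
  [[], [], []],
  [[(0, 0, 0), (1, 0, 0), (1, 0, 0), (63, 0, 0), (64, 0, 0), (64, 0, 0), (17, 0, 0), (7, 0, 0), (8, 0, 0), (8, 0, 0), (65, 0, 0), (9, 0, 0), (72, 0, 0), (0, 0, 0), (0, 0, 0), (0, 0, 0), (65, 0, 0), (9, 0, 0), (72, 0, 0), (0, 0, 0), (0, 0, 0), (0, 0, 0), (65, 0, 0), (9, 0, 0), (72, 0, 0), (0, 0, 0), (0, 0, 0), (65, 0, 0), (9, 0, 0), (72, 0, 0), (0, 0, 0), (0, 0, 0), (1, 0, 0), (64, 0, 0), (65, 0, 0), (65, 0, 0), (8, 0, 0), (9, 0, 0), (9, 0, 0), (72, 0, 0), (72, 0, 0), (0, 0, 0), (0, 0, 0), (0, 0, 0), (65, 0, 0), (9, 0, 0), (72, 0, 0), (0, 0, 0), (0, 0, 0), (65, 0, 0), (9, 0, 0), (72, 0, 0), (0, 0, 0), (0, 0, 0), (1, 0, 0), (64, 0, 0), (65, 0, 0), (65, 0, 0), (8, 0, 0), (9, 0, 0), (9, 0, 0), (72, 0, 0), (72, 0, 0), (0,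 0, 0), (1, 0, 0), (64, 0, 0), (65, 0, 0), (65, 0, 0), (8, 0, 0), (9, 0, 0), (9, 0, 0), (72, 0, 0), (72, 0, 0), (0, 0, 0), (0, 0, 0), (1, 0, 0), (1, 0, 0), (64, 0, 0), (64, 0, 0), (65, 0, 0), (8, 0, 0), (8, 0, 0), (9, 0, 0), (72, 0, 0), (0, 0, 0), (1, 0, 0), (1, 0, 0), (64, 0, 0), (64, 0, 0), (65, 0, 0), (8, 0, 0), (8, 0, 0), (9, 0, 0), (72, 0, 0), (0, 0, 0), (0, 0, 0), (1, 0, 0), (64, 0, 0), (8, 0, 0), (0, 0, 0), (0, 0, 0), (1, 0, 0), (64, 0, 0), (8, 0, 0), (0, 0, 0), (0, 0, 0), (0, 0, 0), (0, 0, 0), (1, 0, 0), (64, 0, 0), (8, 0, 0), (0, 0, 0), (0, 0, 0), (0, 0, 0), (0, 0, 0), (65, 0, 0), (9, 0, 0), (72, 0, 0), (0, 0, 0), (0, 0, 0)], [], []],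
  [[], [], []],
  [[(0, 0, 0), (1, 0, 0), (1, 0, 0), (7, 0, 0), (8, 0, 0), (8, 0, 0), (56, 0, 0), (63, 0, 0), (64, 0, 0), (64, 0, 0), (9, 0, 0), (65, 0, 0), (72, 0, 0), (0, 0, 0), (0, 0, 0), (0, 0, 0), (9, 0, 0), (65, 0, 0), (72, 0, 0), (0, 0, 0), (0, 0, 0), (0, 0, 0), (9, 0, 0), (65, 0, 0), (72, 0, 0), (0, 0, 0), (0, 0, 0), (9, 0, 0), (65, 0, 0), (72, 0, 0), (0, 0, 0), (0, 0, 0), (1, 0, 0), (8, 0, 0), (9, 0, 0), (9, 0, 0), (64, 0, 0), (65, 0, 0), (65, 0, 0), (72, 0, 0), (72, 0, 0), (0, 0, 0), (0, 0, 0), (0, 0, 0), (9, 0, 0), (65, 0, 0), (72, 0, 0), (0, 0, 0), (0, 0, 0), (9, 0, 0), (65, 0, 0), (72, 0, 0), (0, 0, 0), (0, 0, 0), (1, 0, 0), (8, 0, 0), (9, 0, 0), (9, 0, 0), (64, 0, 0), (65, 0, 0), (65, 0, 0), (72, 0, 0), (72, 0, 0), (0,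 0, 0), (1, 0, 0), (8, 0, 0), (9, 0, 0), (9, 0, 0), (64, 0, 0), (65, 0, 0), (65, 0, 0), (72, 0, 0), (72, 0, 0), (0, 0, 0), (0, 0, 0), (1, 0, 0), (1, 0, 0), (8, 0, 0), (8, 0, 0), (9, 0, 0), (64, 0, 0), (64, 0, 0), (65, 0, 0), (72, 0, 0), (0, 0, 0), (1, 0, 0), (1, 0, 0), (8, 0, 0), (8, 0, 0), (9, 0, 0), (64, 0, 0), (64, 0, 0), (65, 0, 0), (72, 0, 0), (0, 0, 0), (0, 0, 0), (1, 0, 0), (8, 0, 0), (64, 0, 0), (0, 0, 0), (0, 0, 0), (1, 0, 0), (8, 0, 0), (64, 0, 0), (0, 0, 0), (0, 0, 0), (0, 0, 0), (0, 0, 0), (1, 0, 0), (8, 0, 0), (64, 0, 0), (0, 0, 0), (0, 0, 0), (0, 0, 0), (0, 0, 0), (9, 0, 0), (65, 0, 0), (72, 0, 0), (0, 0, 0), (0, 0, 0)], [], []],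
  [[], [], []],
  [[(0, 0, 0), (1, 0, 0), (1, 0, 0), (7, 0, 0), (8, 0, 0), (8, 0, 0), (56, 0, 0), (63, 0, 0), (64, 0, 0), (64, 0, 0), (9, 0, 0), (65, 0, 0), (72, 0, 0), (0, 0, 0), (0, 0, 0), (0, 0, 0), (9, 0, 0), (65, 0, 0), (72, 0, 0), (0, 0, 0), (0, 0, 0), (0, 0, 0), (9, 0, 0), (65, 0, 0), (72, 0, 0), (0, 0, 0), (0, 0, 0), (9, 0, 0), (65, 0, 0), (72, 0, 0), (0, 0, 0), (0, 0, 0), (1, 0, 0), (8, 0, 0), (9, 0, 0), (9, 0, 0), (64, 0, 0), (65, 0, 0), (65, 0, 0), (72, 0, 0), (72, 0, 0), (0, 0, 0), (0, 0, 0), (0, 0, 0), (9, 0, 0), (65, 0, 0), (72, 0, 0), (0, 0, 0), (0, 0, 0), (9, 0, 0), (65, 0, 0), (72, 0, 0), (0, 0, 0), (0, 0, 0), (1, 0, 0), (8, 0, 0), (9, 0, 0), (9, 0, 0), (64, 0, 0), (65, 0, 0), (65, 0, 0), (72, 0, 0), (72, 0, 0), (0,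 0, 0), (1, 0, 0), (8, 0, 0), (9, 0, 0), (9, 0, 0), (64, 0, 0), (65, 0, 0), (65, 0, 0), (72, 0, 0), (72, 0, 0), (0, 0, 0), (0, 0, 0), (1, 0, 0), (1, 0, 0), (8, 0, 0), (8, 0, 0), (9, 0, 0), (64, 0, 0), (64, 0, 0), (65, 0, 0), (72, 0, 0), (0, 0, 0), (1, 0, 0), (1, 0, 0), (8, 0, 0), (8, 0, 0), (9, 0, 0), (64, 0, 0), (64, 0, 0), (65, 0, 0), (72, 0, 0), (0, 0, 0), (0, 0, 0), (1, 0, 0), (8, 0, 0), (64, 0, 0), (0, 0, 0), (0, 0, 0), (1, 0, 0), (8, 0, 0), (64, 0, 0), (0, 0, 0), (0, 0, 0), (0, 0, 0), (0, 0, 0), (1, 0, 0), (8, 0, 0), (64, 0, 0), (0, 0, 0), (0, 0, 0), (0, 0, 0), (0, 0, 0), (9, 0, 0), (65, 0, 0), (72, 0, 0), (0, 0, 0), (0, 0, 0)], [], []],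
  [[], [], []],
  [[], [], []],
  [[], [], []],
  [[], [], []],
  [[], [], []],
  [[], [], []],
  [[], [], []],
  [[], [], []],
  [[(0, 0, 0), (1, 0, 0), (1, 0, 0), (63, 0, 0), (64, 0, 0), (64, 0, 0), (17, 0, 0), (7, 0, 0), (8, 0, 0), (8, 0, 0), (65, 0, 0), (9, 0, 0), (72, 0, 0), (0, 0, 0), (0, 0, 0), (0, 0, 0), (65, 0, 0), (9, 0, 0), (72, 0, 0), (0, 0, 0), (0, 0, 0), (0, 0, 0), (65, 0, 0), (9, 0, 0), (72, 0, 0), (0, 0, 0), (0, 0, 0), (65, 0, 0), (9, 0, 0), (72, 0, 0), (0, 0, 0), (0, 0, 0), (1, 0, 0), (64, 0, 0), (65, 0, 0), (65, 0, 0), (8, 0, 0), (9, 0, 0), (9, 0, 0), (72, 0, 0), (72, 0, 0), (0, 0, 0), (0, 0, 0), (0, 0, 0), (65, 0, 0), (9, 0, 0), (72, 0, 0), (0, 0, 0), (0, 0, 0), (65, 0, 0), (9, 0, 0), (72, 0, 0), (0, 0, 0), (0,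 0, 0), (1, 0, 0), (64, 0, 0), (65, 0, 0), (65, 0, 0), (8, 0, 0), (9, 0, 0), (9, 0, 0), (72, 0, 0), (72, 0, 0), (0, 0, 0), (1, 0, 0), (64, 0, 0), (65, 0, 0), (65, 0, 0), (8, 0, 0), (9, 0, 0), (9, 0, 0), (72, 0, 0), (72, 0, 0), (0, 0, 0), (0, 0, 0), (1, 0, 0), (1, 0, 0), (64, 0, 0), (64, 0, 0), (65, 0, 0), (8, 0, 0), (8, 0, 0), (9, 0, 0), (72, 0, 0), (0, 0, 0), (1, 0, 0), (1, 0, 0), (64, 0, 0), (64, 0, 0), (65, 0, 0), (8, 0, 0), (8, 0, 0), (9, 0, 0), (72, 0, 0), (0, 0, 0), (0, 0, 0), (1, 0, 0), (64, 0, 0), (8, 0, 0), (0, 0, 0), (0, 0, 0), (1, 0, 0), (64, 0, 0), (8, 0, 0), (0, 0, 0), (0, 0, 0), (0, 0, 0), (0, 0, 0), (1, 0, 0), (64, 0, 0), (8, 0, 0), (0, 0, 0), (0, 0, 0), (0, 0, 0), (0, 0, 0), (65, 0, 0), (9, 0, 0), (72, 0, 0), (0, 0,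 0), (0, 0, 0)], [], []],
  [[], [], []],
  [[(0, 0, 0), (1, 0, 0), (1, 0, 0), (63, 0, 0), (64, 0, 0), (64, 0, 0), (17, 0, 0), (7, 0, 0), (8, 0, 0), (8, 0, 0), (65, 0, 0), (9, 0, 0), (72, 0, 0), (0, 0, 0), (0, 0, 0), (0, 0, 0), (65, 0, 0), (9, 0, 0), (72, 0, 0), (0, 0, 0), (0, 0, 0), (0, 0, 0), (65, 0, 0), (9, 0, 0), (72, 0, 0), (0, 0, 0), (0, 0, 0), (65, 0, 0), (9, 0, 0), (72, 0, 0), (0, 0, 0), (0, 0, 0), (1, 0, 0), (64, 0, 0), (65, 0, 0), (65, 0, 0), (8, 0, 0), (9, 0, 0), (9, 0, 0), (72, 0, 0), (72, 0, 0), (0, 0, 0), (0, 0, 0), (0, 0, 0), (65, 0, 0), (9, 0, 0), (72, 0, 0), (0, 0, 0), (0, 0, 0), (65, 0, 0), (9, 0, 0), (72, 0, 0), (0, 0, 0), (0, 0, 0), (1, 0, 0), (64, 0, 0), (65, 0, 0), (65, 0, 0), (8, 0, 0), (9, 0, 0), (9, 0, 0),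 (72, 0, 0), (72, 0, 0), (0, 0, 0), (1, 0, 0), (64, 0, 0), (65, 0, 0), (65, 0, 0), (8, 0, 0), (9, 0, 0), (9, 0, 0), (72, 0, 0), (72, 0, 0), (0, 0, 0), (0, 0, 0), (1, 0, 0), (1, 0, 0), (64, 0, 0), (64, 0, 0), (65, 0, 0), (8, 0, 0), (8, 0, 0), (9, 0, 0), (72, 0, 0), (0, 0, 0), (1, 0, 0), (1, 0, 0), (64, 0, 0), (64, 0, 0), (65, 0, 0), (8, 0, 0), (8, 0, 0), (9, 0, 0), (72, 0, 0), (0, 0, 0), (0, 0, 0), (1, 0, 0), (64, 0, 0), (8, 0, 0), (0, 0, 0), (0, 0, 0), (1, 0, 0), (64, 0, 0), (8, 0, 0), (0, 0, 0), (0, 0, 0), (0, 0, 0), (0, 0, 0), (1, 0, 0), (64, 0, 0), (8, 0, 0), (0, 0, 0), (0, 0, 0), (0, 0, 0), (0, 0, 0), (65, 0, 0), (9, 0, 0), (72, 0, 0), (0, 0, 0), (0, 0, 0)], [], []],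
  [[], [], []],
  [[], [], []],
  [[(0, 0, 0), (1, 0, 0), (1, 0, 0), (63, 0, 0), (64, 0, 0), (64, 0, 0), (17, 0, 0), (7, 0, 0), (8, 0, 0), (8, 0, 0), (65, 0, 0), (9, 0, 0), (72, 0, 0), (0, 0, 0), (0, 0, 0), (0, 0, 0), (65, 0, 0), (9, 0, 0), (72, 0, 0), (0, 0, 0), (0, 0, 0), (0, 0, 0), (65, 0, 0), (9, 0, 0), (72, 0, 0), (0, 0, 0), (0, 0, 0), (65, 0, 0), (9, 0, 0), (72, 0, 0), (0, 0, 0), (0, 0, 0), (1, 0, 0), (64, 0, 0), (65, 0, 0), (65, 0, 0), (8, 0, 0), (9, 0, 0), (9, 0, 0), (72, 0, 0), (72, 0, 0), (0, 0, 0), (0, 0, 0), (0, 0, 0), (65, 0, 0), (9, 0, 0), (72, 0, 0), (0, 0, 0), (0, 0, 0), (65, 0, 0), (9, 0, 0), (72, 0, 0), (0, 0, 0), (0, 0, 0), (1, 0, 0), (64, 0, 0), (65, 0, 0), (65, 0, 0), (8, 0, 0), (9, 0, 0), (9, 0, 0), (72, 0, 0),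 (72, 0, 0), (0, 0, 0), (1, 0, 0), (64, 0, 0), (65, 0, 0), (65, 0, 0), (8, 0, 0), (9, 0, 0), (9, 0, 0), (72, 0, 0), (72, 0, 0), (0, 0, 0), (0, 0, 0), (1, 0, 0), (1, 0, 0), (64, 0, 0), (64, 0, 0), (65, 0, 0), (8, 0, 0), (8, 0, 0), (9, 0, 0), (72, 0, 0), (0, 0, 0), (1, 0, 0), (1, 0, 0), (64, 0, 0), (64, 0, 0), (65, 0, 0), (8, 0, 0), (8, 0, 0), (9, 0, 0), (72, 0, 0), (0, 0, 0), (0, 0, 0), (1, 0, 0), (64, 0, 0), (8, 0, 0), (0, 0, 0), (0, 0, 0), (1, 0, 0), (64, 0, 0), (8, 0, 0), (0, 0, 0), (0, 0, 0), (0, 0, 0), (0, 0, 0), (1, 0, 0), (64, 0, 0), (8, 0, 0), (0, 0, 0), (0, 0, 0), (0, 0, 0), (0, 0, 0), (65, 0, 0), (9, 0, 0), (72, 0, 0), (0, 0, 0), (0, 0, 0)], [], []],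
  [[(0, 0, 0), (1, 0, 0), (1, 0, 0), (7, 0, 0), (8, 0, 0), (8, 0, 0), (56, 0, 0), (63, 0, 0), (64, 0, 0), (64, 0, 0), (9, 0, 0), (65, 0, 0), (72, 0, 0), (0, 0, 0), (0, 0, 0), (0, 0, 0), (9, 0, 0), (65, 0, 0), (72, 0, 0), (0, 0, 0), (0, 0, 0), (0, 0, 0), (9, 0, 0), (65, 0, 0), (72, 0, 0), (0, 0, 0), (0, 0, 0), (9, 0, 0), (65, 0, 0), (72, 0, 0), (0, 0, 0), (0, 0, 0), (1, 0, 0), (8, 0, 0), (9, 0, 0), (9, 0, 0), (64, 0, 0), (65, 0, 0), (65, 0, 0), (72, 0, 0), (72, 0, 0), (0, 0, 0), (0, 0, 0), (0, 0, 0), (9, 0, 0), (65, 0, 0), (72, 0, 0), (0, 0, 0), (0, 0, 0), (9, 0, 0), (65, 0, 0), (72, 0, 0), (0, 0, 0), (0, 0, 0), (1, 0, 0), (8, 0, 0), (9, 0, 0), (9, 0, 0), (64, 0, 0), (65, 0, 0), (65, 0, 0), (72, 0, 0), (72, 0, 0), (0, 0, 0), (1, 0,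 0), (8, 0, 0), (9, 0, 0), (9, 0, 0), (64, 0, 0), (65, 0, 0), (65, 0, 0), (72, 0, 0), (72, 0, 0), (0, 0, 0), (0, 0, 0), (1, 0, 0), (1, 0, 0), (8, 0, 0), (8, 0, 0), (9, 0, 0), (64, 0, 0), (64, 0, 0), (65, 0, 0), (72, 0, 0), (0, 0, 0), (1, 0, 0), (1, 0, 0), (8, 0, 0), (8, 0, 0), (9, 0, 0), (64, 0, 0), (64, 0, 0), (65, 0, 0), (72, 0, 0), (0, 0, 0), (0, 0, 0), (1, 0, 0), (8, 0, 0), (64, 0, 0), (0, 0, 0), (0, 0, 0), (1, 0, 0), (8, 0, 0), (64, 0, 0), (0, 0, 0), (0, 0, 0), (0, 0, 0), (0, 0, 0), (1, 0, 0), (8, 0, 0), (64, 0, 0), (0, 0, 0), (0, 0, 0), (0, 0, 0), (0, 0, 0), (9, 0, 0), (65, 0, 0), (72, 0, 0), (0, 0, 0), (0, 0, 0)], [], []],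
  [[], [], []],
  [[], [], []],
  [[], [], []],
  [[], [], []],
  [[], [], []],
  [[], [], []],
  [[], [], []],
  [[(0, 0, 0), (1, 0, 0), (1, 0, 0), (63, 0, 0), (64, 0, 0), (64, 0, 0), (17, 0, 0), (7, 0, 0), (8, 0, 0), (8, 0, 0), (65, 0, 0), (9, 0, 0), (72, 0, 0), (0, 0, 0), (0, 0, 0), (0, 0, 0), (65, 0, 0), (9, 0, 0), (72, 0, 0), (0, 0, 0), (0, 0, 0), (0, 0, 0), (65, 0, 0), (9, 0, 0), (72, 0, 0), (0, 0, 0), (0, 0, 0), (65, 0, 0), (9, 0, 0), (72, 0, 0), (0, 0, 0), (0, 0, 0), (1, 0, 0), (64, 0, 0), (65, 0, 0), (65, 0, 0), (8, 0, 0), (9, 0, 0), (9, 0, 0), (72, 0, 0), (72, 0, 0), (0, 0, 0), (0, 0, 0), (0, 0, 0), (65, 0, 0), (9, 0, 0), (72, 0, 0), (0, 0, 0), (0, 0, 0), (65, 0, 0), (9, 0, 0), (72, 0, 0), (0, 0, 0), (0, 0, 0), (1, 0, 0),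 (64, 0, 0), (65, 0, 0), (65, 0, 0), (8, 0, 0), (9, 0, 0), (9, 0, 0), (72, 0, 0), (72, 0, 0), (0, 0, 0), (1, 0, 0), (64, 0, 0), (65, 0, 0), (65, 0, 0), (8, 0, 0), (9, 0, 0), (9, 0, 0), (72, 0, 0), (72, 0, 0), (0, 0, 0), (0, 0, 0), (1, 0, 0), (1, 0, 0), (64, 0, 0), (64, 0, 0), (65, 0, 0), (8, 0, 0), (8, 0, 0), (9, 0, 0), (72, 0, 0), (0, 0, 0), (1, 0, 0), (1, 0, 0), (64, 0, 0), (64, 0, 0), (65, 0, 0), (8, 0, 0), (8, 0, 0), (9, 0, 0), (72, 0, 0), (0, 0, 0), (0, 0, 0), (1, 0, 0), (64, 0, 0), (8, 0, 0), (0, 0, 0), (0, 0, 0), (1, 0, 0), (64, 0, 0), (8, 0, 0), (0, 0, 0), (0, 0, 0), (0, 0, 0), (0, 0, 0), (1, 0, 0), (64, 0, 0), (8, 0, 0), (0, 0, 0), (0, 0, 0), (0, 0, 0), (0, 0, 0), (65, 0, 0), (9, 0, 0), (72, 0, 0), (0, 0, 0), (0, 0, 0)], [],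 []],
  [[], [], []],
  [[], [], []],
  [[(0, 0, 0), (1, 0, 0), (1, 0, 0), (63, 0, 0), (64, 0, 0), (64, 0, 0), (17, 0, 0), (7, 0, 0), (8, 0, 0), (8, 0, 0), (65, 0, 0), (9, 0, 0), (72, 0, 0), (0, 0, 0), (0, 0, 0), (0, 0, 0), (65, 0, 0), (9, 0, 0), (72, 0, 0), (0, 0, 0), (0, 0, 0), (0, 0, 0), (65, 0, 0), (9, 0, 0), (72, 0, 0), (0, 0, 0), (0, 0, 0), (65, 0, 0), (9, 0, 0), (72, 0, 0), (0, 0, 0), (0, 0, 0), (1, 0, 0), (64, 0, 0), (65, 0, 0), (65, 0, 0), (8, 0, 0), (9, 0, 0), (9, 0, 0), (72, 0, 0), (72, 0, 0), (0, 0, 0), (0, 0, 0), (0, 0, 0), (65, 0, 0), (9, 0, 0), (72, 0, 0), (0, 0, 0), (0, 0, 0), (65, 0, 0), (9, 0, 0), (72, 0, 0), (0, 0, 0), (0, 0, 0), (1, 0, 0), (64, 0, 0), (65, 0, 0), (65, 0, 0), (8, 0, 0), (9, 0, 0), (9, 0, 0), (72,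 0, 0), (72, 0, 0), (0, 0, 0), (1, 0, 0), (64, 0, 0), (65, 0, 0), (65, 0, 0), (8, 0, 0), (9, 0, 0), (9, 0, 0), (72, 0, 0), (72, 0, 0), (0, 0, 0), (0, 0, 0), (1, 0, 0), (1, 0, 0), (64, 0, 0), (64, 0, 0), (65, 0, 0), (8, 0, 0), (8, 0, 0), (9, 0, 0), (72, 0, 0), (0, 0, 0), (1, 0, 0), (1, 0, 0), (64, 0, 0), (64, 0, 0), (65, 0, 0), (8, 0, 0), (8, 0, 0), (9, 0, 0), (72, 0, 0), (0, 0, 0), (0, 0, 0), (1, 0, 0), (64, 0, 0), (8, 0, 0), (0, 0, 0), (0, 0, 0), (1, 0, 0), (64, 0, 0), (8, 0, 0), (0, 0, 0), (0, 0, 0), (0, 0, 0), (0, 0, 0), (1, 0, 0), (64, 0, 0), (8, 0, 0), (0, 0, 0), (0, 0, 0), (0, 0, 0), (0, 0, 0), (65, 0, 0), (9, 0, 0), (72, 0, 0), (0, 0, 0), (0, 0, 0)], [], []],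
  [[(0, 0, 0), (1, 0, 0), (1, 0, 0), (63, 0, 0), (64, 0, 0), (64, 0, 0), (17, 0, 0), (7, 0, 0), (8, 0, 0), (8, 0, 0), (65, 0, 0), (9, 0, 0), (72, 0, 0), (0, 0, 0), (0, 0, 0), (0, 0, 0), (65, 0, 0), (9, 0, 0), (72, 0, 0), (0, 0, 0), (0, 0, 0), (0, 0, 0), (65, 0, 0), (9, 0, 0), (72, 0, 0), (0, 0, 0), (0, 0, 0), (65, 0, 0), (9, 0, 0), (72, 0, 0), (0, 0, 0), (0, 0, 0), (1, 0, 0), (64, 0, 0), (65, 0, 0), (65, 0, 0), (8, 0, 0), (9, 0, 0), (9, 0, 0), (72, 0, 0), (72, 0, 0), (0, 0, 0), (0, 0, 0), (0, 0, 0), (65, 0, 0), (9, 0, 0), (72, 0, 0), (0, 0, 0), (0, 0, 0), (65, 0, 0), (9, 0, 0), (72, 0, 0), (0, 0, 0), (0, 0, 0), (1, 0, 0), (64, 0, 0), (65, 0, 0), (65, 0, 0), (8, 0, 0), (9, 0, 0), (9, 0, 0), (72, 0, 0), (72, 0, 0), (0, 0, 0), (1, 0,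 0), (64, 0, 0), (65, 0, 0), (65, 0, 0), (8, 0, 0), (9, 0, 0), (9, 0, 0), (72, 0, 0), (72, 0, 0), (0, 0, 0), (0, 0, 0), (1, 0, 0), (1, 0, 0), (64, 0, 0), (64, 0, 0), (65, 0, 0), (8, 0, 0), (8, 0, 0), (9, 0, 0), (72, 0, 0), (0, 0, 0), (1, 0, 0), (1, 0, 0), (64, 0, 0), (64, 0, 0), (65, 0, 0), (8, 0, 0), (8, 0, 0), (9, 0, 0), (72, 0, 0), (0, 0, 0), (0, 0, 0), (1, 0, 0), (64, 0, 0), (8, 0, 0), (0, 0, 0), (0, 0, 0), (1, 0, 0), (64, 0, 0), (8, 0, 0), (0, 0, 0), (0, 0, 0), (0, 0, 0), (0, 0, 0), (1, 0, 0), (64, 0, 0), (8, 0, 0), (0, 0, 0), (0, 0, 0), (0, 0, 0), (0, 0, 0), (65, 0, 0), (9, 0, 0), (72, 0, 0), (0, 0, 0), (0, 0, 0)], [], []],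
  [[], [], []],
  [[], [], []],
  [[], [], []],
  [[], [], []],
  [[(0, 0, 0), (1, 0, 0), (1, 0, 0), (63, 0, 0), (64, 0, 0), (64, 0, 0), (17, 0, 0), (7, 0, 0), (8, 0, 0), (8, 0, 0), (65, 0, 0), (9, 0, 0), (72, 0, 0), (0, 0, 0), (0, 0, 0), (0, 0, 0), (65, 0, 0), (9, 0, 0), (72, 0, 0), (0, 0, 0), (0, 0, 0), (0, 0, 0), (65, 0, 0), (9, 0, 0), (72, 0, 0), (0, 0, 0), (0, 0, 0), (65, 0, 0), (9, 0, 0), (72, 0, 0), (0, 0, 0), (0, 0, 0), (1, 0, 0), (64, 0, 0), (65, 0, 0), (65, 0, 0), (8, 0, 0), (9, 0, 0), (9, 0, 0), (72, 0, 0), (72, 0, 0), (0, 0, 0), (0, 0, 0), (0, 0, 0), (65, 0, 0), (9, 0, 0), (72, 0, 0), (0, 0, 0), (0, 0, 0), (65, 0, 0), (9, 0, 0), (72, 0, 0), (0, 0, 0), (0, 0, 0), (1, 0, 0), (64, 0, 0), (65, 0, 0), (65, 0, 0), (8, 0, 0),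 (9, 0, 0), (9, 0, 0), (72, 0, 0), (72, 0, 0), (0, 0, 0), (1, 0, 0), (64, 0, 0), (65, 0, 0), (65, 0, 0), (8, 0, 0), (9, 0, 0), (9, 0, 0), (72, 0, 0), (72, 0, 0), (0, 0, 0), (0, 0, 0), (1, 0, 0), (1, 0, 0), (64, 0, 0), (64, 0, 0), (65, 0, 0), (8, 0, 0), (8, 0, 0), (9, 0, 0), (72, 0, 0), (0, 0, 0), (1, 0, 0), (1, 0, 0), (64, 0, 0), (64, 0, 0), (65, 0, 0), (8, 0, 0), (8, 0, 0), (9, 0, 0), (72, 0, 0), (0, 0, 0), (0, 0, 0), (1, 0, 0), (64, 0, 0), (8, 0, 0), (0, 0, 0), (0, 0, 0), (1, 0, 0), (64, 0, 0), (8, 0, 0), (0, 0, 0), (0, 0, 0), (0, 0, 0), (0, 0, 0), (1, 0, 0), (64, 0, 0), (8, 0, 0), (0, 0, 0), (0, 0, 0), (0, 0, 0), (0, 0, 0), (65, 0, 0), (9, 0, 0), (72, 0, 0), (0, 0, 0), (0, 0, 0)], [], []],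
  [[], [], []],
  [[(0, 0, 0), (1, 0, 0), (1, 0, 0), (63, 0, 0), (64, 0, 0), (64, 0, 0), (17, 0, 0), (7, 0, 0), (8, 0, 0), (8, 0, 0), (65, 0, 0), (9, 0, 0), (72, 0, 0), (0, 0, 0), (0, 0, 0), (0, 0, 0), (65, 0, 0), (9, 0, 0), (72, 0, 0), (0, 0, 0), (0, 0, 0), (0, 0, 0), (65, 0, 0), (9, 0, 0), (72, 0, 0), (0, 0, 0), (0, 0, 0), (65, 0, 0), (9, 0, 0), (72, 0, 0), (0, 0, 0), (0, 0, 0), (1, 0, 0), (64, 0, 0), (65, 0, 0), (65, 0, 0), (8, 0, 0), (9, 0, 0), (9, 0, 0), (72, 0, 0), (72, 0, 0), (0, 0, 0), (0, 0, 0), (0, 0, 0), (65, 0, 0), (9, 0, 0), (72, 0, 0), (0, 0, 0), (0, 0, 0), (65, 0, 0), (9, 0, 0), (72, 0, 0), (0, 0, 0), (0, 0, 0), (1, 0, 0), (64, 0, 0), (65, 0, 0), (65, 0, 0), (8, 0, 0), (9, 0, 0), (9, 0, 0), (72, 0, 0), (72, 0, 0), (0,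 0, 0), (1, 0, 0), (64, 0, 0), (65, 0, 0), (65, 0, 0), (8, 0, 0), (9, 0, 0), (9, 0, 0), (72, 0, 0), (72, 0, 0), (0, 0, 0), (0, 0, 0), (1, 0, 0), (1, 0, 0), (64, 0, 0), (64, 0, 0), (65, 0, 0), (8, 0, 0), (8, 0, 0), (9, 0, 0), (72, 0, 0), (0, 0, 0), (1, 0, 0), (1, 0, 0), (64, 0, 0), (64, 0, 0), (65, 0, 0), (8, 0, 0), (8, 0, 0), (9, 0, 0), (72, 0, 0), (0, 0, 0), (0, 0, 0), (1, 0, 0), (64, 0, 0), (8, 0, 0), (0, 0, 0), (0, 0, 0), (1, 0, 0), (64, 0, 0), (8, 0, 0), (0, 0, 0), (0, 0, 0), (0, 0, 0), (0, 0, 0), (1, 0, 0), (64, 0, 0), (8, 0, 0), (0, 0, 0), (0, 0, 0), (0, 0, 0), (0, 0, 0), (65, 0, 0), (9, 0, 0), (72, 0, 0), (0, 0, 0), (0, 0, 0)], [], []],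
  [[], [], []],
  [[], [], []],
  [[], [], []],
  [[], [], []],
  [[], [], []],
  [[], [], []],
  [[(0, 0, 0), (1, 0, 0), (1, 0, 0), (7, 0, 0), (8, 0, 0), (8, 0, 0), (56, 0, 0), (63, 0, 0), (64, 0, 0), (64, 0, 0), (9, 0, 0), (65, 0, 0), (72, 0, 0), (0, 0, 0), (0, 0, 0), (0, 0, 0), (9, 0, 0), (65, 0, 0), (72, 0, 0), (0, 0, 0), (0, 0, 0), (0, 0, 0), (9, 0, 0), (65, 0, 0), (72, 0, 0), (0, 0, 0), (0, 0, 0), (9, 0, 0), (65, 0, 0), (72, 0, 0), (0, 0, 0), (0, 0, 0), (1, 0, 0), (8, 0, 0), (9, 0, 0), (9, 0, 0), (64, 0, 0), (65, 0, 0), (65, 0, 0), (72, 0, 0), (72, 0, 0), (0, 0, 0), (0, 0, 0), (0, 0, 0), (9, 0, 0), (65, 0, 0), (72, 0, 0), (0, 0, 0), (0, 0, 0), (9, 0, 0), (65, 0, 0), (72, 0, 0), (0, 0, 0), (0, 0, 0), (1, 0, 0), (8, 0, 0), (9,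 0, 0), (9, 0, 0), (64, 0, 0), (65, 0, 0), (65, 0, 0), (72, 0, 0), (72, 0, 0), (0, 0, 0), (1, 0, 0), (8, 0, 0), (9, 0, 0), (9, 0, 0), (64, 0, 0), (65, 0, 0), (65, 0, 0), (72, 0, 0), (72, 0, 0), (0, 0, 0), (0, 0, 0), (1, 0, 0), (1, 0, 0), (8, 0, 0), (8, 0, 0), (9, 0, 0), (64, 0, 0), (64, 0, 0), (65, 0, 0), (72, 0, 0), (0, 0, 0), (1, 0, 0), (1, 0, 0), (8, 0, 0), (8, 0, 0), (9, 0, 0), (64, 0, 0), (64, 0, 0), (65, 0, 0), (72, 0, 0), (0, 0, 0), (0, 0, 0), (1, 0, 0), (8, 0, 0), (64, 0, 0), (0, 0, 0), (0, 0, 0), (1, 0, 0), (8, 0, 0), (64, 0, 0), (0, 0, 0), (0, 0, 0), (0, 0, 0), (0, 0, 0), (1, 0, 0), (8, 0, 0), (64, 0, 0), (0, 0, 0), (0, 0, 0), (0, 0, 0), (0, 0, 0), (9, 0, 0), (65, 0, 0), (72, 0, 0), (0, 0, 0), (0, 0, 0)], [], []],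
  [[(0, 0, 0), (1, 0, 0), (1, 0, 0), (7, 0, 0), (8, 0, 0), (8, 0, 0), (56, 0, 0), (63, 0, 0), (64, 0, 0), (64, 0, 0), (9, 0, 0), (65, 0, 0), (72, 0, 0), (0, 0, 0), (0, 0, 0), (0, 0, 0), (9, 0, 0), (65, 0, 0), (72, 0, 0), (0, 0, 0), (0, 0, 0), (0, 0, 0), (9, 0, 0), (65, 0, 0), (72, 0, 0), (0, 0, 0), (0, 0, 0), (9, 0, 0), (65, 0, 0), (72, 0, 0), (0, 0, 0), (0, 0, 0), (1, 0, 0), (8, 0, 0), (9, 0, 0), (9, 0, 0), (64, 0, 0), (65, 0, 0), (65, 0, 0), (72, 0, 0), (72, 0, 0), (0, 0, 0), (0, 0, 0), (0, 0, 0), (9, 0, 0), (65, 0, 0), (72, 0, 0), (0, 0, 0), (0, 0, 0), (9, 0, 0), (65, 0, 0), (72, 0, 0), (0, 0, 0), (0, 0, 0), (1, 0, 0), (8, 0, 0), (9, 0, 0), (9, 0, 0), (64, 0, 0), (65, 0, 0), (65, 0, 0), (72, 0, 0), (72, 0, 0), (0, 0, 0), (1, 0,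 0), (8, 0, 0), (9, 0, 0), (9, 0, 0), (64, 0, 0), (65, 0, 0), (65, 0, 0), (72, 0, 0), (72, 0, 0), (0, 0, 0), (0, 0, 0), (1, 0, 0), (1, 0, 0), (8, 0, 0), (8, 0, 0), (9, 0, 0), (64, 0, 0), (64, 0, 0), (65, 0, 0), (72, 0, 0), (0, 0, 0), (1, 0, 0), (1, 0, 0), (8, 0, 0), (8, 0, 0), (9, 0, 0), (64, 0, 0), (64, 0, 0), (65, 0, 0), (72, 0, 0), (0, 0, 0), (0, 0, 0), (1, 0, 0), (8, 0, 0), (64, 0, 0), (0, 0, 0), (0, 0, 0), (1, 0, 0), (8, 0, 0), (64, 0, 0), (0, 0, 0), (0, 0, 0), (0, 0, 0), (0, 0, 0), (1, 0, 0), (8, 0, 0), (64, 0, 0), (0, 0, 0), (0, 0, 0), (0, 0, 0), (0, 0, 0), (9, 0, 0), (65, 0, 0), (72, 0, 0), (0, 0, 0), (0, 0, 0)], [], []],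
  [[], [], []],
  [[], [], []],
  [[], [], []],
  [[(0, 0, 0), (1, 0, 0), (1, 0, 0), (63, 0, 0), (64, 0, 0), (64, 0, 0), (17, 0, 0), (7, 0, 0), (8, 0, 0), (8, 0, 0), (65, 0, 0), (9, 0, 0), (72, 0, 0), (0, 0, 0), (0, 0, 0), (0, 0, 0), (65, 0, 0), (9, 0, 0), (72, 0, 0), (0, 0, 0), (0, 0, 0), (0, 0, 0), (65, 0, 0), (9, 0, 0), (72, 0, 0), (0, 0, 0), (0, 0, 0), (65, 0, 0), (9, 0, 0), (72, 0, 0), (0, 0, 0), (0, 0, 0), (1, 0, 0), (64, 0, 0), (65, 0, 0), (65, 0, 0), (8, 0, 0), (9, 0, 0), (9, 0, 0), (72, 0, 0), (72, 0, 0), (0, 0, 0), (0, 0, 0), (0, 0, 0), (65, 0, 0), (9, 0, 0), (72, 0, 0), (0, 0, 0), (0, 0, 0), (65, 0, 0), (9, 0, 0), (72, 0, 0), (0, 0, 0), (0, 0, 0), (1, 0, 0), (64, 0, 0), (65, 0, 0), (65, 0, 0), (8, 0, 0), (9, 0, 0), (9,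 0, 0), (72, 0, 0), (72, 0, 0), (0, 0, 0), (1, 0, 0), (64, 0, 0), (65, 0, 0), (65, 0, 0), (8, 0, 0), (9, 0, 0), (9, 0, 0), (72, 0, 0), (72, 0, 0), (0, 0, 0), (0, 0, 0), (1, 0, 0), (1, 0, 0), (64, 0, 0), (64, 0, 0), (65, 0, 0), (8, 0, 0), (8, 0, 0), (9, 0, 0), (72, 0, 0), (0, 0, 0), (1, 0, 0), (1, 0, 0), (64, 0, 0), (64, 0, 0), (65, 0, 0), (8, 0, 0), (8, 0, 0), (9, 0, 0), (72, 0, 0), (0, 0, 0), (0, 0, 0), (1, 0, 0), (64, 0, 0), (8, 0, 0), (0, 0, 0), (0, 0, 0), (1, 0, 0), (64, 0, 0), (8, 0, 0), (0, 0, 0), (0, 0, 0), (0, 0, 0), (0, 0, 0), (1, 0, 0), (64, 0, 0), (8, 0, 0), (0, 0, 0), (0, 0, 0), (0, 0, 0), (0, 0, 0), (65, 0, 0), (9, 0, 0), (72, 0, 0), (0, 0, 0), (0, 0, 0)], [], []],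
  [[], [], []],
  [[], [], []],
  [[], [], []],
  [[], [], []],
  [[], [], []],
  [[(0, 0, 0), (1, 0, 0), (1, 0, 0), (7, 0, 0), (8, 0, 0), (8, 0, 0), (56, 0, 0), (63, 0, 0), (64, 0, 0), (64, 0, 0), (9, 0, 0), (65, 0, 0), (72, 0, 0), (0, 0, 0), (0, 0, 0), (0, 0, 0), (9, 0, 0), (65, 0, 0), (72, 0, 0), (0, 0, 0), (0, 0, 0), (0, 0, 0), (9, 0, 0), (65, 0, 0), (72, 0, 0), (0, 0, 0), (0, 0, 0), (9, 0, 0), (65, 0, 0), (72, 0, 0), (0, 0, 0), (0, 0, 0), (1, 0, 0), (8, 0, 0), (9, 0, 0), (9, 0, 0), (64, 0, 0), (65, 0, 0), (65, 0, 0), (72, 0, 0), (72, 0, 0), (0, 0, 0), (0, 0, 0), (0, 0, 0), (9, 0, 0), (65, 0, 0), (72, 0, 0), (0, 0, 0), (0, 0, 0), (9, 0, 0), (65, 0, 0), (72, 0, 0), (0, 0, 0), (0, 0, 0), (1, 0, 0), (8, 0, 0), (9, 0, 0), (9, 0, 0),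 (64, 0, 0), (65, 0, 0), (65, 0, 0), (72, 0, 0), (72, 0, 0), (0, 0, 0), (1, 0, 0), (8, 0, 0), (9, 0, 0), (9, 0, 0), (64, 0, 0), (65, 0, 0), (65, 0, 0), (72, 0, 0), (72, 0, 0), (0, 0, 0), (0, 0, 0), (1, 0, 0), (1, 0, 0), (8, 0, 0), (8, 0, 0), (9, 0, 0), (64, 0, 0), (64, 0, 0), (65, 0, 0), (72, 0, 0), (0, 0, 0), (1, 0, 0), (1, 0, 0), (8, 0, 0), (8, 0, 0), (9, 0, 0), (64, 0, 0), (64, 0, 0), (65, 0, 0), (72, 0, 0), (0, 0, 0), (0, 0, 0), (1, 0, 0), (8, 0, 0), (64, 0, 0), (0, 0, 0), (0, 0, 0), (1, 0, 0), (8, 0, 0), (64, 0, 0), (0, 0, 0), (0, 0, 0), (0, 0, 0), (0, 0, 0), (1, 0, 0), (8, 0, 0), (64, 0, 0), (0, 0, 0), (0, 0, 0), (0, 0, 0), (0, 0, 0), (9, 0, 0), (65, 0, 0), (72, 0, 0), (0, 0, 0), (0, 0, 0)], [], []],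
  [[(0, 0, 0), (1, 0, 0), (1, 0, 0), (7, 0, 0), (8, 0, 0), (8, 0, 0), (56, 0, 0), (63, 0, 0), (64, 0, 0), (64, 0, 0), (9, 0, 0), (65, 0, 0), (72, 0, 0), (0, 0, 0), (0, 0, 0), (0, 0, 0), (9, 0, 0), (65, 0, 0), (72, 0, 0), (0, 0, 0), (0, 0, 0), (0, 0, 0), (9, 0, 0), (65, 0, 0), (72, 0, 0), (0, 0, 0), (0, 0, 0), (9, 0, 0), (65, 0, 0), (72, 0, 0), (0, 0, 0), (0, 0, 0), (1, 0, 0), (8, 0, 0), (9, 0, 0), (9, 0, 0), (64, 0, 0), (65, 0, 0), (65, 0, 0), (72, 0, 0), (72, 0, 0), (0, 0, 0), (0, 0, 0), (0, 0, 0), (9, 0, 0), (65, 0, 0), (72, 0, 0), (0, 0, 0), (0, 0, 0), (9, 0, 0), (65, 0, 0), (72, 0, 0), (0, 0, 0), (0, 0, 0), (1, 0, 0), (8, 0, 0), (9, 0, 0), (9, 0, 0), (64, 0, 0), (65, 0, 0), (65, 0, 0), (72, 0, 0), (72, 0, 0), (0, 0, 0), (1, 0,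 0), (8, 0, 0), (9, 0, 0), (9, 0, 0), (64, 0, 0), (65, 0, 0), (65, 0, 0), (72, 0, 0), (72, 0, 0), (0, 0, 0), (0, 0, 0), (1, 0, 0), (1, 0, 0), (8, 0, 0), (8, 0, 0), (9, 0, 0), (64, 0, 0), (64, 0, 0), (65, 0, 0), (72, 0, 0), (0, 0, 0), (1, 0, 0), (1, 0, 0), (8, 0, 0), (8, 0, 0), (9, 0, 0), (64, 0, 0), (64, 0, 0), (65, 0, 0), (72, 0, 0), (0, 0, 0), (0, 0, 0), (1, 0, 0), (8, 0, 0), (64, 0, 0), (0, 0, 0), (0, 0, 0), (1, 0, 0), (8, 0, 0), (64, 0, 0), (0, 0, 0), (0, 0, 0), (0, 0, 0), (0, 0, 0), (1, 0, 0), (8, 0, 0), (64, 0, 0), (0, 0, 0), (0, 0, 0), (0, 0, 0), (0, 0, 0), (9, 0, 0), (65, 0, 0), (72, 0, 0), (0, 0, 0), (0, 0, 0)], [], []],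
  [[], [], []],
  [[], [], []],
  [[], [], []],
  [[], [], []],
  [[(0, 0, 0), (1, 0, 0), (1, 0, 0), (7, 0, 0), (8, 0, 0), (8, 0, 0), (56, 0, 0), (63, 0, 0), (64, 0, 0), (64, 0, 0), (9, 0, 0), (65, 0, 0), (72, 0, 0), (0, 0, 0), (0, 0, 0), (0, 0, 0), (9, 0, 0), (65, 0, 0), (72, 0, 0), (0, 0, 0), (0, 0, 0), (0, 0, 0), (9, 0, 0), (65, 0, 0), (72, 0, 0), (0, 0, 0), (0, 0, 0), (9, 0, 0), (65, 0, 0), (72, 0, 0), (0, 0, 0), (0, 0, 0), (1, 0, 0), (8, 0, 0), (9, 0, 0), (9, 0, 0), (64, 0, 0), (65, 0, 0), (65, 0, 0), (72, 0, 0), (72, 0, 0), (0, 0, 0), (0, 0, 0), (0, 0, 0), (9, 0, 0), (65, 0, 0), (72, 0, 0), (0, 0, 0), (0, 0, 0), (9, 0, 0), (65, 0, 0), (72, 0, 0), (0, 0, 0), (0, 0, 0), (1, 0, 0), (8, 0, 0), (9, 0, 0), (9, 0, 0), (64, 0, 0), (65,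 0, 0), (65, 0, 0), (72, 0, 0), (72, 0, 0), (0, 0, 0), (1, 0, 0), (8, 0, 0), (9, 0, 0), (9, 0, 0), (64, 0, 0), (65, 0, 0), (65, 0, 0), (72, 0, 0), (72, 0, 0), (0, 0, 0), (0, 0, 0), (1, 0, 0), (1, 0, 0), (8, 0, 0), (8, 0, 0), (9, 0, 0), (64, 0, 0), (64, 0, 0), (65, 0, 0), (72, 0, 0), (0, 0, 0), (1, 0, 0), (1, 0, 0), (8, 0, 0), (8, 0, 0), (9, 0, 0), (64, 0, 0), (64, 0, 0), (65, 0, 0), (72, 0, 0), (0, 0, 0), (0, 0, 0), (1, 0, 0), (8, 0, 0), (64, 0, 0), (0, 0, 0), (0, 0, 0), (1, 0, 0), (8, 0, 0), (64, 0, 0), (0, 0, 0), (0, 0, 0), (0, 0, 0), (0, 0, 0), (1, 0, 0), (8, 0, 0), (64, 0, 0), (0, 0, 0), (0, 0, 0), (0, 0, 0), (0, 0, 0), (9, 0, 0), (65, 0, 0), (72, 0, 0), (0, 0, 0), (0, 0, 0)], [], []],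
  [[], [], []],
  [[], [], []],
  [[], [], []],
  [[(0, 0, 0), (1, 0, 0), (1, 0, 0), (63, 0, 0), (64, 0, 0), (64, 0, 0), (17, 0, 0), (7, 0, 0), (8, 0, 0), (8, 0, 0), (65, 0, 0), (9, 0, 0), (72, 0, 0), (0, 0, 0), (0, 0, 0), (0, 0, 0), (65, 0, 0), (9, 0, 0), (72, 0, 0), (0, 0, 0), (0, 0, 0), (0, 0, 0), (65, 0, 0), (9, 0, 0), (72, 0, 0), (0, 0, 0), (0, 0, 0), (65, 0, 0), (9, 0, 0), (72, 0, 0), (0, 0, 0), (0, 0, 0), (1, 0, 0), (64, 0, 0), (65, 0, 0), (65, 0, 0), (8, 0, 0), (9, 0, 0), (9, 0, 0), (72, 0, 0), (72, 0, 0), (0, 0, 0), (0, 0, 0), (0, 0, 0), (65, 0, 0), (9, 0, 0), (72, 0, 0), (0, 0, 0), (0, 0, 0), (65, 0, 0), (9, 0, 0), (72, 0, 0), (0, 0, 0), (0, 0, 0), (1, 0, 0), (64, 0, 0), (65, 0, 0), (65, 0, 0), (8, 0, 0), (9, 0, 0), (9,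 0, 0), (72, 0, 0), (72, 0, 0), (0, 0, 0), (1, 0, 0), (64, 0, 0), (65, 0, 0), (65, 0, 0), (8, 0, 0), (9, 0, 0), (9, 0, 0), (72, 0, 0), (72, 0, 0), (0, 0, 0), (0, 0, 0), (1, 0, 0), (1, 0, 0), (64, 0, 0), (64, 0, 0), (65, 0, 0), (8, 0, 0), (8, 0, 0), (9, 0, 0), (72, 0, 0), (0, 0, 0), (1, 0, 0), (1, 0, 0), (64, 0, 0), (64, 0, 0), (65, 0, 0), (8, 0, 0), (8, 0, 0), (9, 0, 0), (72, 0, 0), (0, 0, 0), (0, 0, 0), (1, 0, 0), (64, 0, 0), (8, 0, 0), (0, 0, 0), (0, 0, 0), (1, 0, 0), (64, 0, 0), (8, 0, 0), (0, 0, 0), (0, 0, 0), (0, 0, 0), (0, 0, 0), (1, 0, 0), (64, 0, 0), (8, 0, 0), (0, 0, 0), (0, 0, 0), (0, 0, 0), (0, 0, 0), (65, 0, 0), (9, 0, 0), (72, 0, 0), (0, 0, 0), (0, 0, 0)], [], []],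
  [[(0, 0, 0), (1, 0, 0), (1, 0, 0), (63, 0, 0), (64, 0, 0), (64, 0, 0), (17, 0, 0), (7, 0, 0), (8, 0, 0), (8, 0, 0), (65, 0, 0), (9, 0, 0), (72, 0, 0), (0, 0, 0), (0, 0, 0), (0, 0, 0), (65, 0, 0), (9, 0, 0), (72, 0, 0), (0, 0, 0), (0, 0, 0), (0, 0, 0), (65, 0, 0), (9, 0, 0), (72, 0, 0), (0, 0, 0), (0, 0, 0), (65, 0, 0), (9, 0, 0), (72, 0, 0), (0, 0, 0), (0, 0, 0), (1, 0, 0), (64, 0, 0), (65, 0, 0), (65, 0, 0), (8, 0, 0), (9, 0, 0), (9, 0, 0), (72, 0, 0), (72, 0, 0), (0, 0, 0), (0, 0, 0), (0, 0, 0), (65, 0, 0), (9, 0, 0), (72, 0, 0), (0, 0, 0), (0, 0, 0), (65, 0, 0), (9, 0, 0), (72, 0, 0), (0, 0, 0), (0, 0, 0), (1, 0, 0), (64, 0, 0), (65, 0, 0), (65, 0, 0), (8, 0, 0), (9, 0, 0), (9, 0, 0), (72, 0, 0), (72, 0, 0), (0, 0, 0), (1, 0,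 0), (64, 0, 0), (65, 0, 0), (65, 0, 0), (8, 0, 0), (9, 0, 0), (9, 0, 0), (72, 0, 0), (72, 0, 0), (0, 0, 0), (0, 0, 0), (1, 0, 0), (1, 0, 0), (64, 0, 0), (64, 0, 0), (65, 0, 0), (8, 0, 0), (8, 0, 0), (9, 0, 0), (72, 0, 0), (0, 0, 0), (1, 0, 0), (1, 0, 0), (64, 0, 0), (64, 0, 0), (65, 0, 0), (8, 0, 0), (8, 0, 0), (9, 0, 0), (72, 0, 0), (0, 0, 0), (0, 0, 0), (1, 0, 0), (64, 0, 0), (8, 0, 0), (0, 0, 0), (0, 0, 0), (1, 0, 0), (64, 0, 0), (8, 0, 0), (0, 0, 0), (0, 0, 0), (0, 0, 0), (0, 0, 0), (1, 0, 0), (64, 0, 0), (8, 0, 0), (0, 0, 0), (0, 0, 0), (0, 0, 0), (0, 0, 0), (65, 0, 0), (9, 0, 0), (72, 0, 0), (0, 0, 0), (0, 0, 0)], [], []],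
  [[], [], []],
  [[(0, 0, 0), (1, 0, 0), (1, 0, 0), (7, 0, 0), (8, 0, 0), (8, 0, 0), (56, 0, 0), (63, 0, 0), (64, 0, 0), (64, 0, 0), (9, 0, 0), (65, 0, 0), (72, 0, 0), (0, 0, 0), (0, 0, 0), (0, 0, 0), (9, 0, 0), (65, 0, 0), (72, 0, 0), (0, 0, 0), (0, 0, 0), (0, 0, 0), (9, 0, 0), (65, 0, 0), (72, 0, 0), (0, 0, 0), (0, 0, 0), (9, 0, 0), (65, 0, 0), (72, 0, 0), (0, 0, 0), (0, 0, 0), (1, 0, 0), (8, 0, 0), (9, 0, 0), (9, 0, 0), (64, 0, 0), (65, 0, 0), (65, 0, 0), (72, 0, 0), (72, 0, 0), (0, 0, 0), (0, 0, 0), (0, 0, 0), (9, 0, 0), (65, 0, 0), (72, 0, 0), (0, 0, 0), (0, 0, 0), (9, 0, 0), (65, 0, 0), (72, 0, 0), (0, 0, 0), (0, 0, 0), (1, 0, 0), (8, 0, 0), (9, 0, 0), (9, 0, 0), (64, 0, 0), (65, 0, 0), (65, 0, 0), (72, 0, 0), (72, 0, 0), (0,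 0, 0), (1, 0, 0), (8, 0, 0), (9, 0, 0), (9, 0, 0), (64, 0, 0), (65, 0, 0), (65, 0, 0), (72, 0, 0), (72, 0, 0), (0, 0, 0), (0, 0, 0), (1, 0, 0), (1, 0, 0), (8, 0, 0), (8, 0, 0), (9, 0, 0), (64, 0, 0), (64, 0, 0), (65, 0, 0), (72, 0, 0), (0, 0, 0), (1, 0, 0), (1, 0, 0), (8, 0, 0), (8, 0, 0), (9, 0, 0), (64, 0, 0), (64, 0, 0), (65, 0, 0), (72, 0, 0), (0, 0, 0), (0, 0, 0), (1, 0, 0), (8, 0, 0), (64, 0, 0), (0, 0, 0), (0, 0, 0), (1, 0, 0), (8, 0, 0), (64, 0, 0), (0, 0, 0), (0, 0, 0), (0, 0, 0), (0, 0, 0), (1, 0, 0), (8, 0, 0), (64, 0, 0), (0, 0, 0), (0, 0, 0), (0, 0, 0), (0, 0, 0), (9, 0, 0), (65, 0, 0), (72, 0, 0), (0, 0, 0), (0, 0, 0)], [], []],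
  [[(0, 0, 0), (1, 0, 0), (1, 0, 0), (7, 0, 0), (8, 0, 0), (8, 0, 0), (56, 0, 0), (63, 0, 0), (64, 0, 0), (64, 0, 0), (9, 0, 0), (65, 0, 0), (72, 0, 0), (0, 0, 0), (0, 0, 0), (0, 0, 0), (9, 0, 0), (65, 0, 0), (72, 0, 0), (0, 0, 0), (0, 0, 0), (0, 0, 0), (9, 0, 0), (65, 0, 0), (72, 0, 0), (0, 0, 0), (0, 0, 0), (9, 0, 0), (65, 0, 0), (72, 0, 0), (0, 0, 0), (0, 0, 0), (1, 0, 0), (8, 0, 0), (9, 0, 0), (9, 0, 0), (64, 0, 0), (65, 0, 0), (65, 0, 0), (72, 0, 0), (72, 0, 0), (0, 0, 0), (0, 0, 0), (0, 0, 0), (9, 0, 0), (65, 0, 0), (72, 0, 0), (0, 0, 0), (0, 0, 0), (9, 0, 0), (65, 0, 0), (72, 0, 0), (0, 0, 0), (0, 0, 0), (1, 0, 0), (8, 0, 0), (9, 0, 0), (9, 0, 0), (64, 0, 0), (65, 0, 0), (65, 0, 0), (72, 0, 0), (72, 0, 0), (0, 0, 0), (1, 0,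 0), (8, 0, 0), (9, 0, 0), (9, 0, 0), (64, 0, 0), (65, 0, 0), (65, 0, 0), (72, 0, 0), (72, 0, 0), (0, 0, 0), (0, 0, 0), (1, 0, 0), (1, 0, 0), (8, 0, 0), (8, 0, 0), (9, 0, 0), (64, 0, 0), (64, 0, 0), (65, 0, 0), (72, 0, 0), (0, 0, 0), (1, 0, 0), (1, 0, 0), (8, 0, 0), (8, 0, 0), (9, 0, 0), (64, 0, 0), (64, 0, 0), (65, 0, 0), (72, 0, 0), (0, 0, 0), (0, 0, 0), (1, 0, 0), (8, 0, 0), (64, 0, 0), (0, 0, 0), (0, 0, 0), (1, 0, 0), (8, 0, 0), (64, 0, 0), (0, 0, 0), (0, 0, 0), (0, 0, 0), (0, 0, 0), (1, 0, 0), (8, 0, 0), (64, 0, 0), (0, 0, 0), (0, 0, 0), (0, 0, 0), (0, 0, 0), (9, 0, 0), (65, 0, 0), (72, 0, 0), (0, 0, 0), (0, 0, 0)], [], []],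
  [[], [], []],
  [[], [], []],
  [[(0, 0, 0), (1, 0, 0), (1, 0, 0), (63, 0, 0), (64, 0, 0), (64, 0, 0), (17, 0, 0), (7, 0, 0), (8, 0, 0), (8, 0, 0), (65, 0, 0), (9, 0, 0), (72, 0, 0), (0, 0, 0), (0, 0, 0), (0, 0, 0), (65, 0, 0), (9, 0, 0), (72, 0, 0), (0, 0, 0), (0, 0, 0), (0, 0, 0), (65, 0, 0), (9, 0, 0), (72, 0, 0), (0, 0, 0), (0, 0, 0), (65, 0, 0), (9, 0, 0), (72, 0, 0), (0, 0, 0), (0, 0, 0), (1, 0, 0), (64, 0, 0), (65, 0, 0), (65, 0, 0), (8, 0, 0), (9, 0, 0), (9, 0, 0), (72, 0, 0), (72, 0, 0), (0, 0, 0), (0, 0, 0), (0, 0, 0), (65, 0, 0), (9, 0, 0), (72, 0, 0), (0, 0, 0), (0, 0, 0), (65, 0, 0), (9, 0, 0), (72, 0, 0), (0, 0, 0), (0, 0, 0), (1, 0, 0), (64, 0, 0), (65, 0, 0), (65, 0, 0), (8, 0, 0), (9, 0, 0), (9, 0, 0), (72, 0, 0),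 (72, 0, 0), (0, 0, 0), (1, 0, 0), (64, 0, 0), (65, 0, 0), (65, 0, 0), (8, 0, 0), (9, 0, 0), (9, 0, 0), (72, 0, 0), (72, 0, 0), (0, 0, 0), (0, 0, 0), (1, 0, 0), (1, 0, 0), (64, 0, 0), (64, 0, 0), (65, 0, 0), (8, 0, 0), (8, 0, 0), (9, 0, 0), (72, 0, 0), (0, 0, 0), (1, 0, 0), (1, 0, 0), (64, 0, 0), (64, 0, 0), (65, 0, 0), (8, 0, 0), (8, 0, 0), (9, 0, 0), (72, 0, 0), (0, 0, 0), (0, 0, 0), (1, 0, 0), (64, 0, 0), (8, 0, 0), (0, 0, 0), (0, 0, 0), (1, 0, 0), (64, 0, 0), (8, 0, 0), (0, 0, 0), (0, 0, 0), (0, 0, 0), (0, 0, 0), (1, 0, 0), (64, 0, 0), (8, 0, 0), (0, 0, 0), (0, 0, 0), (0, 0, 0), (0, 0, 0), (65, 0, 0), (9, 0, 0), (72, 0, 0), (0, 0, 0), (0, 0, 0)], [], []],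
  [[(0, 0, 0), (1, 0, 0), (1, 0, 0), (63, 0, 0), (64, 0, 0), (64, 0, 0), (17, 0, 0), (7, 0, 0), (8, 0, 0), (8, 0, 0), (65, 0, 0), (9, 0, 0), (72, 0, 0), (0, 0, 0), (0, 0, 0), (0, 0, 0), (65, 0, 0), (9, 0, 0), (72, 0, 0), (0, 0, 0), (0, 0, 0), (0, 0, 0), (65, 0, 0), (9, 0, 0), (72, 0, 0), (0, 0, 0), (0, 0, 0), (65, 0, 0), (9, 0, 0), (72, 0, 0), (0, 0, 0), (0, 0, 0), (1, 0, 0), (64, 0, 0), (65, 0, 0), (65, 0, 0), (8, 0, 0), (9, 0, 0), (9, 0, 0), (72, 0, 0), (72, 0, 0), (0, 0, 0), (0, 0, 0), (0, 0, 0), (65, 0, 0), (9, 0, 0), (72, 0, 0), (0, 0, 0), (0, 0, 0), (65, 0, 0), (9, 0, 0), (72, 0, 0), (0, 0, 0), (0, 0, 0), (1, 0, 0), (64, 0, 0), (65, 0, 0), (65, 0, 0), (8, 0, 0), (9, 0, 0), (9, 0, 0), (72, 0, 0), (72, 0, 0), (0, 0, 0), (1, 0,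 0), (64, 0, 0), (65, 0, 0), (65, 0, 0), (8, 0, 0), (9, 0, 0), (9, 0, 0), (72, 0, 0), (72, 0, 0), (0, 0, 0), (0, 0, 0), (1, 0, 0), (1, 0, 0), (64, 0, 0), (64, 0, 0), (65, 0, 0), (8, 0, 0), (8, 0, 0), (9, 0, 0), (72, 0, 0), (0, 0, 0), (1, 0, 0), (1, 0, 0), (64, 0, 0), (64, 0, 0), (65, 0, 0), (8, 0, 0), (8, 0, 0), (9, 0, 0), (72, 0, 0), (0, 0, 0), (0, 0, 0), (1, 0, 0), (64, 0, 0), (8, 0, 0), (0, 0, 0), (0, 0, 0), (1, 0, 0), (64, 0, 0), (8, 0, 0), (0, 0, 0), (0, 0, 0), (0, 0, 0), (0, 0, 0), (1, 0, 0), (64, 0, 0), (8, 0, 0), (0, 0, 0), (0, 0, 0), (0, 0, 0), (0, 0, 0), (65, 0, 0), (9, 0, 0), (72, 0, 0), (0, 0, 0), (0, 0, 0)], [], []],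
  [[(0, 0, 0), (1, 0, 0), (1, 0, 0), (7, 0, 0), (8, 0, 0), (8, 0, 0), (56, 0, 0), (63, 0, 0), (64, 0, 0), (64, 0, 0), (9, 0, 0), (65, 0, 0), (72, 0, 0), (0, 0, 0), (0, 0, 0), (0, 0, 0), (9, 0, 0), (65, 0, 0), (72, 0, 0), (0, 0, 0), (0, 0, 0), (0, 0, 0), (9, 0, 0), (65, 0, 0), (72, 0, 0), (0, 0, 0), (0, 0, 0), (9, 0, 0), (65, 0, 0), (72, 0, 0), (0, 0, 0), (0, 0, 0), (1, 0, 0), (8, 0, 0), (9, 0, 0), (9, 0, 0), (64, 0, 0), (65, 0, 0), (65, 0, 0), (72, 0, 0), (72, 0, 0), (0, 0, 0), (0, 0, 0), (0, 0, 0), (9, 0, 0), (65, 0, 0), (72, 0, 0), (0, 0, 0), (0, 0, 0), (9, 0, 0), (65, 0, 0), (72, 0, 0), (0, 0, 0), (0, 0, 0), (1, 0, 0), (8, 0, 0), (9, 0, 0), (9, 0, 0), (64, 0, 0), (65, 0, 0), (65, 0, 0), (72, 0, 0), (72, 0, 0), (0, 0, 0), (1, 0,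 0), (8, 0, 0), (9, 0, 0), (9, 0, 0), (64, 0, 0), (65, 0, 0), (65, 0, 0), (72, 0, 0), (72, 0, 0), (0, 0, 0), (0, 0, 0), (1, 0, 0), (1, 0, 0), (8, 0, 0), (8, 0, 0), (9, 0, 0), (64, 0, 0), (64, 0, 0), (65, 0, 0), (72, 0, 0), (0, 0, 0), (1, 0, 0), (1, 0, 0), (8, 0, 0), (8, 0, 0), (9, 0, 0), (64, 0, 0), (64, 0, 0), (65, 0, 0), (72, 0, 0), (0, 0, 0), (0, 0, 0), (1, 0, 0), (8, 0, 0), (64, 0, 0), (0, 0, 0), (0, 0, 0), (1, 0, 0), (8, 0, 0), (64, 0, 0), (0, 0, 0), (0, 0, 0), (0, 0, 0), (0, 0, 0), (1, 0, 0), (8, 0, 0), (64, 0, 0), (0, 0, 0), (0, 0, 0), (0, 0, 0), (0, 0, 0), (9, 0, 0), (65, 0, 0), (72, 0, 0), (0, 0, 0), (0, 0, 0)], [], []],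
  [[(0, 0, 0), (1, 0, 0), (1, 0, 0), (63, 0, 0), (64, 0, 0), (64, 0, 0), (17, 0, 0), (7, 0, 0), (8, 0, 0), (8, 0, 0), (65, 0, 0), (9, 0, 0), (72, 0, 0), (0, 0, 0), (0, 0, 0), (0, 0, 0), (65, 0, 0), (9, 0, 0), (72, 0, 0), (0, 0, 0), (0, 0, 0), (0, 0, 0), (65, 0, 0), (9, 0, 0), (72, 0, 0), (0, 0, 0), (0, 0, 0), (65, 0, 0), (9, 0, 0), (72, 0, 0), (0, 0, 0), (0, 0, 0), (1, 0, 0), (64, 0, 0), (65, 0, 0), (65, 0, 0), (8, 0, 0), (9, 0, 0), (9, 0, 0), (72, 0, 0), (72, 0, 0), (0, 0, 0), (0, 0, 0), (0, 0, 0), (65, 0, 0), (9, 0, 0), (72, 0, 0), (0, 0, 0), (0, 0, 0), (65, 0, 0), (9, 0, 0), (72, 0, 0), (0, 0, 0), (0, 0, 0), (1, 0, 0), (64, 0, 0), (65, 0, 0), (65, 0, 0), (8, 0, 0), (9, 0, 0), (9, 0, 0), (72, 0, 0), (72, 0, 0), (0, 0, 0), (1, 0,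 0), (64, 0, 0), (65, 0, 0), (65, 0, 0), (8, 0, 0), (9, 0, 0), (9, 0, 0), (72, 0, 0), (72, 0, 0), (0, 0, 0), (0, 0, 0), (1, 0, 0), (1, 0, 0), (64, 0, 0), (64, 0, 0), (65, 0, 0), (8, 0, 0), (8, 0, 0), (9, 0, 0), (72, 0, 0), (0, 0, 0), (1, 0, 0), (1, 0, 0), (64, 0, 0), (64, 0, 0), (65, 0, 0), (8, 0, 0), (8, 0, 0), (9, 0, 0), (72, 0, 0), (0, 0, 0), (0, 0, 0), (1, 0, 0), (64, 0, 0), (8, 0, 0), (0, 0, 0), (0, 0, 0), (1, 0, 0), (64, 0, 0), (8, 0, 0), (0, 0, 0), (0, 0, 0), (0, 0, 0), (0, 0, 0), (1, 0, 0), (64, 0, 0), (8, 0, 0), (0, 0, 0), (0, 0, 0), (0, 0, 0), (0, 0, 0), (65, 0, 0), (9, 0, 0), (72, 0, 0), (0, 0, 0), (0, 0, 0)], [], []],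
  [[], [], []],
  [[(0, 0, 0), (1, 0, 0), (1, 0, 0), (63, 0, 0), (64, 0, 0), (64, 0, 0), (17, 0, 0), (7, 0, 0), (8, 0, 0), (8, 0, 0), (65, 0, 0), (9, 0, 0), (72, 0, 0), (0, 0, 0), (0, 0, 0), (0, 0, 0), (65, 0, 0), (9, 0, 0), (72, 0, 0), (0, 0, 0), (0, 0, 0), (0, 0, 0), (65, 0, 0), (9, 0, 0), (72, 0, 0), (0, 0, 0), (0, 0, 0), (65, 0, 0), (9, 0, 0), (72, 0, 0), (0, 0, 0), (0, 0, 0), (1, 0, 0), (64, 0, 0), (65, 0, 0), (65, 0, 0), (8, 0, 0), (9, 0, 0), (9, 0, 0), (72, 0, 0), (72, 0, 0), (0, 0, 0), (0, 0, 0), (0, 0, 0), (65, 0, 0), (9, 0, 0), (72, 0, 0), (0, 0, 0), (0, 0, 0), (65, 0, 0), (9, 0, 0), (72, 0, 0), (0, 0, 0), (0, 0, 0), (1, 0, 0), (64, 0, 0), (65, 0, 0), (65, 0, 0), (8, 0, 0), (9, 0, 0), (9, 0, 0), (72, 0, 0), (72, 0, 0), (0,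 0, 0), (1, 0, 0), (64, 0, 0), (65, 0, 0), (65, 0, 0), (8, 0, 0), (9, 0, 0), (9, 0, 0), (72, 0, 0), (72, 0, 0), (0, 0, 0), (0, 0, 0), (1, 0, 0), (1, 0, 0), (64, 0, 0), (64, 0, 0), (65, 0, 0), (8, 0, 0), (8, 0, 0), (9, 0, 0), (72, 0, 0), (0, 0, 0), (1, 0, 0), (1, 0, 0), (64, 0, 0), (64, 0, 0), (65, 0, 0), (8, 0, 0), (8, 0, 0), (9, 0, 0), (72, 0, 0), (0, 0, 0), (0, 0, 0), (1, 0, 0), (64, 0, 0), (8, 0, 0), (0, 0, 0), (0, 0, 0), (1, 0, 0), (64, 0, 0), (8, 0, 0), (0, 0, 0), (0, 0, 0), (0, 0, 0), (0, 0, 0), (1, 0, 0), (64, 0, 0), (8, 0, 0), (0, 0, 0), (0, 0, 0), (0, 0, 0), (0, 0, 0), (65, 0, 0), (9, 0, 0), (72, 0, 0), (0, 0, 0), (0, 0, 0)], [], []],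
  [[(0, 0, 0), (1, 0, 0), (1, 0, 0), (63, 0, 0), (64, 0, 0), (64, 0, 0), (17, 0, 0), (7, 0, 0), (8, 0, 0), (8, 0, 0), (65, 0, 0), (9, 0, 0), (72, 0, 0), (0, 0, 0), (0, 0, 0), (0, 0, 0), (65, 0, 0), (9, 0, 0), (72, 0, 0), (0, 0, 0), (0, 0, 0), (0, 0, 0), (65, 0, 0), (9, 0, 0), (72, 0, 0), (0, 0, 0), (0, 0, 0), (65, 0, 0), (9, 0, 0), (72, 0, 0), (0, 0, 0), (0, 0, 0), (1, 0, 0), (64, 0, 0), (65, 0, 0), (65, 0, 0), (8, 0, 0), (9, 0, 0), (9, 0, 0), (72, 0, 0), (72, 0, 0), (0, 0, 0), (0, 0, 0), (0, 0, 0), (65, 0, 0), (9, 0, 0), (72, 0, 0), (0, 0, 0), (0, 0, 0), (65, 0, 0), (9, 0, 0), (72, 0, 0), (0, 0, 0), (0, 0, 0), (1, 0, 0), (64, 0, 0), (65, 0, 0), (65, 0, 0), (8, 0, 0), (9, 0, 0), (9, 0, 0), (72, 0, 0), (72, 0, 0), (0, 0, 0), (1, 0,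 0), (64, 0, 0), (65, 0, 0), (65, 0, 0), (8, 0, 0), (9, 0, 0), (9, 0, 0), (72, 0, 0), (72, 0, 0), (0, 0, 0), (0, 0, 0), (1, 0, 0), (1, 0, 0), (64, 0, 0), (64, 0, 0), (65, 0, 0), (8, 0, 0), (8, 0, 0), (9, 0, 0), (72, 0, 0), (0, 0, 0), (1, 0, 0), (1, 0, 0), (64, 0, 0), (64, 0, 0), (65, 0, 0), (8, 0, 0), (8, 0, 0), (9, 0, 0), (72, 0, 0), (0, 0, 0), (0, 0, 0), (1, 0, 0), (64, 0, 0), (8, 0, 0), (0, 0, 0), (0, 0, 0), (1, 0, 0), (64, 0, 0), (8, 0, 0), (0, 0, 0), (0, 0, 0), (0, 0, 0), (0, 0, 0), (1, 0, 0), (64, 0, 0), (8, 0, 0), (0, 0, 0), (0, 0, 0), (0, 0, 0), (0, 0, 0), (65, 0, 0), (9, 0, 0), (72, 0, 0), (0, 0, 0), (0, 0, 0)], [], []],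
  [[], [], []],
  [[(0, 0, 0), (1, 0, 0), (1, 0, 0), (63, 0, 0), (64, 0, 0), (64, 0, 0), (17, 0, 0), (7, 0, 0), (8, 0, 0), (8, 0, 0), (65, 0, 0), (9, 0, 0), (72, 0, 0), (0, 0, 0), (0, 0, 0), (0, 0, 0), (65, 0, 0), (9, 0, 0), (72, 0, 0), (0, 0, 0), (0, 0, 0), (0, 0, 0), (65, 0, 0), (9, 0, 0), (72, 0, 0), (0, 0, 0), (0, 0, 0), (65, 0, 0), (9, 0, 0), (72, 0, 0), (0, 0, 0), (0, 0, 0), (1, 0, 0), (64, 0, 0), (65, 0, 0), (65, 0, 0), (8, 0, 0), (9, 0, 0), (9, 0, 0), (72, 0, 0), (72, 0, 0), (0, 0, 0), (0, 0, 0), (0, 0, 0), (65, 0, 0), (9, 0, 0), (72, 0, 0), (0, 0, 0), (0, 0, 0), (65, 0, 0), (9, 0, 0), (72, 0, 0), (0, 0, 0), (0, 0, 0), (1, 0, 0), (64, 0, 0), (65, 0, 0), (65, 0, 0), (8, 0, 0), (9, 0, 0), (9, 0, 0), (72, 0, 0), (72, 0, 0), (0,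 0, 0), (1, 0, 0), (64, 0, 0), (65, 0, 0), (65, 0, 0), (8, 0, 0), (9, 0, 0), (9, 0, 0), (72, 0, 0), (72, 0, 0), (0, 0, 0), (0, 0, 0), (1, 0, 0), (1, 0, 0), (64, 0, 0), (64, 0, 0), (65, 0, 0), (8, 0, 0), (8, 0, 0), (9, 0, 0), (72, 0, 0), (0, 0, 0), (1, 0, 0), (1, 0, 0), (64, 0, 0), (64, 0, 0), (65, 0, 0), (8, 0, 0), (8, 0, 0), (9, 0, 0), (72, 0, 0), (0, 0, 0), (0, 0, 0), (1, 0, 0), (64, 0, 0), (8, 0, 0), (0, 0, 0), (0, 0, 0), (1, 0, 0), (64, 0, 0), (8, 0, 0), (0, 0, 0), (0, 0, 0), (0, 0, 0), (0, 0, 0), (1, 0, 0), (64, 0, 0), (8, 0, 0), (0, 0, 0), (0, 0, 0), (0, 0, 0), (0, 0, 0), (65, 0, 0), (9, 0, 0), (72, 0, 0), (0, 0, 0), (0, 0, 0)], [], []],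
  [[], [], []]]

/-- The eigenvectors of three representatives of elements of order three. -/
def smallSols : List SolD := [
  ⟨[[0, 0, 0, 0, 0, 0, 51, 1], [0, 0, 0, 0, 0, 0, 0, 0], [0, 0, 0, 0, 0, 0, 0, 0]], [7, 0, 0], [[52, 0, 0, 0, 0, 0, 0, 0], [0, 52, 0, 0, 0, 0, 0, 0], [0, 0, 52, 0, 0, 0, 0, 0], [0, 0, 0, 52, 0, 0, 0, 0], [0, 0, 0, 0, 52, 0, 0, 0], [0, 0, 0, 0, 0, 52, 0, 0], [48, 72, 23, 71, 47, 23, 51, 0], [0, 0, 0, 0, 0, 0, 0, 0]]⟩,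
  ⟨[[0, 17, 0, 64, 0, 0, 1, 0], [0, 9, 0, 21, 0, 0, 0, 1], [0, 0, 0, 0, 0, 0, 0, 0]], [6, 7, 0], [[52, 0, 0, 0, 0, 0, 0, 0], [0, 9, 0, 0, 30, 60, 9, 0], [0, 0, 52, 0, 0, 0, 0, 0], [7, 70, 14, 0, 11, 1, 21, 0], [0, 0, 0, 0, 52, 0, 0, 0], [0, 0, 0, 0, 0, 52, 0, 0], [0, 0, 0, 0, 0, 0, 0, 0], [0, 0, 0, 0, 0, 0, 0, 0]]⟩,
  ⟨[[56, 0, 7, 1, 0, 0, 0, 0], [66, 17, 63, 0, 0, 0, 1, 0], [65, 9, 72, 0, 0, 0, 0, 1]], [3, 6, 7], [[63, 71, 0, 22, 7, 0, 65, 0], [2, 66, 0, 39, 56, 0, 9, 0], [16, 18, 0, 21, 10, 0, 72, 0], [0, 0, 0, 0, 0, 0, 0, 0], [0, 0, 0, 0, 52, 0, 0, 0], [65, 64, 0, 63, 42, 0, 0, 0], [0, 0, 0, 0, 0, 0, 0, 0], [0, 0, 0, 0, 0, 0, 0, 0]]⟩]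

/-- The values of their families. -/
def smallFams : List (List (List (ℕ × ℕ × ℕ))) := [
  [[(1, 0, 0), (51, 0, 0), (52, 0, 0), (0, 0, 0), (51, 0, 0), (52, 0, 0), (0, 0, 0), (0, 0, 0), (51, 0, 0), (52, 0, 0), (0, 0, 0), (0, 0, 0), (0, 0, 0), (51, 0, 0), (52, 0, 0), (0, 0, 0), (0, 0, 0), (0, 0, 0), (0, 0, 0), (51, 0, 0), (52, 0, 0), (0, 0, 0), (0, 0, 0), (0, 0, 0), (0, 0, 0), (51, 0, 0), (52, 0, 0), (0, 0, 0), (0, 0, 0), (0, 0, 0), (51, 0, 0), (52, 0, 0), (0, 0, 0), (0, 0, 0), (51, 0, 0), (52, 0, 0), (0, 0, 0), (51, 0, 0), (52, 0, 0), (51, 0, 0), (52, 0, 0), (30, 0, 0), (0, 0, 0), (0, 0, 0), (0, 0, 0), (0, 0, 0), (0, 0, 0), (51, 0, 0), (52, 0, 0), (0, 0, 0), (0, 0, 0), (0, 0, 0), (51, 0, 0), (52, 0, 0), (0, 0, 0), (0, 0, 0), (51,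 0, 0), (52, 0, 0), (0, 0, 0), (51, 0, 0), (52, 0, 0), (51, 0, 0), (52, 0, 0), (30, 0, 0), (0, 0, 0), (0, 0, 0), (51, 0, 0), (52, 0, 0), (0, 0, 0), (51, 0, 0), (52, 0, 0), (51, 0, 0), (52, 0, 0), (30, 0, 0), (0, 0, 0), (51, 0, 0), (52, 0, 0), (51, 0, 0), (52, 0, 0), (30, 0, 0), (51, 0, 0), (52, 0, 0), (30, 0, 0), (30, 0, 0), (0, 0, 0), (51, 0, 0), (52, 0, 0), (51, 0, 0), (52, 0, 0), (30, 0, 0), (51, 0, 0), (52, 0, 0), (30, 0, 0), (30, 0, 0), (51, 0, 0), (52, 0, 0), (30, 0, 0), (30, 0, 0), (30, 0, 0), (51, 0, 0), (52, 0, 0), (30, 0, 0), (30, 0, 0), (30, 0, 0), (30, 0, 0), (30, 0, 0), (51, 0, 0), (52, 0, 0), (30, 0, 0), (30, 0, 0), (30, 0, 0), (30, 0, 0), (30, 0, 0), (30, 0, 0), (30, 0, 0), (30, 0, 0), (30, 0, 0), (30, 0, 0), (8, 0,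 0), (9, 0, 0)], [], []],
  [[(0, 1, 0), (1, 0, 0), (1, 1, 0), (0, 0, 0), (1, 0, 0), (1, 1, 0), (0, 0, 0), (0, 0, 0), (1, 0, 0), (1, 1, 0), (64, 21, 0), (64, 21, 0), (64, 21, 0), (65, 21, 0), (65, 22, 0), (0, 0, 0), (64, 21, 0), (64, 21, 0), (64, 21, 0), (65, 21, 0), (65, 22, 0), (17, 9, 0), (8, 30, 0), (8, 30, 0), (8, 30, 0), (9, 30, 0), (9, 31, 0), (8, 30, 0), (8, 30, 0), (8, 30, 0), (9, 30, 0), (9, 31, 0), (72, 51, 0), (72, 51, 0), (0, 51, 0), (0, 52, 0), (72, 51, 0), (0, 51, 0), (0, 52, 0), (0, 51, 0), (0, 52, 0), (1, 52, 0), (0, 0, 0), (0, 0, 0), (64, 21, 0), (64, 21, 0), (64, 21, 0), (65, 21, 0), (65, 22, 0), (8, 30, 0), (8, 30, 0), (8, 30, 0), (9, 30, 0), (9, 31, 0), (72, 51, 0), (72, 51, 0), (0, 51, 0), (0, 52, 0), (72, 51,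 0), (0, 51, 0), (0, 52, 0), (0, 51, 0), (0, 52, 0), (1, 52, 0), (72, 51, 0), (72, 51, 0), (0, 51, 0), (0, 52, 0), (72, 51, 0), (0, 51, 0), (0, 52, 0), (0, 51, 0), (0, 52, 0), (1, 52, 0), (63, 72, 0), (64, 72, 0), (64, 0, 0), (64, 72, 0), (64, 0, 0), (65, 0, 0), (64, 72, 0), (64, 0, 0), (65, 0, 0), (65, 0, 0), (7, 8, 0), (8, 8, 0), (8, 9, 0), (8, 8, 0), (8, 9, 0), (9, 9, 0), (8, 8, 0), (8, 9, 0), (9, 9, 0), (9, 9, 0), (72, 29, 0), (72, 30, 0), (0, 30, 0), (0, 30, 0), (0, 30, 0), (72, 29, 0), (72, 30, 0), (0, 30, 0), (0, 30, 0), (0, 30, 0), (64, 51, 0), (8, 60, 0), (72, 29, 0), (72, 30, 0), (0, 30, 0), (0, 30, 0), (0, 30, 0), (64, 51, 0), (64, 51, 0), (8, 60, 0), (8, 60, 0), (72, 8, 0), (72, 8, 0), (72, 8, 0), (0, 8, 0), (0, 9, 0)],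 [(1, 0, 0), (0, 0, 0), (1, 0, 0), (0, 0, 0), (0, 0, 0), (1, 0, 0), (0, 0, 0), (0, 0, 0), (0, 0, 0), (1, 0, 0), (21, 0, 0), (21, 0, 0), (21, 0, 0), (21, 0, 0), (22, 0, 0), (0, 0, 0), (21, 0, 0), (21, 0, 0), (21, 0, 0), (21, 0, 0), (22, 0, 0), (9, 0, 0), (30, 0, 0), (30, 0, 0), (30, 0, 0), (30, 0, 0), (31, 0, 0), (30, 0, 0), (30, 0, 0), (30, 0, 0), (30, 0, 0), (31, 0, 0), (51, 0, 0), (51, 0, 0), (51, 0, 0), (52, 0, 0), (51, 0, 0), (51, 0, 0), (52, 0, 0), (51, 0, 0), (52, 0, 0), (52, 0, 0), (0, 0, 0), (0, 0, 0), (21, 0, 0), (21, 0, 0), (21, 0, 0), (21, 0, 0), (22, 0, 0), (30, 0, 0), (30, 0, 0), (30, 0, 0), (30, 0, 0), (31, 0, 0), (51, 0, 0), (51, 0, 0), (51, 0, 0), (52, 0, 0), (51, 0, 0), (51, 0, 0), (52, 0, 0), (51, 0, 0), (52, 0, 0),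 (52, 0, 0), (51, 0, 0), (51, 0, 0), (51, 0, 0), (52, 0, 0), (51, 0, 0), (51, 0, 0), (52, 0, 0), (51, 0, 0), (52, 0, 0), (52, 0, 0), (72, 0, 0), (72, 0, 0), (0, 0, 0), (72, 0, 0), (0, 0, 0), (0, 0, 0), (72, 0, 0), (0, 0, 0), (0, 0, 0), (0, 0, 0), (8, 0, 0), (8, 0, 0), (9, 0, 0), (8, 0, 0), (9, 0, 0), (9, 0, 0), (8, 0, 0), (9, 0, 0), (9, 0, 0), (9, 0, 0), (29, 0, 0), (30, 0, 0), (30, 0, 0), (30, 0, 0), (30, 0, 0), (29, 0, 0), (30, 0, 0), (30, 0, 0), (30, 0, 0), (30, 0, 0), (51, 0, 0), (60, 0, 0), (29, 0, 0), (30, 0, 0), (30, 0, 0), (30, 0, 0), (30, 0, 0), (51, 0, 0), (51, 0, 0), (60, 0, 0), (60, 0, 0), (8, 0, 0), (8, 0, 0), (8, 0, 0), (8, 0, 0), (9, 0, 0)], []],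
  [[(0, 0, 1), (0, 1, 0), (0, 1, 1), (0, 0, 0), (0, 1, 0), (0, 1, 1), (0, 0, 0), (0, 0, 0), (0, 1, 0), (0, 1, 1), (1, 0, 0), (1, 0, 0), (1, 0, 0), (1, 1, 0), (1, 1, 1), (7, 63, 72), (8, 63, 72), (8, 63, 72), (8, 63, 72), (8, 64, 72), (8, 64, 0), (0, 17, 9), (1, 17, 9), (1, 17, 9), (1, 17, 9), (1, 18, 9), (1, 18, 10), (8, 7, 8), (8, 7, 8), (8, 7, 8), (8, 8, 8), (8, 8, 9), (9, 7, 8), (9, 7, 8), (9, 8, 8), (9, 8, 9), (9, 7, 8), (9, 8, 8), (9, 8, 9), (9, 8, 8), (9, 8, 9), (9, 9, 9), (56, 66, 65), (63, 56, 64), (64, 56, 64), (64, 56, 64), (64, 56, 64), (64, 57, 64), (64, 57, 65), (64, 0, 0), (64, 0, 0), (64, 0, 0), (64, 1, 0), (64, 1, 1), (65, 0, 0), (65, 0, 0), (65, 1, 0), (65, 1, 1), (65, 0, 0), (65, 1, 0), (65, 1, 1), (65, 1, 0), (65,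 1, 1), (65, 2, 1), (72, 63, 72), (72, 63, 72), (72, 64, 72), (72, 64, 0), (72, 63, 72), (72, 64, 72), (72, 64, 0), (72, 64, 72), (72, 64, 0), (72, 65, 0), (0, 63, 72), (0, 64, 72), (0, 64, 0), (0, 64, 72), (0, 64, 0), (0, 65, 0), (0, 64, 72), (0, 64, 0), (0, 65, 0), (0, 65, 0), (0, 7, 8), (0, 8, 8), (0, 8, 9), (0, 8, 8), (0, 8, 9), (0, 9, 9), (0, 8, 8), (0, 8, 9), (0, 9, 9), (0, 9, 9), (1, 8, 8), (1, 8, 9), (1, 9, 9), (1, 9, 9), (1, 9, 9), (8, 71, 7), (8, 71, 8), (8, 72, 8), (8, 72, 8), (8, 72, 8), (9, 72, 8), (9, 16, 17), (64, 64, 72), (64, 64, 0), (64, 65, 0), (64, 65, 0), (64, 65, 0), (65, 65, 0), (72, 55, 72), (65, 9, 9), (72, 72, 8), (0, 72, 8), (0, 72, 8), (0, 72, 8), (0, 0, 8), (0, 0, 9)], [(0, 1, 0), (1, 0, 0), (1, 1, 0),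 (0, 0, 0), (1, 0, 0), (1, 1, 0), (0, 0, 0), (0, 0, 0), (1, 0, 0), (1, 1, 0), (0, 0, 0), (0, 0, 0), (0, 0, 0), (1, 0, 0), (1, 1, 0), (63, 72, 0), (63, 72, 0), (63, 72, 0), (63, 72, 0), (64, 72, 0), (64, 0, 0), (17, 9, 0), (17, 9, 0), (17, 9, 0), (17, 9, 0), (18, 9, 0), (18, 10, 0), (7, 8, 0), (7, 8, 0), (7, 8, 0), (8, 8, 0), (8, 9, 0), (7, 8, 0), (7, 8, 0), (8, 8, 0), (8, 9, 0), (7, 8, 0), (8, 8, 0), (8, 9, 0), (8, 8, 0), (8, 9, 0), (9, 9, 0), (66, 65, 0), (56, 64, 0), (56, 64, 0), (56, 64, 0), (56, 64, 0), (57, 64, 0), (57, 65, 0), (0, 0, 0), (0, 0, 0), (0, 0, 0), (1, 0, 0), (1, 1, 0), (0, 0, 0), (0, 0, 0), (1, 0, 0), (1, 1, 0), (0, 0, 0), (1, 0, 0), (1, 1, 0), (1, 0, 0), (1, 1, 0), (2, 1, 0), (63, 72, 0), (63, 72, 0), (64, 72, 0),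 (64, 0, 0), (63, 72, 0), (64, 72, 0), (64, 0, 0), (64, 72, 0), (64, 0, 0), (65, 0, 0), (63, 72, 0), (64, 72, 0), (64, 0, 0), (64, 72, 0), (64, 0, 0), (65, 0, 0), (64, 72, 0), (64, 0, 0), (65, 0, 0), (65, 0, 0), (7, 8, 0), (8, 8, 0), (8, 9, 0), (8, 8, 0), (8, 9, 0), (9, 9, 0), (8, 8, 0), (8, 9, 0), (9, 9, 0), (9, 9, 0), (8, 8, 0), (8, 9, 0), (9, 9, 0), (9, 9, 0), (9, 9, 0), (71, 7, 0), (71, 8, 0), (72, 8, 0), (72, 8, 0), (72, 8, 0), (72, 8, 0), (16, 17, 0), (64, 72, 0), (64, 0, 0), (65, 0, 0), (65, 0, 0), (65, 0, 0), (65, 0, 0), (55, 72, 0), (9, 9, 0), (72, 8, 0), (72, 8, 0), (72, 8, 0), (72, 8, 0), (0, 8, 0), (0, 9, 0)], [(1, 0, 0), (0, 0, 0), (1, 0, 0), (0, 0, 0), (0, 0, 0), (1, 0, 0), (0, 0, 0), (0, 0, 0), (0, 0, 0), (1, 0, 0),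 (0, 0, 0), (0, 0, 0), (0, 0, 0), (0, 0, 0), (1, 0, 0), (72, 0, 0), (72, 0, 0), (72, 0, 0), (72, 0, 0), (72, 0, 0), (0, 0, 0), (9, 0, 0), (9, 0, 0), (9, 0, 0), (9, 0, 0), (9, 0, 0), (10, 0, 0), (8, 0, 0), (8, 0, 0), (8, 0, 0), (8, 0, 0), (9, 0, 0), (8, 0, 0), (8, 0, 0), (8, 0, 0), (9, 0, 0), (8, 0, 0), (8, 0, 0), (9, 0, 0), (8, 0, 0), (9, 0, 0), (9, 0, 0), (65, 0, 0), (64, 0, 0), (64, 0, 0), (64, 0, 0), (64, 0, 0), (64, 0, 0), (65, 0, 0), (0, 0, 0), (0, 0, 0), (0, 0, 0), (0, 0, 0), (1, 0, 0), (0, 0, 0), (0, 0, 0), (0, 0, 0), (1, 0, 0), (0, 0, 0), (0, 0, 0), (1, 0, 0), (0, 0, 0), (1, 0, 0), (1, 0, 0), (72, 0, 0), (72, 0, 0), (72, 0, 0), (0, 0, 0), (72, 0, 0), (72, 0, 0), (0, 0, 0), (72, 0, 0), (0, 0, 0), (0, 0, 0), (72, 0, 0), (72,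 0, 0), (0, 0, 0), (72, 0, 0), (0, 0, 0), (0, 0, 0), (72, 0, 0), (0, 0, 0), (0, 0, 0), (0, 0, 0), (8, 0, 0), (8, 0, 0), (9, 0, 0), (8, 0, 0), (9, 0, 0), (9, 0, 0), (8, 0, 0), (9, 0, 0), (9, 0, 0), (9, 0, 0), (8, 0, 0), (9, 0, 0), (9, 0, 0), (9, 0, 0), (9, 0, 0), (7, 0, 0), (8, 0, 0), (8, 0, 0), (8, 0, 0), (8, 0, 0), (8, 0, 0), (17, 0, 0), (72, 0, 0), (0, 0, 0), (0, 0, 0), (0, 0, 0), (0, 0, 0), (0, 0, 0), (72, 0, 0), (9, 0, 0), (8, 0, 0), (8, 0, 0), (8, 0, 0), (8, 0, 0), (8, 0, 0), (9, 0, 0)]]]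

/-- Elements of the centraliser moving the base root. -/
def moves : List (List ℕ) := [
  [6, 7, 5, 6, 3, 4, 5, 1, 3, 4, 2, 3, 0, 2, 1, 3, 4, 5, 6, 7, 6, 4, 5, 3, 4, 2, 3, 0, 2, 1, 3, 4, 5, 6, 2, 3, 0, 2, 1, 3, 4, 5, 4, 3, 2, 1, 3, 4, 3, 2, 1, 3, 2, 0],
  [6, 7, 5, 6, 4, 5, 3, 4, 2, 3, 0, 2, 1, 3, 4, 5, 6, 7, 2, 3, 0, 2, 1, 3, 4, 5, 6, 2, 3, 0, 2, 1, 3, 4, 5, 0, 2, 3, 4, 1, 3, 0, 2, 0],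
  [5, 6, 3, 4, 5, 1, 3, 4, 2, 3, 0, 2, 1, 3, 4, 5, 6, 7, 2, 3, 4, 5, 6, 1, 3, 4, 5, 3, 2, 1, 3, 4, 1, 3, 2, 0],
  [4, 3, 0, 2, 1, 3, 4, 5, 6, 7, 6, 5, 3, 4, 2, 3, 0, 2, 1, 3, 4, 5, 6, 3, 2, 1, 3, 4, 5, 0, 2, 1, 3, 4, 3, 2, 1, 3, 2, 0],
  [6, 7, 5, 6, 0, 2, 3, 4, 5, 1, 3, 4, 2, 3, 0, 2, 1, 3, 4, 5, 6, 7, 6, 4, 5, 3, 4, 2, 3, 0, 2, 1, 3, 4, 5, 6, 4, 3, 2, 1, 3, 4, 5, 1, 3, 4, 3, 2, 1, 0],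
  [6, 5, 1, 3, 4, 2, 3, 0, 2, 1, 3, 4, 5, 6, 7, 5, 4, 3, 2, 1, 3, 4, 5, 6, 2, 3, 4, 5, 3, 2, 1, 3, 4, 2, 1, 3, 2, 0],
  [6, 4, 5, 1, 3, 4, 2, 3, 0, 2, 1, 3, 4, 5, 6, 7, 4, 3, 2, 1, 3, 4, 5, 6, 4, 5, 3, 2, 1, 3, 4, 2, 1, 3, 2, 0],
  [2, 3, 4, 5, 6, 7, 6, 5, 4, 3, 0, 2, 1, 3, 4, 5, 6, 0, 2, 1, 3, 4, 5, 4, 3, 0, 2, 1, 3, 4, 1, 3, 2, 0],
  [3, 4, 2, 3, 0, 2, 1, 3, 4, 5, 6, 7, 6, 5, 4, 3, 2, 1, 3, 4, 5, 6, 2, 3, 4, 5, 0, 2, 3, 4, 3, 0, 2, 1, 3, 2, 1, 0],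
  [0, 2, 3, 4, 5, 6, 7, 6, 5, 4, 3, 2, 1, 3, 4, 5, 6, 3, 4, 5, 0, 2, 1, 3, 4, 3, 2, 1, 3, 2, 1, 0],
  [0, 2, 3, 4, 5, 6, 7, 6, 5, 4, 3, 2, 1, 3, 4, 5, 6, 4, 5, 3, 0, 2, 1, 3, 4, 3, 2, 1, 3, 2, 1, 0],
  [0, 2, 3, 4, 5, 6, 7, 6, 5, 4, 3, 2, 1, 3, 4, 5, 6, 5, 0, 2, 1, 3, 4, 3, 2, 1, 3, 2, 1, 0],
  [3, 0, 2, 1, 3, 4, 5, 6, 7, 6, 4, 5, 3, 4, 2, 3, 0, 2, 1, 3, 4, 5, 6, 0, 2, 1, 3, 4, 5, 1, 3, 4, 2, 1, 3, 0],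
  [0, 2, 1, 3, 4, 5, 6, 7, 6, 2, 3, 4, 5, 1, 3, 4, 2, 3, 0, 2, 1, 3, 4, 5, 6, 1, 3, 4, 5, 2, 3, 4, 1, 3, 0, 2, 1, 0],
  [6, 5, 1, 3, 4, 2, 3, 0, 2, 1, 3, 4, 5, 6, 7, 5, 4, 3, 2, 1, 3, 4, 5, 6, 1, 3, 4, 5, 1, 3, 4, 2, 1, 3, 2, 0],
  [3, 4, 5, 6, 7, 6, 5, 4, 3, 2, 1, 3, 4, 5, 6, 2, 1, 3, 4, 5, 0, 2, 3, 4, 3, 2, 1, 3, 2, 0],
  [6, 5, 4, 3, 2, 1, 3, 4, 5, 6, 7, 2, 1, 3, 4, 5, 6, 2, 3, 4, 5, 2, 3, 4, 1, 3, 2, 0],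
  [6, 5, 3, 4, 2, 3, 0, 2, 1, 3, 4, 5, 6, 7, 5, 6, 3, 4, 5, 2, 1, 3, 4, 2, 1, 3, 2, 0],
  [6, 7, 6, 5, 1, 3, 4, 2, 3, 0, 2, 1, 3, 4, 5, 6, 3, 4, 5, 0, 2, 1, 3, 4, 3, 2, 1, 3, 2, 0],
  [6, 7, 3, 4, 5, 6, 2, 3, 4, 5, 1, 3, 4, 2, 3, 0, 2, 1, 3, 4, 5, 6, 7, 5, 4, 2, 3, 0, 2, 1, 3, 4, 5, 6, 5, 2, 1, 3, 4, 3, 2, 1, 3, 0],
  [6, 3, 4, 5, 1, 3, 4, 2, 3, 0, 2, 1, 3, 4, 5, 6, 7, 3, 4, 5, 6, 0, 2, 3, 4, 5, 0, 2, 3, 4, 3, 2, 1, 3, 0, 2, 1, 0],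
  [3, 4, 5, 6, 7, 6, 5, 4, 3, 2, 1, 3, 4, 5, 6, 2, 3, 4, 5, 0, 2, 1, 3, 4, 3, 2, 1, 3, 2, 0],
  [6, 5, 4, 3, 0, 2, 1, 3, 4, 5, 6, 7, 2, 3, 4, 5, 6, 2, 3, 4, 5, 3, 4, 2, 1, 3, 2, 0],
  [6, 5, 4, 3, 0, 2, 1, 3, 4, 5, 6, 7, 2, 3, 4, 5, 6, 2, 3, 4, 5, 4, 1, 3, 2, 0],
  [3, 4, 5, 6, 7, 6, 5, 4, 3, 2, 1, 3, 4, 5, 6, 0, 2, 1, 3, 4, 5, 3, 2, 1, 3, 4, 2, 1, 3, 0],
  [6, 5, 4, 3, 0, 2, 1, 3, 4, 5, 6, 7, 2, 3, 4, 5, 6, 0, 2, 1, 3, 4, 5, 0, 2, 3, 4, 3, 2, 1, 3, 0, 2, 0],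
  [6, 5, 4, 3, 0, 2, 1, 3, 4, 5, 6, 7, 2, 3, 4, 5, 6, 3, 4, 5, 1, 3, 4, 2, 1, 3, 2, 0],
  [6, 5, 4, 3, 2, 1, 3, 4, 5, 6, 7, 2, 1, 3, 4, 5, 6, 5, 1, 3, 4, 2, 1, 3, 2, 0],
  [4, 5, 6, 0, 2, 3, 4, 5, 1, 3, 4, 2, 3, 0, 2, 1, 3, 4, 5, 6, 7, 3, 4, 5, 6, 3, 0, 2, 1, 3, 4, 5, 2, 3, 4, 3, 2, 1, 3, 0],
  [4, 5, 6, 7, 6, 5, 1, 3, 4, 2, 3, 0, 2, 1, 3, 4, 5, 6, 1, 3, 4, 5, 3, 4, 1, 3, 0, 2, 1, 0],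
  [6, 5, 4, 3, 0, 2, 1, 3, 4, 5, 6, 7, 2, 3, 4, 5, 6, 4, 5, 1, 3, 4, 2, 3, 2, 0],
  [5, 6, 3, 4, 5, 1, 3, 4, 2, 3, 0, 2, 1, 3, 4, 5, 6, 7, 2, 3, 4, 5, 6, 3, 0, 2, 1, 3, 4, 5, 2, 3, 4, 3, 2, 1, 3, 0],
  [5, 6, 7, 6, 4, 5, 1, 3, 4, 2, 3, 0, 2, 1, 3, 4, 5, 6, 4, 5, 3, 4, 1, 3, 0, 2, 1, 0],
  [6, 3, 4, 5, 1, 3, 4, 2, 3, 0, 2, 1, 3, 4, 5, 6, 7, 3, 4, 5, 6, 3, 0, 2, 1, 3, 4, 5, 2, 3, 4, 3, 2, 1, 3, 0],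
  [6, 7, 6, 5, 1, 3, 4, 2, 3, 0, 2, 1, 3, 4, 5, 6, 4, 5, 3, 4, 1, 3, 0, 2, 1, 0],
  [3, 2, 1, 3, 4, 5, 4, 3, 2, 1, 3, 4, 3, 2, 1, 3, 2, 0],
  [6, 5, 3, 4, 2, 3, 0, 2, 1, 3, 4, 5, 6, 7, 5, 6, 4, 5, 3, 4, 1, 3, 2, 0],
  [5, 6, 4, 5, 3, 4, 2, 3, 0, 2, 1, 3, 4, 5, 6, 7, 5, 6, 1, 3, 4, 5, 3, 4, 1, 3, 2, 0],
  [3, 4, 5, 6, 7, 6, 5, 4, 3, 2, 1, 3, 4, 5, 6, 0, 2, 3, 4, 5, 0, 2, 1, 3, 4, 2, 3, 0],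
  [5, 6, 7, 5, 4, 3, 2, 1, 3, 4, 5, 6, 0, 2, 3, 4, 5, 1, 3, 4, 2, 3, 0, 2, 1, 3, 4, 5, 6, 7, 2, 1, 3, 4, 5, 6, 4, 3, 2, 1, 3, 4, 5, 2, 1, 3, 4, 2, 1, 3, 0, 2, 1, 0],
  [6, 4, 5, 3, 4, 2, 3, 0, 2, 1, 3, 4, 5, 6, 7, 6, 4, 5, 3, 4, 1, 3, 2, 0],
  [0, 2, 3, 4, 5, 6, 7, 6, 5, 4, 3, 2, 1, 3, 4, 5, 6, 1, 3, 4, 5, 3, 4, 2, 1, 3, 1, 0],
  [6, 3, 4, 5, 1, 3, 4, 2, 3, 0, 2, 1, 3, 4, 5, 6, 7, 3, 4, 5, 6, 3, 0, 2, 1, 3, 4, 5, 2, 3, 4, 3, 2, 1, 3, 0, 2, 0],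
  [0, 2, 3, 4, 5, 6, 7, 6, 5, 4, 3, 2, 1, 3, 4, 5, 6, 1, 3, 4, 5, 4, 2, 3, 1, 0],
  [4, 5, 6, 3, 4, 5, 1, 3, 4, 2, 3, 0, 2, 1, 3, 4, 5, 6, 7, 3, 4, 5, 6, 3, 0, 2, 1, 3, 4, 5, 2, 3, 4, 3, 2, 1, 3, 0, 2, 0],
  [5, 6, 0, 2, 3, 4, 5, 1, 3, 4, 2, 3, 0, 2, 1, 3, 4, 5, 6, 7, 2, 3, 4, 5, 6, 2, 3, 0, 2, 1, 3, 4, 5, 3, 0, 2, 1, 0],
  [6, 5, 4, 3, 2, 1, 3, 4, 5, 6, 7, 2, 1, 3, 4, 5, 6, 5, 4, 3, 2, 0],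
  [4, 5, 6, 7, 6, 5, 1, 3, 4, 2, 3, 0, 2, 1, 3, 4, 5, 6, 0, 2, 1, 3, 4, 5, 3, 0, 2, 1, 3, 4, 2, 1, 3, 0],
  [6, 5, 1, 3, 4, 2, 3, 0, 2, 1, 3, 4, 5, 6, 7, 5, 4, 3, 2, 1, 3, 4, 5, 6, 0, 2, 1, 3, 4, 5, 4, 3, 0, 2, 1, 3, 0, 2, 1, 0],
  [0, 2, 3, 4, 5, 6, 7, 6, 5, 4, 3, 2, 1, 3, 4, 5, 6, 5, 2, 3, 4, 2, 1, 3, 1, 0],
  [6, 5, 4, 3, 2, 1, 3, 4, 5, 6, 7, 2, 1, 3, 4, 5, 6, 4, 3, 0, 2, 1, 3, 4, 5, 3, 4, 3, 2, 1, 3, 0, 2, 0],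
  [2, 3, 4, 5, 3, 4, 2, 1, 3, 2, 1, 0],
  [0, 2, 3, 4, 5, 6, 7, 6, 5, 4, 3, 2, 1, 3, 4, 5, 6, 4, 5, 2, 3, 4, 1, 3, 1, 0],
  [6, 3, 4, 5, 1, 3, 4, 2, 3, 0, 2, 1, 3, 4, 5, 6, 7, 3, 4, 5, 6, 0, 2, 3, 4, 5, 4, 3, 2, 1, 3, 0, 2, 0],
  [2, 3, 4, 5, 4, 3, 2, 1, 3, 2, 1, 0],
  [3, 2, 1, 3, 4, 1, 3, 2, 1, 0],
  [6, 5, 3, 4, 2, 3, 0, 2, 1, 3, 4, 5, 6, 7, 5, 6, 4, 5, 4, 2, 1, 3, 2, 0],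
  [3, 4, 5, 6, 7, 6, 5, 4, 3, 2, 1, 3, 4, 5, 6, 3, 4, 5, 2, 3, 4, 2, 1, 3, 1, 0],
  [6, 5, 4, 2, 3, 0, 2, 1, 3, 4, 5, 6, 7, 2, 1, 3, 4, 5, 6, 0, 2, 1, 3, 4, 5, 3, 4, 3, 2, 1, 3, 0, 2, 0],
  [3, 4, 5, 6, 7, 6, 5, 4, 3, 2, 1, 3, 4, 5, 6, 5, 2, 3, 4, 2, 1, 3, 1, 0],
  [0, 2, 3, 4, 5, 6, 7, 6, 5, 4, 3, 2, 1, 3, 4, 5, 6, 3, 4, 5, 2, 3, 4, 2, 1, 3, 0, 2, 1, 0],
  [6, 5, 4, 3, 0, 2, 1, 3, 4, 5, 6, 7, 2, 3, 4, 5, 6, 3, 4, 0, 2, 1, 3, 2, 1, 0],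
  [3, 4, 5, 6, 7, 6, 5, 4, 3, 2, 1, 3, 4, 5, 6, 4, 5, 2, 3, 4, 1, 3, 1, 0],
  [6, 7, 6, 5, 1, 3, 4, 2, 3, 0, 2, 1, 3, 4, 5, 6, 2, 3, 0, 2, 1, 3, 4, 5, 2, 1, 3, 4, 2, 1, 3, 0, 2, 0],
  [5, 6, 7, 6, 4, 5, 1, 3, 4, 2, 3, 0, 2, 1, 3, 4, 5, 6, 4, 5, 0, 2, 1, 3, 2, 0],
  [6, 5, 4, 3, 0, 2, 1, 3, 4, 5, 6, 7, 2, 3, 4, 5, 6, 0, 2, 1, 3, 2, 1, 0],
  [6, 5, 4, 3, 0, 2, 1, 3, 4, 5, 6, 7, 2, 3, 4, 5, 6, 0, 2, 1, 3, 4, 5, 0, 2, 3, 4, 3, 2, 1, 3, 0],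
  [0, 2, 3, 4, 5, 6, 7, 6, 5, 4, 3, 2, 1, 3, 4, 5, 6, 5, 4, 3, 0, 2, 1, 0],
  [4, 5, 1, 3, 4, 3, 2, 1, 3, 0],
  [1, 3, 4, 3, 2, 1, 3, 0],
  [5, 1, 3, 4, 2, 1, 3, 0],
  [3, 4, 5, 6, 7, 6, 5, 4, 3, 2, 1, 3, 4, 5, 6, 5, 4, 3, 1, 0],
  [6, 7, 3, 4, 5, 6, 2, 3, 4, 5, 1, 3, 4, 2, 3, 0, 2, 1, 3, 4, 5, 6, 7, 5, 4, 2, 3, 0, 2, 1, 3, 4, 5, 6, 5, 2, 1, 3, 4, 3, 2, 1, 3, 0, 2, 0],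
  [5, 0, 2, 1, 3, 4, 2, 1, 3, 0, 2, 0],
  [5, 6, 4, 5, 3, 4, 2, 3, 0, 2, 1, 3, 4, 5, 6, 7, 5, 6, 3, 0, 2, 1, 3, 4, 5, 3, 0, 2, 1, 0],
  [0, 2, 1, 3, 4, 3, 2, 1, 3, 0, 2, 0],
  [2, 0],
  [6, 5, 3, 4, 2, 3, 0, 2, 1, 3, 4, 5, 6, 7, 5, 6, 2, 3, 0, 2, 1, 3, 0, 2, 1, 0],
  [6, 5, 4, 3, 0, 2, 1, 3, 4, 5, 6, 7, 2, 3, 4, 5, 6, 5, 4, 3, 2, 0],
  [6, 5, 4, 3, 2, 1, 3, 4, 5, 6, 7, 2, 1, 3, 4, 5, 6, 3, 4, 5, 4, 3, 0, 2, 1, 3, 4, 3, 2, 1, 3, 0],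
  [3, 4, 5, 6, 7, 6, 5, 4, 3, 2, 1, 3, 4, 5, 6, 4, 5, 2, 3, 4, 1, 3, 0, 2, 1, 0],
  [6, 7, 6, 5, 1, 3, 4, 2, 3, 0, 2, 1, 3, 4, 5, 6, 2, 3, 4, 5, 2, 3, 4, 2, 1, 3, 1, 0],
  [3, 4, 5, 6, 7, 6, 5, 4, 3, 2, 1, 3, 4, 5, 6, 3, 4, 5, 2, 3, 4, 2, 1, 3, 0, 2, 1, 0],
  [3, 4, 5, 3, 4, 0, 2, 1, 3, 2, 1, 0],
  [6, 5, 3, 4, 2, 3, 0, 2, 1, 3, 4, 5, 6, 7, 5, 6, 3, 4, 5, 4, 3, 0, 2, 1, 3, 4, 1, 3, 1, 0],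
  [3, 4, 5, 6, 7, 6, 5, 4, 3, 2, 1, 3, 4, 5, 6, 2, 3, 4, 5, 2, 1, 3, 4, 3, 0, 2, 1, 0],
  [5, 6, 7, 6, 4, 5, 1, 3, 4, 2, 3, 0, 2, 1, 3, 4, 5, 6, 0, 2, 3, 4, 2, 3, 2, 0],
  [3, 0, 2, 1, 3, 4, 3, 2, 1, 0],
  [0, 2, 1, 3, 4, 5, 6, 7, 6, 2, 3, 4, 5, 1, 3, 4, 2, 3, 0, 2, 1, 3, 4, 5, 6, 1, 3, 4, 5, 2, 3, 4, 1, 3, 1, 0],
  [6, 7, 6, 5, 1, 3, 4, 2, 3, 0, 2, 1, 3, 4, 5, 6, 5, 4, 2, 3, 0, 2, 1, 0],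
  [4, 5, 0, 2, 1, 3, 4, 3, 2, 1, 3, 0],
  [0, 2, 1, 3, 4, 3, 2, 1, 3, 0],
  [5, 0, 2, 1, 3, 4, 2, 1, 3, 0],
  [6, 3, 4, 5, 1, 3, 4, 2, 3, 0, 2, 1, 3, 4, 5, 6, 7, 3, 4, 5, 6, 0, 2, 3, 4, 5, 0, 2, 3, 4, 3, 2, 1, 3, 1, 0],
  [3, 4, 5, 6, 7, 6, 5, 4, 3, 2, 1, 3, 4, 5, 6, 5, 4, 3, 0, 2, 1, 0],
  [3, 4, 5, 2, 1, 3, 4, 3, 0, 2, 1, 3, 1, 0],
  [6, 4, 5, 3, 4, 2, 3, 0, 2, 1, 3, 4, 5, 6, 7, 6, 4, 0, 2, 3, 1, 0],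
  [3, 4, 5, 6, 7, 6, 5, 4, 3, 2, 1, 3, 4, 5, 6, 4, 5, 0, 2, 1, 3, 0],
  [3, 2, 1, 3, 4, 5, 0, 2, 1, 3, 4, 1, 3, 0],
  [0, 2, 3, 4, 5, 6, 7, 6, 5, 4, 3, 2, 1, 3, 4, 5, 6, 5, 4, 3, 1, 0],
  [3, 4, 5, 6, 7, 6, 5, 4, 3, 2, 1, 3, 4, 5, 6, 3, 2, 1, 3, 4, 5, 2, 1, 3, 4, 2, 1, 3, 0, 2, 1, 0],
  [6, 5, 3, 4, 2, 3, 0, 2, 1, 3, 4, 5, 6, 7, 5, 6, 4, 0, 2, 3, 0, 2, 1, 0],
  [3, 2, 1, 3, 4, 5, 4, 3, 0, 2, 1, 3, 4, 3, 0, 2, 1, 0],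
  [6, 4, 5, 3, 4, 2, 3, 0, 2, 1, 3, 4, 5, 6, 7, 6, 4, 0, 2, 3, 0, 2, 1, 0],
  [6, 7, 6, 5, 1, 3, 4, 2, 3, 0, 2, 1, 3, 4, 5, 6, 5, 2, 3, 0, 2, 1, 3, 0],
  [6, 7, 6, 5, 1, 3, 4, 2, 3, 0, 2, 1, 3, 4, 5, 6, 5, 4, 2, 3, 1, 0],
  [0, 2, 3, 4, 5, 6, 7, 6, 5, 4, 3, 2, 1, 3, 4, 5, 6, 3, 2, 1, 3, 4, 5, 2, 1, 3, 4, 2, 1, 3, 0, 2, 1, 0],
  [5, 1, 3, 4, 2, 1, 3, 0, 2, 0],
  [4, 5, 1, 3, 4, 3, 2, 1, 3, 0, 2, 0],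
  [1, 3, 4, 3, 2, 1, 3, 0, 2, 0],
  [6, 7, 6, 5, 1, 3, 4, 2, 3, 0, 2, 1, 3, 4, 5, 6, 4, 5, 3, 4, 1, 3, 1, 0],
  [0, 2, 3, 4, 5, 6, 7, 6, 5, 4, 3, 2, 1, 3, 4, 5, 6, 4, 5, 3, 2, 1, 3, 4, 2, 3, 0, 2, 1, 0],
  [3, 4, 5, 2, 3, 4, 0, 2, 3, 2, 1, 0],
  [0, 2, 1, 3, 4, 5, 6, 7, 6, 2, 3, 4, 5, 1, 3, 4, 2, 3, 0, 2, 1, 3, 4, 5, 6, 5, 0, 2, 3, 0, 2, 0],
  [4, 5, 6, 7, 6, 5, 1, 3, 4, 2, 3, 0, 2, 1, 3, 4, 5, 6, 4, 5, 3, 4, 1, 3, 1, 0],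
  [3, 4, 5, 6, 7, 6, 5, 4, 3, 2, 1, 3, 4, 5, 6, 5, 2, 1, 3, 4, 2, 3, 0, 2, 1, 0],
  [3, 4, 5, 1, 3, 4, 2, 3, 0, 2, 1, 3, 1, 0],
  [5, 6, 7, 6, 4, 5, 1, 3, 4, 2, 3, 0, 2, 1, 3, 4, 5, 6, 1, 3, 4, 5, 3, 4, 1, 3, 1, 0],
  [3, 4, 5, 6, 7, 6, 5, 4, 3, 2, 1, 3, 4, 5, 6, 3, 4, 5, 2, 1, 3, 4, 2, 3, 0, 2, 1, 0],
  [6, 7, 5, 6, 3, 4, 5, 1, 3, 4, 2, 3, 0, 2, 1, 3, 4, 5, 6, 7, 6, 4, 5, 3, 4, 2, 3, 0, 2, 1, 3, 4, 5, 6, 3, 2, 1, 3, 4, 5, 0, 2, 1, 3, 4, 1, 3, 0],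
  [6, 7, 5, 6, 3, 4, 5, 1, 3, 4, 2, 3, 0, 2, 1, 3, 4, 5, 6, 7, 6, 4, 5, 3, 4, 2, 3, 0, 2, 1, 3, 4, 5, 6, 3, 2, 1, 3, 4, 5, 4, 3, 2, 1, 3, 4, 3, 2, 1, 3, 0, 2],
  [3, 4, 5, 6, 7, 6, 5, 4, 3, 2, 1, 3, 4, 5, 6, 3, 4, 5, 0, 2, 3, 4, 2, 3, 0, 2, 1, 3],
  [6, 5, 4, 3, 0, 2, 1, 3, 4, 5, 6, 7, 2, 3, 4, 5, 6, 4, 5, 1, 3, 4, 2, 3, 0, 2],
  [1, 3, 4, 5, 2, 3, 4, 0, 2, 3, 0, 2],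
  [6, 4, 5, 3, 4, 2, 3, 0, 2, 1, 3, 4, 5, 6, 7, 6, 4, 5, 3, 4, 1, 3],
  [5, 6, 4, 5, 3, 4, 2, 3, 0, 2, 1, 3, 4, 5, 6, 7, 5, 6, 0, 2, 1, 3, 4, 5, 1, 3, 4, 2, 3, 0, 2, 1],
  [1, 3, 4, 5, 2, 3, 4, 0, 2, 3],
  [3, 4, 5, 1, 3, 4, 2, 3, 0, 2, 1, 3, 2, 1],
  [6, 5, 3, 4, 2, 3, 0, 2, 1, 3, 4, 5, 6, 7, 5, 6, 4, 5, 3, 4, 1, 3],
  [6, 5, 4, 3, 2, 1, 3, 4, 5, 6, 7, 2, 1, 3, 4, 5, 6, 5, 1, 3, 4, 2, 1, 3, 0, 2],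
  [6, 5, 4, 3, 0, 2, 1, 3, 4, 5, 6, 7, 2, 3, 4, 5, 6, 0, 2, 1, 3, 1],
  [6, 5, 4, 3, 0, 2, 1, 3, 4, 5, 6, 7, 2, 3, 4, 5, 6, 3, 4, 0, 2, 1, 3, 1],
  [5, 6, 7, 6, 4, 5, 1, 3, 4, 2, 3, 0, 2, 1, 3, 4, 5, 6, 4, 5, 0, 2, 1, 3],
  [3, 4, 2, 3, 0, 2, 1, 3, 4, 5, 6, 7, 6, 5, 4, 3, 2, 1, 3, 4, 5, 6, 2, 3, 4, 5, 0, 2, 3, 4, 3, 0, 2, 1, 3, 1],
  [6, 5, 4, 3, 0, 2, 1, 3, 4, 5, 6, 7, 2, 3, 4, 5, 6, 5, 4, 3, 0, 2],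
  [0, 2],
  [3, 4, 5, 0, 2, 1, 3, 1],
  [3, 4, 5, 3, 4, 0, 2, 1, 3, 1],
  [3, 4, 5, 4, 3, 0, 2, 1, 3, 1],
  [3, 4, 5, 6, 7, 6, 5, 4, 3, 2, 1, 3, 4, 5, 6, 2, 1, 3, 4, 5, 0, 2, 3, 4, 3, 2, 1, 3],
  [6, 5, 4, 3, 2, 1, 3, 4, 5, 6, 7, 2, 1, 3, 4, 5, 6, 5, 4, 3, 0, 2],
  [3, 2, 1, 3, 4, 5, 4, 3, 2, 1, 3, 4, 3, 2, 1, 3, 0, 2],
  [3, 4, 5, 4, 3, 0, 2, 1, 3, 0, 2, 1],
  [3, 4, 5, 0, 2, 1, 3, 0, 2, 1],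
  [3, 4, 5, 3, 4, 0, 2, 1, 3, 0, 2, 1],
  [6, 5, 3, 4, 2, 3, 0, 2, 1, 3, 4, 5, 6, 7, 5, 6, 4, 5, 4, 2, 1, 3],
  [6, 5, 4, 3, 2, 1, 3, 4, 5, 6, 7, 2, 1, 3, 4, 5, 6, 3, 0, 2, 1, 3, 4, 5, 2, 1, 3, 4, 2, 1, 3, 0, 2, 1],
  [2, 3, 4, 5, 4, 3, 2, 1, 3, 0, 2, 1],
  [3, 2, 1, 3, 4, 1, 3, 0, 2, 1],
  [4, 5, 3, 2, 1, 3, 4, 1, 3, 0, 2, 1],
  [6, 5, 4, 3, 0, 2, 1, 3, 4, 5, 6, 7, 2, 3, 4, 5, 6, 5, 4, 3],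
  [6, 5, 1, 3, 4, 2, 3, 0, 2, 1, 3, 4, 5, 6, 7, 5, 4, 3, 2, 1, 3, 4, 5, 6, 2, 3, 4, 5, 3, 2, 1, 3, 4, 2, 1, 3, 0, 2],
  [6, 4, 5, 3, 4, 2, 3, 0, 2, 1, 3, 4, 5, 6, 7, 6, 4, 0, 2, 3, 2, 1],
  [6, 5, 3, 4, 2, 3, 0, 2, 1, 3, 4, 5, 6, 7, 5, 6, 4, 0, 2, 3, 2, 1],
  [6, 5, 4, 3, 0, 2, 1, 3, 4, 5, 6, 7, 2, 3, 4, 5, 6, 2, 3, 4, 5, 4, 1, 3],
  [6, 5, 3, 4, 2, 3, 0, 2, 1, 3, 4, 5, 6, 7, 5, 6, 2, 3, 0, 2, 1, 3, 4, 5, 3, 2, 1, 3, 4, 2, 3, 0, 2, 1],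
  [5, 3, 4, 2, 3, 0, 2, 1, 3, 4, 5, 4, 2, 3, 2, 1],
  [3, 4, 5, 6, 7, 6, 5, 4, 3, 2, 1, 3, 4, 5, 6, 2, 3, 4, 5, 0, 2, 1, 3, 4, 3, 2, 1, 3],
  [6, 7, 6, 5, 1, 3, 4, 2, 3, 0, 2, 1, 3, 4, 5, 6, 2, 3, 4, 5, 0, 2, 1, 3, 4, 3, 2, 1, 3, 0, 2, 1],
  [6, 5, 4, 3, 0, 2, 1, 3, 4, 5, 6, 7, 2, 3, 4, 5, 6, 2, 3, 4, 5, 3, 4, 2, 1, 3],
  [6, 5, 4, 3, 2, 1, 3, 4, 5, 6, 7, 2, 1, 3, 4, 5, 6, 3, 4, 5, 2, 1, 3, 4, 1, 3, 0, 2],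
  [6, 7, 6, 5, 1, 3, 4, 2, 3, 0, 2, 1, 3, 4, 5, 6, 5, 4, 2, 3, 2, 1],
  [],
  [6, 5, 3, 4, 2, 3, 0, 2, 1, 3, 4, 5, 6, 7, 5, 6, 2, 3, 0, 2, 1, 3, 2, 1],
  [3, 2, 1, 3, 4, 1, 3, 1],
  [2, 3, 4, 5, 3, 4, 2, 1, 3, 1],
  [2, 3, 4, 5, 4, 3, 2, 1, 3, 1],
  [2, 3, 4, 5, 6, 7, 6, 5, 4, 3, 0, 2, 1, 3, 4, 5, 6, 0, 2, 1, 3, 4, 5, 4, 3, 0, 2, 1, 3, 4, 1, 3],
  [6, 5, 3, 4, 2, 3, 0, 2, 1, 3, 4, 5, 6, 7, 5, 6, 4, 5, 4, 2, 1, 3, 0, 2],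
  [5, 6, 7, 6, 4, 5, 1, 3, 4, 2, 3, 0, 2, 1, 3, 4, 5, 6, 4, 5, 0, 2, 1, 3, 0, 2],
  [6, 5, 4, 3, 0, 2, 1, 3, 4, 5, 6, 7, 2, 3, 4, 5, 6, 0, 2, 1, 3, 0, 2, 1],
  [6, 5, 4, 3, 0, 2, 1, 3, 4, 5, 6, 7, 2, 3, 4, 5, 6, 3, 4, 0, 2, 1, 3, 0, 2, 1],
  [6, 5, 4, 3, 2, 1, 3, 4, 5, 6, 7, 2, 1, 3, 4, 5, 6, 5, 4, 3],
  [6, 5, 4, 3, 0, 2, 1, 3, 4, 5, 6, 7, 2, 3, 4, 5, 6, 3, 0, 2, 1, 3, 4, 5, 2, 1, 3, 4, 2, 1, 3, 0, 2, 1],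
  [1, 3, 4, 3, 2, 1, 3, 2],
  [5, 1, 3, 4, 2, 1, 3, 2],
  [0, 2, 3, 4, 5, 6, 7, 6, 5, 4, 3, 2, 1, 3, 4, 5, 6, 5, 0, 2, 1, 3, 4, 3, 2, 1, 3, 1],
  [6, 5, 4, 3, 0, 2, 1, 3, 4, 5, 6, 7, 2, 3, 4, 5, 6, 2, 3, 4, 5, 3, 4, 2, 1, 3, 0, 2],
  [6, 5, 4, 3, 0, 2, 1, 3, 4, 5, 6, 7, 2, 3, 4, 5, 6, 4, 2, 3, 0, 2, 1, 3, 4, 5, 2, 3, 2, 1],
  [0, 2, 3, 4, 5, 6, 7, 6, 5, 4, 3, 2, 1, 3, 4, 5, 6, 3, 4, 5, 0, 2, 1, 3, 4, 3, 2, 1, 3, 1],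
  [6, 5, 4, 3, 0, 2, 1, 3, 4, 5, 6, 7, 2, 3, 4, 5, 6, 2, 3, 4, 5, 4, 1, 3, 0, 2],
  [0, 2, 3, 4, 5, 6, 7, 6, 5, 4, 3, 2, 1, 3, 4, 5, 6, 4, 5, 3, 0, 2, 1, 3, 4, 3, 2, 1, 3, 1],
  [3, 4, 5, 6, 0, 2, 3, 4, 5, 1, 3, 4, 2, 3, 0, 2, 1, 3, 4, 5, 6, 7, 6, 0, 2, 3, 4, 5, 3, 0, 2, 1, 3, 4, 2, 1, 3, 0, 2, 1],
  [3, 4, 5, 6, 7, 6, 5, 4, 3, 2, 1, 3, 4, 5, 6, 5, 4, 3, 2, 1],
  [0, 2, 1, 3, 4, 3, 2, 1, 3, 2],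
  [5, 0, 2, 1, 3, 4, 2, 1, 3, 2],
  [6, 7, 6, 5, 1, 3, 4, 2, 3, 0, 2, 1, 3, 4, 5, 6, 3, 4, 5, 0, 2, 1, 3, 4, 3, 2, 1, 3],
  [5, 6, 7, 6, 4, 5, 1, 3, 4, 2, 3, 0, 2, 1, 3, 4, 5, 6, 1, 3, 4, 5, 0, 2, 3, 4, 3, 2, 1, 3, 0, 2],
  [4, 5, 0, 2, 1, 3, 4, 3, 2, 1, 3, 2],
  [6, 5, 4, 3, 2, 1, 3, 4, 5, 6, 7, 2, 1, 3, 4, 5, 6, 3, 4, 5, 2, 1, 3, 4, 1, 3],
  [6, 4, 5, 3, 4, 2, 3, 0, 2, 1, 3, 4, 5, 6, 7, 6, 1, 3, 4, 5, 2, 3, 4, 2, 1, 3, 0, 2],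
  [6, 5, 3, 4, 2, 3, 0, 2, 1, 3, 4, 5, 6, 7, 5, 6, 0, 2, 3, 4, 5, 0, 2, 1, 3, 4, 2, 1, 3, 1],
  [0, 2, 3, 4, 5, 6, 7, 6, 5, 4, 3, 2, 1, 3, 4, 5, 6, 3, 4, 5, 0, 2, 1, 3, 4, 3, 2, 1, 3, 0, 2, 1],
  [0, 2, 3, 4, 5, 6, 7, 6, 5, 4, 3, 2, 1, 3, 4, 5, 6, 5, 4, 3, 2, 1],
  [3, 2, 1, 3, 4, 5, 4, 3, 2, 1, 3, 4, 3, 2, 1, 3],
  [4, 3, 0, 2, 1, 3, 4, 5, 6, 7, 6, 5, 3, 4, 2, 3, 0, 2, 1, 3, 4, 5, 6, 5, 4, 3, 0, 2, 1, 3, 4, 5, 2, 3, 4, 1, 3, 1],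
  [6, 4, 5, 3, 4, 2, 3, 0, 2, 1, 3, 4, 5, 6, 7, 6, 4, 5, 3, 4, 1, 3, 0, 2],
  [6, 7, 5, 6, 3, 4, 5, 1, 3, 4, 2, 3, 0, 2, 1, 3, 4, 5, 6, 7, 6, 4, 5, 3, 4, 2, 3, 0, 2, 1, 3, 4, 5, 6, 2, 3, 4, 5, 3, 4, 2, 1, 3, 1],
  [6, 5, 3, 4, 2, 3, 0, 2, 1, 3, 4, 5, 6, 7, 5, 6, 4, 5, 3, 4, 1, 3, 0, 2],
  [3, 4, 5, 6, 7, 6, 5, 4, 3, 2, 1, 3, 4, 5, 6, 5, 2, 1, 3, 4, 2, 3, 2, 1],
  [5, 6, 3, 4, 5, 1, 3, 4, 2, 3, 0, 2, 1, 3, 4, 5, 6, 7, 2, 3, 4, 5, 6, 2, 3, 0, 2, 1, 3, 4, 5, 0, 2, 1, 3, 4, 2, 1, 3, 1],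
  [4, 5, 6, 3, 4, 5, 1, 3, 4, 2, 3, 0, 2, 1, 3, 4, 5, 6, 7, 3, 4, 5, 6, 4, 5, 4, 1, 3, 0, 2],
  [3, 4, 5, 6, 7, 6, 5, 4, 3, 2, 1, 3, 4, 5, 6, 1, 3, 4, 5, 1, 3, 4, 2, 3, 2, 1],
  [3, 4, 5, 6, 7, 6, 5, 4, 3, 2, 1, 3, 4, 5, 6, 1, 3, 4, 5, 3, 4, 2, 1, 3, 2, 1],
  [6, 0, 2, 3, 4, 5, 1, 3, 4, 2, 3, 0, 2, 1, 3, 4, 5, 6, 7, 3, 4, 5, 6, 2, 3, 4, 0, 2, 1, 3, 2, 1],
  [6, 5, 4, 3, 2, 1, 3, 4, 5, 6, 7, 2, 1, 3, 4, 5, 6, 5, 1, 3, 4, 2, 1, 3],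
  [6, 7, 5, 6, 3, 4, 5, 1, 3, 4, 2, 3, 0, 2, 1, 3, 4, 5, 6, 7, 6, 4, 5, 3, 4, 2, 3, 0, 2, 1, 3, 4, 5, 6, 2, 3, 4, 5, 3, 4, 2, 1, 3, 0, 2, 1],
  [6, 5, 4, 3, 0, 2, 1, 3, 4, 5, 6, 7, 2, 3, 4, 5, 6, 4, 5, 1, 3, 4, 2, 3],
  [5, 6, 3, 4, 5, 1, 3, 4, 2, 3, 0, 2, 1, 3, 4, 5, 6, 7, 2, 3, 4, 5, 6, 3, 0, 2, 1, 3, 4, 5, 3, 0, 2, 1, 3, 4, 2, 1, 3, 0, 2, 1],
  [5, 6, 7, 6, 4, 5, 1, 3, 4, 2, 3, 0, 2, 1, 3, 4, 5, 6, 4, 5, 3, 4, 1, 3, 2, 1],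
  [6, 5, 4, 3, 2, 1, 3, 4, 5, 6, 7, 2, 1, 3, 4, 5, 6, 3, 4, 5, 1, 3, 4, 2, 1, 3],
  [4, 5, 6, 0, 2, 3, 4, 5, 1, 3, 4, 2, 3, 0, 2, 1, 3, 4, 5, 6, 7, 3, 4, 5, 6, 2, 3, 0, 2, 1, 3, 4, 5, 0, 2, 1, 3, 4, 2, 1, 3, 0, 2, 1],
  [6, 7, 6, 5, 1, 3, 4, 2, 3, 0, 2, 1, 3, 4, 5, 6, 4, 5, 3, 4, 1, 3, 2, 1],
  [6, 5, 4, 3, 0, 2, 1, 3, 4, 5, 6, 7, 2, 3, 4, 5, 6, 0, 2, 3, 4, 5, 2, 3, 4, 3, 0, 2, 1, 3, 2, 1],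
  [6, 5, 4, 3, 0, 2, 1, 3, 4, 5, 6, 7, 2, 3, 4, 5, 6, 3, 0, 2, 1, 3, 4, 5, 2, 1, 3, 4, 2, 1, 3, 1],
  [3, 4, 5, 6, 7, 6, 5, 4, 3, 2, 1, 3, 4, 5, 6, 2, 1, 3, 4, 5, 0, 2, 3, 4, 3, 2, 1, 3, 0, 2],
  [6, 7, 6, 5, 1, 3, 4, 2, 3, 0, 2, 1, 3, 4, 5, 6, 2, 1, 3, 4, 5, 3, 4, 2, 1, 3, 2, 1],
  [3, 4, 5, 6, 7, 6, 5, 4, 3, 2, 1, 3, 4, 5, 6, 4, 5, 2, 3, 4, 1, 3, 2, 1],
  [3, 4, 5, 6, 7, 6, 5, 4, 3, 2, 1, 3, 4, 5, 6, 3, 4, 5, 2, 3, 4, 2, 1, 3, 2, 1],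
  [6, 5, 4, 3, 2, 1, 3, 4, 5, 6, 7, 2, 1, 3, 4, 5, 6, 3, 0, 2, 1, 3, 4, 5, 2, 1, 3, 4, 2, 1, 3, 1],
  [2, 3, 4, 5, 6, 7, 6, 5, 4, 3, 0, 2, 1, 3, 4, 5, 6, 0, 2, 1, 3, 4, 5, 4, 3, 0, 2, 1, 3, 4, 1, 3, 0, 2],
  [6, 7, 6, 5, 1, 3, 4, 2, 3, 0, 2, 1, 3, 4, 5, 6, 2, 3, 4, 5, 2, 3, 4, 2, 1, 3, 2, 1],
  [6, 5, 1, 3, 4, 2, 3, 0, 2, 1, 3, 4, 5, 6, 7, 5, 4, 3, 2, 1, 3, 4, 5, 6, 0, 2, 1, 3, 4, 5, 4, 3, 0, 2, 1, 3, 2, 1],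
  [6, 5, 4, 3, 2, 1, 3, 4, 5, 6, 7, 2, 1, 3, 4, 5, 6, 4, 3, 0, 2, 1, 3, 4, 5, 3, 4, 3, 2, 1, 3, 2],
  [3, 4, 5, 6, 7, 6, 5, 4, 3, 2, 1, 3, 4, 5, 6, 3, 2, 1, 3, 4, 5, 2, 1, 3, 4, 2, 1, 3, 2, 1],
  [6, 3, 4, 5, 1, 3, 4, 2, 3, 0, 2, 1, 3, 4, 5, 6, 7, 3, 4, 5, 6, 0, 2, 3, 4, 5, 0, 2, 3, 4, 3, 2, 1, 3, 2, 1],
  [6, 5, 1, 3, 4, 2, 3, 0, 2, 1, 3, 4, 5, 6, 7, 5, 4, 3, 2, 1, 3, 4, 5, 6, 2, 3, 4, 5, 3, 2, 1, 3, 4, 2, 1, 3],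
  [3, 4, 2, 3, 0, 2, 1, 3, 4, 5, 6, 7, 6, 5, 4, 3, 2, 1, 3, 4, 5, 6, 2, 3, 4, 5, 0, 2, 3, 4, 3, 0, 2, 1, 3, 0, 2, 1],
  [6, 7, 6, 5, 1, 3, 4, 2, 3, 0, 2, 1, 3, 4, 5, 6, 2, 3, 0, 2, 1, 3, 4, 5, 2, 1, 3, 4, 2, 1, 3, 2],
  [6, 5, 3, 4, 2, 3, 0, 2, 1, 3, 4, 5, 6, 7, 5, 6, 2, 3, 0, 2, 1, 3, 4, 5, 2, 3, 4, 3, 2, 1, 3, 2],
  [0, 2, 3, 4, 5, 6, 7, 6, 5, 4, 3, 2, 1, 3, 4, 5, 6, 3, 4, 5, 2, 3, 4, 2, 1, 3, 2, 1],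
  [0, 2, 3, 4, 5, 6, 7, 6, 5, 4, 3, 2, 1, 3, 4, 5, 6, 3, 2, 1, 3, 4, 5, 2, 1, 3, 4, 2, 1, 3, 2, 1],
  [6, 7, 3, 4, 5, 6, 2, 3, 4, 5, 1, 3, 4, 2, 3, 0, 2, 1, 3, 4, 5, 6, 7, 5, 4, 2, 3, 0, 2, 1, 3, 4, 5, 6, 5, 2, 1, 3, 4, 3, 2, 1, 3, 2],
  [6, 5, 4, 3, 0, 2, 1, 3, 4, 5, 6, 7, 2, 3, 4, 5, 6, 0, 2, 1, 3, 4, 5, 0, 2, 3, 4, 3, 2, 1, 3, 2],
  [0, 2, 1, 3, 4, 5, 6, 7, 6, 2, 3, 4, 5, 1, 3, 4, 2, 3, 0, 2, 1, 3, 4, 5, 6, 1, 3, 4, 5, 2, 3, 4, 1, 3, 2, 1],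
  [6, 3, 4, 5, 1, 3, 4, 2, 3, 0, 2, 1, 3, 4, 5, 6, 7, 3, 4, 5, 6, 3, 0, 2, 1, 3, 4, 5, 2, 3, 4, 3, 2, 1, 3, 2],
  [4, 5, 6, 3, 4, 5, 1, 3, 4, 2, 3, 0, 2, 1, 3, 4, 5, 6, 7, 3, 4, 5, 6, 3, 0, 2, 1, 3, 4, 5, 2, 3, 4, 3, 2, 1, 3, 2],
  [5, 6, 3, 4, 5, 1, 3, 4, 2, 3, 0, 2, 1, 3, 4, 5, 6, 7, 2, 3, 4, 5, 6, 2, 3, 0, 2, 1, 3, 4, 5, 2, 3, 4, 3, 2, 1, 3, 2, 1],
  [6, 7, 5, 6, 3, 4, 5, 1, 3, 4, 2, 3, 0, 2, 1, 3, 4, 5, 6, 7, 6, 4, 5, 3, 4, 2, 3, 0, 2, 1, 3, 4, 5, 6, 4, 3, 2, 1, 3, 4, 5, 3, 2, 1, 3, 4, 3, 2, 1, 3],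
  [6, 7, 4, 5, 6, 3, 4, 5, 1, 3, 4, 2, 3, 0, 2, 1, 3, 4, 5, 6, 7, 4, 5, 3, 4, 2, 3, 0, 2, 1, 3, 4, 5, 6, 3, 0, 2, 1, 3, 4, 5, 0, 2, 3, 4, 1, 3, 2]]

/-- Elements of the stabiliser of the base root. -/
def fixes : List (List ℕ) := [
  [],
  [7, 6, 5, 4, 3, 2, 1, 3, 4, 5, 6, 0, 2, 3, 4, 5, 1, 3, 4, 2, 3, 0, 2, 1, 3, 4, 5, 6, 3, 4, 5, 1, 3, 4, 2, 3, 0, 2, 1, 3],
  [6, 7, 6, 5, 1, 3, 4, 2, 3, 0, 2, 1, 3, 4, 5, 6, 5, 4, 3, 0, 2, 1, 3, 4, 0, 2, 3, 1],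
  [5, 6, 7, 6, 4, 5, 1, 3, 4, 2, 3, 0, 2, 1, 3, 4, 5, 6, 4, 3, 0, 2, 1, 3, 4, 0, 2, 3],
  [4, 5, 6, 7, 6, 5, 1, 3, 4, 2, 3, 0, 2, 1, 3, 4, 5, 6, 5, 4, 3, 2, 1, 3, 4, 5, 0, 2, 3, 1],
  [],
  [],
  [5, 6, 7, 6, 4, 5, 1, 3, 4, 2, 3, 0, 2, 1, 3, 4, 5, 6, 4, 3, 0, 2, 1, 3, 4, 0, 2, 3],
  [5, 6, 7, 6, 4, 5, 1, 3, 4, 2, 3, 0, 2, 1, 3, 4, 5, 6, 4, 3, 0, 2, 1, 3, 4, 0, 2, 3],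
  [],
  [4, 5],
  [5, 4],
  [6, 4, 5, 3, 4, 2, 3, 0, 2, 1, 3, 4, 5, 6, 7, 6, 4, 3, 0, 2, 1, 3, 4, 5, 0, 2, 3, 1],
  [5, 6, 7, 6, 4, 5, 1, 3, 4, 2, 3, 0, 2, 1, 3, 4, 5, 6, 4, 3, 0, 2, 1, 3, 4, 0, 2, 3],
  [],
  [5, 6, 7, 6, 4, 5, 1, 3, 4, 2, 3, 0, 2, 1, 3, 4, 5, 6, 4, 3, 0, 2, 1, 3, 4, 0, 2, 3],
  [],
  [4, 5],
  [5, 4],
  [6, 4, 5, 3, 4, 2, 3, 0, 2, 1, 3, 4, 5, 6, 7, 6, 4, 3, 0, 2, 1, 3, 4, 5, 0, 2, 3, 1],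
  [5, 6, 7, 6, 4, 5, 1, 3, 4, 2, 3, 0, 2, 1, 3, 4, 5, 6, 4, 3, 0, 2, 1, 3, 4, 0, 2, 3],
  [],
  [4, 5],
  [5, 4],
  [6, 4, 5, 3, 4, 2, 3, 0, 2, 1, 3, 4, 5, 6, 7, 6, 4, 3, 0, 2, 1, 3, 4, 5, 0, 2, 3, 1],
  [5, 6, 7, 6, 4, 5, 1, 3, 4, 2, 3, 0, 2, 1, 3, 4, 5, 6, 4, 3, 0, 2, 1, 3, 4, 0, 2, 3],
  [3, 4, 2, 3, 0, 2, 1, 3, 4, 5, 6, 7, 6, 5, 4, 3, 2, 1, 3, 4, 5, 6, 5, 0, 2, 3],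
  [5, 3, 4, 2, 3, 0, 2, 1, 3, 4, 5, 6, 7, 6, 5, 4, 3, 0, 2, 1, 3, 4, 5, 6, 5, 0, 2, 3],
  [6, 5, 3, 4, 2, 3, 0, 2, 1, 3, 4, 5, 6, 7, 5, 6, 5, 4, 3, 2, 1, 3, 4, 0, 2, 3],
  [7, 6, 5, 3, 4, 2, 3, 0, 2, 1, 3, 4, 5, 6, 7, 5, 6, 0, 2, 3, 4, 5, 1, 3, 4, 2, 3, 0, 2, 1, 3, 4, 5, 6, 1, 3, 4, 2, 3, 0, 2, 1, 3, 1],
  [4, 5, 3, 4, 2, 3, 0, 2, 1, 3, 4, 5, 6, 7, 6, 5, 4, 3, 2, 1, 3, 4, 5, 6, 5, 4, 3, 2, 1, 3, 4, 5, 4, 3, 2, 1, 3, 4, 0, 2, 3, 1],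
  [6, 4, 5, 3, 4, 2, 3, 0, 2, 1, 3, 4, 5, 6, 7, 6, 4, 3, 0, 2, 1, 3, 4, 5, 0, 2, 3, 1],
  [7, 6, 4, 5, 3, 4, 2, 3, 0, 2, 1, 3, 4, 5, 6, 7, 6, 0, 2, 3, 4, 5, 1, 3, 4, 2, 3, 0, 2, 1, 3, 4, 5, 6, 1, 3, 4, 2, 3, 0, 2, 1, 3, 4, 5, 1],
  [5, 6, 4, 5, 3, 4, 2, 3, 0, 2, 1, 3, 4, 5, 6, 7, 5, 6, 4, 3, 0, 2, 1, 3, 4, 5, 0, 2, 3, 1],
  [7, 5, 6, 4, 5, 3, 4, 2, 3, 0, 2, 1, 3, 4, 5, 6, 7, 5, 6, 0, 2, 3, 4, 5, 1, 3, 4, 2, 3, 0, 2, 1, 3, 4, 5, 6, 1, 3, 4, 5, 2, 3, 0, 2, 1, 3, 4, 1],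
  [6, 7, 5, 6, 4, 5, 3, 4, 2, 3, 0, 2, 1, 3, 4, 5, 6, 7, 2, 3, 0, 2, 1, 3, 4, 5, 6, 3, 4, 2, 3, 0, 2, 1, 3, 4, 5, 2, 3, 0, 2, 1, 3, 1],
  [1, 3, 4, 2, 3, 0, 2, 1, 3, 4, 5, 6, 7, 6, 2, 3, 4, 5, 1, 3, 4, 2, 3, 0, 2, 1, 3, 4, 5, 6, 1, 3, 4, 2, 3, 0, 2, 1, 3, 4],
  [5, 1, 3, 4, 2, 3, 0, 2, 1, 3, 4, 5, 6, 7, 6, 0, 2, 3, 4, 5, 1, 3, 4, 2, 3, 0, 2, 1, 3, 4, 5, 6, 1, 3, 4, 5, 2, 3, 0, 2, 1, 3],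
  [6, 5, 1, 3, 4, 2, 3, 0, 2, 1, 3, 4, 5, 6, 7, 5, 4, 3, 2, 1, 3, 4, 5, 6, 0, 2, 3, 1],
  [7, 6, 5, 1, 3, 4, 2, 3, 0, 2, 1, 3, 4, 5, 6, 7, 5, 4, 3, 2, 1, 3, 4, 5, 6, 0, 2, 3, 4, 5, 1, 3, 4, 2, 3, 0, 2, 1, 3, 4, 5, 6, 5, 4, 3, 2, 1, 3, 4, 0, 2, 3],
  [4, 5, 1, 3, 4, 2, 3, 0, 2, 1, 3, 4, 5, 6, 7, 6, 2, 3, 4, 5, 1, 3, 4, 2, 3, 0, 2, 1, 3, 4, 5, 6, 1, 3, 4, 5, 2, 3, 0, 2, 1, 3],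
  [6, 4, 5, 1, 3, 4, 2, 3, 0, 2, 1, 3, 4, 5, 6, 7, 4, 3, 2, 1, 3, 4, 5, 6, 0, 2, 3, 1],
  [7, 6, 4, 5, 1, 3, 4, 2, 3, 0, 2, 1, 3, 4, 5, 6, 7, 4, 3, 2, 1, 3, 4, 5, 6, 0, 2, 3, 4, 5, 1, 3, 4, 2, 3, 0, 2, 1, 3, 4, 5, 6, 5, 4, 3, 2, 1, 3, 4, 0, 2, 3],
  [5, 6, 4, 5, 1, 3, 4, 2, 3, 0, 2, 1, 3, 4, 5, 6, 7, 5, 4, 3, 2, 1, 3, 4, 5, 6, 0, 2, 3, 4, 5, 1],
  [7, 5, 6, 4, 5, 1, 3, 4, 2, 3, 0, 2, 1, 3, 4, 5, 6, 7, 5, 4, 3, 2, 1, 3, 4, 5, 6, 0, 2, 3, 4, 5, 1, 3, 4, 2, 3, 0, 2, 1, 3, 4, 5, 6, 4, 3, 2, 1, 3, 4, 0, 2, 3, 1],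
  [6, 7, 5, 6, 4, 5, 1, 3, 4, 2, 3, 0, 2, 1, 3, 4, 5, 6, 7, 4, 5, 6, 3, 4, 5, 1, 3, 4, 2, 3, 0, 2, 1, 3, 4, 5, 6, 1, 3, 4, 5, 0, 2, 3, 4, 0, 2, 3],
  [3, 4, 2, 3, 0, 2, 1, 3, 4, 5, 4, 3, 2, 1, 3, 4, 0, 2, 3, 1],
  [6, 4, 5, 3, 4, 2, 3, 0, 2, 1, 3, 4, 5, 6, 7, 6, 4, 3, 0, 2, 1, 3, 4, 5, 0, 2, 3, 1],
  [7, 6, 5, 4, 3, 2, 1, 3, 4, 5, 6, 0, 2, 3, 4, 5, 1, 3, 4, 2, 3, 0, 2, 1, 3, 4, 5, 6, 3, 4, 5, 1, 3, 4, 2, 3, 0, 2, 1, 3],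
  [6, 5, 1, 3, 4, 2, 3, 0, 2, 1, 3, 4, 5, 6, 7, 5, 4, 3, 2, 1, 3, 4, 5, 6, 0, 2, 3, 1],
  [5, 1, 3, 4, 2, 3, 0, 2, 1, 3, 4, 5, 6, 7, 6, 0, 2, 3, 4, 5, 1, 3, 4, 2, 3, 0, 2, 1, 3, 4, 5, 6, 5, 4, 3, 0, 2, 1, 3, 4, 5, 1, 3, 4, 2, 3, 0, 2, 1, 3],
  [6, 7, 6, 5, 1, 3, 4, 2, 3, 0, 2, 1, 3, 4, 5, 6, 5, 4, 3, 0, 2, 1, 3, 4, 0, 2, 3, 1],
  [5, 6, 4, 5, 1, 3, 4, 2, 3, 0, 2, 1, 3, 4, 5, 6, 7, 5, 4, 3, 2, 1, 3, 4, 5, 6, 0, 2, 3, 4, 5, 1],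
  [7, 6, 5, 4, 3, 2, 1, 3, 4, 5, 6, 0, 2, 3, 4, 5, 1, 3, 4, 2, 3, 0, 2, 1, 3, 4, 5, 6, 2, 3, 4, 5, 1, 3, 4, 2, 3, 0, 2, 1, 3, 1],
  [4, 5, 6, 7, 6, 5, 1, 3, 4, 2, 3, 0, 2, 1, 3, 4, 5, 6, 5, 4, 3, 2, 1, 3, 4, 5, 0, 2, 3, 1],
  [5, 6, 7, 6, 4, 5, 1, 3, 4, 2, 3, 0, 2, 1, 3, 4, 5, 6, 5, 4, 3, 0, 2, 1, 3, 4, 5, 0, 2, 3, 4, 1],
  [3, 4, 2, 3, 0, 2, 1, 3, 4, 5, 4, 3, 2, 1, 3, 4, 0, 2, 3, 1],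
  [6, 4, 5, 3, 4, 2, 3, 0, 2, 1, 3, 4, 5, 6, 7, 6, 4, 3, 0, 2, 1, 3, 4, 5, 0, 2, 3, 1],
  [7, 6, 5, 4, 3, 2, 1, 3, 4, 5, 6, 0, 2, 3, 4, 5, 1, 3, 4, 2, 3, 0, 2, 1, 3, 4, 5, 6, 3, 4, 5, 1, 3, 4, 2, 3, 0, 2, 1, 3],
  [6, 5, 1, 3, 4, 2, 3, 0, 2, 1, 3, 4, 5, 6, 7, 5, 4, 3, 2, 1, 3, 4, 5, 6, 0, 2, 3, 1],
  [5, 1, 3, 4, 2, 3, 0, 2, 1, 3, 4, 5, 6, 7, 6, 0, 2, 3, 4, 5, 1, 3, 4, 2, 3, 0, 2, 1, 3, 4, 5, 6, 5, 4, 3, 0, 2, 1, 3, 4, 5, 1, 3, 4, 2, 3, 0, 2, 1, 3],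
  [6, 7, 6, 5, 1, 3, 4, 2, 3, 0, 2, 1, 3, 4, 5, 6, 5, 4, 3, 0, 2, 1, 3, 4, 0, 2, 3, 1],
  [5, 6, 4, 5, 1, 3, 4, 2, 3, 0, 2, 1, 3, 4, 5, 6, 7, 5, 4, 3, 2, 1, 3, 4, 5, 6, 0, 2, 3, 4, 5, 1],
  [7, 6, 5, 4, 3, 2, 1, 3, 4, 5, 6, 0, 2, 3, 4, 5, 1, 3, 4, 2, 3, 0, 2, 1, 3, 4, 5, 6, 2, 3, 4, 5, 1, 3, 4, 2, 3, 0, 2, 1, 3, 1],
  [4, 5, 6, 7, 6, 5, 1, 3, 4, 2, 3, 0, 2, 1, 3, 4, 5, 6, 5, 4, 3, 2, 1, 3, 4, 5, 0, 2, 3, 1],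
  [5, 6, 7, 6, 4, 5, 1, 3, 4, 2, 3, 0, 2, 1, 3, 4, 5, 6, 5, 4, 3, 0, 2, 1, 3, 4, 5, 0, 2, 3, 4, 1],
  [6, 5, 4, 3, 2, 1, 3, 4, 5, 6, 0, 2, 3, 4, 5, 1, 3, 4, 2, 3, 0, 2, 1, 3, 4, 5, 6, 7, 3, 4, 5, 1, 3, 4, 2, 3, 0, 2, 1, 3, 4, 5],
  [3, 4, 2, 3, 0, 2, 1, 3, 4, 5, 6, 7, 6, 5, 4, 3, 2, 1, 3, 4, 5, 6, 0, 2, 3, 4],
  [6, 4, 5, 3, 4, 2, 3, 0, 2, 1, 3, 4, 5, 6, 7, 6, 4, 3, 2, 1, 3, 4, 5, 0, 2, 3, 4, 1],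
  [6, 5, 3, 4, 2, 3, 0, 2, 1, 3, 4, 5, 6, 7, 5, 6, 5, 4, 3, 2, 1, 3, 4, 5, 0, 2, 3, 4],
  [4, 5, 3, 4, 2, 3, 0, 2, 1, 3, 4, 5, 6, 7, 5, 4, 3, 2, 1, 3, 4, 5, 6, 0, 2, 3, 4, 5, 1, 3, 4, 2, 3, 0, 2, 1, 3, 4, 5, 6, 7, 6, 5, 4, 3, 0, 2, 1, 3, 4, 0, 2, 3, 1],
  [6, 5, 1, 3, 4, 2, 3, 0, 2, 1, 3, 4, 5, 6, 7, 5, 4, 3, 2, 1, 3, 4, 5, 6, 0, 2, 3, 4, 5, 1],
  [7, 6, 5, 4, 3, 2, 1, 3, 4, 5, 6, 0, 2, 3, 4, 5, 1, 3, 4, 2, 3, 0, 2, 1, 3, 4, 5, 6, 1, 3, 4, 5, 1, 3, 4, 2, 3, 0, 2, 1, 3, 4],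
  [6, 7, 4, 3, 2, 1, 3, 4, 5, 6, 0, 2, 3, 4, 5, 1, 3, 4, 2, 3, 0, 2, 1, 3, 4, 5, 6, 7, 3, 4, 5, 1, 3, 4, 2, 3, 0, 2, 1, 3, 4, 5, 6, 4],
  [5, 6, 7, 6, 4, 5, 1, 3, 4, 2, 3, 0, 2, 1, 3, 4, 5, 6, 4, 3, 0, 2, 1, 3, 4, 5, 0, 2, 3, 4],
  [5, 6, 4, 5, 1, 3, 4, 2, 3, 0, 2, 1, 3, 4, 5, 6, 7, 5, 4, 3, 2, 1, 3, 4, 5, 6, 5, 4, 3, 2, 1, 3, 4, 5, 4, 3, 0, 2, 1, 3, 4, 0, 2, 3],
  [],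
  [],
  [3, 4, 2, 3, 0, 2, 1, 3, 4, 5, 4, 3, 2, 1, 3, 4, 0, 2, 3, 1],
  [6, 4, 5, 3, 4, 2, 3, 0, 2, 1, 3, 4, 5, 6, 7, 6, 4, 3, 0, 2, 1, 3, 4, 5, 0, 2, 3, 1],
  [7, 6, 5, 4, 3, 2, 1, 3, 4, 5, 6, 0, 2, 3, 4, 5, 1, 3, 4, 2, 3, 0, 2, 1, 3, 4, 5, 6, 3, 4, 5, 1, 3, 4, 2, 3, 0, 2, 1, 3],
  [6, 5, 1, 3, 4, 2, 3, 0, 2, 1, 3, 4, 5, 6, 7, 5, 4, 3, 2, 1, 3, 4, 5, 6, 0, 2, 3, 1],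
  [5, 1, 3, 4, 2, 3, 0, 2, 1, 3, 4, 5, 6, 7, 6, 0, 2, 3, 4, 5, 1, 3, 4, 2, 3, 0, 2, 1, 3, 4, 5, 6, 5, 4, 3, 0, 2, 1, 3, 4, 5, 1, 3, 4, 2, 3, 0, 2, 1, 3],
  [6, 7, 6, 5, 1, 3, 4, 2, 3, 0, 2, 1, 3, 4, 5, 6, 5, 4, 3, 0, 2, 1, 3, 4, 0, 2, 3, 1],
  [5, 6, 4, 5, 1, 3, 4, 2, 3, 0, 2, 1, 3, 4, 5, 6, 7, 5, 4, 3, 2, 1, 3, 4, 5, 6, 0, 2, 3, 4, 5, 1],
  [7, 6, 5, 4, 3, 2, 1, 3, 4, 5, 6, 0, 2, 3, 4, 5, 1, 3, 4, 2, 3, 0, 2, 1, 3, 4, 5, 6, 2, 3, 4, 5, 1, 3, 4, 2, 3, 0, 2, 1, 3, 1],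
  [4, 5, 6, 7, 6, 5, 1, 3, 4, 2, 3, 0, 2, 1, 3, 4, 5, 6, 5, 4, 3, 2, 1, 3, 4, 5, 0, 2, 3, 1],
  [5, 6, 7, 6, 4, 5, 1, 3, 4, 2, 3, 0, 2, 1, 3, 4, 5, 6, 5, 4, 3, 0, 2, 1, 3, 4, 5, 0, 2, 3, 4, 1],
  [6, 5, 4, 3, 2, 1, 3, 4, 5, 6, 0, 2, 3, 4, 5, 1, 3, 4, 2, 3, 0, 2, 1, 3, 4, 5, 6, 7, 3, 4, 5, 1, 3, 4, 2, 3, 0, 2, 1, 3, 4, 5],
  [3, 4, 2, 3, 0, 2, 1, 3, 4, 5, 6, 7, 6, 5, 4, 3, 2, 1, 3, 4, 5, 6, 0, 2, 3, 4],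
  [6, 4, 5, 3, 4, 2, 3, 0, 2, 1, 3, 4, 5, 6, 7, 6, 4, 3, 2, 1, 3, 4, 5, 0, 2, 3, 4, 1],
  [6, 5, 3, 4, 2, 3, 0, 2, 1, 3, 4, 5, 6, 7, 5, 6, 5, 4, 3, 2, 1, 3, 4, 5, 0, 2, 3, 4],
  [4, 5, 3, 4, 2, 3, 0, 2, 1, 3, 4, 5, 6, 7, 5, 4, 3, 2, 1, 3, 4, 5, 6, 0, 2, 3, 4, 5, 1, 3, 4, 2, 3, 0, 2, 1, 3, 4, 5, 6, 7, 6, 5, 4, 3, 0, 2, 1, 3, 4, 0, 2, 3, 1],
  [6, 5, 4, 3, 2, 1, 3, 4, 5, 6, 0, 2, 3, 4, 5, 1, 3, 4, 2, 3, 0, 2, 1, 3, 4, 5, 6, 7, 3, 4, 5, 1, 3, 4, 2, 3, 0, 2, 1, 3, 4, 5],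
  [3, 4, 2, 3, 0, 2, 1, 3, 4, 5, 6, 7, 6, 5, 4, 3, 2, 1, 3, 4, 5, 6, 0, 2, 3, 4],
  [6, 4, 5, 3, 4, 2, 3, 0, 2, 1, 3, 4, 5, 6, 7, 6, 4, 3, 2, 1, 3, 4, 5, 0, 2, 3, 4, 1],
  [6, 5, 3, 4, 2, 3, 0, 2, 1, 3, 4, 5, 6, 7, 5, 6, 5, 4, 3, 2, 1, 3, 4, 5, 0, 2, 3, 4],
  [4, 5, 3, 4, 2, 3, 0, 2, 1, 3, 4, 5, 6, 7, 5, 4, 3, 2, 1, 3, 4, 5, 6, 0, 2, 3, 4, 5, 1, 3, 4, 2, 3, 0, 2, 1, 3, 4, 5, 6, 7, 6, 5, 4, 3, 0, 2, 1, 3, 4, 0, 2, 3, 1],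
  [3, 4, 5, 6, 7, 2, 3, 4, 5, 6, 0, 2, 3, 4, 5, 1, 3, 4, 2, 3, 0, 2, 1, 3, 4, 5, 6, 7, 2, 3, 0, 2, 1, 3, 4, 5, 6, 2, 3, 4, 5, 2, 3, 4, 0, 2, 3, 1],
  [6, 5, 1, 3, 4, 2, 3, 0, 2, 1, 3, 4, 5, 6, 7, 5, 4, 3, 2, 1, 3, 4, 5, 6, 0, 2, 3, 4, 5, 1],
  [7, 6, 5, 4, 3, 2, 1, 3, 4, 5, 6, 0, 2, 3, 4, 5, 1, 3, 4, 2, 3, 0, 2, 1, 3, 4, 5, 6, 1, 3, 4, 5, 1, 3, 4, 2, 3, 0, 2, 1, 3, 4],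
  [6, 7, 4, 3, 2, 1, 3, 4, 5, 6, 0, 2, 3, 4, 5, 1, 3, 4, 2, 3, 0, 2, 1, 3, 4, 5, 6, 7, 3, 4, 5, 1, 3, 4, 2, 3, 0, 2, 1, 3, 4, 5, 6, 4],
  [5, 6, 7, 6, 4, 5, 1, 3, 4, 2, 3, 0, 2, 1, 3, 4, 5, 6, 4, 3, 0, 2, 1, 3, 4, 5, 0, 2, 3, 4],
  [5, 6, 4, 5, 1, 3, 4, 2, 3, 0, 2, 1, 3, 4, 5, 6, 7, 5, 4, 3, 2, 1, 3, 4, 5, 6, 5, 4, 3, 2, 1, 3, 4, 5, 4, 3, 0, 2, 1, 3, 4, 0, 2, 3],
  [],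
  [6, 5, 1, 3, 4, 2, 3, 0, 2, 1, 3, 4, 5, 6, 7, 5, 4, 3, 2, 1, 3, 4, 5, 6, 0, 2, 3, 4, 5, 1],
  [7, 6, 5, 4, 3, 2, 1, 3, 4, 5, 6, 0, 2, 3, 4, 5, 1, 3, 4, 2, 3, 0, 2, 1, 3, 4, 5, 6, 1, 3, 4, 5, 1, 3, 4, 2, 3, 0, 2, 1, 3, 4],
  [6, 7, 4, 3, 2, 1, 3, 4, 5, 6, 0, 2, 3, 4, 5, 1, 3, 4, 2, 3, 0, 2, 1, 3, 4, 5, 6, 7, 3, 4, 5, 1, 3, 4, 2, 3, 0, 2, 1, 3, 4, 5, 6, 4],
  [5, 6, 7, 6, 4, 5, 1, 3, 4, 2, 3, 0, 2, 1, 3, 4, 5, 6, 4, 3, 0, 2, 1, 3, 4, 5, 0, 2, 3, 4],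
  [5, 6, 4, 5, 1, 3, 4, 2, 3, 0, 2, 1, 3, 4, 5, 6, 7, 5, 4, 3, 2, 1, 3, 4, 5, 6, 5, 4, 3, 2, 1, 3, 4, 5, 4, 3, 0, 2, 1, 3, 4, 0, 2, 3],
  [3, 2, 1, 3, 4, 5, 6, 0, 2, 3, 4, 5, 1, 3, 4, 2, 3, 0, 2, 1, 3, 4, 5, 6, 7, 2, 3, 4, 5, 6, 1, 3, 4, 2, 3, 0, 2, 1, 3, 1],
  [7, 3, 2, 1, 3, 4, 5, 6, 0, 2, 3, 4, 5, 1, 3, 4, 2, 3, 0, 2, 1, 3, 4, 5, 6, 7, 2, 3, 4, 5, 6, 0, 2, 3, 4, 5, 1, 3, 4, 2, 3, 0, 2, 1, 3, 4, 5, 6, 5, 4, 3, 2, 1, 3, 4, 5, 4, 3, 0, 2, 1, 3, 4, 0, 2, 3],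
  [6, 7, 3, 2, 1, 3, 4, 5, 6, 0, 2, 3, 4, 5, 1, 3, 4, 2, 3, 0, 2, 1, 3, 4, 5, 6, 7, 6, 5, 4, 2, 3, 0, 2, 1, 3, 4, 5, 6, 3, 4, 5, 1, 3, 4, 2, 3, 0, 2, 1, 3, 4, 5, 1],
  [5, 6, 7, 3, 2, 1, 3, 4, 5, 6, 0, 2, 3, 4, 5, 1, 3, 4, 2, 3, 0, 2, 1, 3, 4, 5, 6, 7, 3, 4, 5, 1, 3, 4, 2, 3, 0, 2, 1, 3, 4, 5, 6, 4],
  [4, 3, 2, 1, 3, 4, 5, 6, 0, 2, 3, 4, 5, 1, 3, 4, 2, 3, 0, 2, 1, 3, 4, 5, 6, 7, 3, 4, 5, 6, 1, 3, 4, 2, 3, 0, 2, 1, 3, 1],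
  [7, 4, 3, 2, 1, 3, 4, 5, 6, 0, 2, 3, 4, 5, 1, 3, 4, 2, 3, 0, 2, 1, 3, 4, 5, 6, 7, 3, 4, 5, 6, 0, 2, 3, 4, 5, 1, 3, 4, 2, 3, 0, 2, 1, 3, 4, 5, 6, 5, 0, 2, 3, 4, 1],
  [6, 7, 4, 3, 2, 1, 3, 4, 5, 6, 0, 2, 3, 4, 5, 1, 3, 4, 2, 3, 0, 2, 1, 3, 4, 5, 6, 7, 3, 4, 5, 1, 3, 4, 2, 3, 0, 2, 1, 3, 4, 5, 6, 4],
  [5, 4, 3, 2, 1, 3, 4, 5, 6, 0, 2, 3, 4, 5, 1, 3, 4, 2, 3, 0, 2, 1, 3, 4, 5, 6, 7, 2, 3, 4, 5, 6, 1, 3, 4, 2, 3, 0, 2, 1, 3, 1],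
  [7, 5, 4, 3, 2, 1, 3, 4, 5, 6, 0, 2, 3, 4, 5, 1, 3, 4, 2, 3, 0, 2, 1, 3, 4, 5, 6, 7, 2, 3, 4, 5, 6, 0, 2, 3, 4, 5, 1, 3, 4, 2, 3, 0, 2, 1, 3, 4, 5, 6, 0, 2, 3, 1],
  [6, 5, 4, 3, 2, 1, 3, 4, 5, 6, 0, 2, 3, 4, 5, 1, 3, 4, 2, 3, 0, 2, 1, 3, 4, 5, 6, 7, 3, 4, 5, 1, 3, 4, 2, 3, 0, 2, 1, 3],
  [7, 6, 5, 4, 3, 2, 1, 3, 4, 5, 6, 0, 2, 3, 4, 5, 1, 3, 4, 2, 3, 0, 2, 1, 3, 4, 5, 6, 7, 6, 5, 4, 3, 2, 1, 3, 4, 5, 6, 0, 2, 3, 4, 5, 1, 3, 4, 2, 3, 0, 2, 1, 3, 4, 5, 6],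
  [6, 7, 5, 4, 3, 2, 1, 3, 4, 5, 6, 0, 2, 3, 4, 5, 1, 3, 4, 2, 3, 0, 2, 1, 3, 4, 5, 6, 7, 1, 3, 4, 5, 6, 1, 3, 4, 5, 2, 3, 0, 2, 1, 3],
  [6, 7, 6, 5, 4, 3, 2, 1, 3, 4, 5, 6, 0, 2, 3, 4, 5, 1, 3, 4, 2, 3, 0, 2, 1, 3, 4, 5, 6, 7, 1, 3, 4, 5, 6, 0, 2, 3, 4, 5, 1, 3, 4, 2, 3, 0, 2, 1, 3, 4, 5, 6, 5, 0, 2, 3],
  [5, 6, 7, 4, 3, 2, 1, 3, 4, 5, 6, 0, 2, 3, 4, 5, 1, 3, 4, 2, 3, 0, 2, 1, 3, 4, 5, 6, 7, 6, 5, 4, 2, 3, 0, 2, 1, 3, 4, 5, 6, 2, 3, 4, 5, 1, 3, 4, 2, 3, 0, 2, 1, 3],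
  [5, 6, 7, 5, 4, 3, 2, 1, 3, 4, 5, 6, 0, 2, 3, 4, 5, 1, 3, 4, 2, 3, 0, 2, 1, 3, 4, 5, 6, 7, 2, 1, 3, 4, 5, 6, 5, 4, 3, 2, 1, 3, 4, 5, 1, 3, 4, 2, 3, 0, 2, 1, 3, 1],
  [5, 6, 7, 6, 5, 4, 3, 2, 1, 3, 4, 5, 6, 0, 2, 3, 4, 5, 1, 3, 4, 2, 3, 0, 2, 1, 3, 4, 5, 6, 7, 2, 1, 3, 4, 5, 6, 0, 2, 3, 4, 5, 1, 3, 4, 2, 3, 0, 2, 1, 3, 4, 5, 6, 0, 2, 3, 4],
  [4, 5, 6, 7, 3, 2, 1, 3, 4, 5, 6, 0, 2, 3, 4, 5, 1, 3, 4, 2, 3, 0, 2, 1, 3, 4, 5, 6, 7, 6, 5, 4, 2, 3, 0, 2, 1, 3, 4, 5, 6, 3, 4, 5, 1, 3, 4, 2, 3, 0, 2, 1, 3, 1],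
  [4, 5, 6, 7, 4, 3, 2, 1, 3, 4, 5, 6, 0, 2, 3, 4, 5, 1, 3, 4, 2, 3, 0, 2, 1, 3, 4, 5, 6, 7, 3, 4, 5, 1, 3, 4, 2, 3, 0, 2, 1, 3, 4, 5, 6, 5, 3, 4, 2, 3, 0, 2, 1, 3, 4, 5, 4, 3, 2, 1, 3, 4, 0, 2, 3, 1],
  [4, 5, 6, 7, 5, 4, 3, 2, 1, 3, 4, 5, 6, 0, 2, 3, 4, 5, 1, 3, 4, 2, 3, 0, 2, 1, 3, 4, 5, 6, 7, 1, 3, 4, 5, 6, 1, 3, 4, 5, 2, 3, 0, 2, 1, 3],
  [4, 5, 6, 7, 6, 5, 4, 3, 2, 1, 3, 4, 5, 6, 0, 2, 3, 4, 5, 1, 3, 4, 2, 3, 0, 2, 1, 3, 4, 5, 6, 7, 1, 3, 4, 5, 6, 0, 2, 3, 4, 5, 1, 3, 4, 2, 3, 0, 2, 1, 3, 4, 5, 6, 5, 0, 2, 3],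
  [3, 4, 2, 3, 0, 2, 1, 3, 4, 5, 6, 7, 6, 5, 4, 3, 2, 1, 3, 4, 5, 6, 5, 4, 3, 2, 1, 3, 4, 5, 4, 3, 2, 1, 3, 4, 0, 2, 3, 1],
  [4, 5, 3, 4, 2, 3, 0, 2, 1, 3, 4, 5, 6, 7, 6, 5, 4, 3, 2, 1, 3, 4, 5, 6, 5, 4, 3, 2, 1, 3, 4, 5, 4, 3, 2, 1, 3, 4, 0, 2, 3, 1],
  [5, 3, 4, 2, 3, 0, 2, 1, 3, 4, 5, 6, 7, 6, 5, 4, 3, 0, 2, 1, 3, 4, 5, 6, 4, 3, 2, 1, 3, 4, 5, 4, 3, 0, 2, 1, 3, 4, 0, 2, 3, 1],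
  [3, 4, 5, 6, 7, 2, 3, 4, 5, 6, 0, 2, 3, 4, 5, 1, 3, 4, 2, 3, 0, 2, 1, 3, 4, 5, 6, 7, 2, 3, 0, 2, 1, 3, 4, 5, 6, 2, 3, 4, 5, 2, 3, 4, 0, 2, 3, 1],
  [7, 6, 5, 3, 4, 2, 3, 0, 2, 1, 3, 4, 5, 6, 7, 5, 6, 0, 2, 3, 4, 5, 1, 3, 4, 2, 3, 0, 2, 1, 3, 4, 5, 6, 0, 2, 3, 4, 5, 4, 3, 2, 1, 3, 4, 2, 3, 0, 2, 1, 3, 1],
  [],
  [3, 4, 2, 3, 0, 2, 1, 3, 4, 5, 6, 7, 6, 5, 4, 3, 2, 1, 3, 4, 5, 6, 5, 4, 3, 2, 1, 3, 4, 5, 4, 3, 2, 1, 3, 4, 0, 2, 3, 1],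
  [4, 5, 3, 4, 2, 3, 0, 2, 1, 3, 4, 5, 6, 7, 6, 5, 4, 3, 2, 1, 3, 4, 5, 6, 5, 4, 3, 2, 1, 3, 4, 5, 4, 3, 2, 1, 3, 4, 0, 2, 3, 1],
  [5, 3, 4, 2, 3, 0, 2, 1, 3, 4, 5, 6, 7, 6, 5, 4, 3, 0, 2, 1, 3, 4, 5, 6, 4, 3, 2, 1, 3, 4, 5, 4, 3, 0, 2, 1, 3, 4, 0, 2, 3, 1],
  [3, 4, 5, 6, 7, 2, 3, 4, 5, 6, 0, 2, 3, 4, 5, 1, 3, 4, 2, 3, 0, 2, 1, 3, 4, 5, 6, 7, 2, 3, 0, 2, 1, 3, 4, 5, 6, 2, 3, 4, 5, 2, 3, 4, 0, 2, 3, 1],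
  [7, 6, 5, 3, 4, 2, 3, 0, 2, 1, 3, 4, 5, 6, 7, 5, 6, 0, 2, 3, 4, 5, 1, 3, 4, 2, 3, 0, 2, 1, 3, 4, 5, 6, 0, 2, 3, 4, 5, 4, 3, 2, 1, 3, 4, 2, 3, 0, 2, 1, 3, 1],
  [1, 3, 4, 5, 6, 7, 2, 3, 4, 5, 6, 0, 2, 3, 4, 5, 1, 3, 4, 2, 3, 0, 2, 1, 3, 4, 5, 6, 7, 4, 5, 6, 3, 4, 5, 1, 3, 4, 2, 3, 0, 2, 1, 3, 4, 5, 6, 5, 1, 3, 4, 2, 3, 0, 2, 1, 3, 4, 2, 3, 0, 2, 1, 3],
  [7, 6, 5, 1, 3, 4, 2, 3, 0, 2, 1, 3, 4, 5, 6, 7, 5, 4, 3, 2, 1, 3, 4, 5, 6, 0, 2, 3, 4, 5, 1, 3, 4, 2, 3, 0, 2, 1, 3, 4, 5, 6, 4, 3, 0, 2, 1, 3, 4, 5, 0, 2, 3, 1],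
  [7, 6, 4, 5, 1, 3, 4, 2, 3, 0, 2, 1, 3, 4, 5, 6, 7, 4, 3, 2, 1, 3, 4, 5, 6, 0, 2, 3, 4, 5, 1, 3, 4, 2, 3, 0, 2, 1, 3, 4, 5, 6, 4, 3, 2, 1, 3, 4, 0, 2, 3, 1],
  [7, 5, 6, 4, 5, 1, 3, 4, 2, 3, 0, 2, 1, 3, 4, 5, 6, 7, 5, 4, 3, 2, 1, 3, 4, 5, 6, 0, 2, 3, 4, 5, 1, 3, 4, 2, 3, 0, 2, 1, 3, 4, 5, 6, 4, 3, 2, 1, 3, 4, 0, 2, 3, 1],
  [5, 6, 7, 5, 4, 3, 2, 1, 3, 4, 5, 6, 0, 2, 3, 4, 5, 1, 3, 4, 2, 3, 0, 2, 1, 3, 4, 5, 6, 7, 2, 1, 3, 4, 5, 6, 5, 4, 3, 2, 1, 3, 4, 5, 1, 3, 4, 2, 3, 0, 2, 1, 3, 1],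
  [7, 5, 6, 4, 5, 1, 3, 4, 2, 3, 0, 2, 1, 3, 4, 5, 6, 7, 5, 4, 3, 2, 1, 3, 4, 5, 6, 0, 2, 3, 4, 5, 1, 3, 4, 2, 3, 0, 2, 1, 3, 4, 5, 6, 0, 2, 3, 4, 5, 1, 3, 4, 2, 3, 0, 2, 1, 3, 4, 5, 1, 3, 4, 2, 3, 0, 2, 1, 3, 1],
  [7, 6, 5, 1, 3, 4, 2, 3, 0, 2, 1, 3, 4, 5, 6, 7, 5, 4, 3, 2, 1, 3, 4, 5, 6, 0, 2, 3, 4, 5, 1, 3, 4, 2, 3, 0, 2, 1, 3, 4, 5, 6, 4, 3, 0, 2, 1, 3, 4, 5, 0, 2, 3, 1],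
  [7, 6, 4, 5, 1, 3, 4, 2, 3, 0, 2, 1, 3, 4, 5, 6, 7, 4, 3, 2, 1, 3, 4, 5, 6, 0, 2, 3, 4, 5, 1, 3, 4, 2, 3, 0, 2, 1, 3, 4, 5, 6, 4, 3, 2, 1, 3, 4, 0, 2, 3, 1],
  [7, 5, 6, 4, 5, 1, 3, 4, 2, 3, 0, 2, 1, 3, 4, 5, 6, 7, 5, 4, 3, 2, 1, 3, 4, 5, 6, 0, 2, 3, 4, 5, 1, 3, 4, 2, 3, 0, 2, 1, 3, 4, 5, 6, 4, 3, 2, 1, 3, 4, 0, 2, 3, 1],
  [5, 6, 7, 5, 4, 3, 2, 1, 3, 4, 5, 6, 0, 2, 3, 4, 5, 1, 3, 4, 2, 3, 0, 2, 1, 3, 4, 5, 6, 7, 2, 1, 3, 4, 5, 6, 5, 4, 3, 2, 1, 3, 4, 5, 1, 3, 4, 2, 3, 0, 2, 1, 3, 1],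
  [7, 5, 6, 4, 5, 1, 3, 4, 2, 3, 0, 2, 1, 3, 4, 5, 6, 7, 5, 4, 3, 2, 1, 3, 4, 5, 6, 0, 2, 3, 4, 5, 1, 3, 4, 2, 3, 0, 2, 1, 3, 4, 5, 6, 0, 2, 3, 4, 5, 1, 3, 4, 2, 3, 0, 2, 1, 3, 4, 5, 1, 3, 4, 2, 3, 0, 2, 1, 3, 1],
  [1, 3, 4, 2, 3, 0, 2, 1, 3, 4, 5, 6, 7, 6, 2, 3, 4, 5, 1, 3, 4, 2, 3, 0, 2, 1, 3, 4, 5, 6, 1, 3, 4, 2, 3, 0, 2, 1, 3, 4, 5, 4],
  [3, 2, 1, 3, 4, 5, 6, 0, 2, 3, 4, 5, 1, 3, 4, 2, 3, 0, 2, 1, 3, 4, 5, 6, 7, 2, 3, 4, 5, 6, 1, 3, 4, 5, 2, 3, 0, 2, 1, 3, 4, 1],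
  [3, 4, 2, 3, 0, 2, 1, 3, 4, 5, 6, 7, 5, 4, 3, 2, 1, 3, 4, 5, 6, 0, 2, 3, 4, 5, 1, 3, 4, 2, 3, 0, 2, 1, 3, 4, 5, 6, 7, 6, 5, 4, 3, 0, 2, 1, 3, 4, 5, 0, 2, 3, 4, 1],
  [7, 6, 5, 3, 4, 2, 3, 0, 2, 1, 3, 4, 5, 6, 7, 5, 6, 0, 2, 3, 4, 5, 1, 3, 4, 2, 3, 0, 2, 1, 3, 4, 5, 6, 1, 3, 4, 5, 2, 3, 0, 2, 1, 3, 4, 1],
  [1, 3, 4, 2, 3, 0, 2, 1, 3, 4, 5, 6, 7, 4, 3, 2, 1, 3, 4, 5, 6, 0, 2, 3, 4, 5, 1, 3, 4, 2, 3, 0, 2, 1, 3, 4, 5, 6, 7, 4, 5, 6, 3, 4, 5, 1, 3, 4, 2, 3, 0, 2, 1, 3, 4, 5, 6, 0, 2, 1, 3, 4, 5, 0, 2, 3, 4, 0, 2, 3],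
  [4, 5, 6, 7, 5, 4, 3, 2, 1, 3, 4, 5, 6, 0, 2, 3, 4, 5, 1, 3, 4, 2, 3, 0, 2, 1, 3, 4, 5, 6, 7, 1, 3, 4, 5, 6, 1, 3, 4, 2, 3, 0, 2, 1, 3, 4, 5, 4],
  [7, 6, 4, 5, 1, 3, 4, 2, 3, 0, 2, 1, 3, 4, 5, 6, 7, 4, 3, 2, 1, 3, 4, 5, 6, 0, 2, 3, 4, 5, 1, 3, 4, 2, 3, 0, 2, 1, 3, 4, 5, 6, 5, 4, 3, 2, 1, 3, 4, 5, 0, 2, 3, 4],
  [5, 3, 4, 2, 3, 0, 2, 1, 3, 4, 5, 6, 7, 5, 4, 3, 2, 1, 3, 4, 5, 6, 0, 2, 3, 4, 5, 1, 3, 4, 2, 3, 0, 2, 1, 3, 4, 5, 6, 7, 5, 6, 5, 4, 3, 0, 2, 1, 3, 4, 5, 0, 2, 3, 4, 1],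
  [7, 5, 6, 4, 5, 1, 3, 4, 2, 3, 0, 2, 1, 3, 4, 5, 6, 7, 5, 4, 3, 2, 1, 3, 4, 5, 6, 0, 2, 3, 4, 5, 1, 3, 4, 2, 3, 0, 2, 1, 3, 4, 5, 6, 5, 4, 3, 2, 1, 3, 4, 5, 0, 2, 3, 4],
  [6, 5, 3, 4, 2, 3, 0, 2, 1, 3, 4, 5, 6, 7, 6, 5, 4, 3, 2, 1, 3, 4, 5, 6, 0, 2, 3, 4, 5, 1, 3, 4, 2, 3, 0, 2, 1, 3, 4, 5, 6, 7, 5, 4, 3, 0, 2, 1, 3, 4, 5, 6, 5, 0, 2, 3, 4, 1],
  [],
  [],
  [3, 4, 2, 3, 0, 2, 1, 3, 4, 5, 6, 7, 6, 5, 4, 3, 2, 1, 3, 4, 5, 6, 5, 4, 3, 2, 1, 3, 4, 5, 4, 3, 2, 1, 3, 4, 0, 2, 3, 1],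
  [4, 5, 3, 4, 2, 3, 0, 2, 1, 3, 4, 5, 6, 7, 6, 5, 4, 3, 2, 1, 3, 4, 5, 6, 5, 4, 3, 2, 1, 3, 4, 5, 4, 3, 2, 1, 3, 4, 0, 2, 3, 1],
  [5, 3, 4, 2, 3, 0, 2, 1, 3, 4, 5, 6, 7, 6, 5, 4, 3, 0, 2, 1, 3, 4, 5, 6, 4, 3, 2, 1, 3, 4, 5, 4, 3, 0, 2, 1, 3, 4, 0, 2, 3, 1],
  [3, 4, 5, 6, 7, 2, 3, 4, 5, 6, 0, 2, 3, 4, 5, 1, 3, 4, 2, 3, 0, 2, 1, 3, 4, 5, 6, 7, 2, 3, 0, 2, 1, 3, 4, 5, 6, 2, 3, 4, 5, 2, 3, 4, 0, 2, 3, 1],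
  [7, 6, 5, 3, 4, 2, 3, 0, 2, 1, 3, 4, 5, 6, 7, 5, 6, 0, 2, 3, 4, 5, 1, 3, 4, 2, 3, 0, 2, 1, 3, 4, 5, 6, 0, 2, 3, 4, 5, 4, 3, 2, 1, 3, 4, 2, 3, 0, 2, 1, 3, 1],
  [7, 6, 5, 1, 3, 4, 2, 3, 0, 2, 1, 3, 4, 5, 6, 7, 5, 4, 3, 2, 1, 3, 4, 5, 6, 0, 2, 3, 4, 5, 1, 3, 4, 2, 3, 0, 2, 1, 3, 4, 5, 6, 4, 3, 0, 2, 1, 3, 4, 5, 0, 2, 3, 1],
  [7, 6, 4, 5, 1, 3, 4, 2, 3, 0, 2, 1, 3, 4, 5, 6, 7, 4, 3, 2, 1, 3, 4, 5, 6, 0, 2, 3, 4, 5, 1, 3, 4, 2, 3, 0, 2, 1, 3, 4, 5, 6, 4, 3, 2, 1, 3, 4, 0, 2, 3, 1],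
  [7, 5, 6, 4, 5, 1, 3, 4, 2, 3, 0, 2, 1, 3, 4, 5, 6, 7, 5, 4, 3, 2, 1, 3, 4, 5, 6, 0, 2, 3, 4, 5, 1, 3, 4, 2, 3, 0, 2, 1, 3, 4, 5, 6, 4, 3, 2, 1, 3, 4, 0, 2, 3, 1],
  [5, 6, 7, 5, 4, 3, 2, 1, 3, 4, 5, 6, 0, 2, 3, 4, 5, 1, 3, 4, 2, 3, 0, 2, 1, 3, 4, 5, 6, 7, 2, 1, 3, 4, 5, 6, 5, 4, 3, 2, 1, 3, 4, 5, 1, 3, 4, 2, 3, 0, 2, 1, 3, 1],
  [7, 5, 6, 4, 5, 1, 3, 4, 2, 3, 0, 2, 1, 3, 4, 5, 6, 7, 5, 4, 3, 2, 1, 3, 4, 5, 6, 0, 2, 3, 4, 5, 1, 3, 4, 2, 3, 0, 2, 1, 3, 4, 5, 6, 0, 2, 3, 4, 5, 1, 3, 4, 2, 3, 0, 2, 1, 3, 4, 5, 1, 3, 4, 2, 3, 0, 2, 1, 3, 1],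
  [1, 3, 4, 2, 3, 0, 2, 1, 3, 4, 5, 6, 7, 6, 2, 3, 4, 5, 1, 3, 4, 2, 3, 0, 2, 1, 3, 4, 5, 6, 1, 3, 4, 2, 3, 0, 2, 1, 3, 4, 5, 4],
  [3, 2, 1, 3, 4, 5, 6, 0, 2, 3, 4, 5, 1, 3, 4, 2, 3, 0, 2, 1, 3, 4, 5, 6, 7, 2, 3, 4, 5, 6, 1, 3, 4, 5, 2, 3, 0, 2, 1, 3, 4, 1],
  [3, 4, 2, 3, 0, 2, 1, 3, 4, 5, 6, 7, 5, 4, 3, 2, 1, 3, 4, 5, 6, 0, 2, 3, 4, 5, 1, 3, 4, 2, 3, 0, 2, 1, 3, 4, 5, 6, 7, 6, 5, 4, 3, 0, 2, 1, 3, 4, 5, 0, 2, 3, 4, 1],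
  [7, 6, 5, 3, 4, 2, 3, 0, 2, 1, 3, 4, 5, 6, 7, 5, 6, 0, 2, 3, 4, 5, 1, 3, 4, 2, 3, 0, 2, 1, 3, 4, 5, 6, 1, 3, 4, 5, 2, 3, 0, 2, 1, 3, 4, 1],
  [1, 3, 4, 2, 3, 0, 2, 1, 3, 4, 5, 6, 7, 4, 3, 2, 1, 3, 4, 5, 6, 0, 2, 3, 4, 5, 1, 3, 4, 2, 3, 0, 2, 1, 3, 4, 5, 6, 7, 4, 5, 6, 3, 4, 5, 1, 3, 4, 2, 3, 0, 2, 1, 3, 4, 5, 6, 0, 2, 1, 3, 4, 5, 0, 2, 3, 4, 0, 2, 3],
  [4, 5, 6, 7, 5, 4, 3, 2, 1, 3, 4, 5, 6, 0, 2, 3, 4, 5, 1, 3, 4, 2, 3, 0, 2, 1, 3, 4, 5, 6, 7, 1, 3, 4, 5, 6, 1, 3, 4, 2, 3, 0, 2, 1, 3, 4, 5, 4],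
  [7, 6, 4, 5, 1, 3, 4, 2, 3, 0, 2, 1, 3, 4, 5, 6, 7, 4, 3, 2, 1, 3, 4, 5, 6, 0, 2, 3, 4, 5, 1, 3, 4, 2, 3, 0, 2, 1, 3, 4, 5, 6, 5, 4, 3, 2, 1, 3, 4, 5, 0, 2, 3, 4],
  [5, 3, 4, 2, 3, 0, 2, 1, 3, 4, 5, 6, 7, 5, 4, 3, 2, 1, 3, 4, 5, 6, 0, 2, 3, 4, 5, 1, 3, 4, 2, 3, 0, 2, 1, 3, 4, 5, 6, 7, 5, 6, 5, 4, 3, 0, 2, 1, 3, 4, 5, 0, 2, 3, 4, 1],
  [7, 5, 6, 4, 5, 1, 3, 4, 2, 3, 0, 2, 1, 3, 4, 5, 6, 7, 5, 4, 3, 2, 1, 3, 4, 5, 6, 0, 2, 3, 4, 5, 1, 3, 4, 2, 3, 0, 2, 1, 3, 4, 5, 6, 5, 4, 3, 2, 1, 3, 4, 5, 0, 2, 3, 4],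
  [6, 5, 3, 4, 2, 3, 0, 2, 1, 3, 4, 5, 6, 7, 6, 5, 4, 3, 2, 1, 3, 4, 5, 6, 0, 2, 3, 4, 5, 1, 3, 4, 2, 3, 0, 2, 1, 3, 4, 5, 6, 7, 5, 4, 3, 0, 2, 1, 3, 4, 5, 6, 5, 0, 2, 3, 4, 1],
  [1, 3, 4, 2, 3, 0, 2, 1, 3, 4, 5, 6, 7, 6, 2, 3, 4, 5, 1, 3, 4, 2, 3, 0, 2, 1, 3, 4, 5, 6, 1, 3, 4, 2, 3, 0, 2, 1, 3, 4, 5, 4],
  [3, 2, 1, 3, 4, 5, 6, 0, 2, 3, 4, 5, 1, 3, 4, 2, 3, 0, 2, 1, 3, 4, 5, 6, 7, 2, 3, 4, 5, 6, 1, 3, 4, 5, 2, 3, 0, 2, 1, 3, 4, 1],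
  [3, 4, 2, 3, 0, 2, 1, 3, 4, 5, 6, 7, 5, 4, 3, 2, 1, 3, 4, 5, 6, 0, 2, 3, 4, 5, 1, 3, 4, 2, 3, 0, 2, 1, 3, 4, 5, 6, 7, 6, 5, 4, 3, 0, 2, 1, 3, 4, 5, 0, 2, 3, 4, 1],
  [7, 6, 5, 3, 4, 2, 3, 0, 2, 1, 3, 4, 5, 6, 7, 5, 6, 0, 2, 3, 4, 5, 1, 3, 4, 2, 3, 0, 2, 1, 3, 4, 5, 6, 1, 3, 4, 5, 2, 3, 0, 2, 1, 3, 4, 1],
  [1, 3, 4, 2, 3, 0, 2, 1, 3, 4, 5, 6, 7, 4, 3, 2, 1, 3, 4, 5, 6, 0, 2, 3, 4, 5, 1, 3, 4, 2, 3, 0, 2, 1, 3, 4, 5, 6, 7, 4, 5, 6, 3, 4, 5, 1, 3, 4, 2, 3, 0, 2, 1, 3, 4, 5, 6, 0, 2, 1, 3, 4, 5, 0, 2, 3, 4, 0, 2, 3],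
  [4, 5, 6, 7, 5, 4, 3, 2, 1, 3, 4, 5, 6, 0, 2, 3, 4, 5, 1, 3, 4, 2, 3, 0, 2, 1, 3, 4, 5, 6, 7, 1, 3, 4, 5, 6, 1, 3, 4, 2, 3, 0, 2, 1, 3, 4, 5, 4],
  [7, 6, 4, 5, 1, 3, 4, 2, 3, 0, 2, 1, 3, 4, 5, 6, 7, 4, 3, 2, 1, 3, 4, 5, 6, 0, 2, 3, 4, 5, 1, 3, 4, 2, 3, 0, 2, 1, 3, 4, 5, 6, 5, 4, 3, 2, 1, 3, 4, 5, 0, 2, 3, 4],
  [5, 3, 4, 2, 3, 0, 2, 1, 3, 4, 5, 6, 7, 5, 4, 3, 2, 1, 3, 4, 5, 6, 0, 2, 3, 4, 5, 1, 3, 4, 2, 3, 0, 2, 1, 3, 4, 5, 6, 7, 5, 6, 5, 4, 3, 0, 2, 1, 3, 4, 5, 0, 2, 3, 4, 1],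
  [7, 5, 6, 4, 5, 1, 3, 4, 2, 3, 0, 2, 1, 3, 4, 5, 6, 7, 5, 4, 3, 2, 1, 3, 4, 5, 6, 0, 2, 3, 4, 5, 1, 3, 4, 2, 3, 0, 2, 1, 3, 4, 5, 6, 5, 4, 3, 2, 1, 3, 4, 5, 0, 2, 3, 4],
  [6, 5, 3, 4, 2, 3, 0, 2, 1, 3, 4, 5, 6, 7, 6, 5, 4, 3, 2, 1, 3, 4, 5, 6, 0, 2, 3, 4, 5, 1, 3, 4, 2, 3, 0, 2, 1, 3, 4, 5, 6, 7, 5, 4, 3, 0, 2, 1, 3, 4, 5, 6, 5, 0, 2, 3, 4, 1],
  [3, 4, 2, 3, 0, 2, 1, 3, 4, 5, 6, 7, 4, 3, 2, 1, 3, 4, 5, 6, 0, 2, 3, 4, 5, 1, 3, 4, 2, 3, 0, 2, 1, 3, 4, 5, 6, 7, 2, 3, 0, 2, 1, 3, 4, 5, 6, 1, 3, 4, 2, 3, 0, 2, 1, 3, 4, 2, 3, 0, 2, 1, 3, 1],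
  [3, 4, 2, 3, 0, 2, 1, 3, 4, 5, 6, 7, 5, 4, 3, 2, 1, 3, 4, 5, 6, 0, 2, 3, 4, 5, 1, 3, 4, 2, 3, 0, 2, 1, 3, 4, 5, 6, 7, 6, 5, 4, 3, 2, 1, 3, 4, 5, 0, 2, 3, 1],
  [3, 4, 2, 3, 0, 2, 1, 3, 4, 5, 6, 7, 6, 5, 4, 3, 2, 1, 3, 4, 5, 6, 0, 2, 3, 4, 5, 1, 3, 4, 2, 3, 0, 2, 1, 3, 4, 5, 6, 7, 6, 0, 2, 3, 4, 5, 1, 3, 4, 2, 3, 0, 2, 1, 3, 4, 5, 6, 5, 4, 3, 2, 1, 3, 4, 5, 1, 3, 4, 2, 3, 0, 2, 1, 3, 1],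
  [5, 3, 4, 2, 3, 0, 2, 1, 3, 4, 5, 6, 7, 5, 4, 3, 2, 1, 3, 4, 5, 6, 0, 2, 3, 4, 5, 1, 3, 4, 2, 3, 0, 2, 1, 3, 4, 5, 6, 7, 5, 6, 5, 4, 3, 2, 1, 3, 4, 5, 0, 2, 3, 1],
  [5, 3, 4, 2, 3, 0, 2, 1, 3, 4, 5, 6, 7, 6, 5, 4, 3, 2, 1, 3, 4, 5, 6, 0, 2, 3, 4, 5, 1, 3, 4, 2, 3, 0, 2, 1, 3, 4, 5, 6, 7, 5, 6, 0, 2, 3, 4, 5, 1, 3, 4, 2, 3, 0, 2, 1, 3, 4, 5, 6, 1, 3, 4, 5, 2, 3, 0, 2, 1, 3],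
  [6, 5, 3, 4, 2, 3, 0, 2, 1, 3, 4, 5, 6, 7, 6, 5, 4, 3, 2, 1, 3, 4, 5, 6, 0, 2, 3, 4, 5, 1, 3, 4, 2, 3, 0, 2, 1, 3, 4, 5, 6, 7, 5, 4, 3, 0, 2, 1, 3, 4, 5, 6, 0, 2, 3, 1],
  [4, 5, 3, 4, 2, 3, 0, 2, 1, 3, 4, 5, 6, 7, 5, 4, 3, 2, 1, 3, 4, 5, 6, 0, 2, 3, 4, 5, 1, 3, 4, 2, 3, 0, 2, 1, 3, 4, 5, 6, 7, 6, 5, 4, 3, 2, 1, 3, 4, 5, 0, 2, 3, 1],
  [4, 5, 3, 4, 2, 3, 0, 2, 1, 3, 4, 5, 6, 7, 6, 5, 4, 3, 2, 1, 3, 4, 5, 6, 0, 2, 3, 4, 5, 1, 3, 4, 2, 3, 0, 2, 1, 3, 4, 5, 6, 7, 6, 0, 2, 3, 4, 5, 1, 3, 4, 2, 3, 0, 2, 1, 3, 4, 5, 6, 1, 3, 4, 2, 3, 0, 2, 1, 3, 4],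
  [6, 4, 5, 3, 4, 2, 3, 0, 2, 1, 3, 4, 5, 6, 7, 6, 5, 4, 3, 2, 1, 3, 4, 5, 6, 0, 2, 3, 4, 5, 1, 3, 4, 2, 3, 0, 2, 1, 3, 4, 5, 6, 7, 5, 4, 3, 2, 1, 3, 4, 5, 6, 0, 2, 3, 1],
  [5, 6, 4, 5, 3, 4, 2, 3, 0, 2, 1, 3, 4, 5, 6, 7, 6, 5, 4, 3, 2, 1, 3, 4, 5, 6, 0, 2, 3, 4, 5, 1, 3, 4, 2, 3, 0, 2, 1, 3, 4, 5, 6, 7, 5, 4, 3, 0, 2, 1, 3, 4, 5, 6, 0, 2, 3, 1],
  [1, 3, 4, 2, 3, 0, 2, 1, 3, 4, 5, 6, 7, 4, 3, 2, 1, 3, 4, 5, 6, 0, 2, 3, 4, 5, 1, 3, 4, 2, 3, 0, 2, 1, 3, 4, 5, 6, 7, 4, 5, 6, 3, 4, 5, 1, 3, 4, 2, 3, 0, 2, 1, 3, 4, 5, 6, 0, 2, 1, 3, 4, 5, 0, 2, 3, 4, 0, 2, 3],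
  [1, 3, 4, 2, 3, 0, 2, 1, 3, 4, 5, 6, 7, 5, 4, 3, 2, 1, 3, 4, 5, 6, 0, 2, 3, 4, 5, 1, 3, 4, 2, 3, 0, 2, 1, 3, 4, 5, 6, 7, 4, 3, 2, 1, 3, 4, 5, 6, 5, 0, 2, 3],
  [1, 3, 4, 2, 3, 0, 2, 1, 3, 4, 5, 6, 7, 6, 5, 4, 3, 2, 1, 3, 4, 5, 6, 0, 2, 3, 4, 5, 1, 3, 4, 2, 3, 0, 2, 1, 3, 4, 5, 6, 7, 4, 3, 2, 1, 3, 4, 5, 6, 0, 2, 3, 4, 5, 1, 3, 4, 2, 3, 0, 2, 1, 3, 4, 5, 6, 4, 3, 0, 2, 1, 3, 4, 0, 2, 3],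
  [5, 1, 3, 4, 2, 3, 0, 2, 1, 3, 4, 5, 6, 7, 5, 4, 3, 2, 1, 3, 4, 5, 6, 0, 2, 3, 4, 5, 1, 3, 4, 2, 3, 0, 2, 1, 3, 4, 5, 6, 7, 5, 4, 3, 2, 1, 3, 4, 5, 6, 4, 5, 3, 4, 2, 3, 0, 2, 1, 3, 4, 5, 0, 2, 3, 4, 0, 2, 3, 1],
  [5, 1, 3, 4, 2, 3, 0, 2, 1, 3, 4, 5, 6, 7, 6, 5, 4, 3, 2, 1, 3, 4, 5, 6, 0, 2, 3, 4, 5, 1, 3, 4, 2, 3, 0, 2, 1, 3, 4, 5, 6, 7, 5, 4, 3, 2, 1, 3, 4, 5, 6, 0, 2, 3, 4, 5, 1, 3, 4, 2, 3, 0, 2, 1, 3, 4, 5, 6, 5, 4, 3, 0, 2, 1, 3, 4, 5, 0, 2, 3, 4, 1],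
  [6, 5, 1, 3, 4, 2, 3, 0, 2, 1, 3, 4, 5, 6, 7, 6, 5, 4, 3, 2, 1, 3, 4, 5, 6, 0, 2, 3, 4, 5, 1, 3, 4, 2, 3, 0, 2, 1, 3, 4, 5, 6, 7, 0, 2, 3, 4, 5, 1, 3, 4, 2, 3, 0, 2, 1, 3, 4, 5, 6, 1, 3, 4, 5, 2, 3, 0, 2, 1, 3, 4, 1],
  [4, 5, 1, 3, 4, 2, 3, 0, 2, 1, 3, 4, 5, 6, 7, 5, 4, 3, 2, 1, 3, 4, 5, 6, 0, 2, 3, 4, 5, 1, 3, 4, 2, 3, 0, 2, 1, 3, 4, 5, 6, 7, 4, 3, 2, 1, 3, 4, 5, 6, 5, 0, 2, 3],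
  [4, 5, 1, 3, 4, 2, 3, 0, 2, 1, 3, 4, 5, 6, 7, 6, 5, 4, 3, 2, 1, 3, 4, 5, 6, 0, 2, 3, 4, 5, 1, 3, 4, 2, 3, 0, 2, 1, 3, 4, 5, 6, 7, 4, 3, 2, 1, 3, 4, 5, 6, 0, 2, 3, 4, 5, 1, 3, 4, 2, 3, 0, 2, 1, 3, 4, 5, 6, 4, 3, 0, 2, 1, 3, 4, 5, 0, 2, 3, 4],
  [6, 4, 5, 1, 3, 4, 2, 3, 0, 2, 1, 3, 4, 5, 6, 7, 6, 5, 4, 3, 2, 1, 3, 4, 5, 6, 0, 2, 3, 4, 5, 1, 3, 4, 2, 3, 0, 2, 1, 3, 4, 5, 6, 7, 2, 3, 4, 5, 1, 3, 4, 2, 3, 0, 2, 1, 3, 4, 5, 6, 0, 2, 3, 4, 5, 1, 3, 4, 2, 3, 0, 2, 1, 3, 4, 5, 0, 2, 3, 1],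
  [5, 6, 4, 5, 1, 3, 4, 2, 3, 0, 2, 1, 3, 4, 5, 6, 7, 6, 5, 4, 3, 2, 1, 3, 4, 5, 6, 0, 2, 3, 4, 5, 1, 3, 4, 2, 3, 0, 2, 1, 3, 4, 5, 6, 7, 0, 2, 3, 4, 5, 1, 3, 4, 2, 3, 0, 2, 1, 3, 4, 5, 6, 0, 2, 3, 4, 5, 1, 3, 4, 2, 3, 0, 2, 1, 3, 4, 5, 0, 2, 3, 1],
  [5, 1, 3, 4, 2, 3, 0, 2, 1, 3, 4, 5, 6, 7, 5, 4, 3, 2, 1, 3, 4, 5, 6, 0, 2, 3, 4, 5, 1, 3, 4, 2, 3, 0, 2, 1, 3, 4, 5, 6, 7, 5, 4, 3, 2, 1, 3, 4, 5, 6, 4, 5, 3, 4, 2, 3, 0, 2, 1, 3, 4, 5, 0, 2, 3, 4, 0, 2, 3, 1],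
  [7, 5, 4, 3, 2, 1, 3, 4, 5, 6, 0, 2, 3, 4, 5, 1, 3, 4, 2, 3, 0, 2, 1, 3, 4, 5, 6, 7, 2, 3, 4, 5, 6, 0, 2, 3, 4, 5, 1, 3, 4, 2, 3, 0, 2, 1, 3, 4, 5, 6, 1, 3, 4, 2, 3, 0, 2, 1, 3, 4, 5, 4, 3, 2, 1, 3, 4, 2, 3, 0, 2, 1, 3, 1],
  [6, 7, 4, 3, 2, 1, 3, 4, 5, 6, 0, 2, 3, 4, 5, 1, 3, 4, 2, 3, 0, 2, 1, 3, 4, 5, 6, 7, 3, 4, 5, 1, 3, 4, 2, 3, 0, 2, 1, 3, 4, 5, 6, 5, 3, 4, 2, 3, 0, 2, 1, 3, 4, 5, 4, 3, 2, 1, 3, 4, 0, 2, 3, 1],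
  [5, 6, 7, 3, 2, 1, 3, 4, 5, 6, 0, 2, 3, 4, 5, 1, 3, 4, 2, 3, 0, 2, 1, 3, 4, 5, 6, 7, 3, 4, 5, 1, 3, 4, 2, 3, 0, 2, 1, 3, 4, 5, 6, 3, 4, 2, 3, 0, 2, 1, 3, 4, 5, 4, 3, 0, 2, 1, 3, 4, 0, 2, 3, 1],
  [4, 5, 6, 7, 6, 5, 4, 3, 2, 1, 3, 4, 5, 6, 0, 2, 3, 4, 5, 1, 3, 4, 2, 3, 0, 2, 1, 3, 4, 5, 6, 7, 1, 3, 4, 5, 6, 0, 2, 3, 4, 5, 1, 3, 4, 2, 3, 0, 2, 1, 3, 4, 5, 6, 5, 4, 3, 2, 1, 3, 4, 5, 4, 3, 2, 1, 3, 4, 0, 2, 3, 1],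
  [5, 1, 3, 4, 2, 3, 0, 2, 1, 3, 4, 5, 6, 7, 5, 4, 3, 2, 1, 3, 4, 5, 6, 0, 2, 3, 4, 5, 1, 3, 4, 2, 3, 0, 2, 1, 3, 4, 5, 6, 7, 5, 4, 3, 2, 1, 3, 4, 5, 6, 4, 5, 3, 4, 2, 3, 0, 2, 1, 3, 4, 5, 0, 2, 3, 4, 0, 2, 3, 1],
  [7, 5, 4, 3, 2, 1, 3, 4, 5, 6, 0, 2, 3, 4, 5, 1, 3, 4, 2, 3, 0, 2, 1, 3, 4, 5, 6, 7, 2, 3, 4, 5, 6, 0, 2, 3, 4, 5, 1, 3, 4, 2, 3, 0, 2, 1, 3, 4, 5, 6, 1, 3, 4, 2, 3, 0, 2, 1, 3, 4, 5, 4, 3, 2, 1, 3, 4, 2, 3, 0, 2, 1, 3, 1],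
  [6, 7, 4, 3, 2, 1, 3, 4, 5, 6, 0, 2, 3, 4, 5, 1, 3, 4, 2, 3, 0, 2, 1, 3, 4, 5, 6, 7, 3, 4, 5, 1, 3, 4, 2, 3, 0, 2, 1, 3, 4, 5, 6, 5, 3, 4, 2, 3, 0, 2, 1, 3, 4, 5, 4, 3, 2, 1, 3, 4, 0, 2, 3, 1],
  [5, 6, 7, 3, 2, 1, 3, 4, 5, 6, 0, 2, 3, 4, 5, 1, 3, 4, 2, 3, 0, 2, 1, 3, 4, 5, 6, 7, 3, 4, 5, 1, 3, 4, 2, 3, 0, 2, 1, 3, 4, 5, 6, 3, 4, 2, 3, 0, 2, 1, 3, 4, 5, 4, 3, 0, 2, 1, 3, 4, 0, 2, 3, 1],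
  [4, 5, 6, 7, 6, 5, 4, 3, 2, 1, 3, 4, 5, 6, 0, 2, 3, 4, 5, 1, 3, 4, 2, 3, 0, 2, 1, 3, 4, 5, 6, 7, 1, 3, 4, 5, 6, 0, 2, 3, 4, 5, 1, 3, 4, 2, 3, 0, 2, 1, 3, 4, 5, 6, 5, 4, 3, 2, 1, 3, 4, 5, 4, 3, 2, 1, 3, 4, 0, 2, 3, 1],
  [5, 3, 4, 2, 3, 0, 2, 1, 3, 4, 5, 6, 7, 6, 5, 4, 3, 2, 1, 3, 4, 5, 6, 0, 2, 3, 4, 5, 1, 3, 4, 2, 3, 0, 2, 1, 3, 4, 5, 6, 7, 5, 6, 0, 2, 3, 4, 5, 1, 3, 4, 2, 3, 0, 2, 1, 3, 4, 5, 6, 1, 3, 4, 2, 3, 0, 2, 1, 3, 4, 5, 4],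
  [6, 5, 1, 3, 4, 2, 3, 0, 2, 1, 3, 4, 5, 6, 7, 6, 5, 4, 3, 2, 1, 3, 4, 5, 6, 0, 2, 3, 4, 5, 1, 3, 4, 2, 3, 0, 2, 1, 3, 4, 5, 6, 7, 0, 2, 3, 4, 5, 1, 3, 4, 2, 3, 0, 2, 1, 3, 4, 5, 6, 1, 3, 4, 5, 2, 3, 0, 2, 1, 3, 4, 1],
  [5, 1, 3, 4, 2, 3, 0, 2, 1, 3, 4, 5, 6, 7, 5, 4, 3, 2, 1, 3, 4, 5, 6, 0, 2, 3, 4, 5, 1, 3, 4, 2, 3, 0, 2, 1, 3, 4, 5, 6, 7, 5, 4, 3, 2, 1, 3, 4, 5, 6, 4, 5, 3, 4, 2, 3, 0, 2, 1, 3, 4, 5, 0, 2, 3, 4, 0, 2, 3, 1],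
  [7, 5, 4, 3, 2, 1, 3, 4, 5, 6, 0, 2, 3, 4, 5, 1, 3, 4, 2, 3, 0, 2, 1, 3, 4, 5, 6, 7, 2, 3, 4, 5, 6, 0, 2, 3, 4, 5, 1, 3, 4, 2, 3, 0, 2, 1, 3, 4, 5, 6, 1, 3, 4, 2, 3, 0, 2, 1, 3, 4, 5, 4, 3, 2, 1, 3, 4, 2, 3, 0, 2, 1, 3, 1],
  [6, 7, 4, 3, 2, 1, 3, 4, 5, 6, 0, 2, 3, 4, 5, 1, 3, 4, 2, 3, 0, 2, 1, 3, 4, 5, 6, 7, 3, 4, 5, 1, 3, 4, 2, 3, 0, 2, 1, 3, 4, 5, 6, 5, 3, 4, 2, 3, 0, 2, 1, 3, 4, 5, 4, 3, 2, 1, 3, 4, 0, 2, 3, 1],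
  [5, 6, 7, 3, 2, 1, 3, 4, 5, 6, 0, 2, 3, 4, 5, 1, 3, 4, 2, 3, 0, 2, 1, 3, 4, 5, 6, 7, 3, 4, 5, 1, 3, 4, 2, 3, 0, 2, 1, 3, 4, 5, 6, 3, 4, 2, 3, 0, 2, 1, 3, 4, 5, 4, 3, 0, 2, 1, 3, 4, 0, 2, 3, 1],
  [4, 5, 6, 7, 6, 5, 4, 3, 2, 1, 3, 4, 5, 6, 0, 2, 3, 4, 5, 1, 3, 4, 2, 3, 0, 2, 1, 3, 4, 5, 6, 7, 1, 3, 4, 5, 6, 0, 2, 3, 4, 5, 1, 3, 4, 2, 3, 0, 2, 1, 3, 4, 5, 6, 5, 4, 3, 2, 1, 3, 4, 5, 4, 3, 2, 1, 3, 4, 0, 2, 3, 1],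
  [5, 3, 4, 2, 3, 0, 2, 1, 3, 4, 5, 6, 7, 6, 5, 4, 3, 2, 1, 3, 4, 5, 6, 0, 2, 3, 4, 5, 1, 3, 4, 2, 3, 0, 2, 1, 3, 4, 5, 6, 7, 5, 6, 0, 2, 3, 4, 5, 1, 3, 4, 2, 3, 0, 2, 1, 3, 4, 5, 6, 1, 3, 4, 2, 3, 0, 2, 1, 3, 4, 5, 4],
  [5, 3, 4, 2, 3, 0, 2, 1, 3, 4, 5, 6, 7, 6, 5, 4, 3, 2, 1, 3, 4, 5, 6, 0, 2, 3, 4, 5, 1, 3, 4, 2, 3, 0, 2, 1, 3, 4, 5, 6, 7, 5, 6, 0, 2, 3, 4, 5, 1, 3, 4, 2, 3, 0, 2, 1, 3, 4, 5, 6, 1, 3, 4, 2, 3, 0, 2, 1, 3, 4, 5, 4],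
  [6, 5, 1, 3, 4, 2, 3, 0, 2, 1, 3, 4, 5, 6, 7, 6, 5, 4, 3, 2, 1, 3, 4, 5, 6, 0, 2, 3, 4, 5, 1, 3, 4, 2, 3, 0, 2, 1, 3, 4, 5, 6, 7, 0, 2, 3, 4, 5, 1, 3, 4, 2, 3, 0, 2, 1, 3, 4, 5, 6, 1, 3, 4, 5, 2, 3, 0, 2, 1, 3, 4, 1],
  [6, 5, 1, 3, 4, 2, 3, 0, 2, 1, 3, 4, 5, 6, 7, 6, 5, 4, 3, 2, 1, 3, 4, 5, 6, 0, 2, 3, 4, 5, 1, 3, 4, 2, 3, 0, 2, 1, 3, 4, 5, 6, 7, 0, 2, 3, 4, 5, 1, 3, 4, 2, 3, 0, 2, 1, 3, 4, 5, 6, 1, 3, 4, 5, 2, 3, 0, 2, 1, 3, 4, 1],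
  [3, 2, 1, 3, 4, 5, 6, 0, 2, 3, 4, 5, 1, 3, 4, 2, 3, 0, 2, 1, 3, 4, 5, 6, 7, 6, 5, 4, 3, 2, 1, 3, 4, 5, 6, 0, 2, 3, 4, 5, 1, 3, 4, 2, 3, 0, 2, 1, 3, 4, 5, 6, 7, 4, 5, 3, 4, 2, 3, 0, 2, 1, 3, 4, 5, 6, 4, 3, 0, 2, 1, 3, 4, 5, 0, 2, 3, 1],
  [4, 3, 2, 1, 3, 4, 5, 6, 0, 2, 3, 4, 5, 1, 3, 4, 2, 3, 0, 2, 1, 3, 4, 5, 6, 7, 6, 5, 4, 3, 2, 1, 3, 4, 5, 6, 0, 2, 3, 4, 5, 1, 3, 4, 2, 3, 0, 2, 1, 3, 4, 5, 6, 7, 5, 3, 4, 2, 3, 0, 2, 1, 3, 4, 5, 6, 4, 3, 2, 1, 3, 4, 0, 2, 3, 1],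
  [5, 4, 3, 2, 1, 3, 4, 5, 6, 0, 2, 3, 4, 5, 1, 3, 4, 2, 3, 0, 2, 1, 3, 4, 5, 6, 7, 6, 5, 4, 3, 2, 1, 3, 4, 5, 6, 0, 2, 3, 4, 5, 1, 3, 4, 2, 3, 0, 2, 1, 3, 4, 5, 6, 7, 4, 5, 3, 4, 2, 3, 0, 2, 1, 3, 4, 5, 6, 4, 3, 2, 1, 3, 4, 0, 2, 3, 1],
  [6, 5, 4, 3, 2, 1, 3, 4, 5, 6, 0, 2, 3, 4, 5, 1, 3, 4, 2, 3, 0, 2, 1, 3, 4, 5, 6, 7, 6, 5, 4, 3, 2, 1, 3, 4, 5, 6, 0, 2, 3, 4, 5, 1, 3, 4, 2, 3, 0, 2, 1, 3, 4, 5, 6, 7],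
  [7, 6, 5, 4, 3, 2, 1, 3, 4, 5, 6, 0, 2, 3, 4, 5, 1, 3, 4, 2, 3, 0, 2, 1, 3, 4, 5, 6, 7, 6, 5, 4, 3, 2, 1, 3, 4, 5, 6, 0, 2, 3, 4, 5, 1, 3, 4, 2, 3, 0, 2, 1, 3, 4, 5, 6, 7, 6, 5, 4, 3, 2, 1, 3, 4, 5, 6, 0, 2, 3, 4, 5, 1, 3, 4, 2, 3, 0, 2, 1, 3, 4, 5, 6, 1, 3, 4, 5, 1, 3, 4, 2, 3, 0, 2, 1, 3, 4]]

/-- The system of each root. -/
def sysOf : List ℕ := [0, 0, 0, 0, 0, 1, 2, 1, 2, 3, 3, 3, 3, 3, 4, 4, 5, 5, 5, 5, 5, 6, 6, 6, 6, 6, 0, 0, 0, 0, 0, 0, 0, 0, 0, 0, 0, 0, 0, 0, 0, 0, 0, 0, 0, 0, 1, 1, 1, 1, 1, 1, 1, 1, 1, 1, 2, 2, 2, 2, 2, 2, 2, 2, 2, 2, 3, 3, 3, 3, 3, 3, 3, 3, 3, 3, 7, 8, 4, 4, 4, 4, 4, 4, 4, 4, 4, 4, 5, 5, 5, 5, 5, 6, 6, 6, 6, 6, 0, 5, 5, 5, 5, 5, 9, 6, 6, 6, 6, 6, 0, 0, 0, 0, 0, 0, 0, 0, 0, 0, 0, 0, 0, 0, 0, 0, 0, 0, 0,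 0, 1, 1, 1, 1, 1, 10, 2, 2, 2, 2, 2, 0, 1, 1, 1, 1, 1, 2, 2, 2, 2, 2, 3, 3, 3, 3, 3, 3, 3, 3, 3, 3, 11, 12, 4, 4, 4, 4, 4, 4, 4, 4, 4, 4, 5, 5, 5, 5, 5, 5, 5, 5, 5, 5, 6, 6, 6, 6, 6, 6, 6, 6, 6, 6, 0, 0, 0, 0, 0, 0, 0, 0, 0, 0, 0, 0, 0, 0, 0, 0, 0, 0, 0, 0, 1, 1, 1, 1, 1, 2, 2, 2, 2, 2, 3, 3, 4, 4, 4, 4, 4, 5, 6, 5, 6, 0, 0, 0, 0, 0]

/-- The second roots of the systems. -/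
def sysRoot : List ℕ := [0, 5, 6, 9, 14, 16, 21, 76, 77, 104, 135, 162, 163]

/-- The base points of the solutions. -/
def sysBase : List (List ℕ) := [[1, 70, 64, 23, 0, 0, 0, 24], [1, 30, 64, 24, 30, 22, 0, 0], [1, 20, 64, 26, 20, 39, 0, 0], [1, 42, 64, 7, 42, 60, 0, 0], [1, 13, 64, 42, 13, 29, 0, 0], [1, 52, 64, 5, 52, 43, 0, 0], [1, 35, 64, 23, 35, 50, 0, 0]]

/-- The solutions of the systems. -/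
def sysSols : List SolD := [
  ⟨[[0, 8, 0, 13, 8, 1, 0, 0], [0, 17, 0, 64, 0, 0, 1, 0], [0, 0, 0, 0, 0, 0, 0, 0]], [5, 6, 0], [[0, 0, 0, 0, 0, 0, 0, 0, 1, 0], [0, 0, 0, 0, 8, 0, 2, 0, 0, 72], [72, 0, 0, 0, 0, 0, 0, 0, 64, 0], [25, 49, 0, 0, 62, 0, 29, 0, 30, 22], [0, 0, 0, 0, 8, 0, 0, 0, 0, 0], [0, 0, 0, 0, 0, 0, 0, 0, 0, 0], [0, 0, 0, 0, 0, 0, 0, 0, 0, 0], [0, 72, 0, 0, 1, 0, 56, 0, 0, 8]]⟩,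
  ⟨[[0, 0, 0, 9, 56, 7, 1, 0], [0, 64, 0, 10, 55, 16, 0, 1], [0, 0, 0, 0, 0, 0, 0, 0]], [6, 7, 0], [[0, 0, 0, 0, 0, 0, 0, 0, 1, 0], [44, 20, 0, 0, 31, 0, 57, 0, 9, 7], [72, 0, 0, 0, 0, 0, 0, 0, 64, 0], [60, 24, 0, 0, 20, 0, 26, 0, 72, 57], [44, 11, 0, 0, 40, 0, 48, 0, 9, 7], [42, 47, 0, 0, 4, 0, 6, 0, 65, 10], [0, 0, 0, 0, 0, 0, 0, 0, 0, 0], [0, 0, 0, 0, 0, 0, 0, 0, 0, 0]]⟩,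
  ⟨[[0, 0, 0, 9, 56, 7, 1, 0], [0, 64, 0, 10, 55, 16, 0, 1], [0, 0, 0, 0, 0, 0, 0, 0]], [6, 7, 0], [[0, 0, 0, 0, 0, 0, 0, 0, 1, 0], [51, 20, 0, 0, 31, 0, 57, 0, 72, 7], [72, 0, 0, 0, 0, 0, 0, 0, 64, 0], [44, 24, 0, 0, 20, 0, 26, 0, 1, 57], [51, 11, 0, 0, 40, 0, 48, 0, 72, 7], [52, 47, 0, 0, 4, 0, 6, 0, 9, 10], [0, 0, 0, 0, 0, 0, 0, 0, 0, 0], [0, 0, 0, 0, 0, 0, 0, 0, 0, 0]]⟩,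
  ⟨[[0, 17, 0, 64, 0, 0, 1, 0], [0, 1, 0, 8, 65, 72, 0, 1], [0, 0, 0, 0, 0, 0, 0, 0]], [6, 7, 0], [[0, 0, 0, 0, 0, 0, 0, 0, 1, 0], [52, 22, 0, 0, 30, 0, 11, 0, 72, 63], [72, 0, 0, 0, 0, 0, 0, 0, 64, 0], [0, 9, 0, 0, 64, 0, 6, 0, 1, 2], [52, 13, 0, 0, 39, 0, 2, 0, 72, 63], [43, 29, 0, 0, 13, 0, 55, 0, 9, 17], [0, 0, 0, 0, 0, 0, 0, 0, 0, 0], [0, 0, 0, 0, 0, 0, 0, 0, 0, 0]]⟩,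
  ⟨[[0, 0, 0, 9, 56, 7, 1, 0], [0, 64, 0, 10, 55, 16, 0, 1], [0, 0, 0, 0, 0, 0, 0, 0]], [6, 7, 0], [[0, 0, 0, 0, 0, 0, 0, 0, 1, 0], [51, 20, 0, 0, 31, 0, 57, 0, 65, 7], [72, 0, 0, 0, 0, 0, 0, 0, 64, 0], [44, 24, 0, 0, 20, 0, 26, 0, 17, 57], [51, 11, 0, 0, 40, 0, 48, 0, 65, 7], [52, 47, 0, 0, 4, 0, 6, 0, 72, 10], [0, 0, 0, 0, 0, 0, 0, 0, 0, 0], [0, 0, 0, 0, 0, 0, 0, 0, 0, 0]]⟩,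
  ⟨[[0, 17, 0, 64, 0, 0, 1, 0], [0, 1, 0, 8, 65, 72, 0, 1], [0, 0, 0, 0, 0, 0, 0, 0]], [6, 7, 0], [[0, 0, 0, 0, 0, 0, 0, 0, 1, 0], [52, 22, 0, 0, 30, 0, 11, 0, 9, 63], [72, 0, 0, 0, 0, 0, 0, 0, 64, 0], [0, 9, 0, 0, 64, 0, 6, 0, 72, 2], [52, 13, 0, 0, 39, 0, 2, 0, 9, 63], [43, 29, 0, 0, 13, 0, 55, 0, 65, 17], [0, 0, 0, 0, 0, 0, 0, 0, 0, 0], [0, 0, 0, 0, 0, 0, 0, 0, 0, 0]]⟩,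
  ⟨[[0, 17, 0, 64, 0, 0, 1, 0], [0, 1, 0, 8, 65, 72, 0, 1], [0, 0, 0, 0, 0, 0, 0, 0]], [6, 7, 0], [[0, 0, 0, 0, 0, 0, 0, 0, 1, 0], [42, 22, 0, 0, 30, 0, 11, 0, 65, 63], [72, 0, 0, 0, 0, 0, 0, 0, 64, 0], [2, 9, 0, 0, 64, 0, 6, 0, 17, 2], [42, 13, 0, 0, 39, 0, 2, 0, 65, 63], [60, 29, 0, 0, 13, 0, 55, 0, 72, 17], [0, 0, 0, 0, 0, 0, 0, 0, 0, 0], [0, 0, 0, 0, 0, 0, 0, 0, 0, 0]]⟩]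

/-- The values of the families of solutions. -/
def sysFams : List (List (ℕ × ℕ × ℕ)) := [
  [(3, 0, 0), (27, 0, 1), (27, 1, 1), (27, 9, 1), (50, 22, 65), (41, 22, 65), (47, 30, 9), (38, 30, 9), (61, 43, 0), (61, 51, 0), (61, 52, 0), (42, 22, 65), (39, 30, 9), (62, 43, 0), (62, 51, 0), (62, 52, 0), (53, 43, 0), (53, 51, 0), (53, 52, 0), (3, 64, 64), (3, 65, 64), (3, 0, 64), (27, 1, 66), (0, 72, 8), (0, 0, 8), (0, 8, 8), (23, 21, 72), (47, 22, 1), (47, 30, 1), (47, 31, 1), (14, 21, 72), (38, 22, 1), (38, 30, 1), (38, 31, 1), (8, 0, 0), (15, 21, 72), (39, 22, 1), (39, 30, 1), (39, 31, 1), (0, 64, 0)],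
  [(0, 0, 64), (0, 1, 65), (22, 8, 8), (52, 64, 63), (3, 0, 0), (67, 0, 0), (33, 0, 64), (24, 0, 64), (48, 9, 1), (5, 65, 56), (27, 72, 72), (68, 0, 0), (25, 0, 64), (49, 9, 1), (6, 65, 56), (28, 72, 72), (40, 9, 1), (70, 65, 56), (19, 72, 72), (21, 1, 66), (43, 8, 9), (0, 64, 64), (22, 0, 8), (51, 1, 57), (0, 8, 0), (30, 64, 55), (54, 0, 65), (3, 9, 9), (33, 65, 64), (55, 72, 7), (45, 0, 65), (67, 9, 9), (24, 65, 64), (46, 72, 7), (8, 0, 0), (46, 0, 65), (68, 9, 9), (25, 65, 64), (47, 72, 7), (21, 10, 2)],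
  [(0, 0, 64), (0, 1, 65), (39, 8, 8), (59, 64, 63), (12, 0, 0), (3, 0, 0), (32, 0, 64), (23, 0, 64), (49, 9, 1), (69, 65, 56), (35, 72, 72), (4, 0, 0), (24, 0, 64), (50, 9, 1), (70, 65, 56), (36, 72, 72), (41, 9, 1), (61, 65, 56), (27, 72, 72), (14, 1, 66), (53, 8, 9), (0, 64, 64), (39, 0, 8), (34, 1, 57), (0, 8, 0), (20, 64, 55), (46, 0, 65), (12, 9, 9), (32, 65, 64), (71, 72, 7), (37, 0, 65), (3, 9, 9), (23, 65, 64), (62, 72, 7), (8, 0, 0), (38, 0, 65), (4, 9, 9), (24, 65, 64), (63, 72, 7), (14, 10, 2)],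
  [(0, 0, 64), (0, 1, 65), (60, 1, 64), (29, 1, 56), (36, 65, 64), (27, 65, 64), (5, 9, 65), (69, 9, 65), (3, 0, 0), (45, 0, 65), (32, 0, 64), (28, 65, 64), (70, 9, 65), (4, 0, 0), (46, 0, 65), (33, 0, 64), (68, 0, 0), (37, 0, 65), (24, 0, 64), (44, 64, 0), (31, 64, 72), (0, 64, 64), (60, 66, 64), (13, 8, 1), (0, 8, 0), (42, 8, 65), (49, 72, 0), (36, 1, 0), (5, 1, 65), (65, 1, 64), (40, 72, 0), (27, 1, 0), (69, 1, 65), (56, 1, 64), (8, 0, 0), (41, 72, 0), (28, 1, 0), (70, 1, 65), (57, 1, 64), (44, 0, 9)],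
  [(0, 0, 64), (0, 1, 65), (29, 8, 8), (42, 64, 63), (11, 0, 0), (2, 0, 0), (24, 0, 64), (15, 0, 64), (57, 9, 1), (70, 65, 56), (26, 72, 72), (3, 0, 0), (16, 0, 64), (58, 9, 1), (71, 65, 56), (27, 72, 72), (49, 9, 1), (62, 65, 56), (18, 72, 72), (31, 1, 66), (60, 8, 9), (0, 64, 64), (29, 0, 8), (44, 1, 57), (0, 8, 0), (13, 64, 55), (55, 0, 65), (11, 9, 9), (24, 65, 64), (53, 72, 7), (46, 0, 65), (2, 9, 9), (15, 65, 64), (44, 72, 7), (8, 0, 0), (47, 0, 65), (3, 9, 9), (16, 65, 64), (45, 72, 7), (31, 10, 2)],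
  [(0, 0, 64), (0, 1, 65), (43, 1, 64), (22, 1, 56), (27, 65, 64), (18, 65, 64), (6, 9, 65), (70, 9, 65), (2, 0, 0), (54, 0, 65), (24, 0, 64), (19, 65, 64), (71, 9, 65), (3, 0, 0), (55, 0, 65), (25, 0, 64), (67, 0, 0), (46, 0, 65), (16, 0, 64), (51, 64, 0), (21, 64, 72), (0, 64, 64), (43, 66, 64), (30, 8, 1), (0, 8, 0), (52, 8, 65), (57, 72, 0), (27, 1, 0), (6, 1, 65), (49, 1, 64), (48, 72, 0), (18, 1, 0), (70, 1, 65), (40, 1, 64), (8, 0, 0), (49, 72, 0), (19, 1, 0), (71, 1, 65), (41, 1, 64), (51, 0, 9)],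
  [(0, 0, 64), (0, 1, 65), (50, 1, 64), (12, 1, 56), (35, 65, 64), (26, 65, 64), (70, 9, 65), (61, 9, 65), (11, 0, 0), (46, 0, 65), (23, 0, 64), (27, 65, 64), (62, 9, 65), (12, 0, 0), (47, 0, 65), (24, 0, 64), (3, 0, 0), (38, 0, 65), (15, 0, 64), (61, 64, 0), (38, 64, 72), (0, 64, 64), (50, 66, 64), (23, 8, 1), (0, 8, 0), (35, 8, 65), (58, 72, 0), (35, 1, 0), (70, 1, 65), (47, 1, 64), (49, 72, 0), (26, 1, 0), (61, 1, 65), (38, 1, 64), (8, 0, 0), (50, 72, 0), (27, 1, 0), (62, 1, 65), (39, 1, 64), (61, 0, 9)]]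

/-- The refutations of the inconsistent systems. -/
def sysInc : List (List ℕ) := [[72, 0, 0, 0, 0, 0, 0, 0, 65, 1], [0, 0, 0, 0, 0, 0, 0, 0, 1, 1], [72, 0, 0, 0, 0, 0, 0, 0, 64, 1], [1, 0, 0, 0, 0, 0, 0, 0, 9, 1], [0, 0, 0, 0, 0, 0, 0, 0, 72, 1], [1, 0, 0, 0, 0, 0, 0, 0, 8, 1]]

/-- The orbits of the degrees. -/
def mem : List (List ℕ) := [[0], [2, 6, 18, 54, 162, 486], [4, 12, 36, 108, 324, 244], [8, 24, 72, 216, 648, 488], [10, 30, 90, 270, 82, 246], [14, 42, 126, 378, 406, 490], [16, 48, 144, 432, 568, 248], [20, 60, 180, 540, 164, 492], [22, 66, 198, 594, 326, 250], [26, 78, 234, 702, 650, 494], [28, 84, 252], [32, 96, 288, 136, 408, 496], [34, 102, 306, 190, 570, 254], [38, 114, 342, 298, 166, 498], [40, 120, 360, 352, 328,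 256], [44, 132, 396, 460, 652, 500], [46, 138, 414, 514, 86, 258], [50, 150, 450, 622, 410, 502], [52, 156, 468, 676, 572, 260], [56, 168, 504], [58, 174, 522, 110, 330, 262], [62, 186, 558, 218, 654, 506], [64, 192, 576, 272, 88, 264], [68, 204, 612, 380, 412, 508], [70, 210, 630, 434, 574, 266], [74, 222, 666, 542, 170, 510], [76, 228, 684, 596, 332, 268], [80, 240, 720, 704, 656, 512], [92, 276, 100, 300, 172, 516], [94, 282, 118, 354, 334, 274], [98, 294, 154, 462, 658, 518], [104, 312, 208, 624, 416, 520], [106, 318, 226, 678, 578, 278], [112, 336, 280], [116, 348, 316, 220, 660, 524], [122, 366, 370, 382, 418, 526], [124, 372, 388, 436, 580, 284], [128, 384, 424, 544, 176, 528], [130, 390, 442, 598, 338, 286], [134, 402, 478,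 706, 662, 530], [140, 420, 532], [142, 426, 550, 194, 582, 290], [146, 438, 586, 302, 178, 534], [148, 444, 604, 356, 340, 292], [152, 456, 640, 464, 664, 536], [158, 474, 694, 626, 422, 538], [160, 480, 712, 680, 584, 296], [182, 546], [184, 552, 200, 600, 344, 304], [188, 564, 236, 708, 668, 548], [196, 588, 308], [202, 606, 362, 358, 346, 310], [206, 618, 398, 466, 670, 554], [212, 636, 452, 628, 428, 556], [214, 642, 470, 682, 590, 314], [224, 672, 560], [230, 690, 614, 386, 430, 562], [232, 696, 632, 440, 592, 320], [238, 714, 686, 602, 350, 322], [242, 726, 722, 710, 674, 566], [364], [368, 376, 400, 472, 688, 608], [374, 394, 454, 634, 446, 610], [392, 448, 616], [404, 484, 724, 716, 692, 620], [458, 646, 482, 718, 698, 638],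 [476, 700, 644], [728]]

/-- The weights of the degrees. -/
def wts : List (List ℤ) := [
  [1, 0, 0, 0, 0, 0, 0, 1],
  [6, 0, 12, 0, 0, 0, 0, 6],
  [0, 0, 12, 12, 0, 0, 0, 12],
  [6, 12, 24, 12, 0, 0, 0, 30],
  [0, 12, 0, 0, 0, 12, 0, 12],
  [0, 12, 12, 24, 0, 12, 12, 36],
  [0, 12, 24, 12, 0, 12, 12, 36],
  [6, 0, 36, 0, 0, 0, 12, 30],
  [0, 0, 24, 12, 0, 12, 24, 36],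
  [6, 24, 48, 24, 12, 24, 24, 78],
  [0, 0, 0, 0, 12, 0, 0, 6],
  [0, 12, 0, 12, 24, 24, 0, 36],
  [0, 0, 0, 12, 24, 12, 24, 36],
  [0, 0, 24, 24, 0, 0, 24, 36],
  [0, 0, 12, 24, 12, 12, 36, 48],
  [0, 12, 24, 48, 36, 36, 60, 108],
  [0, 24, 0, 0, 24, 12, 12, 36],
  [0, 36, 24, 48, 36, 36, 36, 108],
  [0, 24, 24, 48, 36, 36, 48, 108],
  [3, 0, 12, 0, 0, 12, 0, 15],
  [0, 0, 12, 24, 12, 24, 0, 36],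
  [6, 24, 48, 24, 24, 24, 12, 78],
  [0, 36, 0, 0, 12, 12, 12, 36],
  [0, 36, 24, 36, 48, 24, 48, 108],
  [0, 48, 24, 36, 48, 36, 24, 108],
  [6, 36, 48, 24, 0, 24, 24, 78],
  [0, 36, 24, 48, 36, 36, 36, 108],
  [6, 96, 72, 72, 84, 84, 72, 246],
  [0, 36, 12, 0, 12, 12, 0, 36],
  [0, 36, 12, 0, 24, 12, 12, 48],
  [0, 72, 24, 12, 48, 48, 12, 108],
  [0, 48, 12, 12, 60, 36, 48, 108],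
  [0, 72, 24, 0, 60, 36, 24, 108],
  [0, 0, 0, 12, 12, 12, 12, 24],
  [0, 24, 24, 48, 36, 36, 48, 108],
  [0, 48, 24, 36, 72, 36, 72, 144],
  [0, 60, 24, 36, 72, 60, 36, 144],
  [0, 36, 36, 48, 24, 48, 24, 108],
  [0, 48, 36, 48, 60, 48, 48, 144],
  [0, 108, 72, 108, 132, 108, 120, 324],
  [0, 24, 12, 12, 24, 24, 12, 54],
  [0, 36, 36, 36, 36, 36, 36, 108],
  [12, 36, 60, 36, 12, 24, 36, 108],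
  [12, 48, 72, 36, 36, 36, 48, 144],
  [12, 108, 120, 96, 108, 108, 96, 324],
  [0, 120, 84, 108, 120, 108, 108, 324],
  [12, 120, 108, 96, 108, 108, 96, 324],
  [6, 0, 24, 12, 0, 0, 12, 26],
  [12, 0, 60, 72, 0, 24, 48, 108],
  [18, 60, 120, 96, 48, 72, 72, 246],
  [0, 0, 24, 36, 12, 12, 24, 54],
  [12, 12, 84, 84, 12, 48, 36, 144],
  [12, 48, 120, 132, 108, 96, 132, 324],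
  [0, 108, 84, 108, 120, 120, 108, 324],
  [12, 60, 120, 144, 84, 108, 120, 324],
  [3, 60, 36, 36, 36, 36, 36, 123],
  [0, 132, 60, 84, 144, 120, 108, 324],
  [12, 120, 96, 72, 132, 120, 96, 324],
  [12, 72, 132, 132, 84, 108, 108, 324],
  [18, 252, 228, 228, 252, 252, 228, 726],
  [4, 12, 24, 12, 0, 12, 0, 32],
  [24, 132, 192, 144, 108, 132, 132, 432],
  [12, 180, 132, 108, 156, 144, 132, 432],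
  [0, 96, 48, 60, 84, 84, 60, 216],
  [24, 312, 312, 324, 324, 312, 336, 972],
  [24, 348, 300, 300, 336, 312, 324, 972],
  [12, 144, 168, 180, 144, 156, 168, 486],
  [9, 120, 120, 120, 120, 120, 120, 365]]

/-- The certificates of the keys with 120 fixed. -/
def certs120 : List KTree := [
  (.node 12 0 (.node 2 0 (.node 1 1 (.leaf [14, 12, 10, 14, 12, 11, 11, -24] [0, 0, -60]) (.leaf [-1, 6, 6, 6, 6, 6, 6, -12] [0, 0, 6])) (.node 33 0 (.leaf [40, 86, 64, 96, 84, 77, 85, -168] [-84, 96, -72]) (.node 1 1 (.leaf [26, 24, 19, 26, 23, 21, 22, -46] [0, 12, 0, -108]) (.leaf [-1, 6, 6, 6, 6, 6, 6, -12] [0, 0, 0, 6])))) (.leaf [10, 106, 98, 108, 103, 99, 98, -206] [108])),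
  (.node 12 0 (.node 14 0 (.node 15 0 (.node 13 0 (.node 17 0 (.node 18 0 (.node 23 0 (.node 26 0 (.node 31 0 (.node 33 0 (.node 34 0 (.node 35 0 (.node 39 0 (.node 50 0 (.leaf [14, 17, 13, 22, 20, 20, 26, -40] [-168, -180, -252, -24, -36, -144, -84, -36, -84, -96, -144, -192, -108, -48]) (.node 16 0 (.node 22 0 (.leaf [34, 129, 106, 121, 115, 117, 144, -246] [-216, -336, -324, -48, 0, -144, -216, 0, -372, -60, -144, -528, -24, 144, -132, -300]) (.leaf [-24, 315, 336, 310, 324, 332, 315, -648] [0, 0, 0, 0, 0, 0, 0, 0, 0, 0, 0, 0, 0, 336, 0, 336])) (.leaf [0, 24, 24, 24, 23, 24, 24, -48] [0, 0, 0, 0, 0, 0, 0, 0, 0, 0, 0, 0, 0, 12, 24]))) (.leaf [8, 1321, 1324, 1332, 1320, 1330, 1329, -2656] [0, -12, 0, -24, 0, 0, 0, 0, 0, 0, 0, 0,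 1332])) (.leaf [1, 297, 298, 299, 295, 300, 298, -597] [0, 0, 0, 0, 0, 0, 0, 0, 0, 0, 0, 300])) (.leaf [0, 36, 36, 36, 35, 36, 36, -72] [0, 0, 0, 0, 0, 0, 0, 0, 0, 0, 36])) (.node 16 0 (.node 22 0 (.node 29 0 (.node 34 0 (.node 35 0 (.leaf [52, 315, 249, 279, 267, 177, 348, -550] [-432, -1140, -612, -1224, 0, -216, -1728, 0, -1152, 348, -468, -1044, -636, -216, -2592]) (.leaf [0, 72, 72, 72, 71, 72, 72, -144] [0, 0, 0, 0, 0, 0, 0, 0, 0, 12, 0, 0, 0, 0, 72])) (.leaf [6, 246, 234, 240, 229, 210, 252, -474] [0, -156, 0, -360, 0, 0, -48, 0, 0, 204, 0, -84, 0, 252])) (.leaf [6, 114, 107, 113, 104, 93, 120, -220] [0, -120, 0, -240, 0, 0, 0, 0, 0, 120, 0, 0, 120])) (.leaf [0, 35, 36, 36, 36, 36, 36, -72] [0, 0, 0, 0, 0, 0, 0, 0, 0, 0, 0,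 36])) (.leaf [4, 80, 75, 79, 73, 65, 84, -154] [0, -84, 0, -168, 0, 0, 0, 0, 0, 84, 84]))) (.leaf [8, 685, 688, 696, 684, 694, 693, -1384] [0, -12, 0, -24, 0, 0, 0, 0, 696])) (.leaf [-1, 48, 48, 47, 47, 46, 48, -95] [0, 0, 0, -12, 0, 0, 0, 48])) (.leaf [1, 201, 202, 203, 199, 204, 202, -405] [0, 0, 0, 0, 0, 0, 204])) (.leaf [-1, 48, 48, 47, 47, 46, 48, -95] [0, 0, 0, -12, 0, 48])) (.leaf [-1, 48, 48, 47, 47, 46, 48, -95] [0, 0, 0, -12, 48])) (.node 16 0 (.node 18 0 (.node 22 0 (.node 23 0 (.node 31 0 (.node 33 0 (.node 34 0 (.node 35 0 (.node 39 0 (.node 56 0 (.leaf [36, 74, 61, 76, 78, 84, 96, -158] [-408, -372, -528, 96, -120, -264, -72, -168, -444, -216, -264, -552, -288, -300]) (.leaf [16, 63, 58, 67, 64, 69, 72, -132] [-144,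 -156, -216, 24, 0, -108, 0, 0, -48, -96, -108, -96, 0, 72])) (.leaf [6, 104, 103, 106, 105, 108, 108, -212] [-48, -48, -60, 24, 0, -12, 0, 0, 0, -36, -12, 0, 108])) (.leaf [-8, 329, 336, 327, 332, 335, 329, -664] [0, 0, 0, 96, 0, 0, 0, 0, 0, 0, 0, 336])) (.leaf [-8, 245, 252, 243, 248, 251, 245, -496] [0, 0, 0, 96, 0, 0, 0, 0, 0, 0, 252])) (.node 9 0 (.node 8 0 (.node 17 0 (.node 26 0 (.node 11 0 (.node 25 0 (.node 28 0 (.node 29 0 (.node 30 0 (.node 32 0 (.node 35 0 (.node 36 0 (.node 38 0 (.node 39 0 (.node 40 0 (.node 41 0 (.node 45 0 (.node 56 0 (.node 63 0 (.node 13 1 (.leaf [2, 103, 91, 78, 92, 81, 108, -184] [-84, -96, 0, 0, -324, 0, -456, -372, -720, 108, -12, -60, 0, 0, 0, -144, -252, -444, -264, -756, -756, -48, -60, -336,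 -12, -36, -264, -624, -204, -24]) (.leaf [-2, 23, 24, 20, 23, 23, 24, -46] [0, 0, 0, 0, -12, 0, -12, 0, -24, 24, 0, -12, 0, 0, 0, 0, -12, -24, 0, -48, 0, 0, 0, 0, 0, 0, 0, 0, 0, 24])) (.leaf [-2, 60, 63, 26, 62, 64, 96, -124] [-408, -396, -384, 24, -384, 0, -360, -336, -1188, 0, 0, -432, 0, 0, 0, 0, 0, -372, 0, -768, -1152, 0, 0, -264, 0, 0, 0, -684, 96])) (.leaf [-4, 273, 276, 272, 274, 275, 272, -548] [0, 0, 0, 48, 0, 0, 0, 0, 0, 36, 0, 0, 0, 0, 0, 0, 0, 0, 0, 0, 0, 0, 0, 0, 0, 0, 0, 276])) (.leaf [-2, 152, 155, 150, 154, 156, 156, -308] [-24, -12, 0, 24, 0, 0, 0, 0, -36, 0, 0, -48, 0, 0, 0, 0, 0, 0, 0, 0, 0, 0, 0, 0, 0, 0, 156])) (.leaf [-2, 32, 35, 30, 34, 36, 36, -68] [-24, -12, 0, 24, 0, 0, 0, 0, -36, 0, 0, -48, 0, 0, 0, 0,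 0, 0, 0, 0, 0, 0, 0, 0, 0, 36])) (.leaf [-4, 44, 48, 40, 45, 48, 48, -92] [0, 0, 0, 48, 0, 0, 0, 0, 0, 36, 0, -48, 0, 0, 0, 0, 0, 0, 0, 0, 0, 0, 0, 0, 48])) (.leaf [-2, 156, 156, 154, 155, 154, 154, -310] [0, 0, 0, 24, 0, 0, -12, 0, 0, 36, 0, 0, 0, 0, 0, 0, -36, -24, -24, -36, 0, 0, 0, 156])) (.leaf [-2, 56, 59, 54, 58, 60, 60, -116] [-24, -12, 0, 24, 0, 0, 0, 0, -36, 0, 0, -48, 0, 0, 0, 0, 0, 0, 0, 0, 0, 0, 60])) (.leaf [-2, 44, 47, 42, 46, 48, 48, -92] [-24, -12, 0, 24, 0, 0, 0, 0, -36, 0, 0, -48, 0, 0, 0, 0, 0, 0, 0, 0, 0, 48])) (.leaf [-4, 177, 180, 176, 178, 179, 176, -356] [0, 0, 0, 48, 0, 0, 0, 0, 0, 36, 0, 0, 0, 0, 0, 0, 0, 0, 0, 0, 180])) (.leaf [-4, 64, 70, 63, 68, 72, 69, -136] [-12, 0, 0, 48, 0, 0, 0, 0, 0, 0, 0, -60,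 0, 0, 0, 0, 0, 0, 0, 72])) (.leaf [-2, 44, 47, 42, 46, 48, 48, -92] [-24, -12, 0, 24, 0, 0, 0, 0, -36, 0, 0, -48, 0, 0, 0, 0, 0, 0, 48])) (.leaf [-4, 52, 58, 51, 56, 60, 57, -112] [-12, 0, 0, 48, 0, 0, 0, 0, 0, 0, 0, -60, 0, 0, 0, 0, 0, 60])) (.leaf [-2, 32, 35, 30, 34, 36, 36, -68] [-24, -12, 0, 24, 0, 0, 0, 0, -36, 0, 0, -48, 0, 0, 0, 0, 36])) (.leaf [-2, 32, 35, 30, 34, 36, 36, -68] [-24, -12, 0, 24, 0, 0, 0, 0, -36, 0, 0, -48, 0, 0, 0, 36])) (.leaf [-2, 20, 23, 18, 22, 24, 24, -44] [-24, -12, 0, 24, 0, 0, 0, 0, -36, 0, 0, -48, 0, 0, 24])) (.leaf [-2, 92, 95, 90, 94, 96, 96, -188] [-24, -12, 0, 24, 0, 0, 0, 0, -36, 0, 0, -48, 0, 96])) (.leaf [-2, 92, 95, 90, 94, 96, 96, -188] [-24, -12, 0, 24, 0, 0, 0, 0, -36, 0, 0, -48, 96]))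 (.leaf [0, 24, 24, 24, 24, 24, 23, -48] [0, 0, 0, 24, 0, 0, 0, 0, 0, 12, 0, 24])) (.leaf [0, 24, 24, 23, 24, 24, 24, -48] [0, 0, 0, 24, 0, 0, 0, 0, 0, 12, 24]))) (.leaf [1, 249, 250, 251, 247, 252, 250, -501] [0, 0, 0, 12, 0, 0, 0, 0, 252])) (.leaf [0, 46, 47, 46, 47, 48, 47, -94] [0, 0, 0, 24, 0, 0, 0, 48])) (.leaf [0, 22, 23, 22, 23, 24, 23, -46] [0, 0, 0, 24, 0, 0, 24])) (.leaf [-8, 245, 252, 243, 248, 251, 245, -496] [0, 0, 0, 96, 0, 252])) (.leaf [3, 69, 69, 71, 68, 72, 71, -141] [0, 0, 0, 12, 72]))) (.leaf [-1, 108, 108, 107, 106, 107, 107, -215] [0, 0, 108])) (.node 13 0 (.node 9 0 (.node 6 0 (.node 4 0 (.node 25 0 (.leaf [-5, 234, 236, 231, 223, 240, 229, -467] [0, 240, 0, 0, -60, -84, -96]) (.leaf [-24, 371, 396, 372, 384,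 390, 375, -768] [0, 396, 0, 0, 0, 0, 396])) (.node 25 0 (.node 22 0 (.node 16 0 (.node 10 0 (.leaf [-32, 309, 342, 310, 348, 314, 324, -652] [-144, 144, 0, 0, 0, 348, 0, 0, 0, -264]) (.leaf [-1, 48, 47, 46, 43, 45, 47, -93] [0, 48, -12, 0, -12, 0, -36, 0, 0, 42])) (.leaf [-8, 123, 132, 124, 128, 130, 125, -256] [0, 132, 0, 0, 0, 36, 0, 0, 132])) (.leaf [-24, 374, 396, 372, 384, 390, 375, -768] [0, 396, 0, 0, 0, 48, 0, 396])) (.leaf [-24, 371, 396, 372, 384, 390, 375, -768] [0, 396, 0, 0, 0, 84, 396]))) (.leaf [5, 83, 79, 84, 81, 80, 79, -163] [0, 84, 0, 0, 60])) (.leaf [5, 119, 115, 120, 117, 116, 114, -235] [0, 120, 0, 120])) (.leaf [-4, 81, 84, 80, 82, 83, 80, -164] [0, 84, 48]))) (.node 6 1 (.node 1 1 (.node 6 0 (.node 13 0 (.node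 4 0 (.leaf [-1, 8, 10, 9, 1, 14, 7, -19] [216, 0, 0, -12, 0, -36]) (.leaf [1, 47, 46, 45, 44, 40, 48, -91] [48, 0, -12, 0, -60, 48])) (.leaf [1, 23, 24, 23, 23, 24, 23, -47] [24, 0, -12, 0, 12])) (.leaf [32, 65, 66, 72, 64, 70, 69, -138] [72, 0, -156, 72])) (.leaf [-4, 24, 24, 24, 23, 24, 24, -48] [24, 0, 24])) (.leaf [10, 119, 110, 120, 112, 106, 115, -230] [120, 120]))),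
  (.node 16 0 (.node 22 0 (.node 23 0 (.node 24 0 (.node 25 0 (.node 28 0 (.node 29 0 (.node 30 0 (.node 31 0 (.node 32 0 (.node 35 0 (.node 4 1 (.leaf [17, 13, 0, 2, -1, 17, 16, -17] [-72, -240, 0, 0, -84, -48, -24, -84, -132, -36, 0, -156]) (.node 14 0 (.node 5 0 (.node 17 0 (.node 39 0 (.node 45 0 (.node 8 0 (.node 6 0 (.node 15 0 (.node 18 0 (.node 26 0 (.node 12 0 (.leaf [78, 49, 0, -39, 23, 16, 156, -78] [-984, -1296, -912, 0, 0, 0, -636, 0, -2904, -804, -3180, 156, -1404, 0, 0, 0, 0, -660, 0, -1056, 0, 0, -1212]) (.leaf [40, 108, 66, 101, 80, 64, 91, -172] [-180, -516, -276, -156, -24, -216, -204, 0, -84, -72, -252, 0, 0, -180, -204, 0, -24, 0, 0, 0, 0, -204, 108])) (.leaf [-6, 375, 370, 347, 364, 359, 384, -734] [-228, -360,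 -120, 0, -132, -192, -360, -84, -528, -588, -456, 0, -36, 0, 0, 0, 0, -144, -36, 0, 0, 384])) (.leaf [-12, 339, 337, 308, 331, 320, 348, -662] [-264, -360, -156, 0, -96, -228, -432, -120, -600, -732, -528, 36, 0, 0, 0, 0, 0, -144, -36, 0, 348])) (.leaf [40, 264, 220, 247, 240, 207, 253, -480] [-336, -624, -468, -48, 0, -228, -384, 0, -432, -372, -672, 108, 0, 0, 0, 0, 0, 0, 0, 264])) (.leaf [46, 276, 229, 256, 243, 228, 271, -504] [-300, -696, -360, 0, -12, -192, -312, 0, -432, -228, -600, 0, -108, -48, 0, 0, 0, 0, 276])) (.leaf [46, 336, 289, 316, 303, 288, 331, -624] [-300, -696, -360, 0, -12, -192, -312, 0, -432, -228, -600, 0, -108, -48, 0, 0, 0, 336])) (.leaf [4, 60, 57, 60, 58, 58, 60, -118] [0, -24, 0, 0, 0, 0, 0, 0, 0, 0,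 0, 0, -12, -12, 0, 0, 60])) (.leaf [4, 48, 45, 48, 46, 46, 48, -94] [0, -24, 0, 0, 0, 0, 0, 0, 0, 0, 0, 0, -12, -12, 0, 48])) (.leaf [6, 165, 154, 149, 154, 149, 168, -314] [-156, -288, -120, 0, -60, -120, -216, -12, -312, -300, -312, 0, -36, 0, 168])) (.leaf [0, 165, 157, 146, 157, 146, 168, -314] [-192, -288, -156, 0, -24, -156, -288, -48, -384, -444, -384, 36, 0, 168])) (.node 1 1 (.leaf [116, 116, 81, 108, 101, 86, 105, -202] [-228, -408, -144, -48, -180, -120, -168, -12, -216, -156, -240, 0, 108, -456]) (.leaf [-1, 6, 6, 6, 6, 6, 6, -12] [0, 0, 0, 0, 0, 0, 0, 0, 0, 0, 0, 0, 0, 6])))) (.leaf [3, 177, 177, 179, 176, 180, 179, -357] [0, 0, 0, 0, 0, 0, 0, 0, 0, 0, 180])) (.leaf [3, 225, 225, 227, 224, 228, 227, -453] [0, 0, 0, 0,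 0, 0, 0, 0, 0, 228])) (.leaf [3, 153, 153, 155, 152, 156, 155, -309] [0, 0, 0, 0, 0, 0, 0, 0, 156])) (.leaf [4, 83, 81, 83, 82, 83, 84, -166] [0, 0, 0, 0, 0, 0, 0, 84])) (.leaf [3, 105, 105, 107, 104, 108, 107, -213] [0, 0, 0, 0, 0, 0, 108])) (.leaf [1, 23, 23, 23, 23, 24, 24, -47] [0, 0, 0, 0, 0, 24])) (.leaf [4, 36, 33, 36, 35, 34, 35, -70] [-12, -24, 0, 0, 36])) (.leaf [1, 47, 47, 47, 47, 48, 48, -95] [0, 0, 0, 48])) (.leaf [1, 35, 35, 35, 35, 36, 36, -71] [0, 0, 36])) (.node 33 1 (.leaf [4, 78, 79, 80, 79, 84, 82, -162] [0, 84, -12]) (.leaf [-8, 101, 108, 99, 104, 107, 101, -208] [0, 108, 60]))) (.leaf [3, 69, 69, 71, 68, 72, 71, -141] [72])),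
  (.node 1 1 (.node 9 0 (.node 2 0 (.node 13 0 (.node 14 0 (.node 23 0 (.node 25 0 (.node 35 0 (.node 21 0 (.leaf [2, 3, 3, 3, 3, 3, 3, -6] [-12, -12, 0, 0, 0, 0, -12, 0, -12]) (.leaf [4, 83, 80, 84, 82, 78, 83, -164] [0, 0, 0, -24, -12, -12, 0, 0, 84])) (.leaf [28, 46, 41, 48, 45, 42, 45, -90] [-120, 0, 0, 0, 0, 0, -12, 48])) (.leaf [8, 106, 101, 108, 105, 102, 105, -210] [0, 0, 0, 0, 0, 0, 108])) (.leaf [8, 24, 23, 24, 24, 24, 24, -48] [-36, 0, 0, 0, 0, 24])) (.leaf [26, 34, 29, 36, 33, 31, 32, -66] [-108, 0, 0, 0, 36])) (.leaf [8, 24, 23, 24, 24, 24, 24, -48] [-36, 0, 0, 24])) (.leaf [8, 12, 11, 12, 12, 12, 12, -24] [-36, 0, 12])) (.leaf [8, 118, 113, 120, 117, 114, 117, -234] [0, 120])) (.leaf [-1, 6, 6, 6, 6, 6, 6, -12] [6])),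
  (.node 12 0 (.node 14 0 (.node 15 0 (.node 4 0 (.node 22 0 (.node 31 0 (.node 33 0 (.leaf [25, 13, 1, 10, 4, 25, 22, -27] [-72, -96, -108, -132, -108, -36, -84]) (.node 1 1 (.node 16 0 (.node 35 0 (.node 56 0 (.node 10 0 (.node 11 0 (.leaf [29, 29, 23, 28, 28, 27, 27, -55] [0, 0, 0, -12, -48, -12, 0, -120, -36, 0, 0, -6, -24]) (.leaf [45, 157, 152, 150, 157, 155, 168, -315] [-120, -96, -24, 0, -72, -204, 0, -204, -72, -204, 0, 0, 168])) (.leaf [108, 107, 75, 90, 90, 108, 108, -198] [0, 0, 0, -204, -396, -204, 0, -360, -192, 0, 0, 108])) (.leaf [40, 178, 173, 174, 178, 180, 180, -356] [-24, 0, 0, -24, -48, -60, 0, -180, -48, 0, 180])) (.leaf [32, 414, 417, 402, 414, 432, 420, -836] [0, 0, 0, -120, 0, 0, 48, -180, 0, 432])) (.node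 33 1 (.leaf [74, 90, 84, 96, 90, 108, 105, -194] [-144, -156, -180, -48, 0, 0, 0, -288, 108, -132]) (.leaf [1, 10, 11, 9, 10, 12, 10, -21] [0, 0, 0, -12, 0, 0, 0, -12, 12, 12]))) (.leaf [-1, 6, 6, 6, 6, 6, 6, -12] [0, 0, 0, 0, 0, 0, 0, 6]))) (.leaf [8, 125, 121, 123, 119, 132, 126, -250] [0, 0, 0, -84, -24, 132])) (.node 1 1 (.leaf [4, 22, 23, 22, 23, 24, 23, -46] [0, 0, 0, 0, 24, -24]) (.leaf [-6, 35, 36, 36, 36, 36, 36, -72] [0, 0, 0, 0, 36, 36]))) (.node 18 0 (.node 33 0 (.node 16 0 (.node 31 0 (.node 35 0 (.node 11 0 (.leaf [8, 0, 0, 2, 4, 8, 7, -8] [-96, -60, -84, 0, 0, -60, 0, -24, 0, -24]) (.leaf [22, 6, 1, 4, 12, 18, 24, -24] [-264, -180, -216, 0, 0, -120, -72, -276, -240, 24])) (.leaf [24, 73, 75, 85, 87, 95, 96, -174] [-288,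 -228, -276, 72, 0, -180, 0, 0, 96])) (.leaf [32, 271, 266, 288, 282, 284, 288, -564] [-240, -192, -204, 108, 0, -168, 0, 288])) (.leaf [24, 109, 111, 121, 123, 131, 132, -246] [-288, -228, -276, 72, 0, -180, 132])) (.node 11 0 (.node 1 1 (.node 34 0 (.node 35 0 (.node 31 0 (.node 16 0 (.node 9 0 (.node 17 0 (.node 5 0 (.node 22 0 (.node 23 0 (.node 33 1 (.leaf [84, 67, 63, 73, 75, 83, 84, -150] [-288, -228, -348, 0, -144, 0, -72, -360, -144, -192, -168, -12, -96, 0, 0, 0, 0, -180]) (.node 28 0 (.node 29 0 (.leaf [26, 96, 81, 93, 87, 73, 87, -174] [0, 0, 0, 60, 0, 0, 0, -84, 0, 0, 0, -48, 0, 0, -12, -156, -60, 96, -84, -84]) (.leaf [4, 12, 12, 12, 12, 11, 12, -24] [0, 0, 0, 12, 0, 0, 0, -24, 0, 0, 0, 0, 0, 0, 0, 0, 0, 12, 0, 12]))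 (.leaf [4, 12, 12, 12, 12, 11, 12, -24] [0, 0, 0, 12, 0, 0, 0, -24, 0, 0, 0, 0, 0, 0, 0, 0, 0, 12, 12]))) (.leaf [8, 24, 23, 24, 24, 24, 24, -48] [0, 0, 0, 0, 0, 0, 0, -36, 0, 0, 0, 0, 0, 0, 0, 0, 24])) (.leaf [4, 35, 36, 36, 36, 36, 36, -72] [0, 0, 0, 12, 0, 0, 0, -24, 0, 0, 0, 0, 0, 0, 0, 36])) (.leaf [14, 57, 57, 55, 58, 59, 60, -116] [-24, 0, 0, 0, 0, 0, 0, -72, 0, 0, -36, -12, -12, 0, 60])) (.leaf [14, 93, 93, 91, 94, 95, 96, -188] [-24, 0, 0, 0, 0, 0, 0, -72, 0, 0, -36, -12, -12, 96])) (.leaf [8, 118, 113, 120, 117, 116, 115, -234] [0, 0, 0, 0, 0, 0, -24, 0, 0, 0, 0, 0, 120])) (.leaf [4, 23, 24, 24, 24, 24, 24, -48] [0, 0, 0, 12, 0, 0, 0, -24, 0, 0, 0, 24])) (.leaf [8, 35, 34, 36, 35, 34, 35, -70] [0, 0, 0, 12, 0, 0, 0, -36,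 0, 0, 36])) (.leaf [24, 118, 113, 120, 117, 116, 115, -234] [0, 0, 0, 0, 0, 0, -24, -96, 0, 120])) (.leaf [4, 48, 48, 47, 48, 48, 48, -96] [0, 0, 0, 0, 0, 12, 0, -24, 48])) (.leaf [-1, 6, 6, 6, 6, 6, 6, -12] [0, 0, 0, 0, 0, 0, 0, 6])) (.leaf [0, 35, 35, 34, 35, 34, 36, -70] [0, 0, 0, 12, 0, 12, 36]))) (.leaf [0, 34, 35, 34, 35, 36, 35, -70] [0, 0, 0, 0, 36]))) (.leaf [0, 60, 60, 60, 60, 60, 59, -120] [0, 0, 60])) (.node 4 1 (.node 28 0 (.leaf [6, 408, 400, 406, 403, 399, 392, -806] [0, 408, -12, -96]) (.leaf [0, 66, 69, 66, 69, 72, 68, -138] [0, 72, 0, 72])) (.leaf [10, 166, 158, 168, 163, 159, 158, -326] [0, 168, 12]))) (.node 6 0 (.node 9 0 (.node 4 2 (.node 1 1 (.node 5 0 (.node 11 0 (.node 21 0 (.leaf [300, 277, 219, 300, 265,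 253, 241, -530] [300, 0, 0, 0, -1248, 0, -276, -144]) (.leaf [8, 94, 89, 96, 93, 92, 91, -186] [24, 0, 0, 0, 0, 0, -24, 96])) (.leaf [1, 192, 188, 189, 183, 184, 188, -377] [192, 0, 0, 0, 0, 0, 192])) (.leaf [8, 12, 11, 12, 12, 12, 12, -24] [0, 0, 0, 0, -36, 12])) (.leaf [-1, 6, 6, 6, 6, 6, 6, -12] [0, 0, 0, 0, 6])) (.leaf [4, 23, 20, 24, 22, 19, 22, -44] [12, 0, 0, 24])) (.leaf [5, 95, 91, 96, 93, 92, 91, -187] [60, 0, 96])) (.leaf [5, 59, 55, 60, 57, 56, 55, -115] [60, 60]))),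
  (.node 22 0 (.node 33 0 (.leaf [22, 18, 4, 22, 15, 10, 14, -30] [-36, -12]) (.leaf [2, 12, 10, 12, 11, 9, 11, -22] [-12, 12])) (.leaf [2, 11, 10, 12, 11, 10, 11, -22] [12])),
  (.leaf [0, 1, 1, 0, 1, 0, 2, -2] []),
  (.node 1 1 (.node 2 0 (.node 5 0 (.node 11 0 (.node 4 0 (.node 9 0 (.node 22 0 (.node 25 0 (.leaf [27, 25, 20, 22, 19, 27, 26, -47] [-120, 0, -12, 0, -60, -84, -72, -156]) (.leaf [10, 106, 99, 108, 104, 100, 104, -208] [0, 0, -12, 0, 0, 0, -24, 108])) (.leaf [4, 35, 36, 36, 36, 36, 36, -72] [-24, 0, 0, 0, 0, 0, 36])) (.leaf [6, 82, 78, 84, 81, 78, 81, -162] [0, 0, -12, 0, 0, 84])) (.node 17 0 (.node 18 0 (.node 14 0 (.node 22 0 (.node 23 0 (.node 24 0 (.node 25 0 (.node 26 0 (.node 33 0 (.node 34 0 (.node 9 0 (.leaf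 [22, 28, 25, 26, 25, 26, 30, -54] [-108, 0, 0, 0, 0, 0, 0, -24, -36, 0, 0, -96, 0, 0, 0, -60]) (.leaf [4, 47, 44, 48, 46, 44, 46, -92] [0, 0, -12, 0, 12, -12, 0, 0, -12, -12, 0, 0, -12, 0, 0, 48])) (.leaf [16, 36, 33, 36, 35, 32, 36, -70] [-72, 0, 0, 0, 24, 0, 0, 0, -12, 0, 0, -12, 0, 0, 36])) (.leaf [4, 11, 11, 10, 11, 10, 12, -22] [-24, 0, 0, 0, 12, 0, 0, 0, 0, 0, 0, 0, 0, 12])) (.leaf [4, 47, 47, 46, 47, 46, 48, -94] [-24, 0, 0, 0, 12, 0, 0, 0, 0, 0, 0, 0, 48])) (.leaf [16, 165, 153, 168, 161, 152, 162, -322] [0, 0, -24, 0, 60, 0, 0, 0, -48, -36, 0, 168])) (.leaf [4, 47, 47, 46, 47, 46, 48, -94] [-24, 0, 0, 0, 12, 0, 0, 0, 0, 0, 48])) (.leaf [4, 11, 11, 10, 11, 10, 12, -22] [-24, 0, 0, 0, 12, 0, 0, 0, 0, 12])) (.leaf [4, 35, 36,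 36, 36, 36, 36, -72] [-24, 0, 0, 0, 12, 0, 0, 0, 36])) (.node 28 0 (.leaf [2, 36, 35, 36, 35, 33, 34, -70] [-12, -12, 0, 0, 12, 0, 0, 36, -12]) (.leaf [4, 12, 12, 12, 12, 11, 12, -24] [-24, 0, 0, 0, 12, 0, 0, 12, 12]))) (.leaf [4, 35, 35, 34, 35, 34, 36, -70] [-24, 0, 0, 0, 12, 0, 36])) (.leaf [4, 47, 47, 46, 47, 46, 48, -94] [-24, 0, 0, 0, 12, 48]))) (.leaf [4, 35, 35, 34, 35, 34, 36, -70] [-24, 0, 0, 36])) (.leaf [4, 23, 23, 22, 23, 22, 24, -46] [-24, 0, 24])) (.node 9 0 (.node 4 0 (.leaf [5, 22, 22, 21, 22, 24, 23, -45] [-24, 24, 0, -12]) (.leaf [4, 11, 11, 10, 11, 10, 12, -22] [-24, 12, 0, 12])) (.leaf [1, 46, 46, 44, 46, 47, 48, -93] [0, 36, 48]))) (.leaf [-1, 6, 6, 6, 6, 6, 6, -12] [6])),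
  (.node 16 0 (.node 17 0 (.node 22 0 (.node 23 0 (.node 24 0 (.node 25 0 (.node 26 0 (.node 28 0 (.node 29 0 (.node 30 0 (.node 31 0 (.node 32 0 (.node 35 0 (.node 4 0 (.node 9 0 (.node 6 0 (.node 21 0 (.node 2 0 (.node 40 0 (.node 41 0 (.node 37 0 (.node 20 0 (.node 8 0 (.node 13 0 (.leaf [-32, 54, 65, 46, 49, 42, 41, -98] [0, 0, 0, 0, -72, -324, 0, -288, -192, -276, 0, -300, 0, 0, -264, -228, -360, -156, -12, -108, -84, 0, -72, -120]) (.leaf [8, 72, 64, 70, 68, 65, 67, -136] [-48, 0, -96, 0, -36, 0, 0, -60, -48, -60, -12, -60, 0, -12, 0, 0, 0, 0, 0, 0, 0, 0, 0, 72])) (.leaf [10, 264, 243, 251, 248, 229, 250, -496] [-180, 0, -372, -204, -120, -60, 0, -288, -312, -180, -156, -396, -216, 0, 0, 0, 0, 0, 0, 0, 0, 0, 264])) (.leaf [10,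 444, 423, 431, 428, 409, 430, -856] [-180, 0, -372, -204, -120, -60, 0, -288, -312, -180, -156, -396, -216, 0, 0, 0, 0, 0, 0, 0, 0, 444])) (.leaf [10, 324, 303, 311, 308, 289, 310, -616] [-180, 0, -372, -204, -120, -60, 0, -288, -312, -180, -156, -396, -216, 0, 0, 0, 0, 0, 0, 0, 324])) (.leaf [14, 108, 96, 106, 103, 98, 104, -206] [-72, -12, -132, -48, -24, 0, -12, -36, -48, 0, -60, -36, -72, 0, 0, 0, 0, 0, 0, 108])) (.leaf [14, 72, 57, 67, 64, 53, 68, -128] [-108, -12, -204, -156, -24, 0, -12, -72, -120, 0, -132, -108, -216, 0, 0, 0, 0, 0, 72])) (.leaf [42, 144, 110, 140, 131, 120, 132, -262] [-192, -36, -348, -72, -72, 0, -36, -84, -96, -24, -132, -60, -120, -24, 0, 0, 0, 144])) (.leaf [14, 204, 189, 199, 196, 185, 200, -392] [-108,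 -12, -204, -156, -24, 0, -12, -72, -120, 0, -132, -108, -216, 0, 0, 0, 204])) (.leaf [42, 360, 326, 356, 347, 336, 348, -694] [-192, -36, -348, -72, -72, 0, -36, -84, -96, -24, -132, -60, -120, -24, 0, 360])) (.leaf [14, 156, 144, 154, 151, 146, 152, -302] [-72, -12, -132, -48, -24, 0, -12, -36, -48, 0, -60, -36, -72, 0, 156])) (.node 38 0 (.node 36 0 (.node 9 0 (.node 6 0 (.node 21 0 (.node 2 0 (.node 40 0 (.node 41 0 (.node 45 0 (.node 56 0 (.node 63 0 (.node 5 1 (.leaf [8, 28, 18, 29, 22, 15, 19, -44] [-24, -96, -96, -60, -120, 0, -96, -84, -48, -48, 0, -12, 0, 12, 0, 0, 0, 0, 0, -36, 0, 0, -60, 0, -36, -72]) (.leaf [-2, 48, 45, 40, 44, 40, 47, -88] [-84, 0, -132, -72, 0, -60, 0, -108, -144, -108, -156, -240, -144, 0, 0, 0, -12,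 -12, 0, 0, 0, 0, -24, -96, -36, 48])) (.leaf [6, 108, 103, 108, 106, 102, 107, -212] [-12, 0, -36, -24, 0, 0, 0, 0, 0, 0, 0, 0, -24, 24, 0, 0, 0, 0, 0, 0, 0, 0, 0, 0, 108])) (.leaf [2, 95, 94, 96, 95, 94, 95, -190] [0, 0, 0, 0, 0, 0, 0, 0, 0, 0, 0, 0, 0, 12, 0, 0, 0, 0, 0, 0, 0, 0, 0, 96])) (.leaf [2, 83, 82, 84, 83, 82, 83, -166] [0, 0, 0, 0, 0, 0, 0, 0, 0, 0, 0, 0, 0, 12, 0, 0, 0, 0, 0, 0, 0, 0, 84])) (.leaf [14, 108, 93, 103, 100, 89, 104, -200] [-108, -12, -204, -156, -24, 0, -12, -72, -120, 0, -132, -108, -216, 36, 0, 0, 0, 0, 0, 0, 0, 108])) (.leaf [14, 72, 57, 67, 64, 53, 68, -128] [-108, -12, -204, -156, -24, 0, -12, -72, -120, 0, -132, -108, -216, 36, 0, 0, 0, 0, 0, 0, 72])) (.leaf [14, 48, 33, 43, 40, 29, 44, -80] [-108,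 -12, -204, -156, -24, 0, -12, -72, -120, 0, -132, -108, -216, 36, 0, 0, 0, 0, 0, 48])) (.leaf [14, 204, 189, 199, 196, 185, 200, -392] [-108, -12, -204, -156, -24, 0, -12, -72, -120, 0, -132, -108, -216, 36, 0, 0, 0, 0, 204])) (.leaf [14, 120, 105, 115, 112, 101, 116, -224] [-108, -12, -204, -156, -24, 0, -12, -72, -120, 0, -132, -108, -216, 36, 0, 0, 0, 120])) (.leaf [14, 156, 141, 151, 148, 137, 152, -296] [-108, -12, -204, -156, -24, 0, -12, -72, -120, 0, -132, -108, -216, 36, 0, 0, 156])) (.leaf [14, 96, 81, 91, 88, 77, 92, -176] [-108, -12, -204, -156, -24, 0, -12, -72, -120, 0, -132, -108, -216, 36, 0, 96])) (.leaf [14, 60, 45, 55, 52, 41, 56, -104] [-108, -12, -204, -156, -24, 0, -12, -72, -120, 0, -132, -108, -216, 36, 60])))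 (.leaf [3, 119, 117, 120, 118, 118, 117, -237] [0, 0, 0, 0, 0, 0, 0, 0, 0, 0, 0, 0, 120])) (.leaf [2, 59, 58, 60, 59, 58, 59, -118] [0, 0, 0, 0, 0, 0, 0, 0, 0, 0, 0, 60])) (.leaf [4, 82, 80, 84, 82, 81, 81, -164] [0, 0, 0, 0, 0, 0, 0, 0, 0, 0, 84])) (.leaf [2, 59, 58, 60, 59, 58, 59, -118] [0, 0, 0, 0, 0, 0, 0, 0, 0, 60])) (.leaf [2, 70, 70, 72, 70, 71, 71, -142] [0, 0, 0, 0, 0, 0, 0, 0, 72])) (.leaf [2, 23, 22, 24, 23, 22, 23, -46] [0, 0, 0, 0, 0, 0, 0, 24])) (.leaf [-2, 59, 60, 58, 59, 58, 59, -118] [0, 0, 0, 0, 0, 0, 60])) (.leaf [4, 36, 33, 36, 35, 34, 35, -70] [-12, 0, -24, 0, 0, 36])) (.leaf [8, 519, 521, 528, 517, 528, 526, -1050] [0, 0, 0, 0, 528])) (.leaf [1, 95, 95, 96, 94, 96, 95, -191] [0, 0, 0, 96])) (.node 8 0 (.node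 10 0 (.node 20 0 (.leaf [-3, 68, 72, 69, 71, 72, 70, -141] [0, 0, 72, -24, -6, -24]) (.leaf [-6, 67, 72, 66, 72, 66, 69, -138] [0, 0, 72, 0, -36, 72])) (.leaf [2, 46, 46, 48, 46, 47, 47, -94] [0, 0, 48, 0, 12])) (.leaf [4, 57, 56, 60, 58, 57, 57, -116] [0, 0, 60, 60]))) (.leaf [-2, 59, 60, 58, 59, 58, 59, -118] [0, 60])) (.node 11 0 (.node 4 0 (.node 20 0 (.node 2 1 (.leaf [-2, 429, 443, 446, 434, 456, 432, -884] [456, -36, -12, -348, -60]) (.leaf [10, 83, 79, 81, 75, 96, 84, -168] [96, -24, -132, -48, 96])) (.leaf [4, 47, 44, 48, 46, 43, 46, -92] [12, 0, 0, 48])) (.leaf [2, 11, 10, 12, 11, 10, 11, -22] [12, 0, 12])) (.leaf [0, 24, 24, 24, 23, 24, 24, -48] [24, 24]))),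
  (.leaf [9, 8, 3, 9, 5, 7, 9, -15] []),
  (.leaf [-4, 1, -8, 4, -2, -11, -2, 4] []),
  (.node 1 1 (.node 12 0 (.node 33 0 (.leaf [71, 66, 53, 71, 63, 65, 67, -131] [-276, -36, -48]) (.node 4 0 (.node 25 0 (.leaf [32, 25, 20, 23, 16, 37, 28, -52] [-120, 0, 0, -120, -108]) (.leaf [8, 106, 101, 108, 105, 103, 104, -210] [0, 0, 0, 0, 108])) (.node 25 0 (.node 9 0 (.node 22 0 (.leaf [10, 13, 11, 12, 11, 11, 13, -24] [-48, 0, 12, 0, -48, -24, -24]) (.leaf [8, 11, 10, 12, 11, 10, 11, -22] [-36, 0, 0, 12, 0, 0, 12])) (.leaf [16, 236, 226, 240, 234, 227, 235, -468] [0, -12, 0, 60, 0, 240])) (.leaf [16, 212, 202, 216, 210, 203, 211, -420] [0, -12, 0, 60, 216])))) (.leaf [17, 59, 55, 60, 57, 56, 55, -115] [-72, 60])) (.leaf [-1, 6, 6, 6, 6,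 6, 6, -12] [6])),
  (.leaf [8, 6, 1, 8, 5, 2, 5, -10] []),
  (.node 2 0 (.node 6 0 (.node 13 0 (.node 22 0 (.node 23 0 (.node 25 0 (.node 8 0 (.node 14 0 (.node 29 0 (.node 31 0 (.node 35 0 (.node 50 0 (.leaf [-4, 31, 29, 28, 27, 13, 33, -54] [-36, -12, -216, -48, -180, -48, -36, -96, -72, -12, -204, -60]) (.leaf [1, 28, 26, 25, 24, 25, 30, -53] [0, -12, -36, -48, 0, -48, -36, -36, -12, -12, -24, 30])) (.leaf [-2, 119, 120, 119, 118, 119, 118, -238] [-12, -12, 0, 0, 0, -12, 0, 0, 0, 0, 120])) (.leaf [-8, 285, 288, 285, 282, 279, 282, -568] [-60, -36, -72, 0, 0, -36, 0, 0, 0, 288])) (.node 20 0 (.node 33 0 (.leaf [4, 138, 139, 142, 139, 144, 141, -282] [0, 0, 0, 0, 0, 0, 0, -12, 144, -48, -24]) (.leaf [-32, 319, 336, 323, 310, 309,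 310, -640] [-228, -156, -216, 0, 0, -108, -48, 0, 336, 0, 336])) (.leaf [-6, 294, 301, 292, 283, 297, 312, -596] [0, -108, -264, 0, 0, -132, -324, -204, 312, 312]))) (.leaf [8, 224, 217, 228, 221, 216, 213, -442] [-36, 0, 0, 0, 0, 0, 0, 228])) (.leaf [18, 298, 284, 300, 293, 287, 289, -586] [0, 0, 0, -60, 0, 0, 300])) (.leaf [6, 71, 67, 72, 70, 68, 70, -140] [0, 0, 0, -12, 0, 72])) (.leaf [-6, 418, 420, 419, 412, 416, 410, -834] [-60, -12, 0, 0, 420])) (.node 20 0 (.node 11 0 (.leaf [-4, 171, 178, 176, 176, 180, 172, -352] [-24, 0, 0, 180, -120, -36]) (.leaf [-10, 176, 180, 175, 175, 167, 174, -350] [-60, -24, -96, 72, 0, 180])) (.leaf [-6, 106, 108, 105, 105, 99, 105, -210] [-36, -12, -72, 36, 108]))) (.node 21 0 (.node 22 0 (.node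 5 0 (.leaf [23, 129, 111, 132, 121, 116, 119, -245] [0, 0, 132, 0, -96, -48]) (.leaf [0, 24, 24, 23, 24, 24, 24, -48] [0, 0, 24, 0, 0, 24])) (.leaf [-8, 78, 84, 76, 80, 82, 77, -160] [0, -12, 72, -12, 84])) (.leaf [4, 72, 69, 72, 71, 70, 69, -142] [0, 0, 72, 72]))) (.leaf [8, 82, 77, 84, 81, 78, 81, -162] [0, 84])) (.node 5 0 (.node 17 0 (.node 22 0 (.node 23 0 (.node 24 0 (.node 25 0 (.node 26 0 (.node 28 0 (.node 29 0 (.node 37 0 (.node 4 1 (.leaf [20, 47, 26, 46, 28, 30, 36, -72] [0, -180, -132, -228, 0, -48, -132, -132, -108, -12, -36, -60]) (.leaf [4, 11, 8, 12, 10, 8, 10, -20] [0, -12, -12, -12, -12, 0, 0, -12, 0, 0, 0, 12])) (.leaf [14, 71, 59, 72, 63, 61, 67, -132] [12, -72, -48, -96, -12, 0, 0, -48, 0, 0, 72])) (.leaf [14,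 23, 11, 24, 15, 13, 19, -36] [12, -72, -48, -96, -12, 0, 0, -48, 0, 24])) (.node 4 0 (.leaf [17, 84, 71, 81, 70, 84, 83, -159] [84, -84, 0, -144, 0, 0, -84, 0, 0, -108]) (.leaf [4, 11, 8, 12, 10, 8, 10, -20] [0, -12, -12, -12, -12, 0, 0, -12, 12, 12]))) (.leaf [3, 118, 115, 114, 114, 115, 120, -233] [48, 0, 0, -48, 0, 0, 0, 120])) (.leaf [15, 83, 72, 84, 77, 76, 81, -159] [36, -36, 0, -72, 0, 0, 84])) (.leaf [2, 36, 34, 35, 34, 34, 36, -70] [12, 0, 0, -24, 0, 36])) (.leaf [9, 175, 165, 163, 161, 164, 180, -339] [132, 0, 0, -156, 180])) (.node 8 0 (.node 11 0 (.node 4 0 (.node 12 0 (.node 14 0 (.node 15 0 (.node 31 0 (.node 9 0 (.node 33 0 (.leaf [1, 210, 228, 208, 223, 252, 245, -457] [252, 0, 0, 252, -420, 0, -60, -300, -312, -420,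 -168, 0, -168]) (.node 1 1 (.leaf [8, 52, 58, 49, 56, 59, 60, -112] [60, 0, 0, 60, -96, 0, 0, -48, -36, -12, -48, -48, 0, -72]) (.leaf [-1, 6, 6, 6, 6, 6, 6, -12] [0, 0, 0, 0, 0, 0, 0, 0, 0, 0, 0, 0, 0, 6]))) (.leaf [-2, 74, 80, 71, 79, 84, 82, -158] [84, 0, 0, 84, -60, 0, 0, -36, 0, 0, 0, 84])) (.leaf [-8, 260, 274, 263, 268, 276, 273, -540] [36, 0, 0, 276, -156, 0, 0, -12, -36, 0, 276])) (.leaf [-24, 316, 351, 300, 339, 372, 344, -678] [324, 0, 0, 372, -336, -48, -120, -48, 0, 372])) (.leaf [-28, 316, 352, 297, 338, 372, 339, -676] [324, 0, 0, 372, -276, -60, -144, 0, 372])) (.leaf [-4, 57, 60, 56, 58, 59, 56, -116] [0, 0, 0, 48, 0, 0, 0, 60])) (.leaf [-8, 193, 204, 195, 200, 203, 201, -400] [12, 0, 0, 204, -96, 0, 48])) (.leaf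 [-10, 145, 156, 142, 151, 152, 155, -302] [48, 0, 0, 156, -120, 156])) (.leaf [6, 82, 78, 84, 81, 79, 80, -162] [0, -12, 0, 0, 84]))) (.leaf [-1, 166, 167, 162, 166, 167, 168, -333] [48, 0, 168])) (.leaf [-2, 152, 155, 146, 154, 156, 156, -308] [84, 156]))),
  (.node 6 0 (.node 21 0 (.node 22 0 (.node 25 0 (.node 28 0 (.node 29 0 (.node 30 0 (.node 32 0 (.leaf [-4, 4, 5, 1, 3, 2, 2, -6] [-12, -12, -12, -12, -48, -36, -36, -60]) (.leaf [1, 285, 286, 287, 283, 288, 286, -573] [0, 0, 0, 0, 0, 0, 0, 288])) (.leaf [3, 177, 177, 179, 176, 180, 179, -357] [0, 0, 0, 0, 0, 0, 180])) (.node 4 1 (.node 1 1 (.leaf [11, 54, 51, 51, 48, 60, 54, -107] [0, 0, -36, -72, 0, 60, -84, -36]) (.leaf [-1, 6, 6, 6, 6, 6, 6, -12] [0, 0, 0, 0, 0, 0, 0, 6]))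 (.node 1 1 (.leaf [4, 35, 36, 36, 36, 36, 36, -72] [0, 0, 0, 0, 0, 36, 12, -24]) (.leaf [-6, 35, 36, 36, 36, 36, 36, -72] [0, 0, 0, 0, 0, 36, 12, 36])))) (.node 4 0 (.leaf [15, 21, 12, 14, 8, 33, 23, -39] [0, 0, -120, -60, 12, -180]) (.node 1 1 (.node 9 0 (.leaf [2, 3, 3, 3, 3, 3, 3, -6] [0, -12, 0, -12, 0, 0, -12, -12]) (.leaf [0, 22, 23, 22, 23, 24, 23, -46] [0, 0, 0, 0, 24, 0, 0, 24])) (.leaf [-1, 6, 6, 6, 6, 6, 6, -12] [0, 0, 0, 0, 0, 0, 6])))) (.leaf [4, 60, 57, 60, 59, 58, 58, -118] [0, 0, -12, 60])) (.leaf [-8, 78, 84, 76, 80, 82, 77, -160] [-12, -12, 84])) (.leaf [2, 36, 35, 36, 36, 36, 36, -72] [0, 36])) (.node 2 0 (.node 22 0 (.node 28 0 (.leaf [2, 24, 22, 24, 23, 22, 22, -46] [24, 0, -12, -12]) (.leaf [2, 24, 23, 24, 24,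 24, 24, -48] [24, 0, 0, 12])) (.leaf [-4, 45, 48, 44, 46, 47, 44, -92] [0, 0, 48])) (.leaf [2, 24, 23, 24, 24, 24, 24, -48] [24, 12]))),
  (.leaf [2, 0, 0, -2, 1, 2, 2, -2] []),
  (.leaf [-1, -2, -5, 1, -5, 1, 1, 1] []),
  (.leaf [-2, -4, -4, -10, -1, 2, 2, 2] []),
  (.leaf [-2, 2, -7, 2, -1, -13, 2, 2] []),
  (.leaf [-2, 1, 2, 0, 0, 1, 0, -2] []),
  (.leaf [-2, 2, -4, 2, -1, -7, -4, 2] []),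
  (.leaf [-4, -11, -8, -5, -2, 4, -5, 4] []),
  (.leaf [1, 0, 0, 1, -1, 1, 0, -1] []),
  (.leaf [-1, -2, -5, 1, -5, 1, 1, 1] []),
  (.leaf [-2, 2, -2, -3, -1, -13, 2, 2] []),
  (.leaf [-2, 2, -7, 2, -1, -13, 2, 2] []),
  (.leaf [-6, 2, 2, -8, -1, -13, -8, 2] [])]

/-- The certificates of the keys with 136 fixed. -/
def certs136 : List KTree := [
  (.leaf [-2, -1, -1, -1, -1, -1, -1, 2] []),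
  (.leaf [-2, -1, -1, -1, -1, -1, -1, 2] []),
  (.leaf [-2, -1, -1, -1, -1, -1, -1, 2] []),
  (.leaf [-2, -1, -1, -1, -1, -1, -1, 2] []),
  (.leaf [-2, -1, -1, -1, -1, -1, -1, 2] []),
  (.leaf [-2, -1, -1, -1, -1, -1, -1, 2] []),
  (.leaf [-6, -2, -6, -9, -3, -15, 6, 6] []),
  (.leaf [-2, -1, -1, -1, -1, -1, -1, 2] []),
  (.leaf [-2, -1, -1, -1, -1, -1, -1, 2] []),
  (.leaf [-2, -1, -1, -1, -1, -1, -1, 2] []),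
  (.leaf [-4, 1, -8, 4, -2, -11, -2, 4] []),
  (.leaf [-2, -1, -1, -1, -1, -1, -1, 2] []),
  (.leaf [-2, -1, -1, -1, -1, -1, -1, 2] []),
  (.leaf [-2, -1, -1, -1, -1, -1, -1, 2] []),
  (.leaf [-2, -1, -1, -1, -1, -1, -1, 2] []),
  (.leaf [-2, -3, -2, -8, -1, 0, 2, 2] []),
  (.leaf [-1, -2, -5, 1, -5, 1, 1, 1] []),
  (.leaf [-2, -4, -4, -10, -1, 2, 2, 2] []),
  (.leaf [-2, 2, -7, 2, -1, -13, 2, 2] []),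
  (.leaf [-2, -1, -1, -1, -1, -1, -1, 2] []),
  (.leaf [-2, 2, -4, 2, -1, -7, -4, 2] []),
  (.leaf [-4, -11, -8, -5, -2, 4, -5, 4] []),
  (.leaf [1, 0, 0, 1, -1, 1, 0, -1] []),
  (.leaf [-1, -2, -5, 1, -5, 1, 1, 1] []),
  (.leaf [-2, 2, -2, -3, -1, -13, 2, 2] []),
  (.leaf [-2, 2, -7, 2, -1, -13, 2, 2] []),
  (.leaf [-6, 2, 2, -8, -1, -13, -8, 2] [])]

/-- The images of the simple roots under the elements of the Sylow subgroup. -/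
def nineKeys : List (List ℕ) := [
  [162, 141, 135, 130, 126, 123, 121, 120],
  [162, 141, 135, 130, 126, 123, 2, 238],
  [162, 141, 135, 132, 112, 126, 124, 120],
  [120, 135, 238, 16, 126, 123, 73, 194],
  [162, 141, 135, 130, 126, 123, 122, 0],
  [162, 141, 135, 132, 112, 126, 3, 238],
  [120, 135, 238, 16, 126, 123, 68, 141],
  [162, 141, 135, 131, 123, 112, 128, 120],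
  [120, 135, 238, 18, 112, 126, 74, 194],
  [238, 135, 0, 177, 126, 123, 73, 194],
  [194, 238, 141, 29, 126, 123, 57, 162],
  [162, 141, 135, 132, 112, 126, 125, 0],
  [120, 135, 238, 16, 126, 123, 152, 35],
  [162, 141, 135, 131, 123, 112, 4, 238],
  [120, 135, 238, 18, 112, 126, 69, 141],
  [238, 135, 0, 177, 126, 123, 68, 141],
  [194, 238, 141, 29, 126, 123, 47, 135],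
  [120, 135, 238, 17, 123, 112, 75, 194],
  [238, 135, 0, 182, 112, 126, 74, 194],
  [194, 238, 141, 34, 112, 126, 59, 162],
  [0, 135, 120, 176, 126, 123, 73, 194],
  [141, 238, 35, 111, 126, 123, 57, 162],
  [194, 0, 141, 199, 126, 123, 58, 162],
  [162, 141, 135, 131, 123, 112, 129, 0],
  [120, 135, 238, 18, 112, 126, 153, 35],
  [238, 135, 0, 177, 126, 123, 152, 35],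
  [194, 238, 141, 29, 126, 123, 79, 76],
  [120, 135, 238, 17, 123, 112, 70, 141],
  [238, 135, 0, 182, 112, 126, 69, 141],
  [194, 238, 141, 34, 112, 126, 49, 135],
  [0, 135, 120, 176, 126, 123, 68, 141],
  [141, 238, 35, 111, 126, 123, 47, 135],
  [194, 0, 141, 199, 126, 123, 48, 135],
  [238, 135, 0, 180, 123, 112, 75, 194],
  [194, 238, 141, 32, 123, 112, 62, 162],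
  [0, 135, 120, 181, 112, 126, 74, 194],
  [141, 238, 35, 118, 112, 126, 59, 162],
  [194, 0, 141, 203, 112, 126, 60, 162],
  [35, 238, 194, 39, 126, 123, 57, 162],
  [141, 0, 35, 235, 126, 123, 58, 162],
  [135, 141, 76, 164, 126, 123, 121, 120],
  [194, 120, 141, 28, 126, 123, 221, 162],
  [162, 35, 135, 142, 126, 123, 195, 120],
  [120, 135, 238, 17, 123, 112, 156, 35],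
  [238, 135, 0, 182, 112, 126, 153, 35],
  [194, 238, 141, 34, 112, 126, 81, 76],
  [0, 135, 120, 176, 126, 123, 152, 35],
  [141, 238, 35, 111, 126, 123, 79, 76],
  [194, 0, 141, 199, 126, 123, 80, 76],
  [238, 135, 0, 180, 123, 112, 70, 141],
  [194, 238, 141, 32, 123, 112, 52, 135],
  [0, 135, 120, 181, 112, 126, 69, 141],
  [141, 238, 35, 118, 112, 126, 49, 135],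
  [194, 0, 141, 203, 112, 126, 50, 135],
  [35, 238, 194, 39, 126, 123, 47, 135],
  [141, 0, 35, 235, 126, 123, 48, 135],
  [135, 141, 76, 164, 126, 123, 2, 238],
  [194, 120, 141, 28, 126, 123, 216, 135],
  [162, 35, 135, 142, 126, 123, 26, 238],
  [0, 135, 120, 179, 123, 112, 75, 194],
  [141, 238, 35, 115, 123, 112, 62, 162],
  [194, 0, 141, 202, 123, 112, 63, 162],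
  [35, 238, 194, 44, 112, 126, 59, 162],
  [141, 0, 35, 237, 112, 126, 60, 162],
  [135, 141, 76, 166, 112, 126, 124, 120],
  [194, 120, 141, 33, 112, 126, 222, 162],
  [162, 35, 135, 144, 112, 126, 197, 120],
  [35, 0, 194, 209, 126, 123, 58, 162],
  [76, 141, 162, 136, 126, 123, 121, 120],
  [141, 120, 35, 110, 126, 123, 221, 162],
  [135, 35, 76, 169, 126, 123, 195, 120],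
  [162, 194, 135, 51, 126, 123, 205, 120],
  [120, 76, 238, 21, 126, 123, 101, 194],
  [238, 135, 0, 180, 123, 112, 156, 35],
  [194, 238, 141, 32, 123, 112, 84, 76],
  [0, 135, 120, 181, 112, 126, 153, 35],
  [141, 238, 35, 118, 112, 126, 81, 76],
  [194, 0, 141, 203, 112, 126, 82, 76],
  [35, 238, 194, 39, 126, 123, 79, 76],
  [141, 0, 35, 235, 126, 123, 80, 76],
  [135, 141, 76, 164, 126, 123, 122, 0],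
  [194, 120, 141, 28, 126, 123, 228, 76],
  [162, 35, 135, 142, 126, 123, 196, 0],
  [0, 135, 120, 179, 123, 112, 70, 141],
  [141, 238, 35, 115, 123, 112, 52, 135],
  [194, 0, 141, 202, 123, 112, 53, 135],
  [35, 238, 194, 44, 112, 126, 49, 135],
  [141, 0, 35, 237, 112, 126, 50, 135],
  [135, 141, 76, 166, 112, 126, 3, 238],
  [194, 120, 141, 33, 112, 126, 217, 135],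
  [162, 35, 135, 144, 112, 126, 27, 238],
  [35, 0, 194, 209, 126, 123, 48, 135],
  [76, 141, 162, 136, 126, 123, 2, 238],
  [141, 120, 35, 110, 126, 123, 216, 135],
  [135, 35, 76, 169, 126, 123, 26, 238],
  [162, 194, 135, 51, 126, 123, 36, 238],
  [120, 76, 238, 21, 126, 123, 90, 141],
  [35, 238, 194, 42, 123, 112, 62, 162],
  [141, 0, 35, 236, 123, 112, 63, 162],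
  [135, 141, 76, 165, 123, 112, 128, 120],
  [194, 120, 141, 31, 123, 112, 223, 162],
  [162, 35, 135, 143, 123, 112, 200, 120],
  [35, 0, 194, 213, 112, 126, 60, 162],
  [76, 141, 162, 138, 112, 126, 124, 120],
  [141, 120, 35, 117, 112, 126, 222, 162],
  [135, 35, 76, 171, 112, 126, 197, 120],
  [162, 194, 135, 55, 112, 126, 207, 120],
  [120, 76, 238, 23, 112, 126, 102, 194],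
  [35, 120, 194, 38, 126, 123, 221, 162],
  [76, 35, 162, 147, 126, 123, 195, 120],
  [135, 194, 76, 83, 126, 123, 205, 120],
  [238, 76, 0, 187, 126, 123, 101, 194],
  [120, 162, 238, 9, 126, 123, 107, 194],
  [0, 135, 120, 179, 123, 112, 156, 35],
  [141, 238, 35, 115, 123, 112, 84, 76],
  [194, 0, 141, 202, 123, 112, 85, 76],
  [35, 238, 194, 44, 112, 126, 81, 76],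
  [141, 0, 35, 237, 112, 126, 82, 76],
  [135, 141, 76, 166, 112, 126, 125, 0],
  [194, 120, 141, 33, 112, 126, 229, 76],
  [162, 35, 135, 144, 112, 126, 198, 0],
  [35, 0, 194, 209, 126, 123, 80, 76],
  [76, 141, 162, 136, 126, 123, 122, 0],
  [141, 120, 35, 110, 126, 123, 228, 76],
  [135, 35, 76, 169, 126, 123, 196, 0],
  [162, 194, 135, 51, 126, 123, 206, 0],
  [120, 76, 238, 21, 126, 123, 174, 35],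
  [35, 238, 194, 42, 123, 112, 52, 135],
  [141, 0, 35, 236, 123, 112, 53, 135],
  [135, 141, 76, 165, 123, 112, 4, 238],
  [194, 120, 141, 31, 123, 112, 218, 135],
  [162, 35, 135, 143, 123, 112, 30, 238],
  [35, 0, 194, 213, 112, 126, 50, 135],
  [76, 141, 162, 138, 112, 126, 3, 238],
  [141, 120, 35, 117, 112, 126, 217, 135],
  [135, 35, 76, 171, 112, 126, 27, 238],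
  [162, 194, 135, 55, 112, 126, 37, 238],
  [120, 76, 238, 23, 112, 126, 91, 141],
  [35, 120, 194, 38, 126, 123, 216, 135],
  [76, 35, 162, 147, 126, 123, 26, 238],
  [135, 194, 76, 83, 126, 123, 36, 238],
  [238, 76, 0, 187, 126, 123, 90, 141],
  [120, 162, 238, 9, 126, 123, 95, 141],
  [35, 0, 194, 212, 123, 112, 63, 162],
  [76, 141, 162, 137, 123, 112, 128, 120],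
  [141, 120, 35, 114, 123, 112, 223, 162],
  [135, 35, 76, 170, 123, 112, 200, 120],
  [162, 194, 135, 54, 123, 112, 210, 120],
  [120, 76, 238, 22, 123, 112, 103, 194],
  [35, 120, 194, 43, 112, 126, 222, 162],
  [76, 35, 162, 149, 112, 126, 197, 120],
  [135, 194, 76, 87, 112, 126, 207, 120],
  [238, 76, 0, 192, 112, 126, 102, 194],
  [120, 162, 238, 11, 112, 126, 108, 194],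
  [76, 194, 162, 61, 126, 123, 205, 120],
  [0, 76, 120, 186, 126, 123, 101, 194],
  [238, 162, 0, 155, 126, 123, 107, 194],
  [35, 238, 194, 42, 123, 112, 84, 76],
  [141, 0, 35, 236, 123, 112, 85, 76],
  [135, 141, 76, 165, 123, 112, 129, 0],
  [194, 120, 141, 31, 123, 112, 230, 76],
  [162, 35, 135, 143, 123, 112, 201, 0],
  [35, 0, 194, 213, 112, 126, 82, 76],
  [76, 141, 162, 138, 112, 126, 125, 0],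
  [141, 120, 35, 117, 112, 126, 229, 76],
  [135, 35, 76, 171, 112, 126, 198, 0],
  [162, 194, 135, 55, 112, 126, 208, 0],
  [120, 76, 238, 23, 112, 126, 175, 35],
  [35, 120, 194, 38, 126, 123, 228, 76],
  [76, 35, 162, 147, 126, 123, 196, 0],
  [135, 194, 76, 83, 126, 123, 206, 0],
  [238, 76, 0, 187, 126, 123, 174, 35],
  [120, 162, 238, 9, 126, 123, 184, 35],
  [35, 0, 194, 212, 123, 112, 53, 135],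
  [76, 141, 162, 137, 123, 112, 4, 238],
  [141, 120, 35, 114, 123, 112, 218, 135],
  [135, 35, 76, 170, 123, 112, 30, 238],
  [162, 194, 135, 54, 123, 112, 40, 238],
  [120, 76, 238, 22, 123, 112, 92, 141],
  [35, 120, 194, 43, 112, 126, 217, 135],
  [76, 35, 162, 149, 112, 126, 27, 238],
  [135, 194, 76, 87, 112, 126, 37, 238],
  [238, 76, 0, 192, 112, 126, 91, 141],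
  [120, 162, 238, 11, 112, 126, 96, 141],
  [76, 194, 162, 61, 126, 123, 36, 238],
  [0, 76, 120, 186, 126, 123, 90, 141],
  [238, 162, 0, 155, 126, 123, 95, 141],
  [35, 120, 194, 41, 123, 112, 223, 162],
  [76, 35, 162, 148, 123, 112, 200, 120],
  [135, 194, 76, 86, 123, 112, 210, 120],
  [238, 76, 0, 190, 123, 112, 103, 194],
  [120, 162, 238, 10, 123, 112, 109, 194],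
  [76, 194, 162, 65, 112, 126, 207, 120],
  [0, 76, 120, 191, 112, 126, 102, 194],
  [238, 162, 0, 160, 112, 126, 108, 194],
  [0, 162, 120, 154, 126, 123, 107, 194],
  [35, 0, 194, 212, 123, 112, 85, 76],
  [76, 141, 162, 137, 123, 112, 129, 0],
  [141, 120, 35, 114, 123, 112, 230, 76],
  [135, 35, 76, 170, 123, 112, 201, 0],
  [162, 194, 135, 54, 123, 112, 211, 0],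
  [120, 76, 238, 22, 123, 112, 178, 35],
  [35, 120, 194, 43, 112, 126, 229, 76],
  [76, 35, 162, 149, 112, 126, 198, 0],
  [135, 194, 76, 87, 112, 126, 208, 0],
  [238, 76, 0, 192, 112, 126, 175, 35],
  [120, 162, 238, 11, 112, 126, 185, 35],
  [76, 194, 162, 61, 126, 123, 206, 0],
  [0, 76, 120, 186, 126, 123, 174, 35],
  [238, 162, 0, 155, 126, 123, 184, 35],
  [35, 120, 194, 41, 123, 112, 218, 135],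
  [76, 35, 162, 148, 123, 112, 30, 238],
  [135, 194, 76, 86, 123, 112, 40, 238],
  [238, 76, 0, 190, 123, 112, 92, 141],
  [120, 162, 238, 10, 123, 112, 97, 141],
  [76, 194, 162, 65, 112, 126, 37, 238],
  [0, 76, 120, 191, 112, 126, 91, 141],
  [238, 162, 0, 160, 112, 126, 96, 141],
  [0, 162, 120, 154, 126, 123, 95, 141],
  [76, 194, 162, 64, 123, 112, 210, 120],
  [0, 76, 120, 189, 123, 112, 103, 194],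
  [238, 162, 0, 158, 123, 112, 109, 194],
  [0, 162, 120, 159, 112, 126, 108, 194],
  [35, 120, 194, 41, 123, 112, 230, 76],
  [76, 35, 162, 148, 123, 112, 201, 0],
  [135, 194, 76, 86, 123, 112, 211, 0],
  [238, 76, 0, 190, 123, 112, 178, 35],
  [120, 162, 238, 10, 123, 112, 188, 35],
  [76, 194, 162, 65, 112, 126, 208, 0],
  [0, 76, 120, 191, 112, 126, 175, 35],
  [238, 162, 0, 160, 112, 126, 185, 35],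
  [0, 162, 120, 154, 126, 123, 184, 35],
  [76, 194, 162, 64, 123, 112, 40, 238],
  [0, 76, 120, 189, 123, 112, 92, 141],
  [238, 162, 0, 158, 123, 112, 97, 141],
  [0, 162, 120, 159, 112, 126, 96, 141],
  [0, 162, 120, 157, 123, 112, 109, 194],
  [76, 194, 162, 64, 123, 112, 211, 0],
  [0, 76, 120, 189, 123, 112, 178, 35],
  [238, 162, 0, 158, 123, 112, 188, 35],
  [0, 162, 120, 159, 112, 126, 185, 35],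
  [0, 162, 120, 157, 123, 112, 97, 141],
  [0, 162, 120, 157, 123, 112, 188, 35]]

/-- The images of the simple roots under the representatives. -/
def repKeys : List (List ℕ) := [[162, 141, 135, 130, 126, 123, 121, 120], [162, 141, 135, 130, 126, 123, 2, 238], [162, 194, 135, 51, 126, 123, 36, 238], [76, 194, 162, 61, 126, 123, 36, 238], [76, 194, 162, 65, 112, 126, 37, 238]]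

end CfsgLib.Known.E8SL2.D73
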