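import Cfsg.Agent.Lib.Known.E8SL2.Data121
import Cfsg.Agent.Lib.Known.E8SL2.Data73

/-!
# The checks of the certificates
-/

set_option autoImplicit false
set_option maxRecDepth 100000
set_option maxHeartbeats 1000000

namespace CfsgLib.Known.E8SL2

/-- The integers of a list of numbers. -/
def intL (l : List ℕ) : List ℤ := l.map fun (x : ℕ) => (x : ℤ)

theorem D121.orbits_ok : orbitsOK 243 D121.mem D121.wts 25 (fun d o => wv 121 D121.oid 5 d o) = true := by
  decide +kernel

theorem D121.certs_ok : ((List.range D121.keys.length).all fun i =>
    chkTree D121.wts (intL (D121.keys.getD i [])) (D121.certs.getD i (.leaf [] [])) []) = true := by decide +kernel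

theorem D73.orbits_ok : orbitsOK 729 D73.mem D73.wts 8
    (fun d o => if o < 7 then wv 73 (fun x => D73.orb (D73.cls x)) 6 d o else wv 4 (fun x => x) 6 d 0) = true := by
  decide +kernel

theorem D73.certs120_ok : ((List.range D73.keys.length).all fun i =>
    chkTree D73.wts (intL (D73.keys.getD i [] ++ [120])) (D73.certs120.getD i (.leaf [] [])) []) = true := by
  decide +kernel

theorem D73.certs136_ok : ((List.range D73.keys.length).all fun i =>
    chkTree D73.wts (intL (D73.keys.getD i [] ++ [136])) (D73.certs136.getD i (.leaf [] [])) []) = true := by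
  decide +kernel

end CfsgLib.Known.E8SL2
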