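import Cfsg.Agent.Lib.Known.E8SL2.Solve

/-!
# Covering eigenvectors by families
-/

set_option autoImplicit false
set_option maxRecDepth 20000

namespace CfsgLib.Known.E8SL2

open Cfsg.Lie (chevE8)
open CfsgLib.Lie.Chev

/-- The data of the solutions of a system. -/
structure SolD where
  /-- the directions -/
  B : List (List ℕ)
  /-- the free coordinates -/
  free : List ℕ
  /-- the multipliers -/
  Q : List (List ℕ)

/-- The zero vector. -/
def zv : List ℕ := [0, 0, 0, 0, 0, 0, 0, 0]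

/-- A direction. -/
def SolD.dir (d : SolD) (s : ℕ) : List ℕ := d.B.getD s zv

/-- A free coordinate. -/
def SolD.fr (d : SolD) (s : Fin 3) : Fin 8 := Fin.ofNat 8 (d.free.getD s 0)

/-- The multipliers as a matrix. -/
def SolD.mul {M n : ℕ} (d : SolD) (j : Fin 8) (i : Fin n) : ZMod M := ((d.Q.getD j []).getD i 0 : ℕ)

/-- The check of the data of the solutions of a system. -/
def SolD.ok {M n : ℕ} (d : SolD) (f0 : List ℕ) (A : Fin n → Fin 8 → ZMod M) (rhs : Fin n → ZMod M) : Prop :=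
  solOK A rhs (fun s => toF (d.dir s)) d.fr (toF f0) d.mul

instance {M n : ℕ} (d : SolD) (f0 : List ℕ) (A : Fin n → Fin 8 → ZMod M) (rhs : Fin n → ZMod M) :
    Decidable (d.ok f0 A rhs) := inferInstanceAs (Decidable (_ ∧ _))

theorem SolD.eq {M n : ℕ} {d : SolD} {f0 : List ℕ} {A : Fin n → Fin 8 → ZMod M} {rhs : Fin n → ZMod M}
    (h : d.ok f0 A rhs) {f : Fin 8 → ZMod M} (hf : ∀ i, ∑ m, A i m * f m = rhs i) :
    ∃ x y z : ZMod M, f = toF f0 + x • toF (d.dir 0) + y • toF (d.dir 1) + z • toF (d.dir 2) :=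
  ⟨_, _, _, eq_of_solOK h hf⟩

theorem toF_zv {M : ℕ} : (toF zv : Fin 8 → ZMod M) = 0 := by
  funext j
  fin_cases j <;> simp [toF, zv]

/-- The zero test. -/
def isZ (l : List ℕ) : Bool := l.all (Nat.beq 0)

theorem toF_of_isZ {M : ℕ} {l : List ℕ} (h : isZ l = true) : (toF l : Fin 8 → ZMod M) = 0 := by
  funext j
  simp only [isZ, List.all_eq_true] at h
  simp only [toF, Pi.zero_apply]
  rcases Nat.lt_or_ge (j : ℕ) l.length with hj | hj
  · rw [List.getD_eq_getElem _ _ hj, ← Nat.eq_of_beq_eq_true (h _ (List.getElem_mem hj)), Nat.cast_zero]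
  · rw [List.getD_eq_default _ _ hj, Nat.cast_zero]

/-- The steps in a direction. -/
def steps (M : ℕ) (l : List ℕ) : ℕ := if isZ l then 1 else M

theorem exists_step {M : ℕ} [NeZero M] (x : ZMod M) (l : List ℕ) :
    ∃ a < steps M l, (a : ZMod M) • toF l = x • (toF l : Fin 8 → ZMod M) := by
  by_cases h : isZ l = true
  · exact ⟨0, by simp [steps, h], by rw [toF_of_isZ h, smul_zero, smul_zero]⟩
  · exact ⟨x.val, by rw [steps, if_neg h]; exact ZMod.val_lt x, by rw [ZMod.natCast_zmod_val]⟩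

/-- The check of a family, its base point may vanish. -/
def chkFam (S : Scan) (mult : ℕ) (L : List ℕ) (φ : Fam) (tr : List (ℕ × ℕ × ℕ)) : Bool :=
  isZ φ.f0 || (φ.trOK S.M L tr && scan S mult φ.na φ.nb tr)

/-- The keys of the multiples of the members of a family. -/
theorem key_of_line (S : Scan) [NeZero S.M] (hok : S.ok = true) (h6 : 6 ≤ S.M) {mult : ℕ} {L : List ℕ}
    (hL : L.length < 256 ∧ ∀ r ∈ L, r < 240) (φ : Fam) {tr : List (ℕ × ℕ × ℕ)}
    (h : chkFam S mult L φ tr = true) (hz : isZ φ.f0 = false) {σ : ℕ → ℕ → ℕ}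
    (hscale : ∀ c : ZMod S.M, IsUnit c → scaleOK S.M S.no (fun x => S.orb (S.cls x)) σ S.ks c.val = true)
    {a b : ℕ} (ha : a < φ.na) (hb : b < φ.nb) {f : Fin 8 → ZMod S.M} (hgood : Good f) {rp : ℕ → ℕ}
    (hrep : ∀ c : ZMod S.M, Rep S mult L rp (c • f)) {c : ZMod S.M} (hc : IsUnit c)
    (hf : f = c • (toF φ.f0 + (a : ZMod S.M) • toF φ.f1 + (b : ZMod S.M) • toF φ.f2)) :
    keyv S.no (fun x => S.orb (S.cls x)) f ∈ S.ks := by
  obtain ⟨u, rfl⟩ := hc
  simp only [chkFam, hz, Bool.false_or, Bool.and_eq_true] at h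
  refine keyv_mem_of_smul _ (hscale _ (Units.isUnit u⁻¹)) f ?_
  refine scan_sound S hok h6 hL φ h.1 h.2 ha hb ?_ (hgood.smul _) (hrep _)
  rw [hf, smul_smul, Units.inv_mul, one_smul]

/-- The three families of lines in the span of three vectors. -/
def lineFam (M : ℕ) (d : SolD) : ℕ → Fam
  | 0 => ⟨d.dir 0, d.dir 1, d.dir 2, steps M (d.dir 1), steps M (d.dir 2)⟩
  | 1 => ⟨d.dir 1, d.dir 2, zv, steps M (d.dir 2), 1⟩
  | _ => ⟨d.dir 2, zv, zv, 1, 1⟩

/-- The keys of the vectors of a span, for a prime modulus. -/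
theorem key_of_span (S : Scan) [Fact S.M.Prime] (hok : S.ok = true) (h6 : 6 ≤ S.M) {mult : ℕ} {L : List ℕ}
    (hL : L.length < 256 ∧ ∀ r ∈ L, r < 240) (d : SolD) {tr : ℕ → List (ℕ × ℕ × ℕ)}
    (h : ∀ k < 3, chkFam S mult L (lineFam S.M d k) (tr k) = true) {σ : ℕ → ℕ → ℕ}
    (hscale : ∀ c : ZMod S.M, IsUnit c → scaleOK S.M S.no (fun x => S.orb (S.cls x)) σ S.ks c.val = true)
    {f : Fin 8 → ZMod S.M} (hgood : Good f) {rp : ℕ → ℕ} (hrep : ∀ c : ZMod S.M, Rep S mult L rp (c • f))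
    (hne : f ≠ 0) {x y z : ZMod S.M} (hf : f = x • toF (d.dir 0) + y • toF (d.dir 1) + z • toF (d.dir 2)) :
    keyv S.no (fun x => S.orb (S.cls x)) f ∈ S.ks := by
  have dead : ∀ (v : ZMod S.M) (l : List ℕ), ¬ (v ≠ 0 ∧ isZ l = false) → v • (toF l : Fin 8 → ZMod S.M) = 0 := by
    intro v l h'
    by_cases hv : v = 0
    · rw [hv, zero_smul]
    · rw [toF_of_isZ (M := S.M) (by simpa [hv] using h'), smul_zero]
  by_cases h0 : x ≠ 0 ∧ isZ (d.dir 0) = false
  · obtain ⟨a, ha, ea⟩ := exists_step (x⁻¹ * y) (d.dir 1)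
    obtain ⟨b, hb, eb⟩ := exists_step (x⁻¹ * z) (d.dir 2)
    refine key_of_line S hok h6 hL (lineFam S.M d 0) (h 0 (by norm_num)) h0.2 hscale (a := a) (b := b) ha hb hgood hrep
      (isUnit_iff_ne_zero.2 h0.1) ?_
    simp only [lineFam, ea, eb, smul_add, smul_smul, ← mul_assoc, mul_inv_cancel₀ h0.1, one_mul]
    exact hf
  rw [dead _ _ h0, zero_add] at hf
  by_cases h1 : y ≠ 0 ∧ isZ (d.dir 1) = false
  · obtain ⟨a, ha, ea⟩ := exists_step (y⁻¹ * z) (d.dir 2)
    refine key_of_line S hok h6 hL (lineFam S.M d 1) (h 1 (by norm_num)) h1.2 hscale (a := a) (b := 0) ha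
      Nat.one_pos hgood hrep (isUnit_iff_ne_zero.2 h1.1) ?_
    simp only [lineFam, ea, Nat.cast_zero, zero_smul, add_zero, smul_add, smul_smul, ← mul_assoc,
      mul_inv_cancel₀ h1.1, one_mul]
    exact hf
  rw [dead _ _ h1, zero_add] at hf
  by_cases h2 : z ≠ 0 ∧ isZ (d.dir 2) = false
  · refine key_of_line S hok h6 hL (lineFam S.M d 2) (h 2 (by norm_num)) h2.2 hscale (a := 0) (b := 0)
      Nat.one_pos Nat.one_pos hgood hrep (isUnit_iff_ne_zero.2 h2.1) ?_
    simp only [lineFam, Nat.cast_zero, zero_smul, add_zero]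
    exact hf
  rw [dead _ _ h2] at hf
  exact absurd hf hne

/-- All roots represent themselves. -/
theorem rep_all (S : Scan) (f : Fin 8 → ZMod S.M) : Rep S 1 (List.range 240) (fun r => r) f := by
  refine ⟨fun r => ⟨by rw [List.length_range]; exact r.2, ?_⟩, fun i => ?_⟩
  · rw [List.getD_eq_getElem _ _ (by rw [List.length_range]; exact r.2), List.getElem_range]
  · have hi : (i : ℕ) < chevE8.nroots := by have := i.2; simp only [List.length_range] at this; exact this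
    refine Finset.card_eq_one.2 ⟨⟨i, hi⟩, Finset.ext fun r => ?_⟩
    simp [Fin.ext_iff]

/-- Representatives up to scalars fixing the classes. -/
theorem rep_of_scalar (S : Scan) [NeZero S.M] {mult : ℕ} {L : List ℕ} {rp : ℕ → ℕ} (f : Fin 8 → ZMod S.M)
    (h1 : ∀ r : Fin chevE8.nroots, rp r < L.length ∧ ∃ c : ZMod S.M,
      (∀ x, x < S.M → S.cls (c.val * x % S.M) = S.cls x) ∧ fv f (r : ℕ) = c * fv f (L.getD (rp r) 0))
    (h2 : ∀ i : Fin L.length, (Finset.univ.filter fun r : Fin chevE8.nroots => rp r = i).card = mult) :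
    Rep S mult L rp f := by
  refine ⟨fun r => ⟨(h1 r).1, ?_⟩, h2⟩
  obtain ⟨c, hc, e⟩ := (h1 r).2
  rw [e, ZMod.val_mul, hc _ (ZMod.val_lt _)]

end CfsgLib.Known.E8SL2
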