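import Cfsg.Agent.Lib.Known.E8SL2.Cover
import Cfsg.Agent.Lib.Known.E8SL2.Orbit

/-!
# The data for elements of order 121
-/

set_option autoImplicit false
set_option maxRecDepth 100000

namespace CfsgLib.Known.E8SL2.D121

open Cfsg.Lie (chevE8)
open CfsgLib.Lie.Chev
open CfsgLib.Known.AltE6 (Table)

/-- The orbit of a value under multiplication by three. -/
def oid (x : ℕ) : ℕ := Nat.land (Nat.shiftRight 205530277813074057964457259749185344000275079322822041321697628903164072348502006758455157831925442985305642240939675795387271958949397785681334496006999651781407487425632397347162031640370223188414901977153667489291775863003367947211308652445385848589840465898430304690026031692420158193920 (8 * x)) 255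

/-- The least members of the orbits. -/
def orbRep : List ℕ := [0, 1, 2, 4, 5, 7, 8, 10, 11, 13, 16, 17, 19, 20, 22, 25, 26, 31, 34, 35, 38, 40, 61, 67, 76]

/-- The scaling of the orbits. -/
def sig (c o : ℕ) : ℕ := oid (c * orbRep.getD o 0 % 121)

/-- The keys. -/
def keys : List (List ℕ) := [
  [8, 0, 20, 10, 10, 10, 15, 10, 10, 10, 10, 5, 5, 15, 10, 5, 15, 10, 5, 10, 10, 0, 15, 20, 10],
  [8, 5, 5, 10, 10, 20, 10, 15, 10, 10, 10, 15, 0, 10, 10, 15, 10, 15, 0, 10, 20, 5, 10, 5, 10],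
  [8, 5, 5, 10, 15, 15, 10, 10, 10, 10, 5, 15, 10, 10, 10, 15, 10, 10, 10, 5, 15, 5, 10, 5, 15],
  [8, 5, 10, 10, 10, 15, 5, 10, 10, 10, 15, 10, 15, 5, 10, 10, 5, 10, 15, 15, 15, 5, 5, 10, 10],
  [8, 5, 10, 10, 15, 10, 10, 10, 10, 10, 15, 0, 20, 5, 10, 0, 10, 10, 20, 15, 10, 5, 5, 10, 15],
  [8, 5, 15, 10, 5, 5, 15, 10, 10, 10, 15, 10, 10, 10, 10, 10, 15, 10, 10, 15, 5, 5, 10, 15, 5],
  [8, 10, 5, 5, 15, 10, 10, 15, 10, 5, 10, 5, 15, 10, 10, 5, 10, 15, 15, 10, 10, 10, 10, 5, 15],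
  [8, 10, 5, 5, 20, 0, 10, 10, 10, 5, 10, 10, 15, 15, 10, 10, 10, 10, 15, 10, 0, 10, 15, 5, 20],
  [8, 10, 5, 15, 5, 10, 10, 5, 10, 15, 15, 15, 10, 10, 10, 15, 10, 5, 10, 15, 10, 10, 10, 5, 5],
  [8, 10, 10, 5, 10, 10, 15, 5, 10, 5, 10, 15, 15, 5, 10, 15, 15, 5, 15, 10, 10, 10, 5, 10, 10],
  [8, 10, 10, 5, 10, 15, 5, 15, 10, 5, 10, 10, 5, 15, 10, 10, 5, 15, 5, 10, 15, 10, 15, 10, 10],
  [8, 10, 10, 10, 10, 15, 15, 5, 10, 10, 0, 20, 10, 5, 10, 20, 15, 5, 10, 0, 15, 10, 5, 10, 10],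
  [8, 10, 10, 15, 5, 10, 0, 5, 10, 15, 20, 10, 15, 10, 10, 10, 0, 5, 15, 20, 10, 10, 10, 10, 5],
  [8, 10, 15, 0, 5, 5, 20, 10, 10, 0, 10, 15, 10, 10, 10, 15, 20, 10, 10, 10, 5, 10, 10, 15, 5],
  [8, 10, 15, 10, 15, 10, 5, 0, 10, 10, 5, 10, 10, 20, 10, 10, 5, 0, 10, 5, 10, 10, 20, 15, 15],
  [8, 10, 15, 15, 10, 10, 10, 5, 10, 15, 10, 5, 5, 15, 10, 5, 10, 5, 5, 10, 10, 10, 15, 15, 10],
  [8, 15, 0, 20, 10, 5, 10, 10, 10, 20, 15, 10, 5, 10, 10, 10, 10, 10, 5, 15, 5, 15, 10, 0, 10],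
  [8, 15, 10, 5, 0, 15, 5, 20, 10, 5, 10, 10, 10, 10, 10, 10, 5, 20, 10, 10, 15, 15, 10, 10, 0],
  [8, 15, 10, 10, 15, 5, 5, 10, 10, 10, 5, 10, 10, 15, 10, 10, 5, 10, 10, 5, 5, 15, 15, 10, 15],
  [8, 15, 10, 15, 10, 5, 15, 10, 10, 15, 10, 10, 5, 5, 10, 10, 15, 10, 5, 10, 5, 15, 5, 10, 10],
  [8, 15, 15, 10, 5, 10, 10, 15, 10, 10, 5, 5, 10, 10, 10, 5, 10, 15, 10, 5, 10, 15, 10, 15, 5],
  [8, 20, 10, 15, 10, 10, 10, 15, 10, 15, 5, 5, 10, 0, 10, 5, 10, 15, 10, 5, 10, 20, 0, 10, 10],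
  [28, 0, 0, 0, 5, 25, 25, 0, 0, 0, 0, 50, 5, 0, 0, 50, 25, 0, 5, 0, 25, 0, 0, 0, 5],
  [28, 0, 0, 0, 5, 50, 0, 25, 0, 0, 0, 25, 0, 5, 0, 25, 0, 25, 0, 0, 50, 0, 5, 0, 5],
  [28, 0, 0, 0, 25, 5, 0, 5, 0, 0, 25, 0, 50, 0, 0, 0, 0, 5, 50, 25, 5, 0, 0, 0, 25],
  [28, 0, 0, 25, 0, 5, 0, 0, 0, 25, 50, 5, 25, 0, 0, 5, 0, 0, 25, 50, 5, 0, 0, 0, 0],
  [28, 0, 25, 0, 0, 0, 50, 0, 0, 0, 5, 25, 5, 0, 0, 25, 50, 0, 5, 5, 0, 0, 0, 25, 0],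
  [28, 0, 50, 5, 0, 0, 25, 0, 0, 5, 5, 0, 0, 25, 0, 0, 25, 0, 0, 5, 0, 0, 25, 50, 0],
  [28, 5, 0, 0, 50, 0, 0, 5, 0, 0, 0, 0, 25, 25, 0, 0, 0, 5, 25, 0, 0, 5, 25, 0, 50],
  [28, 5, 25, 5, 25, 0, 0, 0, 0, 5, 0, 0, 0, 50, 0, 0, 0, 0, 0, 0, 0, 5, 50, 25, 25],
  [28, 25, 0, 50, 0, 0, 5, 0, 0, 50, 25, 5, 0, 0, 0, 5, 5, 0, 0, 25, 0, 25, 0, 0, 0],
  [28, 25, 5, 0, 0, 25, 0, 50, 0, 0, 0, 0, 0, 5, 0, 0, 0, 50, 0, 0, 25, 25, 5, 5, 0],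
  [28, 50, 5, 25, 0, 0, 5, 25, 0, 25, 0, 0, 0, 0, 0, 0, 5, 25, 0, 0, 0, 50, 0, 5, 0]]

/-- The search. -/
abbrev scanS : Scan := ⟨121, fun x => x, 121, fun c => 3 * c % 121, oid, 25, keys⟩

/-- The words of the elements of a Sylow subgroup for the prime five. -/
def w5Words : List (List ℕ) := [
  [],
  [0, 2, 3, 1],
  [2, 3, 0, 2, 1, 3],
  [3, 2, 1, 3, 0, 2],
  [1, 3, 2, 0],
  [4, 3, 2, 1, 3, 4, 5, 6, 0, 2, 3, 4, 5, 1, 3, 4, 2, 3, 0, 2, 1, 3, 4, 5, 6, 7, 6, 5, 4, 3, 2, 1, 3, 4, 5, 6, 0, 2, 3, 4, 5, 1, 3, 4, 2, 3, 0, 2, 1, 3, 4, 5, 6, 7],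
  [4, 3, 2, 1, 3, 4, 5, 6, 0, 2, 3, 4, 5, 1, 3, 4, 2, 3, 0, 2, 1, 3, 4, 5, 6, 7, 6, 5, 4, 3, 2, 1, 3, 4, 5, 6, 0, 2, 3, 4, 5, 1, 3, 4, 2, 3, 0, 2, 1, 3, 4, 5, 6, 7, 0, 2, 3, 1],
  [4, 3, 2, 1, 3, 4, 5, 6, 0, 2, 3, 4, 5, 1, 3, 4, 2, 3, 0, 2, 1, 3, 4, 5, 6, 7, 6, 5, 4, 3, 2, 1, 3, 4, 5, 6, 0, 2, 3, 4, 5, 1, 3, 4, 2, 3, 0, 2, 1, 3, 4, 5, 6, 7, 2, 3, 0, 2, 1, 3],
  [4, 3, 2, 1, 3, 4, 5, 6, 0, 2, 3, 4, 5, 1, 3, 4, 2, 3, 0, 2, 1, 3, 4, 5, 6, 7, 6, 5, 4, 3, 2, 1, 3, 4, 5, 6, 0, 2, 3, 4, 5, 1, 3, 4, 2, 3, 0, 2, 1, 3, 4, 5, 6, 7, 3, 2, 1, 3, 0, 2],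
  [4, 3, 2, 1, 3, 4, 5, 6, 0, 2, 3, 4, 5, 1, 3, 4, 2, 3, 0, 2, 1, 3, 4, 5, 6, 7, 6, 5, 4, 3, 2, 1, 3, 4, 5, 6, 0, 2, 3, 4, 5, 1, 3, 4, 2, 3, 0, 2, 1, 3, 4, 5, 6, 7, 1, 3, 2, 0],
  [5, 6, 7, 4, 3, 2, 1, 3, 4, 5, 6, 0, 2, 3, 4, 5, 1, 3, 4, 2, 3, 0, 2, 1, 3, 4, 5, 6, 7, 6, 5, 4, 3, 2, 1, 3, 4, 5, 6, 0, 2, 3, 4, 5, 1, 3, 4, 2, 3, 0, 2, 1, 3, 4, 5, 6],
  [5, 6, 7, 4, 3, 2, 1, 3, 4, 5, 6, 0, 2, 3, 4, 5, 1, 3, 4, 2, 3, 0, 2, 1, 3, 4, 5, 6, 7, 6, 5, 4, 3, 2, 1, 3, 4, 5, 6, 0, 2, 3, 4, 5, 1, 3, 4, 2, 3, 0, 2, 1, 3, 4, 5, 6, 0, 2, 3, 1],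
  [5, 6, 7, 4, 3, 2, 1, 3, 4, 5, 6, 0, 2, 3, 4, 5, 1, 3, 4, 2, 3, 0, 2, 1, 3, 4, 5, 6, 7, 6, 5, 4, 3, 2, 1, 3, 4, 5, 6, 0, 2, 3, 4, 5, 1, 3, 4, 2, 3, 0, 2, 1, 3, 4, 5, 6, 2, 3, 0, 2, 1, 3],
  [5, 6, 7, 4, 3, 2, 1, 3, 4, 5, 6, 0, 2, 3, 4, 5, 1, 3, 4, 2, 3, 0, 2, 1, 3, 4, 5, 6, 7, 6, 5, 4, 3, 2, 1, 3, 4, 5, 6, 0, 2, 3, 4, 5, 1, 3, 4, 2, 3, 0, 2, 1, 3, 4, 5, 6, 3, 2, 1, 3, 0, 2],
  [5, 6, 7, 4, 3, 2, 1, 3, 4, 5, 6, 0, 2, 3, 4, 5, 1, 3, 4, 2, 3, 0, 2, 1, 3, 4, 5, 6, 7, 6, 5, 4, 3, 2, 1, 3, 4, 5, 6, 0, 2, 3, 4, 5, 1, 3, 4, 2, 3, 0, 2, 1, 3, 4, 5, 6, 1, 3, 2, 0],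
  [6, 7, 5, 4, 3, 2, 1, 3, 4, 5, 6, 0, 2, 3, 4, 5, 1, 3, 4, 2, 3, 0, 2, 1, 3, 4, 5, 6, 7, 6, 5, 4, 3, 0, 2, 1, 3, 4, 5, 6, 0, 2, 3, 4, 5, 1, 3, 4, 2, 3, 0, 2, 1, 3, 4, 5],
  [6, 7, 5, 4, 3, 2, 1, 3, 4, 5, 6, 0, 2, 3, 4, 5, 1, 3, 4, 2, 3, 0, 2, 1, 3, 4, 5, 6, 7, 6, 5, 4, 3, 0, 2, 1, 3, 4, 5, 6, 0, 2, 3, 4, 5, 1, 3, 4, 2, 3, 0, 2, 1, 3, 4, 5, 0, 2, 3, 1],
  [6, 7, 5, 4, 3, 2, 1, 3, 4, 5, 6, 0, 2, 3, 4, 5, 1, 3, 4, 2, 3, 0, 2, 1, 3, 4, 5, 6, 7, 6, 5, 4, 3, 0, 2, 1, 3, 4, 5, 6, 0, 2, 3, 4, 5, 1, 3, 4, 2, 3, 0, 2, 1, 3, 4, 5, 2, 3, 0, 2, 1, 3],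
  [6, 7, 5, 4, 3, 2, 1, 3, 4, 5, 6, 0, 2, 3, 4, 5, 1, 3, 4, 2, 3, 0, 2, 1, 3, 4, 5, 6, 7, 6, 5, 4, 3, 0, 2, 1, 3, 4, 5, 6, 0, 2, 3, 4, 5, 1, 3, 4, 2, 3, 0, 2, 1, 3, 4, 5, 3, 2, 1, 3, 0, 2],
  [6, 7, 5, 4, 3, 2, 1, 3, 4, 5, 6, 0, 2, 3, 4, 5, 1, 3, 4, 2, 3, 0, 2, 1, 3, 4, 5, 6, 7, 6, 5, 4, 3, 0, 2, 1, 3, 4, 5, 6, 0, 2, 3, 4, 5, 1, 3, 4, 2, 3, 0, 2, 1, 3, 4, 5, 1, 3, 2, 0],
  [7, 6, 5, 4, 3, 2, 1, 3, 4, 5, 6, 0, 2, 3, 4, 5, 1, 3, 4, 2, 3, 0, 2, 1, 3, 4, 5, 6, 7, 6, 5, 4, 3, 2, 1, 3, 4, 5, 6, 0, 2, 3, 4, 5, 1, 3, 4, 2, 3, 0, 2, 1, 3, 4],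
  [7, 6, 5, 4, 3, 2, 1, 3, 4, 5, 6, 0, 2, 3, 4, 5, 1, 3, 4, 2, 3, 0, 2, 1, 3, 4, 5, 6, 7, 6, 5, 4, 3, 2, 1, 3, 4, 5, 6, 0, 2, 3, 4, 5, 1, 3, 4, 2, 3, 0, 2, 1, 3, 4, 0, 2, 3, 1],
  [7, 6, 5, 4, 3, 2, 1, 3, 4, 5, 6, 0, 2, 3, 4, 5, 1, 3, 4, 2, 3, 0, 2, 1, 3, 4, 5, 6, 7, 6, 5, 4, 3, 2, 1, 3, 4, 5, 6, 0, 2, 3, 4, 5, 1, 3, 4, 2, 3, 0, 2, 1, 3, 4, 2, 3, 0, 2, 1, 3],
  [7, 6, 5, 4, 3, 2, 1, 3, 4, 5, 6, 0, 2, 3, 4, 5, 1, 3, 4, 2, 3, 0, 2, 1, 3, 4, 5, 6, 7, 6, 5, 4, 3, 2, 1, 3, 4, 5, 6, 0, 2, 3, 4, 5, 1, 3, 4, 2, 3, 0, 2, 1, 3, 4, 3, 2, 1, 3, 0, 2],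
  [7, 6, 5, 4, 3, 2, 1, 3, 4, 5, 6, 0, 2, 3, 4, 5, 1, 3, 4, 2, 3, 0, 2, 1, 3, 4, 5, 6, 7, 6, 5, 4, 3, 2, 1, 3, 4, 5, 6, 0, 2, 3, 4, 5, 1, 3, 4, 2, 3, 0, 2, 1, 3, 4, 1, 3, 2, 0]]

/-- The generators. -/
def w5Gens : List (List ℕ) := [
  [0, 2, 3, 1],
  [4, 3, 2, 1, 3, 4, 5, 6, 0, 2, 3, 4, 5, 1, 3, 4, 2, 3, 0, 2, 1, 3, 4, 5, 6, 7, 6, 5, 4, 3, 2, 1, 3, 4, 5, 6, 0, 2, 3, 4, 5, 1, 3, 4, 2, 3, 0, 2, 1, 3, 4, 5, 6, 7]]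

/-- The left multiplications. -/
def w5Next : List (List ℕ) := [[1, 5], [2, 6], [3, 7], [4, 8], [0, 9], [6, 10], [7, 11], [8, 12], [9, 13], [5, 14], [11, 15], [12, 16], [13, 17], [14, 18], [10, 19], [16, 20], [17, 21], [18, 22], [19, 23], [15, 24], [21, 0], [22, 1], [23, 2], [24, 3], [20, 4]]

/-- The spanning tree. -/
def w5Par : List (ℕ × ℕ) := [(0, 0), (0, 0), (1, 0), (2, 0), (3, 0), (0, 1), (5, 0), (6, 0), (7, 0), (8, 0), (5, 1), (10, 0), (11, 0), (12, 0), (13, 0), (10, 1), (15, 0), (16, 0), (17, 0), (18, 0), (15, 1), (20, 0), (21, 0), (22, 0), (23, 0)]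

/-- The table. -/
def fiveT : Table chevE8 auxE8 25 2 where
  wd i := w5Words.getD i []
  gn j := w5Gens.getD j []
  nx i j := Fin.ofNat 25 ((w5Next.getD i []).getD j 0)
  par i := (Fin.ofNat 25 (w5Par.getD i (0, 0)).1, Fin.ofNat 2 (w5Par.getD i (0, 0)).2)

/-- The eigenspaces. -/
def sols : List SolD := [
  ⟨[[0, 0, 0, 0, 0, 0, 0, 0], [0, 0, 0, 0, 0, 0, 0, 0], [0, 0, 0, 0, 0, 0, 0, 0]], [0, 0, 0], []⟩,
  ⟨[[56, 60, 47, 20, 1, 0, 0, 0], [0, 0, 0, 0, 0, 0, 0, 0], [0, 0, 0, 0, 0, 0, 0, 0]], [4, 0, 0], [[9, 0, 93, 0, 28, 0, 0, 0], [0, 30, 0, 0, 30, 0, 0, 0], [28, 0, 37, 0, 84, 0, 0, 0], [84, 0, 112, 0, 10, 0, 0, 0], [0, 0, 0, 0, 0, 0, 0, 0], [0, 0, 0, 0, 0, 60, 0, 0], [0, 0, 0, 0, 0, 0, 60, 0], [0, 0, 0, 0, 0, 0, 0, 60]]⟩,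
  ⟨[[75, 25, 89, 104, 1, 0, 0, 0], [0, 0, 0, 0, 0, 0, 0, 0], [0, 0, 0, 0, 0, 0, 0, 0]], [4, 0, 0], [[46, 41, 25, 0, 98, 0, 0, 0], [96, 94, 89, 0, 73, 0, 0, 0], [32, 112, 110, 0, 105, 0, 0, 0], [18, 2, 75, 0, 52, 0, 0, 0], [0, 0, 0, 0, 0, 0, 0, 0], [0, 0, 0, 0, 0, 60, 0, 0], [0, 0, 0, 0, 0, 0, 60, 0], [0, 0, 0, 0, 0, 0, 0, 60]]⟩,
  ⟨[[32, 96, 46, 51, 1, 0, 0, 0], [0, 0, 0, 0, 0, 0, 0, 0], [0, 0, 0, 0, 0, 0, 0, 0]], [4, 0, 0], [[110, 112, 32, 0, 16, 0, 0, 0], [89, 94, 96, 0, 48, 0, 0, 0], [25, 41, 46, 0, 23, 0, 0, 0], [64, 114, 50, 0, 86, 0, 0, 0], [0, 0, 0, 0, 0, 0, 0, 0], [0, 0, 0, 0, 0, 60, 0, 0], [0, 0, 0, 0, 0, 0, 60, 0], [0, 0, 0, 0, 0, 0, 0, 60]]⟩,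
  ⟨[[74, 61, 65, 62, 1, 0, 0, 0], [0, 0, 0, 0, 0, 0, 0, 0], [0, 0, 0, 0, 0, 0, 0, 0]], [4, 0, 0], [[37, 0, 28, 0, 37, 0, 0, 0], [0, 30, 0, 0, 91, 0, 0, 0], [93, 0, 9, 0, 93, 0, 0, 0], [0, 91, 0, 0, 31, 0, 0, 0], [0, 0, 0, 0, 0, 0, 0, 0], [0, 0, 0, 0, 0, 60, 0, 0], [0, 0, 0, 0, 0, 0, 60, 0], [0, 0, 0, 0, 0, 0, 0, 60]]⟩,
  ⟨[[0, 0, 0, 0, 74, 27, 81, 1], [0, 0, 0, 0, 0, 0, 0, 0], [0, 0, 0, 0, 0, 0, 0, 0]], [7, 0, 0], [[60, 0, 0, 0, 0, 0, 0, 0], [0, 60, 0, 0, 0, 0, 0, 0], [0, 0, 60, 0, 0, 0, 0, 0], [0, 0, 0, 60, 0, 0, 0, 0], [0, 0, 0, 0, 60, 20, 47, 0], [0, 0, 0, 0, 0, 40, 94, 0], [0, 0, 0, 0, 0, 0, 40, 0], [0, 0, 0, 0, 0, 0, 0, 0]]⟩,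
  ⟨[[56, 60, 47, 20, 1, 0, 0, 0], [91, 37, 31, 93, 0, 27, 81, 1], [0, 0, 0, 0, 0, 0, 0, 0]], [4, 7, 0], [[9, 0, 93, 0, 28, 90, 30, 0], [0, 30, 0, 0, 30, 10, 84, 0], [28, 0, 37, 0, 84, 28, 90, 0], [84, 0, 112, 0, 10, 84, 28, 0], [0, 0, 0, 0, 0, 0, 0, 0], [0, 0, 0, 0, 0, 40, 94, 0], [0, 0, 0, 0, 0, 0, 40, 0], [0, 0, 0, 0, 0, 0, 0, 0]]⟩,
  ⟨[[75, 25, 89, 104, 1, 0, 0, 0], [16, 86, 69, 48, 0, 27, 81, 1], [0, 0, 0, 0, 0, 0, 0, 0]], [4, 7, 0], [[46, 41, 25, 0, 98, 73, 105, 0], [96, 94, 89, 0, 73, 105, 35, 0], [32, 112, 110, 0, 105, 35, 52, 0], [18, 2, 75, 0, 52, 98, 73, 0], [0, 0, 0, 0, 0, 0, 0, 0], [0, 0, 0, 0, 0, 40, 94, 0], [0, 0, 0, 0, 0, 0, 40, 0], [0, 0, 0, 0, 0, 0, 0, 0]]⟩,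
  ⟨[[32, 96, 46, 51, 1, 0, 0, 0], [52, 35, 105, 98, 0, 27, 81, 1], [0, 0, 0, 0, 0, 0, 0, 0]], [4, 7, 0], [[110, 112, 32, 0, 16, 86, 69, 0], [89, 94, 96, 0, 48, 16, 86, 0], [25, 41, 46, 0, 23, 48, 16, 0], [64, 114, 50, 0, 86, 69, 23, 0], [0, 0, 0, 0, 0, 0, 0, 0], [0, 0, 0, 0, 0, 40, 94, 0], [0, 0, 0, 0, 0, 0, 40, 0], [0, 0, 0, 0, 0, 0, 0, 0]]⟩,
  ⟨[[74, 61, 65, 62, 1, 0, 0, 0], [90, 84, 30, 10, 0, 27, 81, 1], [0, 0, 0, 0, 0, 0, 0, 0]], [4, 7, 0], [[37, 0, 28, 0, 37, 93, 31, 0], [0, 30, 0, 0, 91, 111, 37, 0], [93, 0, 9, 0, 93, 31, 91, 0], [0, 91, 0, 0, 31, 91, 111, 0], [0, 0, 0, 0, 0, 0, 0, 0], [0, 0, 0, 0, 0, 40, 94, 0], [0, 0, 0, 0, 0, 0, 40, 0], [0, 0, 0, 0, 0, 0, 0, 0]]⟩,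
  ⟨[[0, 0, 0, 0, 45, 81, 9, 1], [0, 0, 0, 0, 0, 0, 0, 0], [0, 0, 0, 0, 0, 0, 0, 0]], [7, 0, 0], [[60, 0, 0, 0, 0, 0, 0, 0], [0, 60, 0, 0, 0, 0, 0, 0], [0, 0, 60, 0, 0, 0, 0, 0], [0, 0, 0, 60, 0, 0, 0, 0], [57, 25, 114, 50, 21, 83, 64, 0], [0, 0, 0, 0, 0, 40, 0, 0], [114, 50, 107, 100, 43, 5, 7, 0], [0, 0, 0, 0, 0, 0, 0, 0]]⟩,
  ⟨[[56, 60, 47, 20, 1, 0, 0, 0], [21, 83, 63, 68, 0, 81, 9, 1], [0, 0, 0, 0, 0, 0, 0, 0]], [4, 7, 0], [[12, 26, 26, 0, 34, 71, 46, 0], [81, 6, 6, 0, 71, 102, 32, 0], [37, 78, 78, 0, 102, 92, 17, 0], [111, 113, 114, 0, 64, 34, 51, 0], [0, 0, 0, 0, 0, 0, 0, 0], [0, 0, 0, 0, 0, 40, 0, 0], [82, 25, 24, 0, 43, 5, 7, 0], [0, 0, 0, 0, 0, 0, 0, 0]]⟩,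
  ⟨[[75, 25, 89, 104, 1, 0, 0, 0], [13, 85, 109, 39, 0, 81, 9, 1], [0, 0, 0, 0, 0, 0, 0, 0]], [4, 7, 0], [[2, 89, 26, 0, 119, 67, 40, 0], [41, 110, 49, 0, 80, 103, 94, 0], [54, 77, 16, 0, 67, 115, 112, 0], [7, 25, 78, 0, 115, 80, 120, 0], [0, 0, 0, 0, 0, 0, 0, 0], [0, 0, 0, 0, 0, 40, 0, 0], [77, 81, 100, 0, 43, 5, 7, 0], [0, 0, 0, 0, 0, 0, 0, 0]]⟩,
  ⟨[[32, 96, 46, 51, 1, 0, 0, 0], [12, 36, 108, 4, 0, 81, 9, 1], [0, 0, 0, 0, 0, 0, 0, 0]], [4, 7, 0], [[16, 77, 54, 0, 54, 6, 9, 0], [49, 110, 41, 0, 41, 18, 27, 0], [26, 89, 2, 0, 2, 54, 81, 0], [73, 62, 17, 0, 18, 2, 3, 0], [0, 0, 0, 0, 0, 0, 0, 0], [0, 0, 0, 0, 0, 40, 0, 0], [21, 40, 44, 0, 43, 5, 7, 0], [0, 0, 0, 0, 0, 0, 0, 0]]⟩,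
  ⟨[[74, 61, 65, 62, 1, 0, 0, 0], [58, 38, 100, 114, 0, 81, 9, 1], [0, 0, 0, 0, 0, 0, 0, 0]], [4, 7, 0], [[78, 78, 37, 0, 19, 29, 104, 0], [6, 6, 81, 0, 50, 19, 89, 0], [26, 26, 12, 0, 87, 50, 75, 0], [18, 19, 1, 0, 29, 57, 25, 0], [0, 0, 0, 0, 0, 0, 0, 0], [0, 0, 0, 0, 0, 40, 0, 0], [97, 96, 39, 0, 43, 5, 7, 0], [0, 0, 0, 0, 0, 0, 0, 0]]⟩,
  ⟨[[0, 0, 0, 0, 76, 3, 27, 1], [0, 0, 0, 0, 0, 0, 0, 0], [0, 0, 0, 0, 0, 0, 0, 0]], [7, 0, 0], [[60, 0, 0, 0, 0, 0, 0, 0], [0, 60, 0, 0, 0, 0, 0, 0], [0, 0, 60, 0, 0, 0, 0, 0], [0, 0, 0, 60, 0, 0, 0, 0], [0, 0, 0, 0, 60, 15, 15, 0], [91, 76, 61, 31, 46, 19, 110, 0], [30, 45, 60, 90, 75, 11, 41, 0], [0, 0, 0, 0, 0, 0, 0, 0]]⟩,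
  ⟨[[56, 60, 47, 20, 1, 0, 0, 0], [100, 38, 58, 53, 0, 3, 27, 1], [0, 0, 0, 0, 0, 0, 0, 0]], [4, 7, 0], [[9, 0, 93, 0, 28, 7, 7, 0], [0, 30, 0, 0, 30, 68, 68, 0], [28, 0, 37, 0, 84, 21, 21, 0], [84, 0, 112, 0, 10, 63, 63, 0], [0, 0, 0, 0, 0, 0, 0, 0], [23, 38, 51, 0, 46, 19, 110, 0], [98, 83, 70, 0, 75, 11, 41, 0], [0, 0, 0, 0, 0, 0, 0, 0]]⟩,
  ⟨[[75, 25, 89, 104, 1, 0, 0, 0], [108, 36, 12, 82, 0, 3, 27, 1], [0, 0, 0, 0, 0, 0, 0, 0]], [4, 7, 0], [[46, 41, 25, 0, 98, 85, 85, 0], [96, 94, 89, 0, 73, 109, 109, 0], [32, 112, 110, 0, 105, 117, 117, 0], [18, 2, 75, 0, 52, 13, 13, 0], [0, 0, 0, 0, 0, 0, 0, 0], [88, 36, 31, 0, 46, 19, 110, 0], [33, 85, 90, 0, 75, 11, 41, 0], [0, 0, 0, 0, 0, 0, 0, 0]]⟩,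
  ⟨[[32, 96, 46, 51, 1, 0, 0, 0], [109, 85, 13, 117, 0, 3, 27, 1], [0, 0, 0, 0, 0, 0, 0, 0]], [4, 7, 0], [[110, 112, 32, 0, 16, 4, 4, 0], [89, 94, 96, 0, 48, 12, 12, 0], [25, 41, 46, 0, 23, 36, 36, 0], [64, 114, 50, 0, 86, 82, 82, 0], [0, 0, 0, 0, 0, 0, 0, 0], [90, 85, 33, 0, 46, 19, 110, 0], [31, 36, 88, 0, 75, 11, 41, 0], [0, 0, 0, 0, 0, 0, 0, 0]]⟩,
  ⟨[[74, 61, 65, 62, 1, 0, 0, 0], [63, 83, 21, 7, 0, 3, 27, 1], [0, 0, 0, 0, 0, 0, 0, 0]], [4, 7, 0], [[37, 0, 28, 0, 37, 100, 100, 0], [0, 30, 0, 0, 91, 53, 53, 0], [93, 0, 9, 0, 93, 114, 114, 0], [0, 91, 0, 0, 31, 38, 38, 0], [0, 0, 0, 0, 0, 0, 0, 0], [70, 83, 98, 0, 46, 19, 110, 0], [51, 38, 23, 0, 75, 11, 41, 0], [0, 0, 0, 0, 0, 0, 0, 0]]⟩,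
  ⟨[[0, 0, 0, 0, 47, 9, 3, 1], [0, 0, 0, 0, 0, 0, 0, 0], [0, 0, 0, 0, 0, 0, 0, 0]], [7, 0, 0], [[60, 0, 0, 0, 0, 0, 0, 0], [0, 60, 0, 0, 0, 0, 0, 0], [0, 0, 60, 0, 0, 0, 0, 0], [0, 0, 0, 60, 0, 0, 0, 0], [74, 111, 27, 101, 3, 77, 9, 0], [112, 47, 103, 94, 38, 29, 115, 0], [118, 56, 115, 112, 53, 50, 38, 0], [0, 0, 0, 0, 0, 0, 0, 0]]⟩,
  ⟨[[56, 60, 47, 20, 1, 0, 0, 0], [30, 84, 90, 28, 0, 9, 3, 1], [0, 0, 0, 0, 0, 0, 0, 0]], [4, 7, 0], [[32, 38, 23, 0, 74, 44, 101, 0], [16, 88, 46, 0, 62, 99, 65, 0], [97, 114, 69, 0, 101, 11, 61, 0], [49, 100, 87, 0, 61, 33, 62, 0], [0, 0, 0, 0, 0, 0, 0, 0], [19, 84, 100, 0, 38, 29, 115, 0], [87, 28, 114, 0, 53, 50, 38, 0], [0, 0, 0, 0, 0, 0, 0, 0]]⟩,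
  ⟨[[75, 25, 89, 104, 1, 0, 0, 0], [105, 35, 52, 73, 0, 9, 3, 1], [0, 0, 0, 0, 0, 0, 0, 0]], [4, 7, 0], [[112, 46, 73, 0, 17, 33, 51, 0], [118, 15, 105, 0, 46, 11, 17, 0], [120, 5, 75, 0, 96, 44, 46, 0], [95, 17, 98, 0, 51, 99, 32, 0], [0, 0, 0, 0, 0, 0, 0, 0], [99, 35, 94, 0, 38, 29, 115, 0], [33, 52, 112, 0, 53, 50, 38, 0], [0, 0, 0, 0, 0, 0, 0, 0]]⟩,
  ⟨[[32, 96, 46, 51, 1, 0, 0, 0], [69, 86, 16, 23, 0, 9, 3, 1], [0, 0, 0, 0, 0, 0, 0, 0]], [4, 7, 0], [[75, 5, 120, 0, 25, 77, 75, 0], [105, 15, 118, 0, 75, 110, 104, 0], [73, 46, 112, 0, 104, 88, 70, 0], [12, 38, 39, 0, 89, 66, 25, 0], [0, 0, 0, 0, 0, 0, 0, 0], [27, 86, 22, 0, 38, 29, 115, 0], [9, 69, 88, 0, 53, 50, 38, 0], [0, 0, 0, 0, 0, 0, 0, 0]]⟩,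
  ⟨[[74, 61, 65, 62, 1, 0, 0, 0], [31, 37, 91, 111, 0, 9, 3, 1], [0, 0, 0, 0, 0, 0, 0, 0]], [4, 7, 0], [[69, 114, 97, 0, 20, 110, 60, 0], [46, 88, 16, 0, 59, 22, 56, 0], [23, 38, 32, 0, 47, 77, 20, 0], [17, 23, 48, 0, 56, 66, 47, 0], [0, 0, 0, 0, 0, 0, 0, 0], [21, 37, 102, 0, 38, 29, 115, 0], [7, 93, 34, 0, 53, 50, 38, 0], [0, 0, 0, 0, 0, 0, 0, 0]]⟩]

/-- The values of the families. -/
def fams : List (List (List (ℕ × ℕ × ℕ))) := [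
  [[], []],
  [[(0, 0, 0), (0, 0, 0), (0, 0, 0), (0, 0, 0), (1, 0, 0), (21, 0, 0), (68, 0, 0), (81, 0, 0), (7, 0, 0), (27, 0, 0), (28, 0, 0), (28, 0, 0), (28, 0, 0), (28, 0, 0), (3, 0, 0), (63, 0, 0), (83, 0, 0), (84, 0, 0), (84, 0, 0), (84, 0, 0), (84, 0, 0), (9, 0, 0), (10, 0, 0), (10, 0, 0), (10, 0, 0), (10, 0, 0), (30, 0, 0), (30, 0, 0), (30, 0, 0), (30, 0, 0), (31, 0, 0), (31, 0, 0), (31, 0, 0), (31, 0, 0), (31, 0, 0), (31, 0, 0), (90, 0, 0), (90, 0, 0), (90, 0, 0), (90, 0, 0), (91, 0, 0), (91, 0, 0), (91, 0, 0), (91, 0, 0), (91, 0, 0), (91, 0, 0), (111, 0, 0), (111, 0, 0), (111, 0, 0), (111, 0, 0), (111, 0, 0), (111, 0, 0), (112, 0, 0), (112, 0, 0), (112, 0, 0), (112, 0, 0), (37, 0, 0), (37, 0, 0), (37, 0, 0), (37, 0, 0), (37, 0, 0), (37, 0, 0), (38, 0, 0), (38, 0, 0), (38, 0, 0), (38, 0, 0), (58, 0, 0), (58, 0,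 0), (58, 0, 0), (58, 0, 0), (59, 0, 0), (118, 0, 0), (118, 0, 0), (118, 0, 0), (118, 0, 0), (119, 0, 0), (18, 0, 0), (65, 0, 0), (93, 0, 0), (93, 0, 0), (93, 0, 0), (93, 0, 0), (93, 0, 0), (93, 0, 0), (94, 0, 0), (94, 0, 0), (94, 0, 0), (94, 0, 0), (114, 0, 0), (114, 0, 0), (114, 0, 0), (114, 0, 0), (115, 0, 0), (40, 0, 0), (40, 0, 0), (40, 0, 0), (40, 0, 0), (41, 0, 0), (61, 0, 0), (53, 0, 0), (53, 0, 0), (53, 0, 0), (53, 0, 0), (54, 0, 0), (74, 0, 0), (100, 0, 0), (100, 0, 0), (100, 0, 0), (100, 0, 0), (101, 0, 0), (120, 0, 0), (120, 0, 0), (120, 0, 0), (120, 0, 0), (0, 0, 0), (0, 0, 0), (0, 0, 0), (0, 0, 0), (0, 0, 0), (0, 0, 0), (0, 0, 0), (0, 0, 0), (0, 0, 0), (0, 0, 0), (0, 0, 0), (0, 0, 0), (1, 0, 0), (1, 0, 0), (1, 0, 0), (1, 0, 0), (20, 0, 0), (21, 0, 0), (21, 0, 0), (21, 0, 0), (21, 0, 0), (47, 0, 0), (67, 0,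 0), (68, 0, 0), (68, 0, 0), (68, 0, 0), (68, 0, 0), (60, 0, 0), (80, 0, 0), (81, 0, 0), (81, 0, 0), (81, 0, 0), (81, 0, 0), (6, 0, 0), (7, 0, 0), (7, 0, 0), (7, 0, 0), (7, 0, 0), (27, 0, 0), (27, 0, 0), (27, 0, 0), (27, 0, 0), (28, 0, 0), (28, 0, 0), (28, 0, 0), (28, 0, 0), (28, 0, 0), (28, 0, 0), (56, 0, 0), (103, 0, 0), (2, 0, 0), (3, 0, 0), (3, 0, 0), (3, 0, 0), (3, 0, 0), (62, 0, 0), (63, 0, 0), (63, 0, 0), (63, 0, 0), (63, 0, 0), (83, 0, 0), (83, 0, 0), (83, 0, 0), (83, 0, 0), (84, 0, 0), (84, 0, 0), (84, 0, 0), (84, 0, 0), (84, 0, 0), (84, 0, 0), (9, 0, 0), (9, 0, 0), (9, 0, 0), (9, 0, 0), (10, 0, 0), (10, 0, 0), (10, 0, 0), (10, 0, 0), (10, 0, 0), (10, 0, 0), (30, 0, 0), (30, 0, 0), (30, 0, 0), (30, 0, 0), (30, 0, 0), (30, 0, 0), (31, 0, 0), (31, 0, 0), (31, 0, 0), (31, 0, 0), (90, 0, 0), (90, 0, 0), (90, 0, 0),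 (90, 0, 0), (90, 0, 0), (90, 0, 0), (91, 0, 0), (91, 0, 0), (91, 0, 0), (91, 0, 0), (111, 0, 0), (111, 0, 0), (111, 0, 0), (111, 0, 0), (112, 0, 0), (37, 0, 0), (37, 0, 0), (37, 0, 0), (37, 0, 0), (38, 0, 0), (58, 0, 0), (118, 0, 0), (93, 0, 0), (93, 0, 0), (93, 0, 0), (93, 0, 0), (94, 0, 0), (114, 0, 0), (40, 0, 0), (53, 0, 0), (100, 0, 0), (120, 0, 0), (0, 0, 0), (0, 0, 0), (0, 0, 0), (0, 0, 0)], []],
  [[(0, 0, 0), (0, 0, 0), (0, 0, 0), (0, 0, 0), (1, 0, 0), (105, 0, 0), (73, 0, 0), (9, 0, 0), (98, 0, 0), (81, 0, 0), (82, 0, 0), (82, 0, 0), (82, 0, 0), (82, 0, 0), (27, 0, 0), (52, 0, 0), (35, 0, 0), (36, 0, 0), (36, 0, 0), (36, 0, 0), (36, 0, 0), (3, 0, 0), (4, 0, 0), (4, 0, 0), (4, 0, 0), (4, 0, 0), (108, 0, 0), (108, 0, 0), (108, 0, 0), (108, 0, 0), (109, 0, 0), (109, 0, 0), (109, 0, 0), (109, 0, 0), (109, 0, 0),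 (109, 0, 0), (12, 0, 0), (12, 0, 0), (12, 0, 0), (12, 0, 0), (13, 0, 0), (13, 0, 0), (13, 0, 0), (13, 0, 0), (13, 0, 0), (13, 0, 0), (117, 0, 0), (117, 0, 0), (117, 0, 0), (117, 0, 0), (117, 0, 0), (117, 0, 0), (118, 0, 0), (118, 0, 0), (118, 0, 0), (118, 0, 0), (85, 0, 0), (85, 0, 0), (85, 0, 0), (85, 0, 0), (85, 0, 0), (85, 0, 0), (86, 0, 0), (86, 0, 0), (86, 0, 0), (86, 0, 0), (69, 0, 0), (69, 0, 0), (69, 0, 0), (69, 0, 0), (70, 0, 0), (94, 0, 0), (94, 0, 0), (94, 0, 0), (94, 0, 0), (95, 0, 0), (78, 0, 0), (46, 0, 0), (39, 0, 0), (39, 0, 0), (39, 0, 0), (39, 0, 0), (39, 0, 0), (39, 0, 0), (40, 0, 0), (40, 0, 0), (40, 0, 0), (40, 0, 0), (23, 0, 0), (23, 0, 0), (23, 0, 0), (23, 0, 0), (24, 0, 0), (112, 0, 0), (112, 0, 0), (112, 0, 0), (112, 0, 0), (113, 0, 0), (96, 0, 0), (48, 0, 0), (48, 0, 0), (48, 0, 0), (48, 0, 0),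 (49, 0, 0), (32, 0, 0), (16, 0, 0), (16, 0, 0), (16, 0, 0), (16, 0, 0), (17, 0, 0), (120, 0, 0), (120, 0, 0), (120, 0, 0), (120, 0, 0), (0, 0, 0), (0, 0, 0), (0, 0, 0), (0, 0, 0), (0, 0, 0), (0, 0, 0), (0, 0, 0), (0, 0, 0), (0, 0, 0), (0, 0, 0), (0, 0, 0), (0, 0, 0), (1, 0, 0), (1, 0, 0), (1, 0, 0), (1, 0, 0), (104, 0, 0), (105, 0, 0), (105, 0, 0), (105, 0, 0), (105, 0, 0), (89, 0, 0), (72, 0, 0), (73, 0, 0), (73, 0, 0), (73, 0, 0), (73, 0, 0), (25, 0, 0), (8, 0, 0), (9, 0, 0), (9, 0, 0), (9, 0, 0), (9, 0, 0), (97, 0, 0), (98, 0, 0), (98, 0, 0), (98, 0, 0), (98, 0, 0), (81, 0, 0), (81, 0, 0), (81, 0, 0), (81, 0, 0), (82, 0, 0), (82, 0, 0), (82, 0, 0), (82, 0, 0), (82, 0, 0), (82, 0, 0), (75, 0, 0), (43, 0, 0), (26, 0, 0), (27, 0, 0), (27, 0, 0), (27, 0, 0), (27, 0, 0), (51, 0, 0), (52, 0, 0), (52, 0, 0), (52, 0, 0), (52,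 0, 0), (35, 0, 0), (35, 0, 0), (35, 0, 0), (35, 0, 0), (36, 0, 0), (36, 0, 0), (36, 0, 0), (36, 0, 0), (36, 0, 0), (36, 0, 0), (3, 0, 0), (3, 0, 0), (3, 0, 0), (3, 0, 0), (4, 0, 0), (4, 0, 0), (4, 0, 0), (4, 0, 0), (4, 0, 0), (4, 0, 0), (108, 0, 0), (108, 0, 0), (108, 0, 0), (108, 0, 0), (108, 0, 0), (108, 0, 0), (109, 0, 0), (109, 0, 0), (109, 0, 0), (109, 0, 0), (12, 0, 0), (12, 0, 0), (12, 0, 0), (12, 0, 0), (12, 0, 0), (12, 0, 0), (13, 0, 0), (13, 0, 0), (13, 0, 0), (13, 0, 0), (117, 0, 0), (117, 0, 0), (117, 0, 0), (117, 0, 0), (118, 0, 0), (85, 0, 0), (85, 0, 0), (85, 0, 0), (85, 0, 0), (86, 0, 0), (69, 0, 0), (94, 0, 0), (39, 0, 0), (39, 0, 0), (39, 0, 0), (39, 0, 0), (40, 0, 0), (23, 0, 0), (112, 0, 0), (48, 0, 0), (16, 0, 0), (120, 0, 0), (0, 0, 0), (0, 0, 0), (0, 0, 0), (0, 0, 0)], []],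
  [[(0, 0, 0), (0, 0, 0), (0, 0, 0), (0, 0, 0), (1, 0, 0), (52, 0, 0), (98, 0, 0), (27, 0, 0), (73, 0, 0), (3, 0, 0), (4, 0, 0), (4, 0, 0), (4, 0, 0), (4, 0, 0), (9, 0, 0), (105, 0, 0), (35, 0, 0), (36, 0, 0), (36, 0, 0), (36, 0, 0), (36, 0, 0), (81, 0, 0), (82, 0, 0), (82, 0, 0), (82, 0, 0), (82, 0, 0), (12, 0, 0), (12, 0, 0), (12, 0, 0), (12, 0, 0), (13, 0, 0), (13, 0, 0), (13, 0, 0), (13, 0, 0), (13, 0, 0), (13, 0, 0), (108, 0, 0), (108, 0, 0), (108, 0, 0), (108, 0, 0), (109, 0, 0), (109, 0, 0), (109, 0, 0), (109, 0, 0), (109, 0, 0), (109, 0, 0), (39, 0, 0), (39, 0, 0), (39, 0, 0), (39, 0, 0), (39, 0, 0), (39, 0, 0), (40, 0, 0), (40, 0, 0), (40, 0, 0), (40, 0, 0), (85, 0, 0), (85, 0, 0), (85, 0, 0), (85, 0, 0), (85, 0, 0), (85, 0, 0), (86, 0, 0), (86, 0, 0), (86, 0, 0), (86, 0, 0), (16, 0, 0), (16, 0, 0), (16, 0, 0),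 (16, 0, 0), (17, 0, 0), (112, 0, 0), (112, 0, 0), (112, 0, 0), (112, 0, 0), (113, 0, 0), (43, 0, 0), (89, 0, 0), (117, 0, 0), (117, 0, 0), (117, 0, 0), (117, 0, 0), (117, 0, 0), (117, 0, 0), (118, 0, 0), (118, 0, 0), (118, 0, 0), (118, 0, 0), (48, 0, 0), (48, 0, 0), (48, 0, 0), (48, 0, 0), (49, 0, 0), (94, 0, 0), (94, 0, 0), (94, 0, 0), (94, 0, 0), (95, 0, 0), (25, 0, 0), (23, 0, 0), (23, 0, 0), (23, 0, 0), (23, 0, 0), (24, 0, 0), (75, 0, 0), (69, 0, 0), (69, 0, 0), (69, 0, 0), (69, 0, 0), (70, 0, 0), (120, 0, 0), (120, 0, 0), (120, 0, 0), (120, 0, 0), (0, 0, 0), (0, 0, 0), (0, 0, 0), (0, 0, 0), (0, 0, 0), (0, 0, 0), (0, 0, 0), (0, 0, 0), (0, 0, 0), (0, 0, 0), (0, 0, 0), (0, 0, 0), (1, 0, 0), (1, 0, 0), (1, 0, 0), (1, 0, 0), (51, 0, 0), (52, 0, 0), (52, 0, 0), (52, 0, 0), (52, 0, 0), (46, 0, 0), (97, 0, 0), (98, 0, 0),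 (98, 0, 0), (98, 0, 0), (98, 0, 0), (96, 0, 0), (26, 0, 0), (27, 0, 0), (27, 0, 0), (27, 0, 0), (27, 0, 0), (72, 0, 0), (73, 0, 0), (73, 0, 0), (73, 0, 0), (73, 0, 0), (3, 0, 0), (3, 0, 0), (3, 0, 0), (3, 0, 0), (4, 0, 0), (4, 0, 0), (4, 0, 0), (4, 0, 0), (4, 0, 0), (4, 0, 0), (32, 0, 0), (78, 0, 0), (8, 0, 0), (9, 0, 0), (9, 0, 0), (9, 0, 0), (9, 0, 0), (104, 0, 0), (105, 0, 0), (105, 0, 0), (105, 0, 0), (105, 0, 0), (35, 0, 0), (35, 0, 0), (35, 0, 0), (35, 0, 0), (36, 0, 0), (36, 0, 0), (36, 0, 0), (36, 0, 0), (36, 0, 0), (36, 0, 0), (81, 0, 0), (81, 0, 0), (81, 0, 0), (81, 0, 0), (82, 0, 0), (82, 0, 0), (82, 0, 0), (82, 0, 0), (82, 0, 0), (82, 0, 0), (12, 0, 0), (12, 0, 0), (12, 0, 0), (12, 0, 0), (12, 0, 0), (12, 0, 0), (13, 0, 0), (13, 0, 0), (13, 0, 0), (13, 0, 0), (108, 0, 0), (108, 0, 0), (108, 0, 0), (108, 0,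 0), (108, 0, 0), (108, 0, 0), (109, 0, 0), (109, 0, 0), (109, 0, 0), (109, 0, 0), (39, 0, 0), (39, 0, 0), (39, 0, 0), (39, 0, 0), (40, 0, 0), (85, 0, 0), (85, 0, 0), (85, 0, 0), (85, 0, 0), (86, 0, 0), (16, 0, 0), (112, 0, 0), (117, 0, 0), (117, 0, 0), (117, 0, 0), (117, 0, 0), (118, 0, 0), (48, 0, 0), (94, 0, 0), (23, 0, 0), (69, 0, 0), (120, 0, 0), (0, 0, 0), (0, 0, 0), (0, 0, 0), (0, 0, 0)], []],
  [[(0, 0, 0), (0, 0, 0), (0, 0, 0), (0, 0, 0), (1, 0, 0), (63, 0, 0), (7, 0, 0), (3, 0, 0), (68, 0, 0), (9, 0, 0), (10, 0, 0), (10, 0, 0), (10, 0, 0), (10, 0, 0), (81, 0, 0), (21, 0, 0), (83, 0, 0), (84, 0, 0), (84, 0, 0), (84, 0, 0), (84, 0, 0), (27, 0, 0), (28, 0, 0), (28, 0, 0), (28, 0, 0), (28, 0, 0), (90, 0, 0), (90, 0, 0), (90, 0, 0), (90, 0, 0), (91, 0, 0), (91, 0, 0), (91, 0, 0), (91, 0, 0), (91, 0, 0), (91, 0, 0),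 (30, 0, 0), (30, 0, 0), (30, 0, 0), (30, 0, 0), (31, 0, 0), (31, 0, 0), (31, 0, 0), (31, 0, 0), (31, 0, 0), (31, 0, 0), (93, 0, 0), (93, 0, 0), (93, 0, 0), (93, 0, 0), (93, 0, 0), (93, 0, 0), (94, 0, 0), (94, 0, 0), (94, 0, 0), (94, 0, 0), (37, 0, 0), (37, 0, 0), (37, 0, 0), (37, 0, 0), (37, 0, 0), (37, 0, 0), (38, 0, 0), (38, 0, 0), (38, 0, 0), (38, 0, 0), (100, 0, 0), (100, 0, 0), (100, 0, 0), (100, 0, 0), (101, 0, 0), (40, 0, 0), (40, 0, 0), (40, 0, 0), (40, 0, 0), (41, 0, 0), (103, 0, 0), (47, 0, 0), (111, 0, 0), (111, 0, 0), (111, 0, 0), (111, 0, 0), (111, 0, 0), (111, 0, 0), (112, 0, 0), (112, 0, 0), (112, 0, 0), (112, 0, 0), (53, 0, 0), (53, 0, 0), (53, 0, 0), (53, 0, 0), (54, 0, 0), (118, 0, 0), (118, 0, 0), (118, 0, 0), (118, 0, 0), (119, 0, 0), (60, 0, 0), (114, 0, 0), (114, 0, 0), (114, 0, 0), (114, 0, 0),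 (115, 0, 0), (56, 0, 0), (58, 0, 0), (58, 0, 0), (58, 0, 0), (58, 0, 0), (59, 0, 0), (120, 0, 0), (120, 0, 0), (120, 0, 0), (120, 0, 0), (0, 0, 0), (0, 0, 0), (0, 0, 0), (0, 0, 0), (0, 0, 0), (0, 0, 0), (0, 0, 0), (0, 0, 0), (0, 0, 0), (0, 0, 0), (0, 0, 0), (0, 0, 0), (1, 0, 0), (1, 0, 0), (1, 0, 0), (1, 0, 0), (62, 0, 0), (63, 0, 0), (63, 0, 0), (63, 0, 0), (63, 0, 0), (65, 0, 0), (6, 0, 0), (7, 0, 0), (7, 0, 0), (7, 0, 0), (7, 0, 0), (61, 0, 0), (2, 0, 0), (3, 0, 0), (3, 0, 0), (3, 0, 0), (3, 0, 0), (67, 0, 0), (68, 0, 0), (68, 0, 0), (68, 0, 0), (68, 0, 0), (9, 0, 0), (9, 0, 0), (9, 0, 0), (9, 0, 0), (10, 0, 0), (10, 0, 0), (10, 0, 0), (10, 0, 0), (10, 0, 0), (10, 0, 0), (74, 0, 0), (18, 0, 0), (80, 0, 0), (81, 0, 0), (81, 0, 0), (81, 0, 0), (81, 0, 0), (20, 0, 0), (21, 0, 0), (21, 0, 0), (21, 0, 0), (21, 0, 0), (83,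 0, 0), (83, 0, 0), (83, 0, 0), (83, 0, 0), (84, 0, 0), (84, 0, 0), (84, 0, 0), (84, 0, 0), (84, 0, 0), (84, 0, 0), (27, 0, 0), (27, 0, 0), (27, 0, 0), (27, 0, 0), (28, 0, 0), (28, 0, 0), (28, 0, 0), (28, 0, 0), (28, 0, 0), (28, 0, 0), (90, 0, 0), (90, 0, 0), (90, 0, 0), (90, 0, 0), (90, 0, 0), (90, 0, 0), (91, 0, 0), (91, 0, 0), (91, 0, 0), (91, 0, 0), (30, 0, 0), (30, 0, 0), (30, 0, 0), (30, 0, 0), (30, 0, 0), (30, 0, 0), (31, 0, 0), (31, 0, 0), (31, 0, 0), (31, 0, 0), (93, 0, 0), (93, 0, 0), (93, 0, 0), (93, 0, 0), (94, 0, 0), (37, 0, 0), (37, 0, 0), (37, 0, 0), (37, 0, 0), (38, 0, 0), (100, 0, 0), (40, 0, 0), (111, 0, 0), (111, 0, 0), (111, 0, 0), (111, 0, 0), (112, 0, 0), (53, 0, 0), (118, 0, 0), (114, 0, 0), (58, 0, 0), (120, 0, 0), (0, 0, 0), (0, 0, 0), (0, 0, 0), (0, 0, 0)], []],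
  [[(3, 0, 0), (4, 0, 0), (85, 0, 0), (112, 0, 0), (65, 0, 0), (65, 0, 0), (65, 0, 0), (65, 0, 0), (65, 0, 0), (65, 0, 0), (18, 0, 0), (45, 0, 0), (5, 0, 0), (6, 0, 0), (65, 0, 0), (65, 0, 0), (65, 0, 0), (18, 0, 0), (45, 0, 0), (5, 0, 0), (6, 0, 0), (65, 0, 0), (18, 0, 0), (45, 0, 0), (5, 0, 0), (6, 0, 0), (18, 0, 0), (45, 0, 0), (5, 0, 0), (6, 0, 0), (119, 0, 0), (79, 0, 0), (80, 0, 0), (106, 0, 0), (107, 0, 0), (67, 0, 0), (18, 0, 0), (45, 0, 0), (5, 0, 0), (6, 0, 0), (119, 0, 0), (79, 0, 0), (80, 0, 0), (106, 0, 0), (107, 0, 0), (67, 0, 0), (119, 0, 0), (79, 0, 0), (80, 0, 0), (106, 0, 0), (107, 0, 0), (67, 0, 0), (59, 0, 0), (60, 0, 0), (20, 0, 0), (47, 0, 0), (119, 0, 0), (79, 0, 0), (80, 0, 0), (106, 0, 0), (107, 0, 0), (67, 0, 0), (59, 0, 0), (60, 0, 0), (20, 0, 0), (47, 0, 0), (59, 0, 0), (60, 0, 0), (20, 0,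 0), (47, 0, 0), (0, 0, 0), (59, 0, 0), (60, 0, 0), (20, 0, 0), (47, 0, 0), (0, 0, 0), (0, 0, 0), (0, 0, 0), (119, 0, 0), (79, 0, 0), (80, 0, 0), (106, 0, 0), (107, 0, 0), (67, 0, 0), (59, 0, 0), (60, 0, 0), (20, 0, 0), (47, 0, 0), (59, 0, 0), (60, 0, 0), (20, 0, 0), (47, 0, 0), (0, 0, 0), (59, 0, 0), (60, 0, 0), (20, 0, 0), (47, 0, 0), (0, 0, 0), (0, 0, 0), (59, 0, 0), (60, 0, 0), (20, 0, 0), (47, 0, 0), (0, 0, 0), (0, 0, 0), (59, 0, 0), (60, 0, 0), (20, 0, 0), (47, 0, 0), (0, 0, 0), (59, 0, 0), (60, 0, 0), (20, 0, 0), (47, 0, 0), (12, 0, 0), (13, 0, 0), (94, 0, 0), (39, 0, 0), (40, 0, 0), (120, 0, 0), (1, 0, 0), (81, 0, 0), (82, 0, 0), (27, 0, 0), (108, 0, 0), (109, 0, 0), (74, 0, 0), (101, 0, 0), (61, 0, 0), (62, 0, 0), (0, 0, 0), (74, 0, 0), (101, 0, 0), (61, 0, 0), (62, 0, 0), (0, 0, 0), (0, 0, 0), (74, 0, 0), (101,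 0, 0), (61, 0, 0), (62, 0, 0), (0, 0, 0), (0, 0, 0), (74, 0, 0), (101, 0, 0), (61, 0, 0), (62, 0, 0), (0, 0, 0), (74, 0, 0), (101, 0, 0), (61, 0, 0), (62, 0, 0), (74, 0, 0), (101, 0, 0), (61, 0, 0), (62, 0, 0), (54, 0, 0), (14, 0, 0), (15, 0, 0), (41, 0, 0), (42, 0, 0), (2, 0, 0), (0, 0, 0), (0, 0, 0), (0, 0, 0), (74, 0, 0), (101, 0, 0), (61, 0, 0), (62, 0, 0), (0, 0, 0), (74, 0, 0), (101, 0, 0), (61, 0, 0), (62, 0, 0), (74, 0, 0), (101, 0, 0), (61, 0, 0), (62, 0, 0), (54, 0, 0), (14, 0, 0), (15, 0, 0), (41, 0, 0), (42, 0, 0), (2, 0, 0), (74, 0, 0), (101, 0, 0), (61, 0, 0), (62, 0, 0), (54, 0, 0), (14, 0, 0), (15, 0, 0), (41, 0, 0), (42, 0, 0), (2, 0, 0), (54, 0, 0), (14, 0, 0), (15, 0, 0), (41, 0, 0), (42, 0, 0), (2, 0, 0), (115, 0, 0), (116, 0, 0), (76, 0, 0), (103, 0, 0), (54, 0, 0), (14, 0, 0), (15, 0, 0), (41, 0,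 0), (42, 0, 0), (2, 0, 0), (115, 0, 0), (116, 0, 0), (76, 0, 0), (103, 0, 0), (115, 0, 0), (116, 0, 0), (76, 0, 0), (103, 0, 0), (56, 0, 0), (115, 0, 0), (116, 0, 0), (76, 0, 0), (103, 0, 0), (56, 0, 0), (56, 0, 0), (56, 0, 0), (115, 0, 0), (116, 0, 0), (76, 0, 0), (103, 0, 0), (56, 0, 0), (56, 0, 0), (56, 0, 0), (56, 0, 0), (56, 0, 0), (56, 0, 0), (9, 0, 0), (36, 0, 0), (117, 0, 0), (118, 0, 0)], []],
  [[(0, 3, 0), (0, 4, 0), (0, 85, 0), (0, 112, 0), (1, 112, 0), (21, 84, 0), (68, 115, 0), (81, 0, 0), (7, 31, 0), (27, 3, 0), (28, 3, 0), (28, 30, 0), (28, 111, 0), (28, 112, 0), (3, 85, 0), (63, 1, 0), (83, 94, 0), (84, 94, 0), (84, 0, 0), (84, 81, 0), (84, 82, 0), (9, 4, 0), (10, 4, 0), (10, 31, 0), (10, 112, 0), (10, 113, 0), (30, 97, 0), (30, 3, 0), (30, 84, 0), (30, 85, 0), (31, 3, 0), (31, 84, 0), (31, 85, 0), (31,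 111, 0), (31, 112, 0), (31, 72, 0), (90, 13, 0), (90, 40, 0), (90, 0, 0), (90, 1, 0), (91, 40, 0), (91, 0, 0), (91, 1, 0), (91, 27, 0), (91, 28, 0), (91, 109, 0), (111, 12, 0), (111, 93, 0), (111, 94, 0), (111, 120, 0), (111, 0, 0), (111, 81, 0), (112, 120, 0), (112, 0, 0), (112, 81, 0), (112, 108, 0), (37, 43, 0), (37, 3, 0), (37, 4, 0), (37, 30, 0), (37, 31, 0), (37, 112, 0), (38, 30, 0), (38, 31, 0), (38, 112, 0), (38, 18, 0), (58, 2, 0), (58, 3, 0), (58, 84, 0), (58, 111, 0), (59, 111, 0), (118, 39, 0), (118, 40, 0), (118, 0, 0), (118, 27, 0), (119, 27, 0), (18, 120, 0), (65, 30, 0), (93, 13, 0), (93, 94, 0), (93, 95, 0), (93, 0, 0), (93, 1, 0), (93, 82, 0), (94, 0, 0), (94, 1, 0), (94, 82, 0), (94, 109, 0), (114, 93, 0), (114, 94, 0), (114, 54, 0), (114, 81, 0), (115, 81, 0), (40, 3, 0), (40, 4, 0), (40, 85, 0),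 (40, 112, 0), (41, 112, 0), (61, 84, 0), (53, 9, 0), (53, 10, 0), (53, 91, 0), (53, 118, 0), (54, 118, 0), (74, 90, 0), (100, 40, 0), (100, 41, 0), (100, 1, 0), (100, 28, 0), (101, 28, 0), (120, 12, 0), (120, 13, 0), (120, 94, 0), (120, 0, 0), (0, 12, 0), (0, 13, 0), (0, 94, 0), (0, 39, 0), (0, 40, 0), (0, 120, 0), (0, 1, 0), (0, 81, 0), (0, 82, 0), (0, 27, 0), (0, 108, 0), (0, 109, 0), (1, 0, 0), (1, 27, 0), (1, 108, 0), (1, 109, 0), (20, 93, 0), (21, 93, 0), (21, 120, 0), (21, 80, 0), (21, 81, 0), (47, 31, 0), (67, 3, 0), (68, 3, 0), (68, 30, 0), (68, 111, 0), (68, 112, 0), (60, 37, 0), (80, 9, 0), (81, 9, 0), (81, 36, 0), (81, 117, 0), (81, 118, 0), (6, 40, 0), (7, 40, 0), (7, 67, 0), (7, 27, 0), (7, 28, 0), (27, 12, 0), (27, 39, 0), (27, 120, 0), (27, 0, 0), (28, 39, 0), (28, 120, 0), (28, 0, 0), (28, 26, 0), (28,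 27, 0), (28, 108, 0), (56, 91, 0), (103, 1, 0), (2, 94, 0), (3, 94, 0), (3, 0, 0), (3, 81, 0), (3, 82, 0), (62, 10, 0), (63, 10, 0), (63, 37, 0), (63, 118, 0), (63, 119, 0), (83, 103, 0), (83, 9, 0), (83, 90, 0), (83, 91, 0), (84, 9, 0), (84, 90, 0), (84, 91, 0), (84, 117, 0), (84, 118, 0), (84, 78, 0), (9, 13, 0), (9, 40, 0), (9, 0, 0), (9, 1, 0), (10, 40, 0), (10, 0, 0), (10, 1, 0), (10, 27, 0), (10, 28, 0), (10, 109, 0), (30, 12, 0), (30, 93, 0), (30, 94, 0), (30, 120, 0), (30, 0, 0), (30, 81, 0), (31, 120, 0), (31, 0, 0), (31, 81, 0), (31, 108, 0), (90, 49, 0), (90, 9, 0), (90, 10, 0), (90, 36, 0), (90, 37, 0), (90, 118, 0), (91, 36, 0), (91, 37, 0), (91, 118, 0), (91, 24, 0), (111, 8, 0), (111, 9, 0), (111, 90, 0), (111, 117, 0), (112, 117, 0), (37, 39, 0), (37, 40, 0), (37, 0, 0), (37, 27, 0), (38, 27, 0), (58,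 120, 0), (118, 36, 0), (93, 9, 0), (93, 10, 0), (93, 91, 0), (93, 118, 0), (94, 118, 0), (114, 90, 0), (40, 0, 0), (53, 6, 0), (100, 37, 0), (120, 9, 0), (0, 9, 0), (0, 36, 0), (0, 117, 0), (0, 118, 0)], [(3, 0, 0), (4, 0, 0), (85, 0, 0), (112, 0, 0), (112, 11, 0), (84, 110, 0), (115, 22, 0), (0, 44, 0), (31, 77, 0), (3, 55, 0), (3, 66, 0), (30, 66, 0), (111, 66, 0), (112, 66, 0), (85, 33, 0), (1, 88, 0), (94, 66, 0), (94, 77, 0), (0, 77, 0), (81, 77, 0), (82, 77, 0), (4, 99, 0), (4, 110, 0), (31, 110, 0), (112, 110, 0), (113, 110, 0), (97, 88, 0), (3, 88, 0), (84, 88, 0), (85, 88, 0), (3, 99, 0), (84, 99, 0), (85, 99, 0), (111, 99, 0), (112, 99, 0), (72, 99, 0), (13, 22, 0), (40, 22, 0), (0, 22, 0), (1, 22, 0), (40, 33, 0), (0, 33, 0), (1, 33, 0), (27, 33, 0), (28, 33, 0), (109, 33, 0), (12, 11, 0), (93, 11, 0), (94,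 11, 0), (120, 11, 0), (0, 11, 0), (81, 11, 0), (120, 22, 0), (0, 22, 0), (81, 22, 0), (108, 22, 0), (43, 44, 0), (3, 44, 0), (4, 44, 0), (30, 44, 0), (31, 44, 0), (112, 44, 0), (30, 55, 0), (31, 55, 0), (112, 55, 0), (18, 55, 0), (2, 33, 0), (3, 33, 0), (84, 33, 0), (111, 33, 0), (111, 44, 0), (39, 88, 0), (40, 88, 0), (0, 88, 0), (27, 88, 0), (27, 99, 0), (120, 77, 0), (30, 110, 0), (13, 55, 0), (94, 55, 0), (95, 55, 0), (0, 55, 0), (1, 55, 0), (82, 55, 0), (0, 66, 0), (1, 66, 0), (82, 66, 0), (109, 66, 0), (93, 44, 0), (94, 44, 0), (54, 44, 0), (81, 44, 0), (81, 55, 0), (3, 77, 0), (4, 77, 0), (85, 77, 0), (112, 77, 0), (112, 88, 0), (84, 66, 0), (9, 99, 0), (10, 99, 0), (91, 99, 0), (118, 99, 0), (118, 110, 0), (90, 88, 0), (40, 11, 0), (41, 11, 0), (1, 11, 0), (28, 11, 0), (28, 22, 0), (12, 110, 0), (13, 110, 0),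 (94, 110, 0), (0, 110, 0), (12, 0, 0), (13, 0, 0), (94, 0, 0), (39, 0, 0), (40, 0, 0), (120, 0, 0), (1, 0, 0), (81, 0, 0), (82, 0, 0), (27, 0, 0), (108, 0, 0), (109, 0, 0), (0, 11, 0), (27, 11, 0), (108, 11, 0), (109, 11, 0), (93, 99, 0), (93, 110, 0), (120, 110, 0), (80, 110, 0), (81, 110, 0), (31, 33, 0), (3, 11, 0), (3, 22, 0), (30, 22, 0), (111, 22, 0), (112, 22, 0), (37, 55, 0), (9, 33, 0), (9, 44, 0), (36, 44, 0), (117, 44, 0), (118, 44, 0), (40, 66, 0), (40, 77, 0), (67, 77, 0), (27, 77, 0), (28, 77, 0), (12, 55, 0), (39, 55, 0), (120, 55, 0), (0, 55, 0), (39, 66, 0), (120, 66, 0), (0, 66, 0), (26, 66, 0), (27, 66, 0), (108, 66, 0), (91, 11, 0), (1, 44, 0), (94, 22, 0), (94, 33, 0), (0, 33, 0), (81, 33, 0), (82, 33, 0), (10, 77, 0), (10, 88, 0), (37, 88, 0), (118, 88, 0), (119, 88, 0), (103, 66, 0), (9, 66, 0),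 (90, 66, 0), (91, 66, 0), (9, 77, 0), (90, 77, 0), (91, 77, 0), (117, 77, 0), (118, 77, 0), (78, 77, 0), (13, 99, 0), (40, 99, 0), (0, 99, 0), (1, 99, 0), (40, 110, 0), (0, 110, 0), (1, 110, 0), (27, 110, 0), (28, 110, 0), (109, 110, 0), (12, 88, 0), (93, 88, 0), (94, 88, 0), (120, 88, 0), (0, 88, 0), (81, 88, 0), (120, 99, 0), (0, 99, 0), (81, 99, 0), (108, 99, 0), (49, 22, 0), (9, 22, 0), (10, 22, 0), (36, 22, 0), (37, 22, 0), (118, 22, 0), (36, 33, 0), (37, 33, 0), (118, 33, 0), (24, 33, 0), (8, 11, 0), (9, 11, 0), (90, 11, 0), (117, 11, 0), (117, 22, 0), (39, 44, 0), (40, 44, 0), (0, 44, 0), (27, 44, 0), (27, 55, 0), (120, 33, 0), (36, 88, 0), (9, 55, 0), (10, 55, 0), (91, 55, 0), (118, 55, 0), (118, 66, 0), (90, 44, 0), (0, 77, 0), (6, 99, 0), (37, 11, 0), (9, 110, 0), (9, 0, 0), (36, 0, 0), (117, 0, 0), (118, 0,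 0)]],
  [[(0, 3, 0), (0, 4, 0), (0, 85, 0), (0, 112, 0), (1, 112, 0), (105, 39, 0), (73, 108, 0), (9, 4, 0), (98, 73, 0), (81, 0, 0), (82, 0, 0), (82, 27, 0), (82, 108, 0), (82, 109, 0), (27, 3, 0), (52, 89, 0), (35, 16, 0), (36, 16, 0), (36, 43, 0), (36, 3, 0), (36, 4, 0), (3, 85, 0), (4, 85, 0), (4, 112, 0), (4, 72, 0), (4, 73, 0), (108, 12, 0), (108, 39, 0), (108, 120, 0), (108, 0, 0), (109, 39, 0), (109, 120, 0), (109, 0, 0), (109, 26, 0), (109, 27, 0), (109, 108, 0), (12, 98, 0), (12, 4, 0), (12, 85, 0), (12, 86, 0), (13, 4, 0), (13, 85, 0), (13, 86, 0), (13, 112, 0), (13, 113, 0), (13, 73, 0), (117, 52, 0), (117, 12, 0), (117, 13, 0), (117, 39, 0), (117, 40, 0), (117, 0, 0), (118, 39, 0), (118, 40, 0), (118, 0, 0), (118, 27, 0), (85, 0, 0), (85, 81, 0), (85, 82, 0), (85, 108, 0), (85, 109, 0), (85, 69, 0), (86,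 108, 0), (86, 109, 0), (86, 69, 0), (86, 96, 0), (69, 35, 0), (69, 36, 0), (69, 117, 0), (69, 23, 0), (70, 23, 0), (94, 0, 0), (94, 1, 0), (94, 82, 0), (94, 109, 0), (95, 109, 0), (78, 36, 0), (46, 105, 0), (39, 16, 0), (39, 97, 0), (39, 98, 0), (39, 3, 0), (39, 4, 0), (39, 85, 0), (40, 3, 0), (40, 4, 0), (40, 85, 0), (40, 112, 0), (23, 51, 0), (23, 52, 0), (23, 12, 0), (23, 39, 0), (24, 39, 0), (112, 120, 0), (112, 0, 0), (112, 81, 0), (112, 108, 0), (113, 108, 0), (96, 35, 0), (48, 16, 0), (48, 17, 0), (48, 98, 0), (48, 4, 0), (49, 4, 0), (32, 52, 0), (16, 85, 0), (16, 86, 0), (16, 46, 0), (16, 73, 0), (17, 73, 0), (120, 12, 0), (120, 13, 0), (120, 94, 0), (120, 0, 0), (0, 12, 0), (0, 13, 0), (0, 94, 0), (0, 39, 0), (0, 40, 0), (0, 120, 0), (0, 1, 0), (0, 81, 0), (0, 82, 0), (0, 27, 0), (0, 108, 0), (0, 109, 0), (1,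 0, 0), (1, 27, 0), (1, 108, 0), (1, 109, 0), (104, 48, 0), (105, 48, 0), (105, 75, 0), (105, 35, 0), (105, 36, 0), (89, 69, 0), (72, 117, 0), (73, 117, 0), (73, 23, 0), (73, 104, 0), (73, 105, 0), (25, 86, 0), (8, 13, 0), (9, 13, 0), (9, 40, 0), (9, 0, 0), (9, 1, 0), (97, 82, 0), (98, 82, 0), (98, 109, 0), (98, 69, 0), (98, 70, 0), (81, 9, 0), (81, 36, 0), (81, 117, 0), (81, 118, 0), (82, 36, 0), (82, 117, 0), (82, 118, 0), (82, 23, 0), (82, 24, 0), (82, 105, 0), (75, 16, 0), (43, 85, 0), (26, 12, 0), (27, 12, 0), (27, 39, 0), (27, 120, 0), (27, 0, 0), (51, 98, 0), (52, 98, 0), (52, 4, 0), (52, 85, 0), (52, 86, 0), (35, 25, 0), (35, 52, 0), (35, 12, 0), (35, 13, 0), (36, 52, 0), (36, 12, 0), (36, 13, 0), (36, 39, 0), (36, 40, 0), (36, 0, 0), (3, 94, 0), (3, 0, 0), (3, 81, 0), (3, 82, 0), (4, 0, 0), (4, 81, 0), (4, 82,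 0), (4, 108, 0), (4, 109, 0), (4, 69, 0), (108, 48, 0), (108, 8, 0), (108, 9, 0), (108, 35, 0), (108, 36, 0), (108, 117, 0), (109, 35, 0), (109, 36, 0), (109, 117, 0), (109, 23, 0), (12, 13, 0), (12, 94, 0), (12, 95, 0), (12, 0, 0), (12, 1, 0), (12, 82, 0), (13, 0, 0), (13, 1, 0), (13, 82, 0), (13, 109, 0), (117, 48, 0), (117, 49, 0), (117, 9, 0), (117, 36, 0), (118, 36, 0), (85, 117, 0), (85, 118, 0), (85, 78, 0), (85, 105, 0), (86, 105, 0), (69, 32, 0), (94, 118, 0), (39, 12, 0), (39, 13, 0), (39, 94, 0), (39, 0, 0), (40, 0, 0), (23, 48, 0), (112, 117, 0), (48, 13, 0), (16, 82, 0), (120, 9, 0), (0, 9, 0), (0, 36, 0), (0, 117, 0), (0, 118, 0)], [(3, 0, 0), (4, 0, 0), (85, 0, 0), (112, 0, 0), (112, 11, 0), (39, 66, 0), (108, 77, 0), (4, 99, 0), (73, 110, 0), (0, 44, 0), (0, 55, 0), (27, 55, 0), (108, 55, 0), (109, 55,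 0), (3, 55, 0), (89, 88, 0), (16, 22, 0), (16, 33, 0), (43, 33, 0), (3, 33, 0), (4, 33, 0), (85, 33, 0), (85, 44, 0), (112, 44, 0), (72, 44, 0), (73, 44, 0), (12, 99, 0), (39, 99, 0), (120, 99, 0), (0, 99, 0), (39, 110, 0), (120, 110, 0), (0, 110, 0), (26, 110, 0), (27, 110, 0), (108, 110, 0), (98, 11, 0), (4, 11, 0), (85, 11, 0), (86, 11, 0), (4, 22, 0), (85, 22, 0), (86, 22, 0), (112, 22, 0), (113, 22, 0), (73, 22, 0), (52, 77, 0), (12, 77, 0), (13, 77, 0), (39, 77, 0), (40, 77, 0), (0, 77, 0), (39, 88, 0), (40, 88, 0), (0, 88, 0), (27, 88, 0), (0, 88, 0), (81, 88, 0), (82, 88, 0), (108, 88, 0), (109, 88, 0), (69, 88, 0), (108, 99, 0), (109, 99, 0), (69, 99, 0), (96, 99, 0), (35, 33, 0), (36, 33, 0), (117, 33, 0), (23, 33, 0), (23, 44, 0), (0, 66, 0), (1, 66, 0), (82, 66, 0), (109, 66, 0), (109, 77, 0), (36, 11, 0),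 (105, 22, 0), (16, 66, 0), (97, 66, 0), (98, 66, 0), (3, 66, 0), (4, 66, 0), (85, 66, 0), (3, 77, 0), (4, 77, 0), (85, 77, 0), (112, 77, 0), (51, 11, 0), (52, 11, 0), (12, 11, 0), (39, 11, 0), (39, 22, 0), (120, 22, 0), (0, 22, 0), (81, 22, 0), (108, 22, 0), (108, 33, 0), (35, 88, 0), (16, 44, 0), (17, 44, 0), (98, 44, 0), (4, 44, 0), (4, 55, 0), (52, 110, 0), (85, 55, 0), (86, 55, 0), (46, 55, 0), (73, 55, 0), (73, 66, 0), (12, 110, 0), (13, 110, 0), (94, 110, 0), (0, 110, 0), (12, 0, 0), (13, 0, 0), (94, 0, 0), (39, 0, 0), (40, 0, 0), (120, 0, 0), (1, 0, 0), (81, 0, 0), (82, 0, 0), (27, 0, 0), (108, 0, 0), (109, 0, 0), (0, 11, 0), (27, 11, 0), (108, 11, 0), (109, 11, 0), (48, 55, 0), (48, 66, 0), (75, 66, 0), (35, 66, 0), (36, 66, 0), (69, 11, 0), (117, 66, 0), (117, 77, 0), (23, 77, 0), (104, 77, 0), (105, 77, 0),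 (86, 33, 0), (13, 88, 0), (13, 99, 0), (40, 99, 0), (0, 99, 0), (1, 99, 0), (82, 99, 0), (82, 110, 0), (109, 110, 0), (69, 110, 0), (70, 110, 0), (9, 44, 0), (36, 44, 0), (117, 44, 0), (118, 44, 0), (36, 55, 0), (117, 55, 0), (118, 55, 0), (23, 55, 0), (24, 55, 0), (105, 55, 0), (16, 99, 0), (85, 110, 0), (12, 44, 0), (12, 55, 0), (39, 55, 0), (120, 55, 0), (0, 55, 0), (98, 77, 0), (98, 88, 0), (4, 88, 0), (85, 88, 0), (86, 88, 0), (25, 22, 0), (52, 22, 0), (12, 22, 0), (13, 22, 0), (52, 33, 0), (12, 33, 0), (13, 33, 0), (39, 33, 0), (40, 33, 0), (0, 33, 0), (94, 33, 0), (0, 33, 0), (81, 33, 0), (82, 33, 0), (0, 44, 0), (81, 44, 0), (82, 44, 0), (108, 44, 0), (109, 44, 0), (69, 44, 0), (48, 99, 0), (8, 99, 0), (9, 99, 0), (35, 99, 0), (36, 99, 0), (117, 99, 0), (35, 110, 0), (36, 110, 0), (117, 110, 0), (23, 110, 0),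 (13, 11, 0), (94, 11, 0), (95, 11, 0), (0, 11, 0), (1, 11, 0), (82, 11, 0), (0, 22, 0), (1, 22, 0), (82, 22, 0), (109, 22, 0), (48, 77, 0), (49, 77, 0), (9, 77, 0), (36, 77, 0), (36, 88, 0), (117, 88, 0), (118, 88, 0), (78, 88, 0), (105, 88, 0), (105, 99, 0), (32, 33, 0), (118, 66, 0), (12, 66, 0), (13, 66, 0), (94, 66, 0), (0, 66, 0), (0, 77, 0), (48, 11, 0), (117, 22, 0), (13, 44, 0), (82, 55, 0), (9, 110, 0), (9, 0, 0), (36, 0, 0), (117, 0, 0), (118, 0, 0)]],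
  [[(0, 3, 0), (0, 4, 0), (0, 85, 0), (0, 112, 0), (1, 112, 0), (52, 89, 0), (98, 73, 0), (27, 3, 0), (73, 108, 0), (3, 85, 0), (4, 85, 0), (4, 112, 0), (4, 72, 0), (4, 73, 0), (9, 4, 0), (105, 39, 0), (35, 16, 0), (36, 16, 0), (36, 43, 0), (36, 3, 0), (36, 4, 0), (81, 0, 0), (82, 0, 0), (82, 27, 0), (82, 108, 0), (82, 109, 0), (12, 98, 0), (12, 4, 0), (12, 85, 0), (12, 86, 0), (13, 4, 0), (13, 85, 0), (13, 86, 0), (13, 112, 0), (13, 113, 0), (13, 73, 0), (108, 12, 0), (108, 39, 0), (108, 120, 0), (108, 0, 0), (109, 39, 0), (109, 120, 0), (109, 0, 0), (109, 26, 0), (109, 27, 0), (109, 108, 0), (39, 16, 0), (39, 97, 0), (39, 98, 0), (39, 3, 0), (39, 4, 0), (39, 85, 0), (40, 3, 0), (40, 4, 0), (40, 85, 0), (40, 112, 0), (85, 0, 0), (85, 81, 0), (85, 82, 0), (85, 108, 0), (85, 109, 0), (85, 69, 0), (86, 108, 0), (86, 109,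 0), (86, 69, 0), (86, 96, 0), (16, 85, 0), (16, 86, 0), (16, 46, 0), (16, 73, 0), (17, 73, 0), (112, 120, 0), (112, 0, 0), (112, 81, 0), (112, 108, 0), (113, 108, 0), (43, 85, 0), (89, 69, 0), (117, 52, 0), (117, 12, 0), (117, 13, 0), (117, 39, 0), (117, 40, 0), (117, 0, 0), (118, 39, 0), (118, 40, 0), (118, 0, 0), (118, 27, 0), (48, 16, 0), (48, 17, 0), (48, 98, 0), (48, 4, 0), (49, 4, 0), (94, 0, 0), (94, 1, 0), (94, 82, 0), (94, 109, 0), (95, 109, 0), (25, 86, 0), (23, 51, 0), (23, 52, 0), (23, 12, 0), (23, 39, 0), (24, 39, 0), (75, 16, 0), (69, 35, 0), (69, 36, 0), (69, 117, 0), (69, 23, 0), (70, 23, 0), (120, 12, 0), (120, 13, 0), (120, 94, 0), (120, 0, 0), (0, 12, 0), (0, 13, 0), (0, 94, 0), (0, 39, 0), (0, 40, 0), (0, 120, 0), (0, 1, 0), (0, 81, 0), (0, 82, 0), (0, 27, 0), (0, 108, 0), (0, 109, 0), (1, 0, 0), (1,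 27, 0), (1, 108, 0), (1, 109, 0), (51, 98, 0), (52, 98, 0), (52, 4, 0), (52, 85, 0), (52, 86, 0), (46, 105, 0), (97, 82, 0), (98, 82, 0), (98, 109, 0), (98, 69, 0), (98, 70, 0), (96, 35, 0), (26, 12, 0), (27, 12, 0), (27, 39, 0), (27, 120, 0), (27, 0, 0), (72, 117, 0), (73, 117, 0), (73, 23, 0), (73, 104, 0), (73, 105, 0), (3, 94, 0), (3, 0, 0), (3, 81, 0), (3, 82, 0), (4, 0, 0), (4, 81, 0), (4, 82, 0), (4, 108, 0), (4, 109, 0), (4, 69, 0), (32, 52, 0), (78, 36, 0), (8, 13, 0), (9, 13, 0), (9, 40, 0), (9, 0, 0), (9, 1, 0), (104, 48, 0), (105, 48, 0), (105, 75, 0), (105, 35, 0), (105, 36, 0), (35, 25, 0), (35, 52, 0), (35, 12, 0), (35, 13, 0), (36, 52, 0), (36, 12, 0), (36, 13, 0), (36, 39, 0), (36, 40, 0), (36, 0, 0), (81, 9, 0), (81, 36, 0), (81, 117, 0), (81, 118, 0), (82, 36, 0), (82, 117, 0), (82, 118, 0), (82, 23,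 0), (82, 24, 0), (82, 105, 0), (12, 13, 0), (12, 94, 0), (12, 95, 0), (12, 0, 0), (12, 1, 0), (12, 82, 0), (13, 0, 0), (13, 1, 0), (13, 82, 0), (13, 109, 0), (108, 48, 0), (108, 8, 0), (108, 9, 0), (108, 35, 0), (108, 36, 0), (108, 117, 0), (109, 35, 0), (109, 36, 0), (109, 117, 0), (109, 23, 0), (39, 12, 0), (39, 13, 0), (39, 94, 0), (39, 0, 0), (40, 0, 0), (85, 117, 0), (85, 118, 0), (85, 78, 0), (85, 105, 0), (86, 105, 0), (16, 82, 0), (112, 117, 0), (117, 48, 0), (117, 49, 0), (117, 9, 0), (117, 36, 0), (118, 36, 0), (48, 13, 0), (94, 118, 0), (23, 48, 0), (69, 32, 0), (120, 9, 0), (0, 9, 0), (0, 36, 0), (0, 117, 0), (0, 118, 0)], [(3, 0, 0), (4, 0, 0), (85, 0, 0), (112, 0, 0), (112, 11, 0), (89, 88, 0), (73, 110, 0), (3, 55, 0), (108, 77, 0), (85, 33, 0), (85, 44, 0), (112, 44, 0), (72, 44, 0), (73, 44, 0), (4, 99,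 0), (39, 66, 0), (16, 22, 0), (16, 33, 0), (43, 33, 0), (3, 33, 0), (4, 33, 0), (0, 44, 0), (0, 55, 0), (27, 55, 0), (108, 55, 0), (109, 55, 0), (98, 11, 0), (4, 11, 0), (85, 11, 0), (86, 11, 0), (4, 22, 0), (85, 22, 0), (86, 22, 0), (112, 22, 0), (113, 22, 0), (73, 22, 0), (12, 99, 0), (39, 99, 0), (120, 99, 0), (0, 99, 0), (39, 110, 0), (120, 110, 0), (0, 110, 0), (26, 110, 0), (27, 110, 0), (108, 110, 0), (16, 66, 0), (97, 66, 0), (98, 66, 0), (3, 66, 0), (4, 66, 0), (85, 66, 0), (3, 77, 0), (4, 77, 0), (85, 77, 0), (112, 77, 0), (0, 88, 0), (81, 88, 0), (82, 88, 0), (108, 88, 0), (109, 88, 0), (69, 88, 0), (108, 99, 0), (109, 99, 0), (69, 99, 0), (96, 99, 0), (85, 55, 0), (86, 55, 0), (46, 55, 0), (73, 55, 0), (73, 66, 0), (120, 22, 0), (0, 22, 0), (81, 22, 0), (108, 22, 0), (108, 33, 0), (85, 110, 0), (69, 11, 0),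 (52, 77, 0), (12, 77, 0), (13, 77, 0), (39, 77, 0), (40, 77, 0), (0, 77, 0), (39, 88, 0), (40, 88, 0), (0, 88, 0), (27, 88, 0), (16, 44, 0), (17, 44, 0), (98, 44, 0), (4, 44, 0), (4, 55, 0), (0, 66, 0), (1, 66, 0), (82, 66, 0), (109, 66, 0), (109, 77, 0), (86, 33, 0), (51, 11, 0), (52, 11, 0), (12, 11, 0), (39, 11, 0), (39, 22, 0), (16, 99, 0), (35, 33, 0), (36, 33, 0), (117, 33, 0), (23, 33, 0), (23, 44, 0), (12, 110, 0), (13, 110, 0), (94, 110, 0), (0, 110, 0), (12, 0, 0), (13, 0, 0), (94, 0, 0), (39, 0, 0), (40, 0, 0), (120, 0, 0), (1, 0, 0), (81, 0, 0), (82, 0, 0), (27, 0, 0), (108, 0, 0), (109, 0, 0), (0, 11, 0), (27, 11, 0), (108, 11, 0), (109, 11, 0), (98, 77, 0), (98, 88, 0), (4, 88, 0), (85, 88, 0), (86, 88, 0), (105, 22, 0), (82, 99, 0), (82, 110, 0), (109, 110, 0), (69, 110, 0), (70, 110, 0), (35, 88, 0), (12,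 44, 0), (12, 55, 0), (39, 55, 0), (120, 55, 0), (0, 55, 0), (117, 66, 0), (117, 77, 0), (23, 77, 0), (104, 77, 0), (105, 77, 0), (94, 33, 0), (0, 33, 0), (81, 33, 0), (82, 33, 0), (0, 44, 0), (81, 44, 0), (82, 44, 0), (108, 44, 0), (109, 44, 0), (69, 44, 0), (52, 110, 0), (36, 11, 0), (13, 88, 0), (13, 99, 0), (40, 99, 0), (0, 99, 0), (1, 99, 0), (48, 55, 0), (48, 66, 0), (75, 66, 0), (35, 66, 0), (36, 66, 0), (25, 22, 0), (52, 22, 0), (12, 22, 0), (13, 22, 0), (52, 33, 0), (12, 33, 0), (13, 33, 0), (39, 33, 0), (40, 33, 0), (0, 33, 0), (9, 44, 0), (36, 44, 0), (117, 44, 0), (118, 44, 0), (36, 55, 0), (117, 55, 0), (118, 55, 0), (23, 55, 0), (24, 55, 0), (105, 55, 0), (13, 11, 0), (94, 11, 0), (95, 11, 0), (0, 11, 0), (1, 11, 0), (82, 11, 0), (0, 22, 0), (1, 22, 0), (82, 22, 0), (109, 22, 0), (48, 99, 0), (8, 99, 0),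 (9, 99, 0), (35, 99, 0), (36, 99, 0), (117, 99, 0), (35, 110, 0), (36, 110, 0), (117, 110, 0), (23, 110, 0), (12, 66, 0), (13, 66, 0), (94, 66, 0), (0, 66, 0), (0, 77, 0), (117, 88, 0), (118, 88, 0), (78, 88, 0), (105, 88, 0), (105, 99, 0), (82, 55, 0), (117, 22, 0), (48, 77, 0), (49, 77, 0), (9, 77, 0), (36, 77, 0), (36, 88, 0), (13, 44, 0), (118, 66, 0), (48, 11, 0), (32, 33, 0), (9, 110, 0), (9, 0, 0), (36, 0, 0), (117, 0, 0), (118, 0, 0)]],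
  [[(0, 3, 0), (0, 4, 0), (0, 85, 0), (0, 112, 0), (1, 112, 0), (63, 1, 0), (7, 31, 0), (3, 85, 0), (68, 115, 0), (9, 4, 0), (10, 4, 0), (10, 31, 0), (10, 112, 0), (10, 113, 0), (81, 0, 0), (21, 84, 0), (83, 94, 0), (84, 94, 0), (84, 0, 0), (84, 81, 0), (84, 82, 0), (27, 3, 0), (28, 3, 0), (28, 30, 0), (28, 111, 0), (28, 112, 0), (90, 13, 0), (90, 40, 0), (90, 0, 0), (90, 1, 0), (91, 40, 0), (91, 0, 0), (91, 1, 0), (91, 27, 0), (91, 28, 0), (91, 109, 0), (30, 97, 0), (30, 3, 0), (30, 84, 0), (30, 85, 0), (31, 3, 0), (31, 84, 0), (31, 85, 0), (31, 111, 0), (31, 112, 0), (31, 72, 0), (93, 13, 0), (93, 94, 0), (93, 95, 0), (93, 0, 0), (93, 1, 0), (93, 82, 0), (94, 0, 0), (94, 1, 0), (94, 82, 0), (94, 109, 0), (37, 43, 0), (37, 3, 0), (37, 4, 0), (37, 30, 0), (37, 31, 0), (37, 112, 0), (38, 30, 0), (38, 31, 0), (38, 112,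 0), (38, 18, 0), (100, 40, 0), (100, 41, 0), (100, 1, 0), (100, 28, 0), (101, 28, 0), (40, 3, 0), (40, 4, 0), (40, 85, 0), (40, 112, 0), (41, 112, 0), (103, 1, 0), (47, 31, 0), (111, 12, 0), (111, 93, 0), (111, 94, 0), (111, 120, 0), (111, 0, 0), (111, 81, 0), (112, 120, 0), (112, 0, 0), (112, 81, 0), (112, 108, 0), (53, 9, 0), (53, 10, 0), (53, 91, 0), (53, 118, 0), (54, 118, 0), (118, 39, 0), (118, 40, 0), (118, 0, 0), (118, 27, 0), (119, 27, 0), (60, 37, 0), (114, 93, 0), (114, 94, 0), (114, 54, 0), (114, 81, 0), (115, 81, 0), (56, 91, 0), (58, 2, 0), (58, 3, 0), (58, 84, 0), (58, 111, 0), (59, 111, 0), (120, 12, 0), (120, 13, 0), (120, 94, 0), (120, 0, 0), (0, 12, 0), (0, 13, 0), (0, 94, 0), (0, 39, 0), (0, 40, 0), (0, 120, 0), (0, 1, 0), (0, 81, 0), (0, 82, 0), (0, 27, 0), (0, 108, 0), (0, 109, 0), (1, 0, 0), (1,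 27, 0), (1, 108, 0), (1, 109, 0), (62, 10, 0), (63, 10, 0), (63, 37, 0), (63, 118, 0), (63, 119, 0), (65, 30, 0), (6, 40, 0), (7, 40, 0), (7, 67, 0), (7, 27, 0), (7, 28, 0), (61, 84, 0), (2, 94, 0), (3, 94, 0), (3, 0, 0), (3, 81, 0), (3, 82, 0), (67, 3, 0), (68, 3, 0), (68, 30, 0), (68, 111, 0), (68, 112, 0), (9, 13, 0), (9, 40, 0), (9, 0, 0), (9, 1, 0), (10, 40, 0), (10, 0, 0), (10, 1, 0), (10, 27, 0), (10, 28, 0), (10, 109, 0), (74, 90, 0), (18, 120, 0), (80, 9, 0), (81, 9, 0), (81, 36, 0), (81, 117, 0), (81, 118, 0), (20, 93, 0), (21, 93, 0), (21, 120, 0), (21, 80, 0), (21, 81, 0), (83, 103, 0), (83, 9, 0), (83, 90, 0), (83, 91, 0), (84, 9, 0), (84, 90, 0), (84, 91, 0), (84, 117, 0), (84, 118, 0), (84, 78, 0), (27, 12, 0), (27, 39, 0), (27, 120, 0), (27, 0, 0), (28, 39, 0), (28, 120, 0), (28, 0, 0), (28, 26, 0), (28,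 27, 0), (28, 108, 0), (90, 49, 0), (90, 9, 0), (90, 10, 0), (90, 36, 0), (90, 37, 0), (90, 118, 0), (91, 36, 0), (91, 37, 0), (91, 118, 0), (91, 24, 0), (30, 12, 0), (30, 93, 0), (30, 94, 0), (30, 120, 0), (30, 0, 0), (30, 81, 0), (31, 120, 0), (31, 0, 0), (31, 81, 0), (31, 108, 0), (93, 9, 0), (93, 10, 0), (93, 91, 0), (93, 118, 0), (94, 118, 0), (37, 39, 0), (37, 40, 0), (37, 0, 0), (37, 27, 0), (38, 27, 0), (100, 37, 0), (40, 0, 0), (111, 8, 0), (111, 9, 0), (111, 90, 0), (111, 117, 0), (112, 117, 0), (53, 6, 0), (118, 36, 0), (114, 90, 0), (58, 120, 0), (120, 9, 0), (0, 9, 0), (0, 36, 0), (0, 117, 0), (0, 118, 0)], [(3, 0, 0), (4, 0, 0), (85, 0, 0), (112, 0, 0), (112, 11, 0), (1, 88, 0), (31, 77, 0), (85, 33, 0), (115, 22, 0), (4, 99, 0), (4, 110, 0), (31, 110, 0), (112, 110, 0), (113, 110, 0), (0, 44, 0), (84, 110,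 0), (94, 66, 0), (94, 77, 0), (0, 77, 0), (81, 77, 0), (82, 77, 0), (3, 55, 0), (3, 66, 0), (30, 66, 0), (111, 66, 0), (112, 66, 0), (13, 22, 0), (40, 22, 0), (0, 22, 0), (1, 22, 0), (40, 33, 0), (0, 33, 0), (1, 33, 0), (27, 33, 0), (28, 33, 0), (109, 33, 0), (97, 88, 0), (3, 88, 0), (84, 88, 0), (85, 88, 0), (3, 99, 0), (84, 99, 0), (85, 99, 0), (111, 99, 0), (112, 99, 0), (72, 99, 0), (13, 55, 0), (94, 55, 0), (95, 55, 0), (0, 55, 0), (1, 55, 0), (82, 55, 0), (0, 66, 0), (1, 66, 0), (82, 66, 0), (109, 66, 0), (43, 44, 0), (3, 44, 0), (4, 44, 0), (30, 44, 0), (31, 44, 0), (112, 44, 0), (30, 55, 0), (31, 55, 0), (112, 55, 0), (18, 55, 0), (40, 11, 0), (41, 11, 0), (1, 11, 0), (28, 11, 0), (28, 22, 0), (3, 77, 0), (4, 77, 0), (85, 77, 0), (112, 77, 0), (112, 88, 0), (1, 44, 0), (31, 33, 0), (12, 11, 0), (93, 11, 0), (94,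 11, 0), (120, 11, 0), (0, 11, 0), (81, 11, 0), (120, 22, 0), (0, 22, 0), (81, 22, 0), (108, 22, 0), (9, 99, 0), (10, 99, 0), (91, 99, 0), (118, 99, 0), (118, 110, 0), (39, 88, 0), (40, 88, 0), (0, 88, 0), (27, 88, 0), (27, 99, 0), (37, 55, 0), (93, 44, 0), (94, 44, 0), (54, 44, 0), (81, 44, 0), (81, 55, 0), (91, 11, 0), (2, 33, 0), (3, 33, 0), (84, 33, 0), (111, 33, 0), (111, 44, 0), (12, 110, 0), (13, 110, 0), (94, 110, 0), (0, 110, 0), (12, 0, 0), (13, 0, 0), (94, 0, 0), (39, 0, 0), (40, 0, 0), (120, 0, 0), (1, 0, 0), (81, 0, 0), (82, 0, 0), (27, 0, 0), (108, 0, 0), (109, 0, 0), (0, 11, 0), (27, 11, 0), (108, 11, 0), (109, 11, 0), (10, 77, 0), (10, 88, 0), (37, 88, 0), (118, 88, 0), (119, 88, 0), (30, 110, 0), (40, 66, 0), (40, 77, 0), (67, 77, 0), (27, 77, 0), (28, 77, 0), (84, 66, 0), (94, 22, 0), (94, 33, 0), (0,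 33, 0), (81, 33, 0), (82, 33, 0), (3, 11, 0), (3, 22, 0), (30, 22, 0), (111, 22, 0), (112, 22, 0), (13, 99, 0), (40, 99, 0), (0, 99, 0), (1, 99, 0), (40, 110, 0), (0, 110, 0), (1, 110, 0), (27, 110, 0), (28, 110, 0), (109, 110, 0), (90, 88, 0), (120, 77, 0), (9, 33, 0), (9, 44, 0), (36, 44, 0), (117, 44, 0), (118, 44, 0), (93, 99, 0), (93, 110, 0), (120, 110, 0), (80, 110, 0), (81, 110, 0), (103, 66, 0), (9, 66, 0), (90, 66, 0), (91, 66, 0), (9, 77, 0), (90, 77, 0), (91, 77, 0), (117, 77, 0), (118, 77, 0), (78, 77, 0), (12, 55, 0), (39, 55, 0), (120, 55, 0), (0, 55, 0), (39, 66, 0), (120, 66, 0), (0, 66, 0), (26, 66, 0), (27, 66, 0), (108, 66, 0), (49, 22, 0), (9, 22, 0), (10, 22, 0), (36, 22, 0), (37, 22, 0), (118, 22, 0), (36, 33, 0), (37, 33, 0), (118, 33, 0), (24, 33, 0), (12, 88, 0), (93, 88, 0), (94, 88, 0), (120,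 88, 0), (0, 88, 0), (81, 88, 0), (120, 99, 0), (0, 99, 0), (81, 99, 0), (108, 99, 0), (9, 55, 0), (10, 55, 0), (91, 55, 0), (118, 55, 0), (118, 66, 0), (39, 44, 0), (40, 44, 0), (0, 44, 0), (27, 44, 0), (27, 55, 0), (37, 11, 0), (0, 77, 0), (8, 11, 0), (9, 11, 0), (90, 11, 0), (117, 11, 0), (117, 22, 0), (6, 99, 0), (36, 88, 0), (90, 44, 0), (120, 33, 0), (9, 110, 0), (9, 0, 0), (36, 0, 0), (117, 0, 0), (118, 0, 0)]],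
  [[(27, 0, 0), (28, 0, 0), (37, 0, 0), (118, 0, 0), (42, 0, 0), (42, 0, 0), (42, 0, 0), (42, 0, 0), (42, 0, 0), (42, 0, 0), (87, 0, 0), (47, 0, 0), (56, 0, 0), (57, 0, 0), (42, 0, 0), (42, 0, 0), (42, 0, 0), (87, 0, 0), (47, 0, 0), (56, 0, 0), (57, 0, 0), (42, 0, 0), (87, 0, 0), (47, 0, 0), (56, 0, 0), (57, 0, 0), (87, 0, 0), (47, 0, 0), (56, 0, 0), (57, 0, 0), (92, 0, 0), (101, 0, 0), (102, 0, 0), (61, 0, 0), (62, 0, 0), (71, 0, 0), (87, 0, 0), (47, 0, 0), (56, 0, 0), (57, 0, 0), (92, 0, 0), (101, 0, 0), (102, 0, 0), (61, 0, 0), (62, 0, 0), (71, 0, 0), (92, 0, 0), (101, 0, 0), (102, 0, 0), (61, 0, 0), (62, 0, 0), (71, 0, 0), (106, 0, 0), (107, 0, 0), (116, 0, 0), (76, 0, 0), (92, 0, 0), (101, 0, 0), (102, 0, 0), (61, 0, 0), (62, 0, 0), (71, 0, 0), (106, 0, 0), (107, 0, 0), (116, 0, 0), (76, 0, 0), (106, 0, 0), (107,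 0, 0), (116, 0, 0), (76, 0, 0), (0, 0, 0), (106, 0, 0), (107, 0, 0), (116, 0, 0), (76, 0, 0), (0, 0, 0), (0, 0, 0), (0, 0, 0), (92, 0, 0), (101, 0, 0), (102, 0, 0), (61, 0, 0), (62, 0, 0), (71, 0, 0), (106, 0, 0), (107, 0, 0), (116, 0, 0), (76, 0, 0), (106, 0, 0), (107, 0, 0), (116, 0, 0), (76, 0, 0), (0, 0, 0), (106, 0, 0), (107, 0, 0), (116, 0, 0), (76, 0, 0), (0, 0, 0), (0, 0, 0), (106, 0, 0), (107, 0, 0), (116, 0, 0), (76, 0, 0), (0, 0, 0), (0, 0, 0), (106, 0, 0), (107, 0, 0), (116, 0, 0), (76, 0, 0), (0, 0, 0), (106, 0, 0), (107, 0, 0), (116, 0, 0), (76, 0, 0), (30, 0, 0), (31, 0, 0), (40, 0, 0), (111, 0, 0), (112, 0, 0), (120, 0, 0), (1, 0, 0), (9, 0, 0), (10, 0, 0), (81, 0, 0), (90, 0, 0), (91, 0, 0), (45, 0, 0), (5, 0, 0), (14, 0, 0), (15, 0, 0), (0, 0, 0), (45, 0, 0), (5, 0, 0), (14, 0, 0), (15, 0, 0), (0, 0,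 0), (0, 0, 0), (45, 0, 0), (5, 0, 0), (14, 0, 0), (15, 0, 0), (0, 0, 0), (0, 0, 0), (45, 0, 0), (5, 0, 0), (14, 0, 0), (15, 0, 0), (0, 0, 0), (45, 0, 0), (5, 0, 0), (14, 0, 0), (15, 0, 0), (45, 0, 0), (5, 0, 0), (14, 0, 0), (15, 0, 0), (50, 0, 0), (59, 0, 0), (60, 0, 0), (19, 0, 0), (20, 0, 0), (29, 0, 0), (0, 0, 0), (0, 0, 0), (0, 0, 0), (45, 0, 0), (5, 0, 0), (14, 0, 0), (15, 0, 0), (0, 0, 0), (45, 0, 0), (5, 0, 0), (14, 0, 0), (15, 0, 0), (45, 0, 0), (5, 0, 0), (14, 0, 0), (15, 0, 0), (50, 0, 0), (59, 0, 0), (60, 0, 0), (19, 0, 0), (20, 0, 0), (29, 0, 0), (45, 0, 0), (5, 0, 0), (14, 0, 0), (15, 0, 0), (50, 0, 0), (59, 0, 0), (60, 0, 0), (19, 0, 0), (20, 0, 0), (29, 0, 0), (50, 0, 0), (59, 0, 0), (60, 0, 0), (19, 0, 0), (20, 0, 0), (29, 0, 0), (64, 0, 0), (65, 0, 0), (74, 0, 0), (34, 0, 0), (50, 0, 0), (59, 0, 0), (60,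 0, 0), (19, 0, 0), (20, 0, 0), (29, 0, 0), (64, 0, 0), (65, 0, 0), (74, 0, 0), (34, 0, 0), (64, 0, 0), (65, 0, 0), (74, 0, 0), (34, 0, 0), (79, 0, 0), (64, 0, 0), (65, 0, 0), (74, 0, 0), (34, 0, 0), (79, 0, 0), (79, 0, 0), (79, 0, 0), (64, 0, 0), (65, 0, 0), (74, 0, 0), (34, 0, 0), (79, 0, 0), (79, 0, 0), (79, 0, 0), (79, 0, 0), (79, 0, 0), (79, 0, 0), (3, 0, 0), (84, 0, 0), (93, 0, 0), (94, 0, 0)], []],
  [[(0, 27, 0), (0, 28, 0), (0, 37, 0), (0, 118, 0), (1, 118, 0), (21, 65, 0), (68, 7, 0), (81, 27, 0), (7, 90, 0), (27, 37, 0), (28, 37, 0), (28, 118, 0), (28, 6, 0), (28, 7, 0), (3, 28, 0), (63, 111, 0), (83, 58, 0), (84, 58, 0), (84, 18, 0), (84, 27, 0), (84, 28, 0), (9, 0, 0), (10, 0, 0), (10, 81, 0), (10, 90, 0), (10, 91, 0), (30, 68, 0), (30, 28, 0), (30, 37, 0), (30, 38, 0), (31, 28, 0), (31, 37, 0), (31, 38, 0),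 (31, 118, 0), (31, 119, 0), (31, 7, 0), (90, 30, 0), (90, 111, 0), (90, 120, 0), (90, 0, 0), (91, 111, 0), (91, 120, 0), (91, 0, 0), (91, 80, 0), (91, 81, 0), (91, 90, 0), (111, 58, 0), (111, 67, 0), (111, 68, 0), (111, 27, 0), (111, 28, 0), (111, 37, 0), (112, 27, 0), (112, 28, 0), (112, 37, 0), (112, 118, 0), (37, 0, 0), (37, 9, 0), (37, 10, 0), (37, 90, 0), (37, 91, 0), (37, 100, 0), (38, 90, 0), (38, 91, 0), (38, 100, 0), (38, 60, 0), (58, 37, 0), (58, 38, 0), (58, 47, 0), (58, 7, 0), (59, 7, 0), (118, 120, 0), (118, 0, 0), (118, 9, 0), (118, 90, 0), (119, 90, 0), (18, 37, 0), (65, 100, 0), (93, 21, 0), (93, 30, 0), (93, 31, 0), (93, 111, 0), (93, 112, 0), (93, 0, 0), (94, 111, 0), (94, 112, 0), (94, 0, 0), (94, 81, 0), (114, 58, 0), (114, 59, 0), (114, 68, 0), (114, 28, 0), (115, 28, 0), (40, 0, 0), (40, 1, 0), (40,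 10, 0), (40, 91, 0), (41, 91, 0), (61, 38, 0), (53, 20, 0), (53, 21, 0), (53, 30, 0), (53, 111, 0), (54, 111, 0), (74, 58, 0), (100, 83, 0), (100, 84, 0), (100, 93, 0), (100, 53, 0), (101, 53, 0), (120, 30, 0), (120, 31, 0), (120, 40, 0), (120, 0, 0), (0, 30, 0), (0, 31, 0), (0, 40, 0), (0, 111, 0), (0, 112, 0), (0, 120, 0), (0, 1, 0), (0, 9, 0), (0, 10, 0), (0, 81, 0), (0, 90, 0), (0, 91, 0), (1, 0, 0), (1, 81, 0), (1, 90, 0), (1, 91, 0), (20, 68, 0), (21, 68, 0), (21, 28, 0), (21, 37, 0), (21, 38, 0), (47, 63, 0), (67, 10, 0), (68, 10, 0), (68, 91, 0), (68, 100, 0), (68, 101, 0), (60, 83, 0), (80, 30, 0), (81, 30, 0), (81, 111, 0), (81, 120, 0), (81, 0, 0), (6, 93, 0), (7, 93, 0), (7, 53, 0), (7, 62, 0), (7, 63, 0), (27, 40, 0), (27, 0, 0), (27, 9, 0), (27, 10, 0), (28, 0, 0), (28, 9, 0), (28, 10, 0), (28, 90, 0), (28,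 91, 0), (28, 100, 0), (56, 21, 0), (103, 84, 0), (2, 31, 0), (3, 31, 0), (3, 112, 0), (3, 0, 0), (3, 1, 0), (62, 114, 0), (63, 114, 0), (63, 74, 0), (63, 83, 0), (63, 84, 0), (83, 61, 0), (83, 21, 0), (83, 30, 0), (83, 31, 0), (84, 21, 0), (84, 30, 0), (84, 31, 0), (84, 111, 0), (84, 112, 0), (84, 0, 0), (9, 3, 0), (9, 84, 0), (9, 93, 0), (9, 94, 0), (10, 84, 0), (10, 93, 0), (10, 94, 0), (10, 53, 0), (10, 54, 0), (10, 63, 0), (30, 31, 0), (30, 40, 0), (30, 41, 0), (30, 0, 0), (30, 1, 0), (30, 10, 0), (31, 0, 0), (31, 1, 0), (31, 10, 0), (31, 91, 0), (90, 114, 0), (90, 2, 0), (90, 3, 0), (90, 83, 0), (90, 84, 0), (90, 93, 0), (91, 83, 0), (91, 84, 0), (91, 93, 0), (91, 53, 0), (111, 30, 0), (111, 31, 0), (111, 40, 0), (111, 0, 0), (112, 0, 0), (37, 93, 0), (37, 94, 0), (37, 103, 0), (37, 63, 0), (38, 63, 0), (58, 10,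 0), (118, 93, 0), (93, 114, 0), (93, 115, 0), (93, 3, 0), (93, 84, 0), (94, 84, 0), (114, 31, 0), (40, 94, 0), (53, 114, 0), (100, 56, 0), (120, 3, 0), (0, 3, 0), (0, 84, 0), (0, 93, 0), (0, 94, 0)], [(27, 0, 0), (28, 0, 0), (37, 0, 0), (118, 0, 0), (118, 11, 0), (65, 110, 0), (7, 22, 0), (27, 44, 0), (90, 77, 0), (37, 55, 0), (37, 66, 0), (118, 66, 0), (6, 66, 0), (7, 66, 0), (28, 33, 0), (111, 88, 0), (58, 66, 0), (58, 77, 0), (18, 77, 0), (27, 77, 0), (28, 77, 0), (0, 99, 0), (0, 110, 0), (81, 110, 0), (90, 110, 0), (91, 110, 0), (68, 88, 0), (28, 88, 0), (37, 88, 0), (38, 88, 0), (28, 99, 0), (37, 99, 0), (38, 99, 0), (118, 99, 0), (119, 99, 0), (7, 99, 0), (30, 22, 0), (111, 22, 0), (120, 22, 0), (0, 22, 0), (111, 33, 0), (120, 33, 0), (0, 33, 0), (80, 33, 0), (81, 33, 0), (90, 33, 0), (58, 11, 0), (67, 11, 0), (68,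 11, 0), (27, 11, 0), (28, 11, 0), (37, 11, 0), (27, 22, 0), (28, 22, 0), (37, 22, 0), (118, 22, 0), (0, 44, 0), (9, 44, 0), (10, 44, 0), (90, 44, 0), (91, 44, 0), (100, 44, 0), (90, 55, 0), (91, 55, 0), (100, 55, 0), (60, 55, 0), (37, 33, 0), (38, 33, 0), (47, 33, 0), (7, 33, 0), (7, 44, 0), (120, 88, 0), (0, 88, 0), (9, 88, 0), (90, 88, 0), (90, 99, 0), (37, 77, 0), (100, 110, 0), (21, 55, 0), (30, 55, 0), (31, 55, 0), (111, 55, 0), (112, 55, 0), (0, 55, 0), (111, 66, 0), (112, 66, 0), (0, 66, 0), (81, 66, 0), (58, 44, 0), (59, 44, 0), (68, 44, 0), (28, 44, 0), (28, 55, 0), (0, 77, 0), (1, 77, 0), (10, 77, 0), (91, 77, 0), (91, 88, 0), (38, 66, 0), (20, 99, 0), (21, 99, 0), (30, 99, 0), (111, 99, 0), (111, 110, 0), (58, 88, 0), (83, 11, 0), (84, 11, 0), (93, 11, 0), (53, 11, 0), (53, 22, 0), (30, 110, 0), (31, 110, 0),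 (40, 110, 0), (0, 110, 0), (30, 0, 0), (31, 0, 0), (40, 0, 0), (111, 0, 0), (112, 0, 0), (120, 0, 0), (1, 0, 0), (9, 0, 0), (10, 0, 0), (81, 0, 0), (90, 0, 0), (91, 0, 0), (0, 11, 0), (81, 11, 0), (90, 11, 0), (91, 11, 0), (68, 99, 0), (68, 110, 0), (28, 110, 0), (37, 110, 0), (38, 110, 0), (63, 33, 0), (10, 11, 0), (10, 22, 0), (91, 22, 0), (100, 22, 0), (101, 22, 0), (83, 55, 0), (30, 33, 0), (30, 44, 0), (111, 44, 0), (120, 44, 0), (0, 44, 0), (93, 66, 0), (93, 77, 0), (53, 77, 0), (62, 77, 0), (63, 77, 0), (40, 55, 0), (0, 55, 0), (9, 55, 0), (10, 55, 0), (0, 66, 0), (9, 66, 0), (10, 66, 0), (90, 66, 0), (91, 66, 0), (100, 66, 0), (21, 11, 0), (84, 44, 0), (31, 22, 0), (31, 33, 0), (112, 33, 0), (0, 33, 0), (1, 33, 0), (114, 77, 0), (114, 88, 0), (74, 88, 0), (83, 88, 0), (84, 88, 0), (61, 66, 0), (21, 66, 0), (30,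 66, 0), (31, 66, 0), (21, 77, 0), (30, 77, 0), (31, 77, 0), (111, 77, 0), (112, 77, 0), (0, 77, 0), (3, 99, 0), (84, 99, 0), (93, 99, 0), (94, 99, 0), (84, 110, 0), (93, 110, 0), (94, 110, 0), (53, 110, 0), (54, 110, 0), (63, 110, 0), (31, 88, 0), (40, 88, 0), (41, 88, 0), (0, 88, 0), (1, 88, 0), (10, 88, 0), (0, 99, 0), (1, 99, 0), (10, 99, 0), (91, 99, 0), (114, 22, 0), (2, 22, 0), (3, 22, 0), (83, 22, 0), (84, 22, 0), (93, 22, 0), (83, 33, 0), (84, 33, 0), (93, 33, 0), (53, 33, 0), (30, 11, 0), (31, 11, 0), (40, 11, 0), (0, 11, 0), (0, 22, 0), (93, 44, 0), (94, 44, 0), (103, 44, 0), (63, 44, 0), (63, 55, 0), (10, 33, 0), (93, 88, 0), (114, 55, 0), (115, 55, 0), (3, 55, 0), (84, 55, 0), (84, 66, 0), (31, 44, 0), (94, 77, 0), (114, 99, 0), (56, 11, 0), (3, 110, 0), (3, 0, 0), (84, 0, 0), (93, 0, 0), (94, 0, 0)]],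
  [[(0, 27, 0), (0, 28, 0), (0, 37, 0), (0, 118, 0), (1, 118, 0), (105, 36, 0), (73, 24, 0), (9, 0, 0), (98, 109, 0), (81, 27, 0), (82, 27, 0), (82, 108, 0), (82, 117, 0), (82, 118, 0), (27, 37, 0), (52, 1, 0), (35, 40, 0), (36, 40, 0), (36, 0, 0), (36, 9, 0), (36, 10, 0), (3, 28, 0), (4, 28, 0), (4, 109, 0), (4, 118, 0), (4, 119, 0), (108, 67, 0), (108, 27, 0), (108, 36, 0), (108, 37, 0), (109, 27, 0), (109, 36, 0), (109, 37, 0), (109, 117, 0), (109, 118, 0), (109, 6, 0), (12, 31, 0), (12, 112, 0), (12, 0, 0), (12, 1, 0), (13, 112, 0), (13, 0, 0), (13, 1, 0), (13, 81, 0), (13, 82, 0), (13, 91, 0), (117, 30, 0), (117, 39, 0), (117, 40, 0), (117, 120, 0), (117, 0, 0), (117, 9, 0), (118, 120, 0), (118, 0, 0), (118, 9, 0), (118, 90, 0), (85, 18, 0), (85, 27, 0), (85, 28, 0), (85, 108, 0), (85, 109, 0), (85, 118, 0), (86,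 108, 0), (86, 109, 0), (86, 118, 0), (86, 78, 0), (69, 26, 0), (69, 27, 0), (69, 36, 0), (69, 117, 0), (70, 117, 0), (94, 111, 0), (94, 112, 0), (94, 0, 0), (94, 81, 0), (95, 81, 0), (78, 120, 0), (46, 108, 0), (39, 31, 0), (39, 40, 0), (39, 41, 0), (39, 0, 0), (39, 1, 0), (39, 10, 0), (40, 0, 0), (40, 1, 0), (40, 10, 0), (40, 91, 0), (23, 39, 0), (23, 40, 0), (23, 49, 0), (23, 9, 0), (24, 9, 0), (112, 27, 0), (112, 28, 0), (112, 37, 0), (112, 118, 0), (113, 118, 0), (96, 36, 0), (48, 3, 0), (48, 4, 0), (48, 13, 0), (48, 94, 0), (49, 94, 0), (32, 12, 0), (16, 112, 0), (16, 113, 0), (16, 1, 0), (16, 82, 0), (17, 82, 0), (120, 30, 0), (120, 31, 0), (120, 40, 0), (120, 0, 0), (0, 30, 0), (0, 31, 0), (0, 40, 0), (0, 111, 0), (0, 112, 0), (0, 120, 0), (0, 1, 0), (0, 9, 0), (0, 10, 0), (0, 81, 0), (0, 90, 0), (0, 91, 0), (1,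 0, 0), (1, 81, 0), (1, 90, 0), (1, 91, 0), (104, 39, 0), (105, 39, 0), (105, 120, 0), (105, 8, 0), (105, 9, 0), (89, 109, 0), (72, 27, 0), (73, 27, 0), (73, 108, 0), (73, 117, 0), (73, 118, 0), (25, 85, 0), (8, 3, 0), (9, 3, 0), (9, 84, 0), (9, 93, 0), (9, 94, 0), (97, 112, 0), (98, 112, 0), (98, 72, 0), (98, 81, 0), (98, 82, 0), (81, 30, 0), (81, 111, 0), (81, 120, 0), (81, 0, 0), (82, 111, 0), (82, 120, 0), (82, 0, 0), (82, 80, 0), (82, 81, 0), (82, 90, 0), (75, 13, 0), (43, 1, 0), (26, 40, 0), (27, 40, 0), (27, 0, 0), (27, 9, 0), (27, 10, 0), (51, 4, 0), (52, 4, 0), (52, 85, 0), (52, 94, 0), (52, 95, 0), (35, 43, 0), (35, 3, 0), (35, 12, 0), (35, 13, 0), (36, 3, 0), (36, 12, 0), (36, 13, 0), (36, 93, 0), (36, 94, 0), (36, 103, 0), (3, 31, 0), (3, 112, 0), (3, 0, 0), (3, 1, 0), (4, 112, 0), (4, 0, 0), (4, 1, 0), (4,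 81, 0), (4, 82, 0), (4, 91, 0), (108, 30, 0), (108, 39, 0), (108, 40, 0), (108, 120, 0), (108, 0, 0), (108, 9, 0), (109, 120, 0), (109, 0, 0), (109, 9, 0), (109, 90, 0), (12, 115, 0), (12, 3, 0), (12, 4, 0), (12, 84, 0), (12, 85, 0), (12, 94, 0), (13, 84, 0), (13, 85, 0), (13, 94, 0), (13, 54, 0), (117, 2, 0), (117, 3, 0), (117, 12, 0), (117, 93, 0), (118, 93, 0), (85, 111, 0), (85, 112, 0), (85, 0, 0), (85, 81, 0), (86, 81, 0), (69, 120, 0), (94, 84, 0), (39, 3, 0), (39, 4, 0), (39, 13, 0), (39, 94, 0), (40, 94, 0), (23, 12, 0), (112, 0, 0), (48, 97, 0), (16, 85, 0), (120, 3, 0), (0, 3, 0), (0, 84, 0), (0, 93, 0), (0, 94, 0)], [(27, 0, 0), (28, 0, 0), (37, 0, 0), (118, 0, 0), (118, 11, 0), (36, 66, 0), (24, 77, 0), (0, 99, 0), (109, 110, 0), (27, 44, 0), (27, 55, 0), (108, 55, 0), (117, 55, 0), (118, 55, 0), (37, 55,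 0), (1, 88, 0), (40, 22, 0), (40, 33, 0), (0, 33, 0), (9, 33, 0), (10, 33, 0), (28, 33, 0), (28, 44, 0), (109, 44, 0), (118, 44, 0), (119, 44, 0), (67, 99, 0), (27, 99, 0), (36, 99, 0), (37, 99, 0), (27, 110, 0), (36, 110, 0), (37, 110, 0), (117, 110, 0), (118, 110, 0), (6, 110, 0), (31, 11, 0), (112, 11, 0), (0, 11, 0), (1, 11, 0), (112, 22, 0), (0, 22, 0), (1, 22, 0), (81, 22, 0), (82, 22, 0), (91, 22, 0), (30, 77, 0), (39, 77, 0), (40, 77, 0), (120, 77, 0), (0, 77, 0), (9, 77, 0), (120, 88, 0), (0, 88, 0), (9, 88, 0), (90, 88, 0), (18, 88, 0), (27, 88, 0), (28, 88, 0), (108, 88, 0), (109, 88, 0), (118, 88, 0), (108, 99, 0), (109, 99, 0), (118, 99, 0), (78, 99, 0), (26, 33, 0), (27, 33, 0), (36, 33, 0), (117, 33, 0), (117, 44, 0), (111, 66, 0), (112, 66, 0), (0, 66, 0), (81, 66, 0), (81, 77, 0), (120, 11, 0), (108,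 22, 0), (31, 66, 0), (40, 66, 0), (41, 66, 0), (0, 66, 0), (1, 66, 0), (10, 66, 0), (0, 77, 0), (1, 77, 0), (10, 77, 0), (91, 77, 0), (39, 11, 0), (40, 11, 0), (49, 11, 0), (9, 11, 0), (9, 22, 0), (27, 22, 0), (28, 22, 0), (37, 22, 0), (118, 22, 0), (118, 33, 0), (36, 88, 0), (3, 44, 0), (4, 44, 0), (13, 44, 0), (94, 44, 0), (94, 55, 0), (12, 110, 0), (112, 55, 0), (113, 55, 0), (1, 55, 0), (82, 55, 0), (82, 66, 0), (30, 110, 0), (31, 110, 0), (40, 110, 0), (0, 110, 0), (30, 0, 0), (31, 0, 0), (40, 0, 0), (111, 0, 0), (112, 0, 0), (120, 0, 0), (1, 0, 0), (9, 0, 0), (10, 0, 0), (81, 0, 0), (90, 0, 0), (91, 0, 0), (0, 11, 0), (81, 11, 0), (90, 11, 0), (91, 11, 0), (39, 55, 0), (39, 66, 0), (120, 66, 0), (8, 66, 0), (9, 66, 0), (109, 11, 0), (27, 66, 0), (27, 77, 0), (108, 77, 0), (117, 77, 0), (118, 77, 0), (85, 33, 0),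 (3, 88, 0), (3, 99, 0), (84, 99, 0), (93, 99, 0), (94, 99, 0), (112, 99, 0), (112, 110, 0), (72, 110, 0), (81, 110, 0), (82, 110, 0), (30, 44, 0), (111, 44, 0), (120, 44, 0), (0, 44, 0), (111, 55, 0), (120, 55, 0), (0, 55, 0), (80, 55, 0), (81, 55, 0), (90, 55, 0), (13, 99, 0), (1, 110, 0), (40, 44, 0), (40, 55, 0), (0, 55, 0), (9, 55, 0), (10, 55, 0), (4, 77, 0), (4, 88, 0), (85, 88, 0), (94, 88, 0), (95, 88, 0), (43, 22, 0), (3, 22, 0), (12, 22, 0), (13, 22, 0), (3, 33, 0), (12, 33, 0), (13, 33, 0), (93, 33, 0), (94, 33, 0), (103, 33, 0), (31, 33, 0), (112, 33, 0), (0, 33, 0), (1, 33, 0), (112, 44, 0), (0, 44, 0), (1, 44, 0), (81, 44, 0), (82, 44, 0), (91, 44, 0), (30, 99, 0), (39, 99, 0), (40, 99, 0), (120, 99, 0), (0, 99, 0), (9, 99, 0), (120, 110, 0), (0, 110, 0), (9, 110, 0), (90, 110, 0), (115, 11, 0), (3, 11,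 0), (4, 11, 0), (84, 11, 0), (85, 11, 0), (94, 11, 0), (84, 22, 0), (85, 22, 0), (94, 22, 0), (54, 22, 0), (2, 77, 0), (3, 77, 0), (12, 77, 0), (93, 77, 0), (93, 88, 0), (111, 88, 0), (112, 88, 0), (0, 88, 0), (81, 88, 0), (81, 99, 0), (120, 33, 0), (84, 66, 0), (3, 66, 0), (4, 66, 0), (13, 66, 0), (94, 66, 0), (94, 77, 0), (12, 11, 0), (0, 22, 0), (97, 44, 0), (85, 55, 0), (3, 110, 0), (3, 0, 0), (84, 0, 0), (93, 0, 0), (94, 0, 0)]],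
  [[(0, 27, 0), (0, 28, 0), (0, 37, 0), (0, 118, 0), (1, 118, 0), (52, 1, 0), (98, 109, 0), (27, 37, 0), (73, 24, 0), (3, 28, 0), (4, 28, 0), (4, 109, 0), (4, 118, 0), (4, 119, 0), (9, 0, 0), (105, 36, 0), (35, 40, 0), (36, 40, 0), (36, 0, 0), (36, 9, 0), (36, 10, 0), (81, 27, 0), (82, 27, 0), (82, 108, 0), (82, 117, 0), (82, 118, 0), (12, 31, 0), (12, 112, 0), (12, 0, 0), (12, 1, 0), (13, 112, 0), (13, 0, 0), (13, 1, 0), (13, 81, 0), (13, 82, 0), (13, 91, 0), (108, 67, 0), (108, 27, 0), (108, 36, 0), (108, 37, 0), (109, 27, 0), (109, 36, 0), (109, 37, 0), (109, 117, 0), (109, 118, 0), (109, 6, 0), (39, 31, 0), (39, 40, 0), (39, 41, 0), (39, 0, 0), (39, 1, 0), (39, 10, 0), (40, 0, 0), (40, 1, 0), (40, 10, 0), (40, 91, 0), (85, 18, 0), (85, 27, 0), (85, 28, 0), (85, 108, 0), (85, 109, 0), (85, 118, 0), (86, 108, 0), (86,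 109, 0), (86, 118, 0), (86, 78, 0), (16, 112, 0), (16, 113, 0), (16, 1, 0), (16, 82, 0), (17, 82, 0), (112, 27, 0), (112, 28, 0), (112, 37, 0), (112, 118, 0), (113, 118, 0), (43, 1, 0), (89, 109, 0), (117, 30, 0), (117, 39, 0), (117, 40, 0), (117, 120, 0), (117, 0, 0), (117, 9, 0), (118, 120, 0), (118, 0, 0), (118, 9, 0), (118, 90, 0), (48, 3, 0), (48, 4, 0), (48, 13, 0), (48, 94, 0), (49, 94, 0), (94, 111, 0), (94, 112, 0), (94, 0, 0), (94, 81, 0), (95, 81, 0), (25, 85, 0), (23, 39, 0), (23, 40, 0), (23, 49, 0), (23, 9, 0), (24, 9, 0), (75, 13, 0), (69, 26, 0), (69, 27, 0), (69, 36, 0), (69, 117, 0), (70, 117, 0), (120, 30, 0), (120, 31, 0), (120, 40, 0), (120, 0, 0), (0, 30, 0), (0, 31, 0), (0, 40, 0), (0, 111, 0), (0, 112, 0), (0, 120, 0), (0, 1, 0), (0, 9, 0), (0, 10, 0), (0, 81, 0), (0, 90, 0), (0, 91, 0), (1, 0,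 0), (1, 81, 0), (1, 90, 0), (1, 91, 0), (51, 4, 0), (52, 4, 0), (52, 85, 0), (52, 94, 0), (52, 95, 0), (46, 108, 0), (97, 112, 0), (98, 112, 0), (98, 72, 0), (98, 81, 0), (98, 82, 0), (96, 36, 0), (26, 40, 0), (27, 40, 0), (27, 0, 0), (27, 9, 0), (27, 10, 0), (72, 27, 0), (73, 27, 0), (73, 108, 0), (73, 117, 0), (73, 118, 0), (3, 31, 0), (3, 112, 0), (3, 0, 0), (3, 1, 0), (4, 112, 0), (4, 0, 0), (4, 1, 0), (4, 81, 0), (4, 82, 0), (4, 91, 0), (32, 12, 0), (78, 120, 0), (8, 3, 0), (9, 3, 0), (9, 84, 0), (9, 93, 0), (9, 94, 0), (104, 39, 0), (105, 39, 0), (105, 120, 0), (105, 8, 0), (105, 9, 0), (35, 43, 0), (35, 3, 0), (35, 12, 0), (35, 13, 0), (36, 3, 0), (36, 12, 0), (36, 13, 0), (36, 93, 0), (36, 94, 0), (36, 103, 0), (81, 30, 0), (81, 111, 0), (81, 120, 0), (81, 0, 0), (82, 111, 0), (82, 120, 0), (82, 0, 0), (82, 80,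 0), (82, 81, 0), (82, 90, 0), (12, 115, 0), (12, 3, 0), (12, 4, 0), (12, 84, 0), (12, 85, 0), (12, 94, 0), (13, 84, 0), (13, 85, 0), (13, 94, 0), (13, 54, 0), (108, 30, 0), (108, 39, 0), (108, 40, 0), (108, 120, 0), (108, 0, 0), (108, 9, 0), (109, 120, 0), (109, 0, 0), (109, 9, 0), (109, 90, 0), (39, 3, 0), (39, 4, 0), (39, 13, 0), (39, 94, 0), (40, 94, 0), (85, 111, 0), (85, 112, 0), (85, 0, 0), (85, 81, 0), (86, 81, 0), (16, 85, 0), (112, 0, 0), (117, 2, 0), (117, 3, 0), (117, 12, 0), (117, 93, 0), (118, 93, 0), (48, 97, 0), (94, 84, 0), (23, 12, 0), (69, 120, 0), (120, 3, 0), (0, 3, 0), (0, 84, 0), (0, 93, 0), (0, 94, 0)], [(27, 0, 0), (28, 0, 0), (37, 0, 0), (118, 0, 0), (118, 11, 0), (1, 88, 0), (109, 110, 0), (37, 55, 0), (24, 77, 0), (28, 33, 0), (28, 44, 0), (109, 44, 0), (118, 44, 0), (119, 44, 0), (0, 99, 0),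 (36, 66, 0), (40, 22, 0), (40, 33, 0), (0, 33, 0), (9, 33, 0), (10, 33, 0), (27, 44, 0), (27, 55, 0), (108, 55, 0), (117, 55, 0), (118, 55, 0), (31, 11, 0), (112, 11, 0), (0, 11, 0), (1, 11, 0), (112, 22, 0), (0, 22, 0), (1, 22, 0), (81, 22, 0), (82, 22, 0), (91, 22, 0), (67, 99, 0), (27, 99, 0), (36, 99, 0), (37, 99, 0), (27, 110, 0), (36, 110, 0), (37, 110, 0), (117, 110, 0), (118, 110, 0), (6, 110, 0), (31, 66, 0), (40, 66, 0), (41, 66, 0), (0, 66, 0), (1, 66, 0), (10, 66, 0), (0, 77, 0), (1, 77, 0), (10, 77, 0), (91, 77, 0), (18, 88, 0), (27, 88, 0), (28, 88, 0), (108, 88, 0), (109, 88, 0), (118, 88, 0), (108, 99, 0), (109, 99, 0), (118, 99, 0), (78, 99, 0), (112, 55, 0), (113, 55, 0), (1, 55, 0), (82, 55, 0), (82, 66, 0), (27, 22, 0), (28, 22, 0), (37, 22, 0), (118, 22, 0), (118, 33, 0), (1, 110, 0), (109, 11, 0),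 (30, 77, 0), (39, 77, 0), (40, 77, 0), (120, 77, 0), (0, 77, 0), (9, 77, 0), (120, 88, 0), (0, 88, 0), (9, 88, 0), (90, 88, 0), (3, 44, 0), (4, 44, 0), (13, 44, 0), (94, 44, 0), (94, 55, 0), (111, 66, 0), (112, 66, 0), (0, 66, 0), (81, 66, 0), (81, 77, 0), (85, 33, 0), (39, 11, 0), (40, 11, 0), (49, 11, 0), (9, 11, 0), (9, 22, 0), (13, 99, 0), (26, 33, 0), (27, 33, 0), (36, 33, 0), (117, 33, 0), (117, 44, 0), (30, 110, 0), (31, 110, 0), (40, 110, 0), (0, 110, 0), (30, 0, 0), (31, 0, 0), (40, 0, 0), (111, 0, 0), (112, 0, 0), (120, 0, 0), (1, 0, 0), (9, 0, 0), (10, 0, 0), (81, 0, 0), (90, 0, 0), (91, 0, 0), (0, 11, 0), (81, 11, 0), (90, 11, 0), (91, 11, 0), (4, 77, 0), (4, 88, 0), (85, 88, 0), (94, 88, 0), (95, 88, 0), (108, 22, 0), (112, 99, 0), (112, 110, 0), (72, 110, 0), (81, 110, 0), (82, 110, 0), (36, 88, 0), (40,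 44, 0), (40, 55, 0), (0, 55, 0), (9, 55, 0), (10, 55, 0), (27, 66, 0), (27, 77, 0), (108, 77, 0), (117, 77, 0), (118, 77, 0), (31, 33, 0), (112, 33, 0), (0, 33, 0), (1, 33, 0), (112, 44, 0), (0, 44, 0), (1, 44, 0), (81, 44, 0), (82, 44, 0), (91, 44, 0), (12, 110, 0), (120, 11, 0), (3, 88, 0), (3, 99, 0), (84, 99, 0), (93, 99, 0), (94, 99, 0), (39, 55, 0), (39, 66, 0), (120, 66, 0), (8, 66, 0), (9, 66, 0), (43, 22, 0), (3, 22, 0), (12, 22, 0), (13, 22, 0), (3, 33, 0), (12, 33, 0), (13, 33, 0), (93, 33, 0), (94, 33, 0), (103, 33, 0), (30, 44, 0), (111, 44, 0), (120, 44, 0), (0, 44, 0), (111, 55, 0), (120, 55, 0), (0, 55, 0), (80, 55, 0), (81, 55, 0), (90, 55, 0), (115, 11, 0), (3, 11, 0), (4, 11, 0), (84, 11, 0), (85, 11, 0), (94, 11, 0), (84, 22, 0), (85, 22, 0), (94, 22, 0), (54, 22, 0), (30, 99, 0), (39, 99, 0), (40,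 99, 0), (120, 99, 0), (0, 99, 0), (9, 99, 0), (120, 110, 0), (0, 110, 0), (9, 110, 0), (90, 110, 0), (3, 66, 0), (4, 66, 0), (13, 66, 0), (94, 66, 0), (94, 77, 0), (111, 88, 0), (112, 88, 0), (0, 88, 0), (81, 88, 0), (81, 99, 0), (85, 55, 0), (0, 22, 0), (2, 77, 0), (3, 77, 0), (12, 77, 0), (93, 77, 0), (93, 88, 0), (97, 44, 0), (84, 66, 0), (12, 11, 0), (120, 33, 0), (3, 110, 0), (3, 0, 0), (84, 0, 0), (93, 0, 0), (94, 0, 0)]],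
  [[(0, 27, 0), (0, 28, 0), (0, 37, 0), (0, 118, 0), (1, 118, 0), (63, 111, 0), (7, 90, 0), (3, 28, 0), (68, 7, 0), (9, 0, 0), (10, 0, 0), (10, 81, 0), (10, 90, 0), (10, 91, 0), (81, 27, 0), (21, 65, 0), (83, 58, 0), (84, 58, 0), (84, 18, 0), (84, 27, 0), (84, 28, 0), (27, 37, 0), (28, 37, 0), (28, 118, 0), (28, 6, 0), (28, 7, 0), (90, 30, 0), (90, 111, 0), (90, 120, 0), (90, 0, 0), (91, 111, 0), (91, 120, 0), (91, 0, 0), (91, 80, 0), (91, 81, 0), (91, 90, 0), (30, 68, 0), (30, 28, 0), (30, 37, 0), (30, 38, 0), (31, 28, 0), (31, 37, 0), (31, 38, 0), (31, 118, 0), (31, 119, 0), (31, 7, 0), (93, 21, 0), (93, 30, 0), (93, 31, 0), (93, 111, 0), (93, 112, 0), (93, 0, 0), (94, 111, 0), (94, 112, 0), (94, 0, 0), (94, 81, 0), (37, 0, 0), (37, 9, 0), (37, 10, 0), (37, 90, 0), (37, 91, 0), (37, 100, 0), (38, 90, 0), (38, 91, 0),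 (38, 100, 0), (38, 60, 0), (100, 83, 0), (100, 84, 0), (100, 93, 0), (100, 53, 0), (101, 53, 0), (40, 0, 0), (40, 1, 0), (40, 10, 0), (40, 91, 0), (41, 91, 0), (103, 84, 0), (47, 63, 0), (111, 58, 0), (111, 67, 0), (111, 68, 0), (111, 27, 0), (111, 28, 0), (111, 37, 0), (112, 27, 0), (112, 28, 0), (112, 37, 0), (112, 118, 0), (53, 20, 0), (53, 21, 0), (53, 30, 0), (53, 111, 0), (54, 111, 0), (118, 120, 0), (118, 0, 0), (118, 9, 0), (118, 90, 0), (119, 90, 0), (60, 83, 0), (114, 58, 0), (114, 59, 0), (114, 68, 0), (114, 28, 0), (115, 28, 0), (56, 21, 0), (58, 37, 0), (58, 38, 0), (58, 47, 0), (58, 7, 0), (59, 7, 0), (120, 30, 0), (120, 31, 0), (120, 40, 0), (120, 0, 0), (0, 30, 0), (0, 31, 0), (0, 40, 0), (0, 111, 0), (0, 112, 0), (0, 120, 0), (0, 1, 0), (0, 9, 0), (0, 10, 0), (0, 81, 0), (0, 90, 0), (0, 91, 0), (1, 0,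 0), (1, 81, 0), (1, 90, 0), (1, 91, 0), (62, 114, 0), (63, 114, 0), (63, 74, 0), (63, 83, 0), (63, 84, 0), (65, 100, 0), (6, 93, 0), (7, 93, 0), (7, 53, 0), (7, 62, 0), (7, 63, 0), (61, 38, 0), (2, 31, 0), (3, 31, 0), (3, 112, 0), (3, 0, 0), (3, 1, 0), (67, 10, 0), (68, 10, 0), (68, 91, 0), (68, 100, 0), (68, 101, 0), (9, 3, 0), (9, 84, 0), (9, 93, 0), (9, 94, 0), (10, 84, 0), (10, 93, 0), (10, 94, 0), (10, 53, 0), (10, 54, 0), (10, 63, 0), (74, 58, 0), (18, 37, 0), (80, 30, 0), (81, 30, 0), (81, 111, 0), (81, 120, 0), (81, 0, 0), (20, 68, 0), (21, 68, 0), (21, 28, 0), (21, 37, 0), (21, 38, 0), (83, 61, 0), (83, 21, 0), (83, 30, 0), (83, 31, 0), (84, 21, 0), (84, 30, 0), (84, 31, 0), (84, 111, 0), (84, 112, 0), (84, 0, 0), (27, 40, 0), (27, 0, 0), (27, 9, 0), (27, 10, 0), (28, 0, 0), (28, 9, 0), (28, 10, 0), (28, 90,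 0), (28, 91, 0), (28, 100, 0), (90, 114, 0), (90, 2, 0), (90, 3, 0), (90, 83, 0), (90, 84, 0), (90, 93, 0), (91, 83, 0), (91, 84, 0), (91, 93, 0), (91, 53, 0), (30, 31, 0), (30, 40, 0), (30, 41, 0), (30, 0, 0), (30, 1, 0), (30, 10, 0), (31, 0, 0), (31, 1, 0), (31, 10, 0), (31, 91, 0), (93, 114, 0), (93, 115, 0), (93, 3, 0), (93, 84, 0), (94, 84, 0), (37, 93, 0), (37, 94, 0), (37, 103, 0), (37, 63, 0), (38, 63, 0), (100, 56, 0), (40, 94, 0), (111, 30, 0), (111, 31, 0), (111, 40, 0), (111, 0, 0), (112, 0, 0), (53, 114, 0), (118, 93, 0), (114, 31, 0), (58, 10, 0), (120, 3, 0), (0, 3, 0), (0, 84, 0), (0, 93, 0), (0, 94, 0)], [(27, 0, 0), (28, 0, 0), (37, 0, 0), (118, 0, 0), (118, 11, 0), (111, 88, 0), (90, 77, 0), (28, 33, 0), (7, 22, 0), (0, 99, 0), (0, 110, 0), (81, 110, 0), (90, 110, 0), (91, 110, 0), (27, 44, 0), (65,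 110, 0), (58, 66, 0), (58, 77, 0), (18, 77, 0), (27, 77, 0), (28, 77, 0), (37, 55, 0), (37, 66, 0), (118, 66, 0), (6, 66, 0), (7, 66, 0), (30, 22, 0), (111, 22, 0), (120, 22, 0), (0, 22, 0), (111, 33, 0), (120, 33, 0), (0, 33, 0), (80, 33, 0), (81, 33, 0), (90, 33, 0), (68, 88, 0), (28, 88, 0), (37, 88, 0), (38, 88, 0), (28, 99, 0), (37, 99, 0), (38, 99, 0), (118, 99, 0), (119, 99, 0), (7, 99, 0), (21, 55, 0), (30, 55, 0), (31, 55, 0), (111, 55, 0), (112, 55, 0), (0, 55, 0), (111, 66, 0), (112, 66, 0), (0, 66, 0), (81, 66, 0), (0, 44, 0), (9, 44, 0), (10, 44, 0), (90, 44, 0), (91, 44, 0), (100, 44, 0), (90, 55, 0), (91, 55, 0), (100, 55, 0), (60, 55, 0), (83, 11, 0), (84, 11, 0), (93, 11, 0), (53, 11, 0), (53, 22, 0), (0, 77, 0), (1, 77, 0), (10, 77, 0), (91, 77, 0), (91, 88, 0), (84, 44, 0), (63, 33, 0), (58, 11, 0),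 (67, 11, 0), (68, 11, 0), (27, 11, 0), (28, 11, 0), (37, 11, 0), (27, 22, 0), (28, 22, 0), (37, 22, 0), (118, 22, 0), (20, 99, 0), (21, 99, 0), (30, 99, 0), (111, 99, 0), (111, 110, 0), (120, 88, 0), (0, 88, 0), (9, 88, 0), (90, 88, 0), (90, 99, 0), (83, 55, 0), (58, 44, 0), (59, 44, 0), (68, 44, 0), (28, 44, 0), (28, 55, 0), (21, 11, 0), (37, 33, 0), (38, 33, 0), (47, 33, 0), (7, 33, 0), (7, 44, 0), (30, 110, 0), (31, 110, 0), (40, 110, 0), (0, 110, 0), (30, 0, 0), (31, 0, 0), (40, 0, 0), (111, 0, 0), (112, 0, 0), (120, 0, 0), (1, 0, 0), (9, 0, 0), (10, 0, 0), (81, 0, 0), (90, 0, 0), (91, 0, 0), (0, 11, 0), (81, 11, 0), (90, 11, 0), (91, 11, 0), (114, 77, 0), (114, 88, 0), (74, 88, 0), (83, 88, 0), (84, 88, 0), (100, 110, 0), (93, 66, 0), (93, 77, 0), (53, 77, 0), (62, 77, 0), (63, 77, 0), (38, 66, 0), (31, 22, 0), (31,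 33, 0), (112, 33, 0), (0, 33, 0), (1, 33, 0), (10, 11, 0), (10, 22, 0), (91, 22, 0), (100, 22, 0), (101, 22, 0), (3, 99, 0), (84, 99, 0), (93, 99, 0), (94, 99, 0), (84, 110, 0), (93, 110, 0), (94, 110, 0), (53, 110, 0), (54, 110, 0), (63, 110, 0), (58, 88, 0), (37, 77, 0), (30, 33, 0), (30, 44, 0), (111, 44, 0), (120, 44, 0), (0, 44, 0), (68, 99, 0), (68, 110, 0), (28, 110, 0), (37, 110, 0), (38, 110, 0), (61, 66, 0), (21, 66, 0), (30, 66, 0), (31, 66, 0), (21, 77, 0), (30, 77, 0), (31, 77, 0), (111, 77, 0), (112, 77, 0), (0, 77, 0), (40, 55, 0), (0, 55, 0), (9, 55, 0), (10, 55, 0), (0, 66, 0), (9, 66, 0), (10, 66, 0), (90, 66, 0), (91, 66, 0), (100, 66, 0), (114, 22, 0), (2, 22, 0), (3, 22, 0), (83, 22, 0), (84, 22, 0), (93, 22, 0), (83, 33, 0), (84, 33, 0), (93, 33, 0), (53, 33, 0), (31, 88, 0), (40, 88, 0), (41, 88,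 0), (0, 88, 0), (1, 88, 0), (10, 88, 0), (0, 99, 0), (1, 99, 0), (10, 99, 0), (91, 99, 0), (114, 55, 0), (115, 55, 0), (3, 55, 0), (84, 55, 0), (84, 66, 0), (93, 44, 0), (94, 44, 0), (103, 44, 0), (63, 44, 0), (63, 55, 0), (56, 11, 0), (94, 77, 0), (30, 11, 0), (31, 11, 0), (40, 11, 0), (0, 11, 0), (0, 22, 0), (114, 99, 0), (93, 88, 0), (31, 44, 0), (10, 33, 0), (3, 110, 0), (3, 0, 0), (84, 0, 0), (93, 0, 0), (94, 0, 0)]],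
  [[(9, 0, 0), (10, 0, 0), (37, 0, 0), (40, 0, 0), (116, 0, 0), (116, 0, 0), (116, 0, 0), (116, 0, 0), (116, 0, 0), (116, 0, 0), (71, 0, 0), (74, 0, 0), (101, 0, 0), (102, 0, 0), (116, 0, 0), (116, 0, 0), (116, 0, 0), (71, 0, 0), (74, 0, 0), (101, 0, 0), (102, 0, 0), (116, 0, 0), (71, 0, 0), (74, 0, 0), (101, 0, 0), (102, 0, 0), (71, 0, 0), (74, 0, 0), (101, 0, 0), (102, 0, 0), (29, 0, 0), (56, 0, 0), (57, 0, 0), (59, 0, 0), (60, 0, 0), (87, 0, 0), (71, 0, 0), (74, 0, 0), (101, 0, 0), (102, 0, 0), (29, 0, 0), (56, 0, 0), (57, 0, 0), (59, 0, 0), (60, 0, 0), (87, 0, 0), (29, 0, 0), (56, 0, 0), (57, 0, 0), (59, 0, 0), (60, 0, 0), (87, 0, 0), (14, 0, 0), (15, 0, 0), (42, 0, 0), (45, 0, 0), (29, 0, 0), (56, 0, 0), (57, 0, 0), (59, 0, 0), (60, 0, 0), (87, 0, 0), (14, 0, 0), (15, 0, 0), (42, 0, 0), (45, 0, 0), (14, 0, 0), (15,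 0, 0), (42, 0, 0), (45, 0, 0), (0, 0, 0), (14, 0, 0), (15, 0, 0), (42, 0, 0), (45, 0, 0), (0, 0, 0), (0, 0, 0), (0, 0, 0), (29, 0, 0), (56, 0, 0), (57, 0, 0), (59, 0, 0), (60, 0, 0), (87, 0, 0), (14, 0, 0), (15, 0, 0), (42, 0, 0), (45, 0, 0), (14, 0, 0), (15, 0, 0), (42, 0, 0), (45, 0, 0), (0, 0, 0), (14, 0, 0), (15, 0, 0), (42, 0, 0), (45, 0, 0), (0, 0, 0), (0, 0, 0), (14, 0, 0), (15, 0, 0), (42, 0, 0), (45, 0, 0), (0, 0, 0), (0, 0, 0), (14, 0, 0), (15, 0, 0), (42, 0, 0), (45, 0, 0), (0, 0, 0), (14, 0, 0), (15, 0, 0), (42, 0, 0), (45, 0, 0), (90, 0, 0), (91, 0, 0), (118, 0, 0), (93, 0, 0), (94, 0, 0), (120, 0, 0), (1, 0, 0), (27, 0, 0), (28, 0, 0), (3, 0, 0), (30, 0, 0), (31, 0, 0), (76, 0, 0), (79, 0, 0), (106, 0, 0), (107, 0, 0), (0, 0, 0), (76, 0, 0), (79, 0, 0), (106, 0, 0), (107, 0, 0), (0, 0, 0), (0, 0, 0), (76,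 0, 0), (79, 0, 0), (106, 0, 0), (107, 0, 0), (0, 0, 0), (0, 0, 0), (76, 0, 0), (79, 0, 0), (106, 0, 0), (107, 0, 0), (0, 0, 0), (76, 0, 0), (79, 0, 0), (106, 0, 0), (107, 0, 0), (76, 0, 0), (79, 0, 0), (106, 0, 0), (107, 0, 0), (34, 0, 0), (61, 0, 0), (62, 0, 0), (64, 0, 0), (65, 0, 0), (92, 0, 0), (0, 0, 0), (0, 0, 0), (0, 0, 0), (76, 0, 0), (79, 0, 0), (106, 0, 0), (107, 0, 0), (0, 0, 0), (76, 0, 0), (79, 0, 0), (106, 0, 0), (107, 0, 0), (76, 0, 0), (79, 0, 0), (106, 0, 0), (107, 0, 0), (34, 0, 0), (61, 0, 0), (62, 0, 0), (64, 0, 0), (65, 0, 0), (92, 0, 0), (76, 0, 0), (79, 0, 0), (106, 0, 0), (107, 0, 0), (34, 0, 0), (61, 0, 0), (62, 0, 0), (64, 0, 0), (65, 0, 0), (92, 0, 0), (34, 0, 0), (61, 0, 0), (62, 0, 0), (64, 0, 0), (65, 0, 0), (92, 0, 0), (19, 0, 0), (20, 0, 0), (47, 0, 0), (50, 0, 0), (34, 0, 0), (61, 0, 0),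 (62, 0, 0), (64, 0, 0), (65, 0, 0), (92, 0, 0), (19, 0, 0), (20, 0, 0), (47, 0, 0), (50, 0, 0), (19, 0, 0), (20, 0, 0), (47, 0, 0), (50, 0, 0), (5, 0, 0), (19, 0, 0), (20, 0, 0), (47, 0, 0), (50, 0, 0), (5, 0, 0), (5, 0, 0), (5, 0, 0), (19, 0, 0), (20, 0, 0), (47, 0, 0), (50, 0, 0), (5, 0, 0), (5, 0, 0), (5, 0, 0), (5, 0, 0), (5, 0, 0), (5, 0, 0), (81, 0, 0), (84, 0, 0), (111, 0, 0), (112, 0, 0)], []],
  [[(0, 9, 0), (0, 10, 0), (0, 37, 0), (0, 40, 0), (1, 40, 0), (21, 93, 0), (68, 30, 0), (81, 10, 0), (7, 68, 0), (27, 0, 0), (28, 0, 0), (28, 3, 0), (28, 30, 0), (28, 31, 0), (3, 9, 0), (63, 47, 0), (83, 100, 0), (84, 100, 0), (84, 103, 0), (84, 9, 0), (84, 10, 0), (9, 37, 0), (10, 37, 0), (10, 40, 0), (10, 67, 0), (10, 68, 0), (30, 90, 0), (30, 93, 0), (30, 120, 0), (30, 0, 0), (31, 93, 0), (31, 120, 0), (31, 0, 0), (31,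 2, 0), (31, 3, 0), (31, 30, 0), (90, 7, 0), (90, 10, 0), (90, 37, 0), (90, 38, 0), (91, 10, 0), (91, 37, 0), (91, 38, 0), (91, 40, 0), (91, 41, 0), (91, 68, 0), (111, 63, 0), (111, 90, 0), (111, 91, 0), (111, 93, 0), (111, 94, 0), (111, 0, 0), (112, 93, 0), (112, 94, 0), (112, 0, 0), (112, 3, 0), (37, 0, 0), (37, 27, 0), (37, 28, 0), (37, 30, 0), (37, 31, 0), (37, 58, 0), (38, 30, 0), (38, 31, 0), (38, 58, 0), (38, 61, 0), (58, 83, 0), (58, 84, 0), (58, 111, 0), (58, 114, 0), (59, 114, 0), (118, 0, 0), (118, 1, 0), (118, 28, 0), (118, 31, 0), (119, 31, 0), (18, 84, 0), (65, 21, 0), (93, 100, 0), (93, 6, 0), (93, 7, 0), (93, 9, 0), (93, 10, 0), (93, 37, 0), (94, 9, 0), (94, 10, 0), (94, 37, 0), (94, 40, 0), (114, 62, 0), (114, 63, 0), (114, 90, 0), (114, 93, 0), (115, 93, 0), (40, 120, 0), (40, 0, 0), (40, 27, 0), (40,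 30, 0), (41, 30, 0), (61, 83, 0), (53, 100, 0), (53, 101, 0), (53, 7, 0), (53, 10, 0), (54, 10, 0), (74, 63, 0), (100, 37, 0), (100, 38, 0), (100, 65, 0), (100, 68, 0), (101, 68, 0), (120, 90, 0), (120, 91, 0), (120, 118, 0), (120, 0, 0), (0, 90, 0), (0, 91, 0), (0, 118, 0), (0, 93, 0), (0, 94, 0), (0, 120, 0), (0, 1, 0), (0, 27, 0), (0, 28, 0), (0, 3, 0), (0, 30, 0), (0, 31, 0), (1, 0, 0), (1, 3, 0), (1, 30, 0), (1, 31, 0), (20, 53, 0), (21, 53, 0), (21, 56, 0), (21, 83, 0), (21, 84, 0), (47, 58, 0), (67, 111, 0), (68, 111, 0), (68, 114, 0), (68, 20, 0), (68, 21, 0), (60, 38, 0), (80, 91, 0), (81, 91, 0), (81, 94, 0), (81, 0, 0), (81, 1, 0), (6, 28, 0), (7, 28, 0), (7, 31, 0), (7, 58, 0), (7, 59, 0), (27, 81, 0), (27, 84, 0), (27, 111, 0), (27, 112, 0), (28, 84, 0), (28, 111, 0), (28, 112, 0), (28, 114, 0), (28, 115,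 0), (28, 21, 0), (56, 100, 0), (103, 37, 0), (2, 90, 0), (3, 90, 0), (3, 93, 0), (3, 120, 0), (3, 0, 0), (62, 7, 0), (63, 7, 0), (63, 10, 0), (63, 37, 0), (63, 38, 0), (83, 60, 0), (83, 63, 0), (83, 90, 0), (83, 91, 0), (84, 63, 0), (84, 90, 0), (84, 91, 0), (84, 93, 0), (84, 94, 0), (84, 0, 0), (9, 118, 0), (9, 0, 0), (9, 27, 0), (9, 28, 0), (10, 0, 0), (10, 27, 0), (10, 28, 0), (10, 30, 0), (10, 31, 0), (10, 58, 0), (30, 53, 0), (30, 80, 0), (30, 81, 0), (30, 83, 0), (30, 84, 0), (30, 111, 0), (31, 83, 0), (31, 84, 0), (31, 111, 0), (31, 114, 0), (90, 91, 0), (90, 118, 0), (90, 119, 0), (90, 0, 0), (90, 1, 0), (90, 28, 0), (91, 0, 0), (91, 1, 0), (91, 28, 0), (91, 31, 0), (111, 53, 0), (111, 54, 0), (111, 81, 0), (111, 84, 0), (112, 84, 0), (37, 111, 0), (37, 112, 0), (37, 18, 0), (37, 21, 0), (38, 21, 0), (58, 74,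 0), (118, 112, 0), (93, 90, 0), (93, 91, 0), (93, 118, 0), (93, 0, 0), (94, 0, 0), (114, 53, 0), (40, 111, 0), (53, 91, 0), (100, 28, 0), (120, 81, 0), (0, 81, 0), (0, 84, 0), (0, 111, 0), (0, 112, 0)], [(9, 0, 0), (10, 0, 0), (37, 0, 0), (40, 0, 0), (40, 11, 0), (93, 110, 0), (30, 22, 0), (10, 44, 0), (68, 77, 0), (0, 55, 0), (0, 66, 0), (3, 66, 0), (30, 66, 0), (31, 66, 0), (9, 33, 0), (47, 88, 0), (100, 66, 0), (100, 77, 0), (103, 77, 0), (9, 77, 0), (10, 77, 0), (37, 99, 0), (37, 110, 0), (40, 110, 0), (67, 110, 0), (68, 110, 0), (90, 88, 0), (93, 88, 0), (120, 88, 0), (0, 88, 0), (93, 99, 0), (120, 99, 0), (0, 99, 0), (2, 99, 0), (3, 99, 0), (30, 99, 0), (7, 22, 0), (10, 22, 0), (37, 22, 0), (38, 22, 0), (10, 33, 0), (37, 33, 0), (38, 33, 0), (40, 33, 0), (41, 33, 0), (68, 33, 0), (63, 11, 0), (90, 11, 0), (91, 11,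 0), (93, 11, 0), (94, 11, 0), (0, 11, 0), (93, 22, 0), (94, 22, 0), (0, 22, 0), (3, 22, 0), (0, 44, 0), (27, 44, 0), (28, 44, 0), (30, 44, 0), (31, 44, 0), (58, 44, 0), (30, 55, 0), (31, 55, 0), (58, 55, 0), (61, 55, 0), (83, 33, 0), (84, 33, 0), (111, 33, 0), (114, 33, 0), (114, 44, 0), (0, 88, 0), (1, 88, 0), (28, 88, 0), (31, 88, 0), (31, 99, 0), (84, 77, 0), (21, 110, 0), (100, 55, 0), (6, 55, 0), (7, 55, 0), (9, 55, 0), (10, 55, 0), (37, 55, 0), (9, 66, 0), (10, 66, 0), (37, 66, 0), (40, 66, 0), (62, 44, 0), (63, 44, 0), (90, 44, 0), (93, 44, 0), (93, 55, 0), (120, 77, 0), (0, 77, 0), (27, 77, 0), (30, 77, 0), (30, 88, 0), (83, 66, 0), (100, 99, 0), (101, 99, 0), (7, 99, 0), (10, 99, 0), (10, 110, 0), (63, 88, 0), (37, 11, 0), (38, 11, 0), (65, 11, 0), (68, 11, 0), (68, 22, 0), (90, 110, 0), (91, 110, 0), (118, 110,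 0), (0, 110, 0), (90, 0, 0), (91, 0, 0), (118, 0, 0), (93, 0, 0), (94, 0, 0), (120, 0, 0), (1, 0, 0), (27, 0, 0), (28, 0, 0), (3, 0, 0), (30, 0, 0), (31, 0, 0), (0, 11, 0), (3, 11, 0), (30, 11, 0), (31, 11, 0), (53, 99, 0), (53, 110, 0), (56, 110, 0), (83, 110, 0), (84, 110, 0), (58, 33, 0), (111, 11, 0), (111, 22, 0), (114, 22, 0), (20, 22, 0), (21, 22, 0), (38, 55, 0), (91, 33, 0), (91, 44, 0), (94, 44, 0), (0, 44, 0), (1, 44, 0), (28, 66, 0), (28, 77, 0), (31, 77, 0), (58, 77, 0), (59, 77, 0), (81, 55, 0), (84, 55, 0), (111, 55, 0), (112, 55, 0), (84, 66, 0), (111, 66, 0), (112, 66, 0), (114, 66, 0), (115, 66, 0), (21, 66, 0), (100, 11, 0), (37, 44, 0), (90, 22, 0), (90, 33, 0), (93, 33, 0), (120, 33, 0), (0, 33, 0), (7, 77, 0), (7, 88, 0), (10, 88, 0), (37, 88, 0), (38, 88, 0), (60, 66, 0), (63, 66, 0), (90, 66, 0),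 (91, 66, 0), (63, 77, 0), (90, 77, 0), (91, 77, 0), (93, 77, 0), (94, 77, 0), (0, 77, 0), (118, 99, 0), (0, 99, 0), (27, 99, 0), (28, 99, 0), (0, 110, 0), (27, 110, 0), (28, 110, 0), (30, 110, 0), (31, 110, 0), (58, 110, 0), (53, 88, 0), (80, 88, 0), (81, 88, 0), (83, 88, 0), (84, 88, 0), (111, 88, 0), (83, 99, 0), (84, 99, 0), (111, 99, 0), (114, 99, 0), (91, 22, 0), (118, 22, 0), (119, 22, 0), (0, 22, 0), (1, 22, 0), (28, 22, 0), (0, 33, 0), (1, 33, 0), (28, 33, 0), (31, 33, 0), (53, 11, 0), (54, 11, 0), (81, 11, 0), (84, 11, 0), (84, 22, 0), (111, 44, 0), (112, 44, 0), (18, 44, 0), (21, 44, 0), (21, 55, 0), (74, 33, 0), (112, 88, 0), (90, 55, 0), (91, 55, 0), (118, 55, 0), (0, 55, 0), (0, 66, 0), (53, 44, 0), (111, 77, 0), (91, 99, 0), (28, 11, 0), (81, 110, 0), (81, 0, 0), (84, 0, 0), (111, 0, 0), (112, 0, 0)]],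
  [[(0, 9, 0), (0, 10, 0), (0, 37, 0), (0, 40, 0), (1, 40, 0), (105, 1, 0), (73, 13, 0), (9, 37, 0), (98, 49, 0), (81, 10, 0), (82, 10, 0), (82, 13, 0), (82, 40, 0), (82, 41, 0), (27, 0, 0), (52, 36, 0), (35, 118, 0), (36, 118, 0), (36, 0, 0), (36, 27, 0), (36, 28, 0), (3, 9, 0), (4, 9, 0), (4, 12, 0), (4, 39, 0), (4, 40, 0), (108, 91, 0), (108, 94, 0), (108, 0, 0), (108, 1, 0), (109, 94, 0), (109, 0, 0), (109, 1, 0), (109, 3, 0), (109, 4, 0), (109, 31, 0), (12, 6, 0), (12, 9, 0), (12, 36, 0), (12, 37, 0), (13, 9, 0), (13, 36, 0), (13, 37, 0), (13, 39, 0), (13, 40, 0), (13, 67, 0), (117, 91, 0), (117, 118, 0), (117, 119, 0), (117, 0, 0), (117, 1, 0), (117, 28, 0), (118, 0, 0), (118, 1, 0), (118, 28, 0), (118, 31, 0), (85, 103, 0), (85, 9, 0), (85, 10, 0), (85, 12, 0), (85, 13, 0), (85, 40, 0), (86, 12, 0), (86, 13, 0),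 (86, 40, 0), (86, 43, 0), (69, 94, 0), (69, 95, 0), (69, 1, 0), (69, 4, 0), (70, 4, 0), (94, 9, 0), (94, 10, 0), (94, 37, 0), (94, 40, 0), (95, 40, 0), (78, 1, 0), (46, 13, 0), (39, 90, 0), (39, 117, 0), (39, 118, 0), (39, 120, 0), (39, 0, 0), (39, 27, 0), (40, 120, 0), (40, 0, 0), (40, 27, 0), (40, 30, 0), (23, 81, 0), (23, 82, 0), (23, 109, 0), (23, 112, 0), (24, 112, 0), (112, 93, 0), (112, 94, 0), (112, 0, 0), (112, 3, 0), (113, 3, 0), (96, 85, 0), (48, 117, 0), (48, 118, 0), (48, 24, 0), (48, 27, 0), (49, 27, 0), (32, 109, 0), (16, 8, 0), (16, 9, 0), (16, 36, 0), (16, 39, 0), (17, 39, 0), (120, 90, 0), (120, 91, 0), (120, 118, 0), (120, 0, 0), (0, 90, 0), (0, 91, 0), (0, 118, 0), (0, 93, 0), (0, 94, 0), (0, 120, 0), (0, 1, 0), (0, 27, 0), (0, 28, 0), (0, 3, 0), (0, 30, 0), (0, 31, 0), (1, 0, 0), (1, 3, 0), (1, 30,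 0), (1, 31, 0), (104, 82, 0), (105, 82, 0), (105, 85, 0), (105, 112, 0), (105, 113, 0), (89, 12, 0), (72, 94, 0), (73, 94, 0), (73, 97, 0), (73, 3, 0), (73, 4, 0), (25, 36, 0), (8, 118, 0), (9, 118, 0), (9, 0, 0), (9, 27, 0), (9, 28, 0), (97, 9, 0), (98, 9, 0), (98, 12, 0), (98, 39, 0), (98, 40, 0), (81, 91, 0), (81, 94, 0), (81, 0, 0), (81, 1, 0), (82, 94, 0), (82, 0, 0), (82, 1, 0), (82, 3, 0), (82, 4, 0), (82, 31, 0), (75, 108, 0), (43, 120, 0), (26, 81, 0), (27, 81, 0), (27, 84, 0), (27, 111, 0), (27, 112, 0), (51, 117, 0), (52, 117, 0), (52, 120, 0), (52, 26, 0), (52, 27, 0), (35, 78, 0), (35, 81, 0), (35, 108, 0), (35, 109, 0), (36, 81, 0), (36, 108, 0), (36, 109, 0), (36, 111, 0), (36, 112, 0), (36, 18, 0), (3, 90, 0), (3, 93, 0), (3, 120, 0), (3, 0, 0), (4, 93, 0), (4, 120, 0), (4, 0, 0), (4, 2, 0), (4, 3, 0),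 (4, 30, 0), (108, 54, 0), (108, 81, 0), (108, 82, 0), (108, 84, 0), (108, 85, 0), (108, 112, 0), (109, 84, 0), (109, 85, 0), (109, 112, 0), (109, 115, 0), (12, 90, 0), (12, 117, 0), (12, 118, 0), (12, 120, 0), (12, 0, 0), (12, 27, 0), (13, 120, 0), (13, 0, 0), (13, 27, 0), (13, 30, 0), (117, 81, 0), (117, 82, 0), (117, 109, 0), (117, 112, 0), (118, 112, 0), (85, 93, 0), (85, 94, 0), (85, 0, 0), (85, 3, 0), (86, 3, 0), (69, 85, 0), (94, 0, 0), (39, 80, 0), (39, 81, 0), (39, 108, 0), (39, 111, 0), (40, 111, 0), (23, 72, 0), (112, 84, 0), (48, 108, 0), (16, 120, 0), (120, 81, 0), (0, 81, 0), (0, 84, 0), (0, 111, 0), (0, 112, 0)], [(9, 0, 0), (10, 0, 0), (37, 0, 0), (40, 0, 0), (40, 11, 0), (1, 66, 0), (13, 77, 0), (37, 99, 0), (49, 110, 0), (10, 44, 0), (10, 55, 0), (13, 55, 0), (40, 55, 0), (41, 55, 0), (0, 55, 0), (36,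 88, 0), (118, 22, 0), (118, 33, 0), (0, 33, 0), (27, 33, 0), (28, 33, 0), (9, 33, 0), (9, 44, 0), (12, 44, 0), (39, 44, 0), (40, 44, 0), (91, 99, 0), (94, 99, 0), (0, 99, 0), (1, 99, 0), (94, 110, 0), (0, 110, 0), (1, 110, 0), (3, 110, 0), (4, 110, 0), (31, 110, 0), (6, 11, 0), (9, 11, 0), (36, 11, 0), (37, 11, 0), (9, 22, 0), (36, 22, 0), (37, 22, 0), (39, 22, 0), (40, 22, 0), (67, 22, 0), (91, 77, 0), (118, 77, 0), (119, 77, 0), (0, 77, 0), (1, 77, 0), (28, 77, 0), (0, 88, 0), (1, 88, 0), (28, 88, 0), (31, 88, 0), (103, 88, 0), (9, 88, 0), (10, 88, 0), (12, 88, 0), (13, 88, 0), (40, 88, 0), (12, 99, 0), (13, 99, 0), (40, 99, 0), (43, 99, 0), (94, 33, 0), (95, 33, 0), (1, 33, 0), (4, 33, 0), (4, 44, 0), (9, 66, 0), (10, 66, 0), (37, 66, 0), (40, 66, 0), (40, 77, 0), (1, 11, 0), (13, 22, 0), (90, 66, 0), (117, 66, 0),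 (118, 66, 0), (120, 66, 0), (0, 66, 0), (27, 66, 0), (120, 77, 0), (0, 77, 0), (27, 77, 0), (30, 77, 0), (81, 11, 0), (82, 11, 0), (109, 11, 0), (112, 11, 0), (112, 22, 0), (93, 22, 0), (94, 22, 0), (0, 22, 0), (3, 22, 0), (3, 33, 0), (85, 88, 0), (117, 44, 0), (118, 44, 0), (24, 44, 0), (27, 44, 0), (27, 55, 0), (109, 110, 0), (8, 55, 0), (9, 55, 0), (36, 55, 0), (39, 55, 0), (39, 66, 0), (90, 110, 0), (91, 110, 0), (118, 110, 0), (0, 110, 0), (90, 0, 0), (91, 0, 0), (118, 0, 0), (93, 0, 0), (94, 0, 0), (120, 0, 0), (1, 0, 0), (27, 0, 0), (28, 0, 0), (3, 0, 0), (30, 0, 0), (31, 0, 0), (0, 11, 0), (3, 11, 0), (30, 11, 0), (31, 11, 0), (82, 55, 0), (82, 66, 0), (85, 66, 0), (112, 66, 0), (113, 66, 0), (12, 11, 0), (94, 66, 0), (94, 77, 0), (97, 77, 0), (3, 77, 0), (4, 77, 0), (36, 33, 0), (118, 88, 0), (118, 99, 0), (0,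 99, 0), (27, 99, 0), (28, 99, 0), (9, 99, 0), (9, 110, 0), (12, 110, 0), (39, 110, 0), (40, 110, 0), (91, 44, 0), (94, 44, 0), (0, 44, 0), (1, 44, 0), (94, 55, 0), (0, 55, 0), (1, 55, 0), (3, 55, 0), (4, 55, 0), (31, 55, 0), (108, 99, 0), (120, 110, 0), (81, 44, 0), (81, 55, 0), (84, 55, 0), (111, 55, 0), (112, 55, 0), (117, 77, 0), (117, 88, 0), (120, 88, 0), (26, 88, 0), (27, 88, 0), (78, 22, 0), (81, 22, 0), (108, 22, 0), (109, 22, 0), (81, 33, 0), (108, 33, 0), (109, 33, 0), (111, 33, 0), (112, 33, 0), (18, 33, 0), (90, 33, 0), (93, 33, 0), (120, 33, 0), (0, 33, 0), (93, 44, 0), (120, 44, 0), (0, 44, 0), (2, 44, 0), (3, 44, 0), (30, 44, 0), (54, 99, 0), (81, 99, 0), (82, 99, 0), (84, 99, 0), (85, 99, 0), (112, 99, 0), (84, 110, 0), (85, 110, 0), (112, 110, 0), (115, 110, 0), (90, 11, 0), (117, 11, 0), (118, 11, 0),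 (120, 11, 0), (0, 11, 0), (27, 11, 0), (120, 22, 0), (0, 22, 0), (27, 22, 0), (30, 22, 0), (81, 77, 0), (82, 77, 0), (109, 77, 0), (112, 77, 0), (112, 88, 0), (93, 88, 0), (94, 88, 0), (0, 88, 0), (3, 88, 0), (3, 99, 0), (85, 33, 0), (0, 66, 0), (80, 66, 0), (81, 66, 0), (108, 66, 0), (111, 66, 0), (111, 77, 0), (72, 11, 0), (84, 22, 0), (108, 44, 0), (120, 55, 0), (81, 110, 0), (81, 0, 0), (84, 0, 0), (111, 0, 0), (112, 0, 0)]],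
  [[(0, 9, 0), (0, 10, 0), (0, 37, 0), (0, 40, 0), (1, 40, 0), (52, 36, 0), (98, 49, 0), (27, 0, 0), (73, 13, 0), (3, 9, 0), (4, 9, 0), (4, 12, 0), (4, 39, 0), (4, 40, 0), (9, 37, 0), (105, 1, 0), (35, 118, 0), (36, 118, 0), (36, 0, 0), (36, 27, 0), (36, 28, 0), (81, 10, 0), (82, 10, 0), (82, 13, 0), (82, 40, 0), (82, 41, 0), (12, 6, 0), (12, 9, 0), (12, 36, 0), (12, 37, 0), (13, 9, 0), (13, 36, 0), (13, 37, 0), (13, 39, 0), (13, 40, 0), (13, 67, 0), (108, 91, 0), (108, 94, 0), (108, 0, 0), (108, 1, 0), (109, 94, 0), (109, 0, 0), (109, 1, 0), (109, 3, 0), (109, 4, 0), (109, 31, 0), (39, 90, 0), (39, 117, 0), (39, 118, 0), (39, 120, 0), (39, 0, 0), (39, 27, 0), (40, 120, 0), (40, 0, 0), (40, 27, 0), (40, 30, 0), (85, 103, 0), (85, 9, 0), (85, 10, 0), (85, 12, 0), (85, 13, 0), (85, 40, 0), (86, 12, 0), (86, 13, 0), (86,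 40, 0), (86, 43, 0), (16, 8, 0), (16, 9, 0), (16, 36, 0), (16, 39, 0), (17, 39, 0), (112, 93, 0), (112, 94, 0), (112, 0, 0), (112, 3, 0), (113, 3, 0), (43, 120, 0), (89, 12, 0), (117, 91, 0), (117, 118, 0), (117, 119, 0), (117, 0, 0), (117, 1, 0), (117, 28, 0), (118, 0, 0), (118, 1, 0), (118, 28, 0), (118, 31, 0), (48, 117, 0), (48, 118, 0), (48, 24, 0), (48, 27, 0), (49, 27, 0), (94, 9, 0), (94, 10, 0), (94, 37, 0), (94, 40, 0), (95, 40, 0), (25, 36, 0), (23, 81, 0), (23, 82, 0), (23, 109, 0), (23, 112, 0), (24, 112, 0), (75, 108, 0), (69, 94, 0), (69, 95, 0), (69, 1, 0), (69, 4, 0), (70, 4, 0), (120, 90, 0), (120, 91, 0), (120, 118, 0), (120, 0, 0), (0, 90, 0), (0, 91, 0), (0, 118, 0), (0, 93, 0), (0, 94, 0), (0, 120, 0), (0, 1, 0), (0, 27, 0), (0, 28, 0), (0, 3, 0), (0, 30, 0), (0, 31, 0), (1, 0, 0), (1, 3, 0), (1,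 30, 0), (1, 31, 0), (51, 117, 0), (52, 117, 0), (52, 120, 0), (52, 26, 0), (52, 27, 0), (46, 13, 0), (97, 9, 0), (98, 9, 0), (98, 12, 0), (98, 39, 0), (98, 40, 0), (96, 85, 0), (26, 81, 0), (27, 81, 0), (27, 84, 0), (27, 111, 0), (27, 112, 0), (72, 94, 0), (73, 94, 0), (73, 97, 0), (73, 3, 0), (73, 4, 0), (3, 90, 0), (3, 93, 0), (3, 120, 0), (3, 0, 0), (4, 93, 0), (4, 120, 0), (4, 0, 0), (4, 2, 0), (4, 3, 0), (4, 30, 0), (32, 109, 0), (78, 1, 0), (8, 118, 0), (9, 118, 0), (9, 0, 0), (9, 27, 0), (9, 28, 0), (104, 82, 0), (105, 82, 0), (105, 85, 0), (105, 112, 0), (105, 113, 0), (35, 78, 0), (35, 81, 0), (35, 108, 0), (35, 109, 0), (36, 81, 0), (36, 108, 0), (36, 109, 0), (36, 111, 0), (36, 112, 0), (36, 18, 0), (81, 91, 0), (81, 94, 0), (81, 0, 0), (81, 1, 0), (82, 94, 0), (82, 0, 0), (82, 1, 0), (82, 3, 0), (82, 4, 0),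 (82, 31, 0), (12, 90, 0), (12, 117, 0), (12, 118, 0), (12, 120, 0), (12, 0, 0), (12, 27, 0), (13, 120, 0), (13, 0, 0), (13, 27, 0), (13, 30, 0), (108, 54, 0), (108, 81, 0), (108, 82, 0), (108, 84, 0), (108, 85, 0), (108, 112, 0), (109, 84, 0), (109, 85, 0), (109, 112, 0), (109, 115, 0), (39, 80, 0), (39, 81, 0), (39, 108, 0), (39, 111, 0), (40, 111, 0), (85, 93, 0), (85, 94, 0), (85, 0, 0), (85, 3, 0), (86, 3, 0), (16, 120, 0), (112, 84, 0), (117, 81, 0), (117, 82, 0), (117, 109, 0), (117, 112, 0), (118, 112, 0), (48, 108, 0), (94, 0, 0), (23, 72, 0), (69, 85, 0), (120, 81, 0), (0, 81, 0), (0, 84, 0), (0, 111, 0), (0, 112, 0)], [(9, 0, 0), (10, 0, 0), (37, 0, 0), (40, 0, 0), (40, 11, 0), (36, 88, 0), (49, 110, 0), (0, 55, 0), (13, 77, 0), (9, 33, 0), (9, 44, 0), (12, 44, 0), (39, 44, 0), (40, 44, 0), (37, 99, 0), (1,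 66, 0), (118, 22, 0), (118, 33, 0), (0, 33, 0), (27, 33, 0), (28, 33, 0), (10, 44, 0), (10, 55, 0), (13, 55, 0), (40, 55, 0), (41, 55, 0), (6, 11, 0), (9, 11, 0), (36, 11, 0), (37, 11, 0), (9, 22, 0), (36, 22, 0), (37, 22, 0), (39, 22, 0), (40, 22, 0), (67, 22, 0), (91, 99, 0), (94, 99, 0), (0, 99, 0), (1, 99, 0), (94, 110, 0), (0, 110, 0), (1, 110, 0), (3, 110, 0), (4, 110, 0), (31, 110, 0), (90, 66, 0), (117, 66, 0), (118, 66, 0), (120, 66, 0), (0, 66, 0), (27, 66, 0), (120, 77, 0), (0, 77, 0), (27, 77, 0), (30, 77, 0), (103, 88, 0), (9, 88, 0), (10, 88, 0), (12, 88, 0), (13, 88, 0), (40, 88, 0), (12, 99, 0), (13, 99, 0), (40, 99, 0), (43, 99, 0), (8, 55, 0), (9, 55, 0), (36, 55, 0), (39, 55, 0), (39, 66, 0), (93, 22, 0), (94, 22, 0), (0, 22, 0), (3, 22, 0), (3, 33, 0), (120, 110, 0), (12, 11, 0), (91, 77, 0), (118,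 77, 0), (119, 77, 0), (0, 77, 0), (1, 77, 0), (28, 77, 0), (0, 88, 0), (1, 88, 0), (28, 88, 0), (31, 88, 0), (117, 44, 0), (118, 44, 0), (24, 44, 0), (27, 44, 0), (27, 55, 0), (9, 66, 0), (10, 66, 0), (37, 66, 0), (40, 66, 0), (40, 77, 0), (36, 33, 0), (81, 11, 0), (82, 11, 0), (109, 11, 0), (112, 11, 0), (112, 22, 0), (108, 99, 0), (94, 33, 0), (95, 33, 0), (1, 33, 0), (4, 33, 0), (4, 44, 0), (90, 110, 0), (91, 110, 0), (118, 110, 0), (0, 110, 0), (90, 0, 0), (91, 0, 0), (118, 0, 0), (93, 0, 0), (94, 0, 0), (120, 0, 0), (1, 0, 0), (27, 0, 0), (28, 0, 0), (3, 0, 0), (30, 0, 0), (31, 0, 0), (0, 11, 0), (3, 11, 0), (30, 11, 0), (31, 11, 0), (117, 77, 0), (117, 88, 0), (120, 88, 0), (26, 88, 0), (27, 88, 0), (13, 22, 0), (9, 99, 0), (9, 110, 0), (12, 110, 0), (39, 110, 0), (40, 110, 0), (85, 88, 0), (81, 44, 0), (81, 55,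 0), (84, 55, 0), (111, 55, 0), (112, 55, 0), (94, 66, 0), (94, 77, 0), (97, 77, 0), (3, 77, 0), (4, 77, 0), (90, 33, 0), (93, 33, 0), (120, 33, 0), (0, 33, 0), (93, 44, 0), (120, 44, 0), (0, 44, 0), (2, 44, 0), (3, 44, 0), (30, 44, 0), (109, 110, 0), (1, 11, 0), (118, 88, 0), (118, 99, 0), (0, 99, 0), (27, 99, 0), (28, 99, 0), (82, 55, 0), (82, 66, 0), (85, 66, 0), (112, 66, 0), (113, 66, 0), (78, 22, 0), (81, 22, 0), (108, 22, 0), (109, 22, 0), (81, 33, 0), (108, 33, 0), (109, 33, 0), (111, 33, 0), (112, 33, 0), (18, 33, 0), (91, 44, 0), (94, 44, 0), (0, 44, 0), (1, 44, 0), (94, 55, 0), (0, 55, 0), (1, 55, 0), (3, 55, 0), (4, 55, 0), (31, 55, 0), (90, 11, 0), (117, 11, 0), (118, 11, 0), (120, 11, 0), (0, 11, 0), (27, 11, 0), (120, 22, 0), (0, 22, 0), (27, 22, 0), (30, 22, 0), (54, 99, 0), (81, 99, 0), (82, 99, 0), (84,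 99, 0), (85, 99, 0), (112, 99, 0), (84, 110, 0), (85, 110, 0), (112, 110, 0), (115, 110, 0), (80, 66, 0), (81, 66, 0), (108, 66, 0), (111, 66, 0), (111, 77, 0), (93, 88, 0), (94, 88, 0), (0, 88, 0), (3, 88, 0), (3, 99, 0), (120, 55, 0), (84, 22, 0), (81, 77, 0), (82, 77, 0), (109, 77, 0), (112, 77, 0), (112, 88, 0), (108, 44, 0), (0, 66, 0), (72, 11, 0), (85, 33, 0), (81, 110, 0), (81, 0, 0), (84, 0, 0), (111, 0, 0), (112, 0, 0)]],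
  [[(0, 9, 0), (0, 10, 0), (0, 37, 0), (0, 40, 0), (1, 40, 0), (63, 47, 0), (7, 68, 0), (3, 9, 0), (68, 30, 0), (9, 37, 0), (10, 37, 0), (10, 40, 0), (10, 67, 0), (10, 68, 0), (81, 10, 0), (21, 93, 0), (83, 100, 0), (84, 100, 0), (84, 103, 0), (84, 9, 0), (84, 10, 0), (27, 0, 0), (28, 0, 0), (28, 3, 0), (28, 30, 0), (28, 31, 0), (90, 7, 0), (90, 10, 0), (90, 37, 0), (90, 38, 0), (91, 10, 0), (91, 37, 0), (91, 38, 0), (91, 40, 0), (91, 41, 0), (91, 68, 0), (30, 90, 0), (30, 93, 0), (30, 120, 0), (30, 0, 0), (31, 93, 0), (31, 120, 0), (31, 0, 0), (31, 2, 0), (31, 3, 0), (31, 30, 0), (93, 100, 0), (93, 6, 0), (93, 7, 0), (93, 9, 0), (93, 10, 0), (93, 37, 0), (94, 9, 0), (94, 10, 0), (94, 37, 0), (94, 40, 0), (37, 0, 0), (37, 27, 0), (37, 28, 0), (37, 30, 0), (37, 31, 0), (37, 58, 0), (38, 30, 0), (38, 31, 0), (38, 58, 0),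 (38, 61, 0), (100, 37, 0), (100, 38, 0), (100, 65, 0), (100, 68, 0), (101, 68, 0), (40, 120, 0), (40, 0, 0), (40, 27, 0), (40, 30, 0), (41, 30, 0), (103, 37, 0), (47, 58, 0), (111, 63, 0), (111, 90, 0), (111, 91, 0), (111, 93, 0), (111, 94, 0), (111, 0, 0), (112, 93, 0), (112, 94, 0), (112, 0, 0), (112, 3, 0), (53, 100, 0), (53, 101, 0), (53, 7, 0), (53, 10, 0), (54, 10, 0), (118, 0, 0), (118, 1, 0), (118, 28, 0), (118, 31, 0), (119, 31, 0), (60, 38, 0), (114, 62, 0), (114, 63, 0), (114, 90, 0), (114, 93, 0), (115, 93, 0), (56, 100, 0), (58, 83, 0), (58, 84, 0), (58, 111, 0), (58, 114, 0), (59, 114, 0), (120, 90, 0), (120, 91, 0), (120, 118, 0), (120, 0, 0), (0, 90, 0), (0, 91, 0), (0, 118, 0), (0, 93, 0), (0, 94, 0), (0, 120, 0), (0, 1, 0), (0, 27, 0), (0, 28, 0), (0, 3, 0), (0, 30, 0), (0, 31, 0), (1, 0, 0), (1, 3,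 0), (1, 30, 0), (1, 31, 0), (62, 7, 0), (63, 7, 0), (63, 10, 0), (63, 37, 0), (63, 38, 0), (65, 21, 0), (6, 28, 0), (7, 28, 0), (7, 31, 0), (7, 58, 0), (7, 59, 0), (61, 83, 0), (2, 90, 0), (3, 90, 0), (3, 93, 0), (3, 120, 0), (3, 0, 0), (67, 111, 0), (68, 111, 0), (68, 114, 0), (68, 20, 0), (68, 21, 0), (9, 118, 0), (9, 0, 0), (9, 27, 0), (9, 28, 0), (10, 0, 0), (10, 27, 0), (10, 28, 0), (10, 30, 0), (10, 31, 0), (10, 58, 0), (74, 63, 0), (18, 84, 0), (80, 91, 0), (81, 91, 0), (81, 94, 0), (81, 0, 0), (81, 1, 0), (20, 53, 0), (21, 53, 0), (21, 56, 0), (21, 83, 0), (21, 84, 0), (83, 60, 0), (83, 63, 0), (83, 90, 0), (83, 91, 0), (84, 63, 0), (84, 90, 0), (84, 91, 0), (84, 93, 0), (84, 94, 0), (84, 0, 0), (27, 81, 0), (27, 84, 0), (27, 111, 0), (27, 112, 0), (28, 84, 0), (28, 111, 0), (28, 112, 0), (28, 114, 0), (28, 115,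 0), (28, 21, 0), (90, 91, 0), (90, 118, 0), (90, 119, 0), (90, 0, 0), (90, 1, 0), (90, 28, 0), (91, 0, 0), (91, 1, 0), (91, 28, 0), (91, 31, 0), (30, 53, 0), (30, 80, 0), (30, 81, 0), (30, 83, 0), (30, 84, 0), (30, 111, 0), (31, 83, 0), (31, 84, 0), (31, 111, 0), (31, 114, 0), (93, 90, 0), (93, 91, 0), (93, 118, 0), (93, 0, 0), (94, 0, 0), (37, 111, 0), (37, 112, 0), (37, 18, 0), (37, 21, 0), (38, 21, 0), (100, 28, 0), (40, 111, 0), (111, 53, 0), (111, 54, 0), (111, 81, 0), (111, 84, 0), (112, 84, 0), (53, 91, 0), (118, 112, 0), (114, 53, 0), (58, 74, 0), (120, 81, 0), (0, 81, 0), (0, 84, 0), (0, 111, 0), (0, 112, 0)], [(9, 0, 0), (10, 0, 0), (37, 0, 0), (40, 0, 0), (40, 11, 0), (47, 88, 0), (68, 77, 0), (9, 33, 0), (30, 22, 0), (37, 99, 0), (37, 110, 0), (40, 110, 0), (67, 110, 0), (68, 110, 0), (10, 44, 0), (93, 110,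 0), (100, 66, 0), (100, 77, 0), (103, 77, 0), (9, 77, 0), (10, 77, 0), (0, 55, 0), (0, 66, 0), (3, 66, 0), (30, 66, 0), (31, 66, 0), (7, 22, 0), (10, 22, 0), (37, 22, 0), (38, 22, 0), (10, 33, 0), (37, 33, 0), (38, 33, 0), (40, 33, 0), (41, 33, 0), (68, 33, 0), (90, 88, 0), (93, 88, 0), (120, 88, 0), (0, 88, 0), (93, 99, 0), (120, 99, 0), (0, 99, 0), (2, 99, 0), (3, 99, 0), (30, 99, 0), (100, 55, 0), (6, 55, 0), (7, 55, 0), (9, 55, 0), (10, 55, 0), (37, 55, 0), (9, 66, 0), (10, 66, 0), (37, 66, 0), (40, 66, 0), (0, 44, 0), (27, 44, 0), (28, 44, 0), (30, 44, 0), (31, 44, 0), (58, 44, 0), (30, 55, 0), (31, 55, 0), (58, 55, 0), (61, 55, 0), (37, 11, 0), (38, 11, 0), (65, 11, 0), (68, 11, 0), (68, 22, 0), (120, 77, 0), (0, 77, 0), (27, 77, 0), (30, 77, 0), (30, 88, 0), (37, 44, 0), (58, 33, 0), (63, 11, 0), (90, 11, 0), (91,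 11, 0), (93, 11, 0), (94, 11, 0), (0, 11, 0), (93, 22, 0), (94, 22, 0), (0, 22, 0), (3, 22, 0), (100, 99, 0), (101, 99, 0), (7, 99, 0), (10, 99, 0), (10, 110, 0), (0, 88, 0), (1, 88, 0), (28, 88, 0), (31, 88, 0), (31, 99, 0), (38, 55, 0), (62, 44, 0), (63, 44, 0), (90, 44, 0), (93, 44, 0), (93, 55, 0), (100, 11, 0), (83, 33, 0), (84, 33, 0), (111, 33, 0), (114, 33, 0), (114, 44, 0), (90, 110, 0), (91, 110, 0), (118, 110, 0), (0, 110, 0), (90, 0, 0), (91, 0, 0), (118, 0, 0), (93, 0, 0), (94, 0, 0), (120, 0, 0), (1, 0, 0), (27, 0, 0), (28, 0, 0), (3, 0, 0), (30, 0, 0), (31, 0, 0), (0, 11, 0), (3, 11, 0), (30, 11, 0), (31, 11, 0), (7, 77, 0), (7, 88, 0), (10, 88, 0), (37, 88, 0), (38, 88, 0), (21, 110, 0), (28, 66, 0), (28, 77, 0), (31, 77, 0), (58, 77, 0), (59, 77, 0), (83, 66, 0), (90, 22, 0), (90, 33, 0), (93, 33, 0),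 (120, 33, 0), (0, 33, 0), (111, 11, 0), (111, 22, 0), (114, 22, 0), (20, 22, 0), (21, 22, 0), (118, 99, 0), (0, 99, 0), (27, 99, 0), (28, 99, 0), (0, 110, 0), (27, 110, 0), (28, 110, 0), (30, 110, 0), (31, 110, 0), (58, 110, 0), (63, 88, 0), (84, 77, 0), (91, 33, 0), (91, 44, 0), (94, 44, 0), (0, 44, 0), (1, 44, 0), (53, 99, 0), (53, 110, 0), (56, 110, 0), (83, 110, 0), (84, 110, 0), (60, 66, 0), (63, 66, 0), (90, 66, 0), (91, 66, 0), (63, 77, 0), (90, 77, 0), (91, 77, 0), (93, 77, 0), (94, 77, 0), (0, 77, 0), (81, 55, 0), (84, 55, 0), (111, 55, 0), (112, 55, 0), (84, 66, 0), (111, 66, 0), (112, 66, 0), (114, 66, 0), (115, 66, 0), (21, 66, 0), (91, 22, 0), (118, 22, 0), (119, 22, 0), (0, 22, 0), (1, 22, 0), (28, 22, 0), (0, 33, 0), (1, 33, 0), (28, 33, 0), (31, 33, 0), (53, 88, 0), (80, 88, 0), (81, 88, 0), (83, 88, 0),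 (84, 88, 0), (111, 88, 0), (83, 99, 0), (84, 99, 0), (111, 99, 0), (114, 99, 0), (90, 55, 0), (91, 55, 0), (118, 55, 0), (0, 55, 0), (0, 66, 0), (111, 44, 0), (112, 44, 0), (18, 44, 0), (21, 44, 0), (21, 55, 0), (28, 11, 0), (111, 77, 0), (53, 11, 0), (54, 11, 0), (81, 11, 0), (84, 11, 0), (84, 22, 0), (91, 99, 0), (112, 88, 0), (53, 44, 0), (74, 33, 0), (81, 110, 0), (81, 0, 0), (84, 0, 0), (111, 0, 0), (112, 0, 0)]],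
  [[(81, 0, 0), (82, 0, 0), (85, 0, 0), (94, 0, 0), (20, 0, 0), (20, 0, 0), (20, 0, 0), (20, 0, 0), (20, 0, 0), (20, 0, 0), (67, 0, 0), (76, 0, 0), (79, 0, 0), (80, 0, 0), (20, 0, 0), (20, 0, 0), (20, 0, 0), (67, 0, 0), (76, 0, 0), (79, 0, 0), (80, 0, 0), (20, 0, 0), (67, 0, 0), (76, 0, 0), (79, 0, 0), (80, 0, 0), (67, 0, 0), (76, 0, 0), (79, 0, 0), (80, 0, 0), (2, 0, 0), (5, 0, 0), (6, 0, 0), (14, 0, 0), (15, 0, 0), (18, 0, 0), (67, 0, 0), (76, 0, 0), (79, 0, 0), (80, 0, 0), (2, 0, 0), (5, 0, 0), (6, 0, 0), (14, 0, 0), (15, 0, 0), (18, 0, 0), (2, 0, 0), (5, 0, 0), (6, 0, 0), (14, 0, 0), (15, 0, 0), (18, 0, 0), (61, 0, 0), (62, 0, 0), (65, 0, 0), (74, 0, 0), (2, 0, 0), (5, 0, 0), (6, 0, 0), (14, 0, 0), (15, 0, 0), (18, 0, 0), (61, 0, 0), (62, 0, 0), (65, 0, 0), (74, 0, 0), (61, 0, 0), (62, 0, 0), (65, 0, 0), (74, 0, 0),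 (0, 0, 0), (61, 0, 0), (62, 0, 0), (65, 0, 0), (74, 0, 0), (0, 0, 0), (0, 0, 0), (0, 0, 0), (2, 0, 0), (5, 0, 0), (6, 0, 0), (14, 0, 0), (15, 0, 0), (18, 0, 0), (61, 0, 0), (62, 0, 0), (65, 0, 0), (74, 0, 0), (61, 0, 0), (62, 0, 0), (65, 0, 0), (74, 0, 0), (0, 0, 0), (61, 0, 0), (62, 0, 0), (65, 0, 0), (74, 0, 0), (0, 0, 0), (0, 0, 0), (61, 0, 0), (62, 0, 0), (65, 0, 0), (74, 0, 0), (0, 0, 0), (0, 0, 0), (61, 0, 0), (62, 0, 0), (65, 0, 0), (74, 0, 0), (0, 0, 0), (61, 0, 0), (62, 0, 0), (65, 0, 0), (74, 0, 0), (108, 0, 0), (109, 0, 0), (112, 0, 0), (117, 0, 0), (118, 0, 0), (120, 0, 0), (1, 0, 0), (3, 0, 0), (4, 0, 0), (9, 0, 0), (12, 0, 0), (13, 0, 0), (47, 0, 0), (56, 0, 0), (59, 0, 0), (60, 0, 0), (0, 0, 0), (47, 0, 0), (56, 0, 0), (59, 0, 0), (60, 0, 0), (0, 0, 0), (0, 0, 0), (47, 0, 0), (56, 0, 0), (59, 0, 0), (60,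 0, 0), (0, 0, 0), (0, 0, 0), (47, 0, 0), (56, 0, 0), (59, 0, 0), (60, 0, 0), (0, 0, 0), (47, 0, 0), (56, 0, 0), (59, 0, 0), (60, 0, 0), (47, 0, 0), (56, 0, 0), (59, 0, 0), (60, 0, 0), (103, 0, 0), (106, 0, 0), (107, 0, 0), (115, 0, 0), (116, 0, 0), (119, 0, 0), (0, 0, 0), (0, 0, 0), (0, 0, 0), (47, 0, 0), (56, 0, 0), (59, 0, 0), (60, 0, 0), (0, 0, 0), (47, 0, 0), (56, 0, 0), (59, 0, 0), (60, 0, 0), (47, 0, 0), (56, 0, 0), (59, 0, 0), (60, 0, 0), (103, 0, 0), (106, 0, 0), (107, 0, 0), (115, 0, 0), (116, 0, 0), (119, 0, 0), (47, 0, 0), (56, 0, 0), (59, 0, 0), (60, 0, 0), (103, 0, 0), (106, 0, 0), (107, 0, 0), (115, 0, 0), (116, 0, 0), (119, 0, 0), (103, 0, 0), (106, 0, 0), (107, 0, 0), (115, 0, 0), (116, 0, 0), (119, 0, 0), (41, 0, 0), (42, 0, 0), (45, 0, 0), (54, 0, 0), (103, 0, 0), (106, 0, 0), (107, 0, 0), (115, 0, 0),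 (116, 0, 0), (119, 0, 0), (41, 0, 0), (42, 0, 0), (45, 0, 0), (54, 0, 0), (41, 0, 0), (42, 0, 0), (45, 0, 0), (54, 0, 0), (101, 0, 0), (41, 0, 0), (42, 0, 0), (45, 0, 0), (54, 0, 0), (101, 0, 0), (101, 0, 0), (101, 0, 0), (41, 0, 0), (42, 0, 0), (45, 0, 0), (54, 0, 0), (101, 0, 0), (101, 0, 0), (101, 0, 0), (101, 0, 0), (101, 0, 0), (101, 0, 0), (27, 0, 0), (36, 0, 0), (39, 0, 0), (40, 0, 0)], []],
  [[(0, 81, 0), (0, 82, 0), (0, 85, 0), (0, 94, 0), (1, 94, 0), (21, 1, 0), (68, 91, 0), (81, 85, 0), (7, 54, 0), (27, 82, 0), (28, 82, 0), (28, 91, 0), (28, 94, 0), (28, 95, 0), (3, 0, 0), (63, 84, 0), (83, 112, 0), (84, 112, 0), (84, 0, 0), (84, 3, 0), (84, 4, 0), (9, 81, 0), (10, 81, 0), (10, 90, 0), (10, 93, 0), (10, 94, 0), (30, 109, 0), (30, 118, 0), (30, 0, 0), (30, 1, 0), (31, 118, 0), (31, 0, 0), (31, 1, 0), (31, 9,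 0), (31, 10, 0), (31, 13, 0), (90, 72, 0), (90, 81, 0), (90, 84, 0), (90, 85, 0), (91, 81, 0), (91, 84, 0), (91, 85, 0), (91, 93, 0), (91, 94, 0), (91, 97, 0), (111, 109, 0), (111, 112, 0), (111, 113, 0), (111, 0, 0), (111, 1, 0), (111, 4, 0), (112, 0, 0), (112, 1, 0), (112, 4, 0), (112, 13, 0), (37, 78, 0), (37, 81, 0), (37, 82, 0), (37, 90, 0), (37, 91, 0), (37, 94, 0), (38, 90, 0), (38, 91, 0), (38, 94, 0), (38, 103, 0), (58, 118, 0), (58, 119, 0), (58, 1, 0), (58, 10, 0), (59, 10, 0), (118, 81, 0), (118, 82, 0), (118, 85, 0), (118, 94, 0), (119, 94, 0), (18, 1, 0), (65, 91, 0), (93, 108, 0), (93, 111, 0), (93, 112, 0), (93, 120, 0), (93, 0, 0), (93, 3, 0), (94, 120, 0), (94, 0, 0), (94, 3, 0), (94, 12, 0), (114, 27, 0), (114, 28, 0), (114, 31, 0), (114, 40, 0), (115, 40, 0), (40, 117, 0), (40, 118, 0), (40, 0, 0),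 (40, 9, 0), (41, 9, 0), (61, 37, 0), (53, 111, 0), (53, 112, 0), (53, 115, 0), (53, 3, 0), (54, 3, 0), (74, 31, 0), (100, 80, 0), (100, 81, 0), (100, 84, 0), (100, 93, 0), (101, 93, 0), (120, 108, 0), (120, 109, 0), (120, 112, 0), (120, 0, 0), (0, 108, 0), (0, 109, 0), (0, 112, 0), (0, 117, 0), (0, 118, 0), (0, 120, 0), (0, 1, 0), (0, 3, 0), (0, 4, 0), (0, 9, 0), (0, 12, 0), (0, 13, 0), (1, 0, 0), (1, 9, 0), (1, 12, 0), (1, 13, 0), (20, 28, 0), (21, 28, 0), (21, 37, 0), (21, 40, 0), (21, 41, 0), (47, 90, 0), (67, 118, 0), (68, 118, 0), (68, 6, 0), (68, 9, 0), (68, 10, 0), (60, 84, 0), (80, 112, 0), (81, 112, 0), (81, 0, 0), (81, 3, 0), (81, 4, 0), (6, 81, 0), (7, 81, 0), (7, 90, 0), (7, 93, 0), (7, 94, 0), (27, 109, 0), (27, 118, 0), (27, 0, 0), (27, 1, 0), (28, 118, 0), (28, 0, 0), (28, 1, 0), (28, 9, 0), (28, 10, 0),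 (28, 13, 0), (56, 30, 0), (103, 120, 0), (2, 27, 0), (3, 27, 0), (3, 36, 0), (3, 39, 0), (3, 40, 0), (62, 111, 0), (63, 111, 0), (63, 120, 0), (63, 2, 0), (63, 3, 0), (83, 18, 0), (83, 27, 0), (83, 30, 0), (83, 31, 0), (84, 27, 0), (84, 30, 0), (84, 31, 0), (84, 39, 0), (84, 40, 0), (84, 43, 0), (9, 108, 0), (9, 117, 0), (9, 120, 0), (9, 0, 0), (10, 117, 0), (10, 120, 0), (10, 0, 0), (10, 8, 0), (10, 9, 0), (10, 12, 0), (30, 24, 0), (30, 27, 0), (30, 28, 0), (30, 36, 0), (30, 37, 0), (30, 40, 0), (31, 36, 0), (31, 37, 0), (31, 40, 0), (31, 49, 0), (90, 108, 0), (90, 111, 0), (90, 112, 0), (90, 120, 0), (90, 0, 0), (90, 3, 0), (91, 120, 0), (91, 0, 0), (91, 3, 0), (91, 12, 0), (111, 27, 0), (111, 28, 0), (111, 31, 0), (111, 40, 0), (112, 40, 0), (37, 117, 0), (37, 118, 0), (37, 0, 0), (37, 9, 0), (38, 9, 0), (58, 37, 0),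 (118, 0, 0), (93, 26, 0), (93, 27, 0), (93, 30, 0), (93, 39, 0), (94, 39, 0), (114, 67, 0), (40, 36, 0), (53, 30, 0), (100, 120, 0), (120, 27, 0), (0, 27, 0), (0, 36, 0), (0, 39, 0), (0, 40, 0)], [(81, 0, 0), (82, 0, 0), (85, 0, 0), (94, 0, 0), (94, 11, 0), (1, 110, 0), (91, 22, 0), (85, 44, 0), (54, 77, 0), (82, 55, 0), (82, 66, 0), (91, 66, 0), (94, 66, 0), (95, 66, 0), (0, 33, 0), (84, 88, 0), (112, 66, 0), (112, 77, 0), (0, 77, 0), (3, 77, 0), (4, 77, 0), (81, 99, 0), (81, 110, 0), (90, 110, 0), (93, 110, 0), (94, 110, 0), (109, 88, 0), (118, 88, 0), (0, 88, 0), (1, 88, 0), (118, 99, 0), (0, 99, 0), (1, 99, 0), (9, 99, 0), (10, 99, 0), (13, 99, 0), (72, 22, 0), (81, 22, 0), (84, 22, 0), (85, 22, 0), (81, 33, 0), (84, 33, 0), (85, 33, 0), (93, 33, 0), (94, 33, 0), (97, 33, 0), (109, 11, 0), (112, 11, 0), (113, 11,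 0), (0, 11, 0), (1, 11, 0), (4, 11, 0), (0, 22, 0), (1, 22, 0), (4, 22, 0), (13, 22, 0), (78, 44, 0), (81, 44, 0), (82, 44, 0), (90, 44, 0), (91, 44, 0), (94, 44, 0), (90, 55, 0), (91, 55, 0), (94, 55, 0), (103, 55, 0), (118, 33, 0), (119, 33, 0), (1, 33, 0), (10, 33, 0), (10, 44, 0), (81, 88, 0), (82, 88, 0), (85, 88, 0), (94, 88, 0), (94, 99, 0), (1, 77, 0), (91, 110, 0), (108, 55, 0), (111, 55, 0), (112, 55, 0), (120, 55, 0), (0, 55, 0), (3, 55, 0), (120, 66, 0), (0, 66, 0), (3, 66, 0), (12, 66, 0), (27, 44, 0), (28, 44, 0), (31, 44, 0), (40, 44, 0), (40, 55, 0), (117, 77, 0), (118, 77, 0), (0, 77, 0), (9, 77, 0), (9, 88, 0), (37, 66, 0), (111, 99, 0), (112, 99, 0), (115, 99, 0), (3, 99, 0), (3, 110, 0), (31, 88, 0), (80, 11, 0), (81, 11, 0), (84, 11, 0), (93, 11, 0), (93, 22, 0), (108, 110, 0), (109, 110, 0), (112,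 110, 0), (0, 110, 0), (108, 0, 0), (109, 0, 0), (112, 0, 0), (117, 0, 0), (118, 0, 0), (120, 0, 0), (1, 0, 0), (3, 0, 0), (4, 0, 0), (9, 0, 0), (12, 0, 0), (13, 0, 0), (0, 11, 0), (9, 11, 0), (12, 11, 0), (13, 11, 0), (28, 99, 0), (28, 110, 0), (37, 110, 0), (40, 110, 0), (41, 110, 0), (90, 33, 0), (118, 11, 0), (118, 22, 0), (6, 22, 0), (9, 22, 0), (10, 22, 0), (84, 55, 0), (112, 33, 0), (112, 44, 0), (0, 44, 0), (3, 44, 0), (4, 44, 0), (81, 66, 0), (81, 77, 0), (90, 77, 0), (93, 77, 0), (94, 77, 0), (109, 55, 0), (118, 55, 0), (0, 55, 0), (1, 55, 0), (118, 66, 0), (0, 66, 0), (1, 66, 0), (9, 66, 0), (10, 66, 0), (13, 66, 0), (30, 11, 0), (120, 44, 0), (27, 22, 0), (27, 33, 0), (36, 33, 0), (39, 33, 0), (40, 33, 0), (111, 77, 0), (111, 88, 0), (120, 88, 0), (2, 88, 0), (3, 88, 0), (18, 66, 0), (27, 66, 0), (30, 66, 0),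 (31, 66, 0), (27, 77, 0), (30, 77, 0), (31, 77, 0), (39, 77, 0), (40, 77, 0), (43, 77, 0), (108, 99, 0), (117, 99, 0), (120, 99, 0), (0, 99, 0), (117, 110, 0), (120, 110, 0), (0, 110, 0), (8, 110, 0), (9, 110, 0), (12, 110, 0), (24, 88, 0), (27, 88, 0), (28, 88, 0), (36, 88, 0), (37, 88, 0), (40, 88, 0), (36, 99, 0), (37, 99, 0), (40, 99, 0), (49, 99, 0), (108, 22, 0), (111, 22, 0), (112, 22, 0), (120, 22, 0), (0, 22, 0), (3, 22, 0), (120, 33, 0), (0, 33, 0), (3, 33, 0), (12, 33, 0), (27, 11, 0), (28, 11, 0), (31, 11, 0), (40, 11, 0), (40, 22, 0), (117, 44, 0), (118, 44, 0), (0, 44, 0), (9, 44, 0), (9, 55, 0), (37, 33, 0), (0, 88, 0), (26, 55, 0), (27, 55, 0), (30, 55, 0), (39, 55, 0), (39, 66, 0), (67, 44, 0), (36, 77, 0), (30, 99, 0), (120, 11, 0), (27, 110, 0), (27, 0, 0), (36, 0, 0), (39, 0, 0), (40, 0, 0)]],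
  [[(0, 81, 0), (0, 82, 0), (0, 85, 0), (0, 94, 0), (1, 94, 0), (105, 46, 0), (73, 98, 0), (9, 81, 0), (98, 12, 0), (81, 85, 0), (82, 85, 0), (82, 94, 0), (82, 97, 0), (82, 98, 0), (27, 82, 0), (52, 117, 0), (35, 69, 0), (36, 69, 0), (36, 78, 0), (36, 81, 0), (36, 82, 0), (3, 0, 0), (4, 0, 0), (4, 9, 0), (4, 12, 0), (4, 13, 0), (108, 73, 0), (108, 82, 0), (108, 85, 0), (108, 86, 0), (109, 82, 0), (109, 85, 0), (109, 86, 0), (109, 94, 0), (109, 95, 0), (109, 98, 0), (12, 108, 0), (12, 117, 0), (12, 120, 0), (12, 0, 0), (13, 117, 0), (13, 120, 0), (13, 0, 0), (13, 8, 0), (13, 9, 0), (13, 12, 0), (117, 69, 0), (117, 72, 0), (117, 73, 0), (117, 81, 0), (117, 82, 0), (117, 85, 0), (118, 81, 0), (118, 82, 0), (118, 85, 0), (118, 94, 0), (85, 0, 0), (85, 3, 0), (85, 4, 0), (85, 12, 0), (85, 13, 0), (85, 16, 0), (86, 12, 0),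 (86, 13, 0), (86, 16, 0), (86, 25, 0), (69, 85, 0), (69, 86, 0), (69, 89, 0), (69, 98, 0), (70, 98, 0), (94, 120, 0), (94, 0, 0), (94, 3, 0), (94, 12, 0), (95, 12, 0), (78, 85, 0), (46, 16, 0), (39, 105, 0), (39, 108, 0), (39, 109, 0), (39, 117, 0), (39, 118, 0), (39, 0, 0), (40, 117, 0), (40, 118, 0), (40, 0, 0), (40, 9, 0), (23, 69, 0), (23, 70, 0), (23, 73, 0), (23, 82, 0), (24, 82, 0), (112, 0, 0), (112, 1, 0), (112, 4, 0), (112, 13, 0), (113, 13, 0), (96, 86, 0), (48, 104, 0), (48, 105, 0), (48, 108, 0), (48, 117, 0), (49, 117, 0), (32, 69, 0), (16, 35, 0), (16, 36, 0), (16, 39, 0), (16, 48, 0), (17, 48, 0), (120, 108, 0), (120, 109, 0), (120, 112, 0), (120, 0, 0), (0, 108, 0), (0, 109, 0), (0, 112, 0), (0, 117, 0), (0, 118, 0), (0, 120, 0), (0, 1, 0), (0, 3, 0), (0, 4, 0), (0, 9, 0), (0, 12, 0), (0, 13, 0), (1,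 0, 0), (1, 9, 0), (1, 12, 0), (1, 13, 0), (104, 73, 0), (105, 73, 0), (105, 82, 0), (105, 85, 0), (105, 86, 0), (89, 52, 0), (72, 4, 0), (73, 4, 0), (73, 13, 0), (73, 16, 0), (73, 17, 0), (25, 35, 0), (8, 108, 0), (9, 108, 0), (9, 117, 0), (9, 120, 0), (9, 0, 0), (97, 39, 0), (98, 39, 0), (98, 48, 0), (98, 51, 0), (98, 52, 0), (81, 112, 0), (81, 0, 0), (81, 3, 0), (81, 4, 0), (82, 0, 0), (82, 3, 0), (82, 4, 0), (82, 12, 0), (82, 13, 0), (82, 16, 0), (75, 105, 0), (43, 36, 0), (26, 109, 0), (27, 109, 0), (27, 118, 0), (27, 0, 0), (27, 1, 0), (51, 23, 0), (52, 23, 0), (52, 32, 0), (52, 35, 0), (52, 36, 0), (35, 96, 0), (35, 105, 0), (35, 108, 0), (35, 109, 0), (36, 105, 0), (36, 108, 0), (36, 109, 0), (36, 117, 0), (36, 118, 0), (36, 0, 0), (3, 27, 0), (3, 36, 0), (3, 39, 0), (3, 40, 0), (4, 36, 0), (4, 39, 0), (4, 40,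 0), (4, 48, 0), (4, 49, 0), (4, 52, 0), (108, 109, 0), (108, 112, 0), (108, 113, 0), (108, 0, 0), (108, 1, 0), (108, 4, 0), (109, 0, 0), (109, 1, 0), (109, 4, 0), (109, 13, 0), (12, 23, 0), (12, 26, 0), (12, 27, 0), (12, 35, 0), (12, 36, 0), (12, 39, 0), (13, 35, 0), (13, 36, 0), (13, 39, 0), (13, 48, 0), (117, 108, 0), (117, 109, 0), (117, 112, 0), (117, 0, 0), (118, 0, 0), (85, 39, 0), (85, 40, 0), (85, 43, 0), (85, 52, 0), (86, 52, 0), (69, 4, 0), (94, 39, 0), (39, 23, 0), (39, 24, 0), (39, 27, 0), (39, 36, 0), (40, 36, 0), (23, 109, 0), (112, 40, 0), (48, 23, 0), (16, 75, 0), (120, 27, 0), (0, 27, 0), (0, 36, 0), (0, 39, 0), (0, 40, 0)], [(81, 0, 0), (82, 0, 0), (85, 0, 0), (94, 0, 0), (94, 11, 0), (46, 66, 0), (98, 77, 0), (81, 99, 0), (12, 110, 0), (85, 44, 0), (85, 55, 0), (94, 55, 0), (97, 55, 0), (98, 55, 0),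 (82, 55, 0), (117, 88, 0), (69, 22, 0), (69, 33, 0), (78, 33, 0), (81, 33, 0), (82, 33, 0), (0, 33, 0), (0, 44, 0), (9, 44, 0), (12, 44, 0), (13, 44, 0), (73, 99, 0), (82, 99, 0), (85, 99, 0), (86, 99, 0), (82, 110, 0), (85, 110, 0), (86, 110, 0), (94, 110, 0), (95, 110, 0), (98, 110, 0), (108, 11, 0), (117, 11, 0), (120, 11, 0), (0, 11, 0), (117, 22, 0), (120, 22, 0), (0, 22, 0), (8, 22, 0), (9, 22, 0), (12, 22, 0), (69, 77, 0), (72, 77, 0), (73, 77, 0), (81, 77, 0), (82, 77, 0), (85, 77, 0), (81, 88, 0), (82, 88, 0), (85, 88, 0), (94, 88, 0), (0, 88, 0), (3, 88, 0), (4, 88, 0), (12, 88, 0), (13, 88, 0), (16, 88, 0), (12, 99, 0), (13, 99, 0), (16, 99, 0), (25, 99, 0), (85, 33, 0), (86, 33, 0), (89, 33, 0), (98, 33, 0), (98, 44, 0), (120, 66, 0), (0, 66, 0), (3, 66, 0), (12, 66, 0), (12, 77, 0), (85, 11, 0), (16, 22,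 0), (105, 66, 0), (108, 66, 0), (109, 66, 0), (117, 66, 0), (118, 66, 0), (0, 66, 0), (117, 77, 0), (118, 77, 0), (0, 77, 0), (9, 77, 0), (69, 11, 0), (70, 11, 0), (73, 11, 0), (82, 11, 0), (82, 22, 0), (0, 22, 0), (1, 22, 0), (4, 22, 0), (13, 22, 0), (13, 33, 0), (86, 88, 0), (104, 44, 0), (105, 44, 0), (108, 44, 0), (117, 44, 0), (117, 55, 0), (69, 110, 0), (35, 55, 0), (36, 55, 0), (39, 55, 0), (48, 55, 0), (48, 66, 0), (108, 110, 0), (109, 110, 0), (112, 110, 0), (0, 110, 0), (108, 0, 0), (109, 0, 0), (112, 0, 0), (117, 0, 0), (118, 0, 0), (120, 0, 0), (1, 0, 0), (3, 0, 0), (4, 0, 0), (9, 0, 0), (12, 0, 0), (13, 0, 0), (0, 11, 0), (9, 11, 0), (12, 11, 0), (13, 11, 0), (73, 55, 0), (73, 66, 0), (82, 66, 0), (85, 66, 0), (86, 66, 0), (52, 11, 0), (4, 66, 0), (4, 77, 0), (13, 77, 0), (16, 77, 0), (17, 77, 0), (35, 33,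 0), (108, 88, 0), (108, 99, 0), (117, 99, 0), (120, 99, 0), (0, 99, 0), (39, 99, 0), (39, 110, 0), (48, 110, 0), (51, 110, 0), (52, 110, 0), (112, 44, 0), (0, 44, 0), (3, 44, 0), (4, 44, 0), (0, 55, 0), (3, 55, 0), (4, 55, 0), (12, 55, 0), (13, 55, 0), (16, 55, 0), (105, 99, 0), (36, 110, 0), (109, 44, 0), (109, 55, 0), (118, 55, 0), (0, 55, 0), (1, 55, 0), (23, 77, 0), (23, 88, 0), (32, 88, 0), (35, 88, 0), (36, 88, 0), (96, 22, 0), (105, 22, 0), (108, 22, 0), (109, 22, 0), (105, 33, 0), (108, 33, 0), (109, 33, 0), (117, 33, 0), (118, 33, 0), (0, 33, 0), (27, 33, 0), (36, 33, 0), (39, 33, 0), (40, 33, 0), (36, 44, 0), (39, 44, 0), (40, 44, 0), (48, 44, 0), (49, 44, 0), (52, 44, 0), (109, 99, 0), (112, 99, 0), (113, 99, 0), (0, 99, 0), (1, 99, 0), (4, 99, 0), (0, 110, 0), (1, 110, 0), (4, 110, 0), (13, 110, 0), (23, 11,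 0), (26, 11, 0), (27, 11, 0), (35, 11, 0), (36, 11, 0), (39, 11, 0), (35, 22, 0), (36, 22, 0), (39, 22, 0), (48, 22, 0), (108, 77, 0), (109, 77, 0), (112, 77, 0), (0, 77, 0), (0, 88, 0), (39, 88, 0), (40, 88, 0), (43, 88, 0), (52, 88, 0), (52, 99, 0), (4, 33, 0), (39, 66, 0), (23, 66, 0), (24, 66, 0), (27, 66, 0), (36, 66, 0), (36, 77, 0), (109, 11, 0), (40, 22, 0), (23, 44, 0), (75, 55, 0), (27, 110, 0), (27, 0, 0), (36, 0, 0), (39, 0, 0), (40, 0, 0)]],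
  [[(0, 81, 0), (0, 82, 0), (0, 85, 0), (0, 94, 0), (1, 94, 0), (52, 117, 0), (98, 12, 0), (27, 82, 0), (73, 98, 0), (3, 0, 0), (4, 0, 0), (4, 9, 0), (4, 12, 0), (4, 13, 0), (9, 81, 0), (105, 46, 0), (35, 69, 0), (36, 69, 0), (36, 78, 0), (36, 81, 0), (36, 82, 0), (81, 85, 0), (82, 85, 0), (82, 94, 0), (82, 97, 0), (82, 98, 0), (12, 108, 0), (12, 117, 0), (12, 120, 0), (12, 0, 0), (13, 117, 0), (13, 120, 0), (13, 0, 0), (13, 8, 0), (13, 9, 0), (13, 12, 0), (108, 73, 0), (108, 82, 0), (108, 85, 0), (108, 86, 0), (109, 82, 0), (109, 85, 0), (109, 86, 0), (109, 94, 0), (109, 95, 0), (109, 98, 0), (39, 105, 0), (39, 108, 0), (39, 109, 0), (39, 117, 0), (39, 118, 0), (39, 0, 0), (40, 117, 0), (40, 118, 0), (40, 0, 0), (40, 9, 0), (85, 0, 0), (85, 3, 0), (85, 4, 0), (85, 12, 0), (85, 13, 0), (85, 16, 0), (86, 12, 0), (86, 13,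 0), (86, 16, 0), (86, 25, 0), (16, 35, 0), (16, 36, 0), (16, 39, 0), (16, 48, 0), (17, 48, 0), (112, 0, 0), (112, 1, 0), (112, 4, 0), (112, 13, 0), (113, 13, 0), (43, 36, 0), (89, 52, 0), (117, 69, 0), (117, 72, 0), (117, 73, 0), (117, 81, 0), (117, 82, 0), (117, 85, 0), (118, 81, 0), (118, 82, 0), (118, 85, 0), (118, 94, 0), (48, 104, 0), (48, 105, 0), (48, 108, 0), (48, 117, 0), (49, 117, 0), (94, 120, 0), (94, 0, 0), (94, 3, 0), (94, 12, 0), (95, 12, 0), (25, 35, 0), (23, 69, 0), (23, 70, 0), (23, 73, 0), (23, 82, 0), (24, 82, 0), (75, 105, 0), (69, 85, 0), (69, 86, 0), (69, 89, 0), (69, 98, 0), (70, 98, 0), (120, 108, 0), (120, 109, 0), (120, 112, 0), (120, 0, 0), (0, 108, 0), (0, 109, 0), (0, 112, 0), (0, 117, 0), (0, 118, 0), (0, 120, 0), (0, 1, 0), (0, 3, 0), (0, 4, 0), (0, 9, 0), (0, 12, 0), (0, 13, 0), (1, 0,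 0), (1, 9, 0), (1, 12, 0), (1, 13, 0), (51, 23, 0), (52, 23, 0), (52, 32, 0), (52, 35, 0), (52, 36, 0), (46, 16, 0), (97, 39, 0), (98, 39, 0), (98, 48, 0), (98, 51, 0), (98, 52, 0), (96, 86, 0), (26, 109, 0), (27, 109, 0), (27, 118, 0), (27, 0, 0), (27, 1, 0), (72, 4, 0), (73, 4, 0), (73, 13, 0), (73, 16, 0), (73, 17, 0), (3, 27, 0), (3, 36, 0), (3, 39, 0), (3, 40, 0), (4, 36, 0), (4, 39, 0), (4, 40, 0), (4, 48, 0), (4, 49, 0), (4, 52, 0), (32, 69, 0), (78, 85, 0), (8, 108, 0), (9, 108, 0), (9, 117, 0), (9, 120, 0), (9, 0, 0), (104, 73, 0), (105, 73, 0), (105, 82, 0), (105, 85, 0), (105, 86, 0), (35, 96, 0), (35, 105, 0), (35, 108, 0), (35, 109, 0), (36, 105, 0), (36, 108, 0), (36, 109, 0), (36, 117, 0), (36, 118, 0), (36, 0, 0), (81, 112, 0), (81, 0, 0), (81, 3, 0), (81, 4, 0), (82, 0, 0), (82, 3, 0), (82, 4, 0), (82,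 12, 0), (82, 13, 0), (82, 16, 0), (12, 23, 0), (12, 26, 0), (12, 27, 0), (12, 35, 0), (12, 36, 0), (12, 39, 0), (13, 35, 0), (13, 36, 0), (13, 39, 0), (13, 48, 0), (108, 109, 0), (108, 112, 0), (108, 113, 0), (108, 0, 0), (108, 1, 0), (108, 4, 0), (109, 0, 0), (109, 1, 0), (109, 4, 0), (109, 13, 0), (39, 23, 0), (39, 24, 0), (39, 27, 0), (39, 36, 0), (40, 36, 0), (85, 39, 0), (85, 40, 0), (85, 43, 0), (85, 52, 0), (86, 52, 0), (16, 75, 0), (112, 40, 0), (117, 108, 0), (117, 109, 0), (117, 112, 0), (117, 0, 0), (118, 0, 0), (48, 23, 0), (94, 39, 0), (23, 109, 0), (69, 4, 0), (120, 27, 0), (0, 27, 0), (0, 36, 0), (0, 39, 0), (0, 40, 0)], [(81, 0, 0), (82, 0, 0), (85, 0, 0), (94, 0, 0), (94, 11, 0), (117, 88, 0), (12, 110, 0), (82, 55, 0), (98, 77, 0), (0, 33, 0), (0, 44, 0), (9, 44, 0), (12, 44, 0), (13, 44, 0), (81, 99,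 0), (46, 66, 0), (69, 22, 0), (69, 33, 0), (78, 33, 0), (81, 33, 0), (82, 33, 0), (85, 44, 0), (85, 55, 0), (94, 55, 0), (97, 55, 0), (98, 55, 0), (108, 11, 0), (117, 11, 0), (120, 11, 0), (0, 11, 0), (117, 22, 0), (120, 22, 0), (0, 22, 0), (8, 22, 0), (9, 22, 0), (12, 22, 0), (73, 99, 0), (82, 99, 0), (85, 99, 0), (86, 99, 0), (82, 110, 0), (85, 110, 0), (86, 110, 0), (94, 110, 0), (95, 110, 0), (98, 110, 0), (105, 66, 0), (108, 66, 0), (109, 66, 0), (117, 66, 0), (118, 66, 0), (0, 66, 0), (117, 77, 0), (118, 77, 0), (0, 77, 0), (9, 77, 0), (0, 88, 0), (3, 88, 0), (4, 88, 0), (12, 88, 0), (13, 88, 0), (16, 88, 0), (12, 99, 0), (13, 99, 0), (16, 99, 0), (25, 99, 0), (35, 55, 0), (36, 55, 0), (39, 55, 0), (48, 55, 0), (48, 66, 0), (0, 22, 0), (1, 22, 0), (4, 22, 0), (13, 22, 0), (13, 33, 0), (36, 110, 0), (52, 11, 0),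 (69, 77, 0), (72, 77, 0), (73, 77, 0), (81, 77, 0), (82, 77, 0), (85, 77, 0), (81, 88, 0), (82, 88, 0), (85, 88, 0), (94, 88, 0), (104, 44, 0), (105, 44, 0), (108, 44, 0), (117, 44, 0), (117, 55, 0), (120, 66, 0), (0, 66, 0), (3, 66, 0), (12, 66, 0), (12, 77, 0), (35, 33, 0), (69, 11, 0), (70, 11, 0), (73, 11, 0), (82, 11, 0), (82, 22, 0), (105, 99, 0), (85, 33, 0), (86, 33, 0), (89, 33, 0), (98, 33, 0), (98, 44, 0), (108, 110, 0), (109, 110, 0), (112, 110, 0), (0, 110, 0), (108, 0, 0), (109, 0, 0), (112, 0, 0), (117, 0, 0), (118, 0, 0), (120, 0, 0), (1, 0, 0), (3, 0, 0), (4, 0, 0), (9, 0, 0), (12, 0, 0), (13, 0, 0), (0, 11, 0), (9, 11, 0), (12, 11, 0), (13, 11, 0), (23, 77, 0), (23, 88, 0), (32, 88, 0), (35, 88, 0), (36, 88, 0), (16, 22, 0), (39, 99, 0), (39, 110, 0), (48, 110, 0), (51, 110, 0), (52, 110, 0), (86, 88,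 0), (109, 44, 0), (109, 55, 0), (118, 55, 0), (0, 55, 0), (1, 55, 0), (4, 66, 0), (4, 77, 0), (13, 77, 0), (16, 77, 0), (17, 77, 0), (27, 33, 0), (36, 33, 0), (39, 33, 0), (40, 33, 0), (36, 44, 0), (39, 44, 0), (40, 44, 0), (48, 44, 0), (49, 44, 0), (52, 44, 0), (69, 110, 0), (85, 11, 0), (108, 88, 0), (108, 99, 0), (117, 99, 0), (120, 99, 0), (0, 99, 0), (73, 55, 0), (73, 66, 0), (82, 66, 0), (85, 66, 0), (86, 66, 0), (96, 22, 0), (105, 22, 0), (108, 22, 0), (109, 22, 0), (105, 33, 0), (108, 33, 0), (109, 33, 0), (117, 33, 0), (118, 33, 0), (0, 33, 0), (112, 44, 0), (0, 44, 0), (3, 44, 0), (4, 44, 0), (0, 55, 0), (3, 55, 0), (4, 55, 0), (12, 55, 0), (13, 55, 0), (16, 55, 0), (23, 11, 0), (26, 11, 0), (27, 11, 0), (35, 11, 0), (36, 11, 0), (39, 11, 0), (35, 22, 0), (36, 22, 0), (39, 22, 0), (48, 22, 0), (109, 99, 0),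 (112, 99, 0), (113, 99, 0), (0, 99, 0), (1, 99, 0), (4, 99, 0), (0, 110, 0), (1, 110, 0), (4, 110, 0), (13, 110, 0), (23, 66, 0), (24, 66, 0), (27, 66, 0), (36, 66, 0), (36, 77, 0), (39, 88, 0), (40, 88, 0), (43, 88, 0), (52, 88, 0), (52, 99, 0), (75, 55, 0), (40, 22, 0), (108, 77, 0), (109, 77, 0), (112, 77, 0), (0, 77, 0), (0, 88, 0), (23, 44, 0), (39, 66, 0), (109, 11, 0), (4, 33, 0), (27, 110, 0), (27, 0, 0), (36, 0, 0), (39, 0, 0), (40, 0, 0)]],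
  [[(0, 81, 0), (0, 82, 0), (0, 85, 0), (0, 94, 0), (1, 94, 0), (63, 84, 0), (7, 54, 0), (3, 0, 0), (68, 91, 0), (9, 81, 0), (10, 81, 0), (10, 90, 0), (10, 93, 0), (10, 94, 0), (81, 85, 0), (21, 1, 0), (83, 112, 0), (84, 112, 0), (84, 0, 0), (84, 3, 0), (84, 4, 0), (27, 82, 0), (28, 82, 0), (28, 91, 0), (28, 94, 0), (28, 95, 0), (90, 72, 0), (90, 81, 0), (90, 84, 0), (90, 85, 0), (91, 81, 0), (91, 84, 0), (91, 85, 0), (91, 93, 0), (91, 94, 0), (91, 97, 0), (30, 109, 0), (30, 118, 0), (30, 0, 0), (30, 1, 0), (31, 118, 0), (31, 0, 0), (31, 1, 0), (31, 9, 0), (31, 10, 0), (31, 13, 0), (93, 108, 0), (93, 111, 0), (93, 112, 0), (93, 120, 0), (93, 0, 0), (93, 3, 0), (94, 120, 0), (94, 0, 0), (94, 3, 0), (94, 12, 0), (37, 78, 0), (37, 81, 0), (37, 82, 0), (37, 90, 0), (37, 91, 0), (37, 94, 0), (38, 90, 0), (38, 91, 0), (38,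 94, 0), (38, 103, 0), (100, 80, 0), (100, 81, 0), (100, 84, 0), (100, 93, 0), (101, 93, 0), (40, 117, 0), (40, 118, 0), (40, 0, 0), (40, 9, 0), (41, 9, 0), (103, 120, 0), (47, 90, 0), (111, 109, 0), (111, 112, 0), (111, 113, 0), (111, 0, 0), (111, 1, 0), (111, 4, 0), (112, 0, 0), (112, 1, 0), (112, 4, 0), (112, 13, 0), (53, 111, 0), (53, 112, 0), (53, 115, 0), (53, 3, 0), (54, 3, 0), (118, 81, 0), (118, 82, 0), (118, 85, 0), (118, 94, 0), (119, 94, 0), (60, 84, 0), (114, 27, 0), (114, 28, 0), (114, 31, 0), (114, 40, 0), (115, 40, 0), (56, 30, 0), (58, 118, 0), (58, 119, 0), (58, 1, 0), (58, 10, 0), (59, 10, 0), (120, 108, 0), (120, 109, 0), (120, 112, 0), (120, 0, 0), (0, 108, 0), (0, 109, 0), (0, 112, 0), (0, 117, 0), (0, 118, 0), (0, 120, 0), (0, 1, 0), (0, 3, 0), (0, 4, 0), (0, 9, 0), (0, 12, 0), (0, 13, 0), (1, 0,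 0), (1, 9, 0), (1, 12, 0), (1, 13, 0), (62, 111, 0), (63, 111, 0), (63, 120, 0), (63, 2, 0), (63, 3, 0), (65, 91, 0), (6, 81, 0), (7, 81, 0), (7, 90, 0), (7, 93, 0), (7, 94, 0), (61, 37, 0), (2, 27, 0), (3, 27, 0), (3, 36, 0), (3, 39, 0), (3, 40, 0), (67, 118, 0), (68, 118, 0), (68, 6, 0), (68, 9, 0), (68, 10, 0), (9, 108, 0), (9, 117, 0), (9, 120, 0), (9, 0, 0), (10, 117, 0), (10, 120, 0), (10, 0, 0), (10, 8, 0), (10, 9, 0), (10, 12, 0), (74, 31, 0), (18, 1, 0), (80, 112, 0), (81, 112, 0), (81, 0, 0), (81, 3, 0), (81, 4, 0), (20, 28, 0), (21, 28, 0), (21, 37, 0), (21, 40, 0), (21, 41, 0), (83, 18, 0), (83, 27, 0), (83, 30, 0), (83, 31, 0), (84, 27, 0), (84, 30, 0), (84, 31, 0), (84, 39, 0), (84, 40, 0), (84, 43, 0), (27, 109, 0), (27, 118, 0), (27, 0, 0), (27, 1, 0), (28, 118, 0), (28, 0, 0), (28, 1, 0), (28, 9, 0),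 (28, 10, 0), (28, 13, 0), (90, 108, 0), (90, 111, 0), (90, 112, 0), (90, 120, 0), (90, 0, 0), (90, 3, 0), (91, 120, 0), (91, 0, 0), (91, 3, 0), (91, 12, 0), (30, 24, 0), (30, 27, 0), (30, 28, 0), (30, 36, 0), (30, 37, 0), (30, 40, 0), (31, 36, 0), (31, 37, 0), (31, 40, 0), (31, 49, 0), (93, 26, 0), (93, 27, 0), (93, 30, 0), (93, 39, 0), (94, 39, 0), (37, 117, 0), (37, 118, 0), (37, 0, 0), (37, 9, 0), (38, 9, 0), (100, 120, 0), (40, 36, 0), (111, 27, 0), (111, 28, 0), (111, 31, 0), (111, 40, 0), (112, 40, 0), (53, 30, 0), (118, 0, 0), (114, 67, 0), (58, 37, 0), (120, 27, 0), (0, 27, 0), (0, 36, 0), (0, 39, 0), (0, 40, 0)], [(81, 0, 0), (82, 0, 0), (85, 0, 0), (94, 0, 0), (94, 11, 0), (84, 88, 0), (54, 77, 0), (0, 33, 0), (91, 22, 0), (81, 99, 0), (81, 110, 0), (90, 110, 0), (93, 110, 0), (94, 110, 0), (85, 44, 0), (1,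 110, 0), (112, 66, 0), (112, 77, 0), (0, 77, 0), (3, 77, 0), (4, 77, 0), (82, 55, 0), (82, 66, 0), (91, 66, 0), (94, 66, 0), (95, 66, 0), (72, 22, 0), (81, 22, 0), (84, 22, 0), (85, 22, 0), (81, 33, 0), (84, 33, 0), (85, 33, 0), (93, 33, 0), (94, 33, 0), (97, 33, 0), (109, 88, 0), (118, 88, 0), (0, 88, 0), (1, 88, 0), (118, 99, 0), (0, 99, 0), (1, 99, 0), (9, 99, 0), (10, 99, 0), (13, 99, 0), (108, 55, 0), (111, 55, 0), (112, 55, 0), (120, 55, 0), (0, 55, 0), (3, 55, 0), (120, 66, 0), (0, 66, 0), (3, 66, 0), (12, 66, 0), (78, 44, 0), (81, 44, 0), (82, 44, 0), (90, 44, 0), (91, 44, 0), (94, 44, 0), (90, 55, 0), (91, 55, 0), (94, 55, 0), (103, 55, 0), (80, 11, 0), (81, 11, 0), (84, 11, 0), (93, 11, 0), (93, 22, 0), (117, 77, 0), (118, 77, 0), (0, 77, 0), (9, 77, 0), (9, 88, 0), (120, 44, 0), (90, 33, 0), (109, 11, 0), (112,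 11, 0), (113, 11, 0), (0, 11, 0), (1, 11, 0), (4, 11, 0), (0, 22, 0), (1, 22, 0), (4, 22, 0), (13, 22, 0), (111, 99, 0), (112, 99, 0), (115, 99, 0), (3, 99, 0), (3, 110, 0), (81, 88, 0), (82, 88, 0), (85, 88, 0), (94, 88, 0), (94, 99, 0), (84, 55, 0), (27, 44, 0), (28, 44, 0), (31, 44, 0), (40, 44, 0), (40, 55, 0), (30, 11, 0), (118, 33, 0), (119, 33, 0), (1, 33, 0), (10, 33, 0), (10, 44, 0), (108, 110, 0), (109, 110, 0), (112, 110, 0), (0, 110, 0), (108, 0, 0), (109, 0, 0), (112, 0, 0), (117, 0, 0), (118, 0, 0), (120, 0, 0), (1, 0, 0), (3, 0, 0), (4, 0, 0), (9, 0, 0), (12, 0, 0), (13, 0, 0), (0, 11, 0), (9, 11, 0), (12, 11, 0), (13, 11, 0), (111, 77, 0), (111, 88, 0), (120, 88, 0), (2, 88, 0), (3, 88, 0), (91, 110, 0), (81, 66, 0), (81, 77, 0), (90, 77, 0), (93, 77, 0), (94, 77, 0), (37, 66, 0), (27, 22, 0), (27, 33,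 0), (36, 33, 0), (39, 33, 0), (40, 33, 0), (118, 11, 0), (118, 22, 0), (6, 22, 0), (9, 22, 0), (10, 22, 0), (108, 99, 0), (117, 99, 0), (120, 99, 0), (0, 99, 0), (117, 110, 0), (120, 110, 0), (0, 110, 0), (8, 110, 0), (9, 110, 0), (12, 110, 0), (31, 88, 0), (1, 77, 0), (112, 33, 0), (112, 44, 0), (0, 44, 0), (3, 44, 0), (4, 44, 0), (28, 99, 0), (28, 110, 0), (37, 110, 0), (40, 110, 0), (41, 110, 0), (18, 66, 0), (27, 66, 0), (30, 66, 0), (31, 66, 0), (27, 77, 0), (30, 77, 0), (31, 77, 0), (39, 77, 0), (40, 77, 0), (43, 77, 0), (109, 55, 0), (118, 55, 0), (0, 55, 0), (1, 55, 0), (118, 66, 0), (0, 66, 0), (1, 66, 0), (9, 66, 0), (10, 66, 0), (13, 66, 0), (108, 22, 0), (111, 22, 0), (112, 22, 0), (120, 22, 0), (0, 22, 0), (3, 22, 0), (120, 33, 0), (0, 33, 0), (3, 33, 0), (12, 33, 0), (24, 88, 0), (27, 88, 0), (28, 88, 0),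 (36, 88, 0), (37, 88, 0), (40, 88, 0), (36, 99, 0), (37, 99, 0), (40, 99, 0), (49, 99, 0), (26, 55, 0), (27, 55, 0), (30, 55, 0), (39, 55, 0), (39, 66, 0), (117, 44, 0), (118, 44, 0), (0, 44, 0), (9, 44, 0), (9, 55, 0), (120, 11, 0), (36, 77, 0), (27, 11, 0), (28, 11, 0), (31, 11, 0), (40, 11, 0), (40, 22, 0), (30, 99, 0), (0, 88, 0), (67, 44, 0), (37, 33, 0), (27, 110, 0), (27, 0, 0), (36, 0, 0), (39, 0, 0), (40, 0, 0)]]]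

/-- The orbits of the degrees. -/
def mem : List (List ℕ) := [[0], [2, 6, 18, 54, 162], [4, 12, 36, 108, 82], [8, 24, 72, 216, 164], [10, 30, 90, 28, 84], [14, 42, 126, 136, 166], [16, 48, 144, 190, 86], [20, 60, 180, 56, 168], [22, 66, 198, 110, 88], [26, 78, 234, 218, 170], [32, 96, 46, 138, 172], [34, 102, 64, 192, 92], [38, 114, 100, 58, 174], [40, 120, 118, 112, 94], [44, 132, 154, 220, 176], [50, 150, 208, 140, 178], [52, 156, 226, 194, 98], [62, 186, 74, 222, 182], [68, 204, 128, 142, 184], [70, 210, 146, 196, 104], [76, 228, 200, 116, 106], [80, 240, 236, 224, 188], [122, 124, 130, 148, 202], [134, 160, 238, 230, 206], [152, 214, 158, 232, 212], [242]]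

/-- The weights of the degrees. -/
def wts : List (List ℤ) := [
  [1, 0, 0, 0, 0, 0, 0, 0, 0, 0, 0, 0, 0, 0, 0, 0, 0, 0, 0, 0, 0, 0, 0, 0, 0],
  [5, 0, 5, 0, 0, 0, 0, 0, 0, 0, 0, 0, 0, 0, 0, 0, 0, 0, 0, 0, 0, 0, 0, 5, 0],
  [0, 0, 5, 5, 0, 0, 0, 0, 0, 5, 0, 0, 0, 0, 0, 0, 0, 0, 0, 0, 0, 0, 0, 5, 0],
  [5, 0, 10, 5, 0, 0, 5, 0, 0, 5, 0, 0, 0, 0, 0, 0, 5, 0, 0, 0, 0, 0, 0, 10, 0],
  [0, 0, 0, 0, 0, 0, 5, 5, 0, 0, 0, 0, 0, 0, 0, 0, 5, 5, 0, 0, 0, 0, 0, 0, 0],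
  [0, 0, 5, 10, 5, 0, 5, 5, 0, 10, 0, 0, 0, 0, 0, 0, 5, 5, 0, 0, 0, 0, 0, 5, 5],
  [0, 0, 5, 5, 5, 0, 5, 5, 0, 5, 5, 0, 0, 0, 0, 0, 5, 5, 0, 5, 0, 0, 0, 5, 5],
  [5, 0, 10, 0, 0, 0, 0, 0, 0, 0, 5, 0, 0, 5, 0, 0, 0, 0, 0, 5, 0, 0, 5, 10, 0],
  [0, 0, 5, 5, 5, 0, 0, 0, 5, 5, 5, 0, 0, 5, 5, 0, 0, 0, 0, 5, 0, 0, 5, 5, 5],
  [5, 0, 15, 10, 5, 0, 15, 5, 5, 10, 5, 0, 0, 5, 5, 0, 15, 5, 0, 5, 0, 0, 5, 15, 5],
  [0, 0, 0, 0, 0, 0, 10, 10, 5, 0, 0, 5, 0, 0, 5, 5, 10, 10, 0, 0, 0, 0, 0, 0, 0],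
  [0, 0, 0, 0, 0, 0, 5, 5, 5, 0, 0, 5, 5, 5, 5, 5, 5, 5, 5, 0, 0, 0, 5, 0, 0],
  [0, 0, 5, 5, 0, 5, 0, 0, 0, 5, 5, 0, 5, 5, 0, 0, 0, 0, 5, 5, 5, 0, 5, 5, 0],
  [0, 5, 0, 0, 5, 5, 0, 0, 5, 0, 5, 5, 5, 5, 5, 5, 0, 0, 5, 5, 5, 5, 5, 0, 5],
  [0, 5, 5, 10, 10, 5, 10, 15, 10, 10, 5, 5, 5, 5, 10, 5, 10, 15, 5, 5, 5, 5, 5, 5, 10],
  [0, 5, 5, 10, 10, 0, 15, 15, 10, 10, 5, 10, 5, 0, 10, 10, 15, 15, 5, 5, 0, 5, 0, 5, 10],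
  [0, 5, 5, 5, 5, 5, 10, 10, 10, 5, 10, 10, 10, 5, 10, 10, 10, 10, 10, 10, 5, 5, 5, 5, 5],
  [5, 0, 15, 5, 0, 5, 5, 0, 0, 5, 10, 5, 5, 15, 0, 5, 5, 0, 5, 10, 5, 0, 15, 15, 0],
  [0, 5, 5, 10, 10, 10, 5, 5, 10, 10, 5, 5, 10, 10, 10, 5, 5, 5, 10, 5, 10, 5, 10, 5, 10],
  [0, 5, 5, 5, 5, 15, 5, 5, 5, 5, 10, 10, 10, 10, 5, 10, 5, 5, 10, 10, 15, 5, 10, 5, 5],
  [0, 5, 5, 5, 10, 15, 0, 0, 5, 5, 10, 10, 10, 15, 5, 10, 0, 0, 10, 10, 15, 5, 15, 5, 10],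
  [5, 5, 25, 15, 15, 15, 25, 15, 15, 15, 15, 15, 15, 25, 15, 15, 25, 15, 15, 15, 15, 5, 25, 25, 15],
  [0, 30, 0, 0, 10, 20, 0, 0, 10, 0, 10, 15, 15, 10, 10, 15, 0, 0, 15, 10, 20, 30, 10, 0, 10],
  [0, 40, 10, 20, 25, 30, 10, 20, 25, 20, 20, 25, 25, 20, 25, 25, 10, 20, 25, 20, 30, 40, 20, 10, 25],
  [0, 40, 10, 20, 25, 20, 20, 30, 25, 20, 20, 25, 25, 10, 25, 25, 20, 30, 25, 20, 20, 40, 10, 10, 25],
  [3, 10, 10, 10, 10, 10, 10, 10, 10, 10, 10, 10, 10, 10, 10, 10, 10, 10, 10, 10, 10, 10, 10, 10, 10]]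

/-- The certificates of the keys. -/
def certs : List KTree := [
  (.leaf [-2, -7, 1, -3, 1, 1, -1, -1, -1, 1, -5, -3, -1, 1, 1, 1, 1, 1, 1, 1, 1, 1, 1, 1, 1] []),
  (.leaf [0, 1, -11, 1, 1, 1, -5, 1, 1, 1, 1, 1, -15, 1, 1, 1, 1, 1, 1, 1, 1, 1, 1, 1, 1] []),
  (.leaf [0, -3, -7, 1, 1, 1, -3, 1, -3, 1, -3, 1, 1, -3, 1, 1, 1, 1, 1, 1, 1, 1, 1, 1, 1] []),
  (.leaf [0, -5, -1, -1, 1, 1, -7, 1, 1, 1, 1, 1, 1, -9, 1, 1, 1, 1, 1, 1, 1, 1, 1, 1, 1] []),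
  (.leaf [0, 3, -13, -5, 3, 3, -9, 3, 3, 3, 3, -37, 3, -9, 3, 3, 3, 3, 3, 3, 3, 3, 3, 3, 3] []),
  (.leaf [0, 7, -15, 1, -25, -31, 1, -23, -3, 7, 7, 5, -15, -7, 7, 7, 7, 7, 7, 7, 7, 7, 7, 7, 7] []),
  (.leaf [0, 1, -7, -3, 1, 1, -3, 1, 1, 1, 1, -15, 1, 1, 1, 1, 1, 1, 1, 1, 1, 1, 1, 1, 1] []),
  (.leaf [0, 1, -4, 0, 1, -9, -5, 1, -5, 1, 1, 1, 1, 1, 1, 1, 1, 1, 1, 1, 1, 1, 1, 1, 1] []),
  (.leaf [0, -11, -31, 9, -45, -7, 9, -45, 9, 9, 9, 9, -23, -13, 9, 9, 9, 9, 9, 9, 9, 9, 9, 9, 9] []),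
  (.leaf [0, -9, -3, -9, 3, 3, 3, -19, 3, 3, 3, 3, 3, -33, 3, 3, 3, 3, 3, 3, 3, 3, 3, 3, 3] []),
  (.leaf [0, 5, -5, -9, 5, 5, -17, 5, -11, 5, -15, 5, -51, 5, 5, 5, 5, 5, 5, 5, 5, 5, 5, 5, 5] []),
  (.leaf [0, 1, -3, 1, 1, 1, 1, -11, 1, 1, -23, 1, 1, 1, 1, 1, 1, 1, 1, 1, 1, 1, 1, 1, 1] []),
  (.leaf [0, 1, -3, 1, -7, -7, -11, 1, 1, 1, 1, 1, 1, 1, 1, 1, 1, 1, 1, 1, 1, 1, 1, 1, 1] []),
  (.leaf [-2, 1, 1, -8, 1, -9, 1, -5, 1, 1, 1, 1, 1, -5, 1, 1, 1, 1, 1, 1, 1, 1, 1, 1, 1] []),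
  (.leaf [0, -11, -5, -5, 5, 5, -5, -47, 5, 5, -67, 5, 5, 5, 5, 5, 5, 5, 5, 5, 5, 5, 5, 5, 5] []),
  (.leaf [0, 6, -18, 6, -34, 6, 0, -12, 5, 6, -1, -17, -35, 6, 6, 6, 6, 6, 6, 6, 6, 6, 6, 6, 6] []),
  (.leaf [0, 1, -11, 1, 1, 1, -5, 1, 1, 1, 1, 1, -15, 1, 1, 1, 1, 1, 1, 1, 1, 1, 1, 1, 1] []),
  (.leaf [0, 1, -1, -3, -17, 1, -5, 1, 1, 1, 1, 1, 1, -5, 1, 1, 1, 1, 1, 1, 1, 1, 1, 1, 1] []),
  (.leaf [0, 1, -3, 1, 1, -7, -11, 1, 1, 1, -7, 1, 1, 1, 1, 1, 1, 1, 1, 1, 1, 1, 1, 1, 1] []),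
  (.leaf [0, 2, -6, 2, -2, 1, 2, -10, 2, 2, 2, 2, -18, -10, 2, 2, 2, 2, 2, 2, 2, 2, 2, 2, 2] []),
  (.leaf [0, 1, -1, -1, -4, 1, -3, 1, 1, 1, -7, -7, 1, 1, 1, 1, 1, 1, 1, 1, 1, 1, 1, 1, 1] []),
  (.leaf [0, 1, -3, 1, 1, 1, -7, 1, 1, 1, 1, -3, 1, -23, 1, 1, 1, 1, 1, 1, 1, 1, 1, 1, 1] []),
  (.leaf [0, -15, -19, 1, 1, 1, 1, -11, 1, 1, 1, 1, 1, 1, 1, 1, 1, 1, 1, 1, 1, 1, 1, 1, 1] []),
  (.leaf [0, -15, -19, 1, 1, 1, -11, 1, 1, 1, 1, 1, 1, 1, 1, 1, 1, 1, 1, 1, 1, 1, 1, 1, 1] []),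
  (.leaf [0, -15, -19, 1, 1, 1, -11, 1, 1, 1, 1, 1, 1, 1, 1, 1, 1, 1, 1, 1, 1, 1, 1, 1, 1] []),
  (.leaf [0, -15, -19, 1, 1, 1, -11, 1, 1, 1, 1, 1, 1, 1, 1, 1, 1, 1, 1, 1, 1, 1, 1, 1, 1] []),
  (.leaf [0, 1, -1, -7, 1, 1, 1, -5, 1, 1, 1, 1, 1, -23, 1, 1, 1, 1, 1, 1, 1, 1, 1, 1, 1] []),
  (.leaf [-2, -3, 1, -5, 1, -5, 1, -11, 1, 1, -5, 1, 1, 1, 1, 1, 1, 1, 1, 1, 1, 1, 1, 1, 1] []),
  (.leaf [0, 1, -11, 1, 1, -15, -11, 1, 1, 1, 1, 1, 1, 1, 1, 1, 1, 1, 1, 1, 1, 1, 1, 1, 1] []),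
  (.leaf [0, 1, -1, -1, 1, 1, -11, 1, 1, 1, -23, 1, 1, 1, 1, 1, 1, 1, 1, 1, 1, 1, 1, 1, 1] []),
  (.leaf [0, 1, -11, 1, -23, 1, 1, -11, 1, 1, 1, 1, 1, 1, 1, 1, 1, 1, 1, 1, 1, 1, 1, 1, 1] []),
  (.leaf [0, 1, -1, -1, 1, 1, -11, 1, 1, 1, -23, 1, 1, 1, 1, 1, 1, 1, 1, 1, 1, 1, 1, 1, 1] []),
  (.leaf [0, 1, -3, 1, -3, -9, -3, 1, -7, 1, 1, 1, 1, 1, 1, 1, 1, 1, 1, 1, 1, 1, 1, 1, 1] [])]

end CfsgLib.Known.E8SL2.D121
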