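import Cfsg.Agent.Lib.Known.E8SL2.Toral
import Cfsg.Agent.Lib.Lie.OddInvolution.E8

/-!
# The fixed points of involutions of type E8
-/

set_option autoImplicit false
set_option maxRecDepth 20000

namespace CfsgLib.Known.E8SL2

open Module
open Cfsg.Lie (chevE8)
open CfsgLib.Lie.Chev hiding monP
open CfsgLib.Known.AltE6 (rep)
open CfsgLib.Perm.AltSection (eig mem_eig)

/-- The parity of a root. -/
def parN (c : List ℕ) (r : ℕ) : ℕ := ((List.zipWith (fun a b => a * b) (coT.getD r []) c).sum) % 2

/-- The vectors of zeros and ones. -/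
def bits : ℕ → List (List ℕ)
  | 0 => [[]]
  | n + 1 => (bits n).flatMap fun l => [0 :: l, 1 :: l]

theorem parity_counts : ((bits 8).all fun c => c.all (Nat.beq 0) ||
    ((List.range 240).countP fun r => parN c r == 0) == 112 ||
    ((List.range 240).countP fun r => parN c r == 0) == 128) = true := by decide +kernel

theorem mem_bits : ∀ {n : ℕ} (c : List ℕ), c.length = n → (∀ x ∈ c, x < 2) → c ∈ bits n
  | 0, c, h, _ => by simp [List.length_eq_zero_iff.1 h, bits]
  | n + 1, [], h, _ => by simp at h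
  | n + 1, a :: c, h, h2 => by
    have := mem_bits c (by simpa using h) fun x hx => h2 x (List.mem_cons_of_mem _ hx)
    have ha := h2 a (List.mem_cons_self ..)
    simp only [bits, List.mem_flatMap]
    exact ⟨c, this, by interval_cases a <;> simp⟩

theorem parN_zero (c : Fin 8 → ZMod 2) {r : ℕ} (hr : r < 240) :
    parN (List.ofFn fun j => (c j).val) r = 0 ↔ fv c r = 0 := by
  obtain ⟨h1, h2⟩ := coT_ok.2 ⟨r, hr⟩
  have key : (parN (List.ofFn fun j => (c j).val) r : ZMod 2) = fv c r := by
    rw [parN, ZMod.natCast_mod]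
    have hz : ∀ {m : ℕ} (a b : List ℕ), a.length = m → b.length = m →
        (List.zipWith (fun a b => a * b) a b).sum = ∑ i : Fin m, a.getD (i : ℕ) 0 * b.getD (i : ℕ) 0 := by
      intro m a
      induction a generalizing m with
      | nil => intro b h _; subst h; simp
      | cons x a ih =>
        intro b h h'
        obtain ⟨y, b, rfl⟩ : ∃ y b', b = y :: b' := by
          cases b with
          | nil => simp at h h'; omega
          | cons y b' => exact ⟨y, b', rfl⟩
        subst h
        rw [List.zipWith_cons_cons, List.sum_cons, ih b rfl (by simpa using h')]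
        simp [Fin.sum_univ_succ]
    rw [hz _ _ h1 List.length_ofFn, Nat.cast_sum, fv]
    refine Finset.sum_congr rfl fun j _ => ?_
    rw [Nat.cast_mul, List.getD_eq_getElem (List.ofFn fun j => (c j).val) 0 (n := (j : ℕ)) (by simp),
      List.getElem_ofFn, ZMod.natCast_zmod_val]
    congr 1
    have e : ((((coT.getD r []).getD (j : ℕ) 0 : ℕ) : ℤ) : ZMod 2) = ((auxE8.coef j r + 6 : ℤ) : ZMod 2) :=
      congrArg _ (h2 j)
    rw [Int.cast_natCast, Int.cast_add] at e
    rw [e]
    rw [show ((6 : ℤ) : ZMod 2) = 0 from rfl, add_zero]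
  rw [← key, ZMod.natCast_eq_zero_iff, Nat.dvd_iff_mod_eq_zero, parN, Nat.mod_mod]

/-- An involution fixes 120 or 136 dimensions. -/
theorem fixd_involution {K : Type*} [Field K] [Fintype K] (hK : Odd (Fintype.card K)) {x : ↥(chevE8.group K)}
    (hx : x * x = 1) (hx1 : x ≠ 1) :
    finrank K ↥(eig (rep chevE8 K x) 1) = 120 ∨ finrank K ↥(eig (rep chevE8 K x) 1) = 136 := by
  classical
  obtain ⟨v, h, hT, hconj⟩ := Lie.OddInvolution.exists_conj_isT certE8 hK Lie.OddInvolution.E8.cartanOK
    (fun L _ _ c hc => ChevFixed.torusHom_injective_of_smith certE8 cmat_E8 smithE8 (fun i => by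
      rw [(by decide : ∀ i : Fin 8, [1, 1, 1, 1, 1, 1, 1, 1].getD (i : ℕ) 0 = 1) i, Nat.gcd_one_right]) c hc)
    (fun c hc => ChevFixed.torusHom_injective_of_smith certE8 cmat_E8 smithE8 (fun i => by
      rw [(by decide : ∀ i : Fin 8, [1, 1, 1, 1, 1, 1, 1, 1].getD (i : ℕ) 0 = 1) i, Nat.gcd_one_right]) c hc) x hx
  obtain ⟨g, rfl⟩ := isConj_iff.1 hconj
  have hne : (-1 : Kˣ) ≠ 1 := fun e => Lie.OddInvolution.two_ne_zero_of_odd hK (by
    have := congrArg (fun u : Kˣ => (u : K)) e
    simp only [Units.val_neg, Units.val_one] at this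
    linear_combination (-1 : K) * this)
  haveI : Fact (Nat.Prime 2) := ⟨Nat.prime_two⟩
  have hζ : orderOf (-1 : Kˣ) = 2 := orderOf_eq_prime (by simp) hne
  have hh2 : (g * x * g⁻¹) ^ 2 = 1 := by rw [pow_two]; exact hT.2.1
  obtain ⟨f, hf⟩ := exists_exp hζ hT.1 hh2
  have h1 := finrank_eig_exp hζ hf 0
  rw [ZMod.val_zero, pow_zero, if_pos rfl, finrank_eig_conj] at h1
  obtain ⟨c, hc⟩ : ∃ c, c = List.ofFn fun j => (f j).val := ⟨_, rfl⟩
  have hmem : c ∈ bits 8 := by
    subst hc
    refine mem_bits _ List.length_ofFn fun y hy => ?_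
    obtain ⟨j, rfl⟩ := List.mem_ofFn.1 hy
    exact ZMod.val_lt _
  have hb := List.all_eq_true.1 parity_counts c hmem
  simp only [Bool.or_eq_true, beq_iff_eq, List.all_eq_true] at hb
  have hcount : (Finset.univ.filter fun r : Fin chevE8.nroots => fv f (r : ℕ) = 0).card =
      (List.range 240).countP fun r => parN c r == 0 :=
    AltE6.card_filter_countP (n := chevE8.nroots) _ _ fun r => by rw [hc, beq_iff_eq, parN_zero f r.2]
  rw [hcount] at h1
  rcases hb with (h0 | h0) | h0
  · refine absurd ?_ hx1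
    have hf0 : f = 0 := funext fun j => by
      exact (ZMod.val_eq_zero _).1 (Nat.eq_of_beq_eq_true (h0 _ (hc ▸ List.mem_ofFn.2 ⟨j, rfl⟩))).symm
    have := eq_one_of_smul_eq_zero hζ hf (d := 1) (by rw [hf0, smul_zero])
    rwa [pow_one, mul_inv_eq_one, mul_eq_left] at this
  · rw [h0] at h1; exact Or.inl h1
  · rw [h0] at h1; exact Or.inr h1

end CfsgLib.Known.E8SL2
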