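import Cfsg.Agent.Lib.Known.E8SL2.Fun

/-!
# The irreducible spaces of homogeneous functions
-/

set_option autoImplicit false

namespace CfsgLib.Known.E8SL2

open Module Matrix
open CfsgLib.Perm.AltSection (eig mem_eig)

variable {F : Type*} [Field F]

/-- The upper unitriangular elements. -/
def uu (b : F) : SL F := ⟨!![1, b; 0, 1], by simp [Matrix.det_fin_two_of]⟩

theorem uu_add (a b : F) : uu (a + b) = uu a * uu b :=
  Subtype.ext (by
    show !![1, a + b; 0, 1] = !![1, a; 0, 1] * !![1, b; 0, 1]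
    simp [Matrix.mul_fin_two, add_comm])

theorem uu_zero : uu (0 : F) = 1 := Subtype.ext (by simp [uu, Matrix.one_fin_two])

theorem uu_inv (b : F) : (uu b)⁻¹ = uu (-b) :=
  (eq_inv_of_mul_eq_one_left (by rw [← uu_add, neg_add_cancel, uu_zero])).symm

/-- The element exchanging the axes. -/
def ww (F : Type*) [Field F] : SL F := ⟨!![0, -1; 1, 0], by simp [Matrix.det_fin_two_of]⟩

theorem ww_inv : (ww F)⁻¹ = ⟨!![0, 1; -1, 0], by simp [Matrix.det_fin_two_of]⟩ :=
  inv_eq_of_mul_eq_one_right (Subtype.ext (by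
    show !![0, -1; 1, 0] * !![0, 1; -1, 0] = 1
    simp [Matrix.mul_fin_two, Matrix.one_fin_two]))

/-- The point on the first axis. -/
def p0 (F : Type*) [Field F] : Pts F := ⟨![1, 0], fun h => by simpa using congrFun h 0⟩

/-- The point on the second axis. -/
def p1 (F : Type*) [Field F] : Pts F := ⟨![0, 1], fun h => by simpa using congrFun h 1⟩

/-- The multiples of a point. -/
def smulP (a : Fˣ) (x : Pts F) : Pts F := ⟨(a : F) • x.1, fun h => x.2 ((smul_eq_zero.1 h).resolve_left a.ne_zero)⟩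

theorem move_smulP (g : SL F) (a : Fˣ) (x : Pts F) : move g (smulP a x) = smulP a (move g x) :=
  Subtype.ext (by
    show g.1 *ᵥ ((a : F) • x.1) = (a : F) • (g.1 *ᵥ x.1)
    exact Matrix.mulVec_smul _ _ _)

theorem move_uu (b : F) (x : Pts F) : (move (uu b) x).1 0 = x.1 0 + b * x.1 1 ∧ (move (uu b) x).1 1 = x.1 1 := by
  simp [move, uu, Matrix.vecHead, Matrix.vecTail]

variable {K : Type*} [Field K] (ι : F →+* K)

/-- The homogeneous functions. -/
def Fd (d : ℕ) : Submodule K (Pts F → K) where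
  carrier := {f | ∀ (a : Fˣ) (x : Pts F), f (smulP a x) = ι (a : F) ^ d * f x}
  add_mem' hf hg a x := by simp only [Pi.add_apply, hf a x, hg a x, mul_add]
  zero_mem' a x := by simp
  smul_mem' c f hf a x := by simp only [Pi.smul_apply, smul_eq_mul, hf a x]; ring

/-- The indicator of the first axis. -/
def ax [DecidableEq F] (d : ℕ) : Pts F → K := fun x => if x.1 1 = 0 then ι (x.1 0) ^ d else 0

theorem hd_mem_Fd (d : ℕ) : hd ι d ∈ Fd ι d := fun a x => by simp [hd, smulP, mul_pow]

theorem funRep_uu_hd (b : F) (d : ℕ) : funRep (uu b) (hd ι d) = hd ι d := by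
  funext x
  rw [funRep_apply, uu_inv, hd, hd, (move_uu (-b) x).2]

variable [Fintype F] [DecidableEq F] [DecidableEq K]

theorem eq_of_fixed {d : ℕ} (hd0 : d ≠ 0) {f : Pts F → K} (hf : f ∈ Fd ι d) (hfix : ∀ b, funRep (uu b) f = f) :
    f = f (p0 F) • ax ι d + f (p1 F) • hd ι d := by
  funext x
  simp only [Pi.add_apply, Pi.smul_apply, smul_eq_mul, ax, hd]
  by_cases h1 : x.1 1 = 0
  · have h0 : x.1 0 ≠ 0 := fun h0 => x.2 (funext fun i => by fin_cases i <;> assumption)
    have e : x = smulP (Units.mk0 _ h0) (p0 F) := Subtype.ext (funext fun i => by fin_cases i <;> simp [smulP, p0, h1])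
    rw [if_pos h1, h1, map_zero, zero_pow hd0, mul_zero, add_zero]
    conv_lhs => rw [e, hf, Units.val_mk0, mul_comm]
  · obtain ⟨y, hy⟩ : ∃ y, y = move (uu (x.1 0 / x.1 1)) (p1 F) := ⟨_, rfl⟩
    have e : x = smulP (Units.mk0 _ h1) y := Subtype.ext (funext fun i => by
      rw [hy]
      fin_cases i <;> simp [smulP, move, uu, p1] <;> field_simp)
    have e2 : f y = f (p1 F) := by
      have h := congrFun (hfix (-(x.1 0 / x.1 1))) (p1 F)
      rw [funRep_apply, uu_inv, neg_neg] at h
      rw [hy, h]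
    rw [if_neg h1, mul_zero, zero_add]
    conv_lhs => rw [e, hf, e2, Units.val_mk0, mul_comm]

/-- The average over the unipotent group after exchanging the axes. -/
theorem sum_funRep_fixed {d : ℕ} (hd0 : d ≠ 0) (A B : K) :
    ∑ b : F, funRep (uu b) (funRep (ww F) (A • ax ι d + B • hd ι d)) =
      (A + B * (if Fintype.card F - 1 ∣ d then -1 else 0)) • hd ι d := by
  funext x
  have hv : ∀ b, (move (ww F)⁻¹ (move (uu b)⁻¹ x)).1 0 = x.1 1 ∧
      (move (ww F)⁻¹ (move (uu b)⁻¹ x)).1 1 = -(x.1 0 - b * x.1 1) := fun b => by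
    rw [uu_inv, ww_inv]
    simp [move, uu, Matrix.vecHead, Matrix.vecTail]
    ring
  simp only [Finset.sum_apply, funRep_apply, Pi.add_apply, Pi.smul_apply, smul_eq_mul, ax, hd, hv, neg_eq_zero,
    Finset.sum_add_distrib, ← Finset.mul_sum, add_mul, mul_assoc]
  by_cases h1 : x.1 1 = 0
  · have h0 : x.1 0 ≠ 0 := fun h0 => x.2 (funext fun i => by fin_cases i <;> assumption)
    simp only [h1, mul_zero, sub_zero, h0, if_false, map_zero, zero_pow hd0, Finset.sum_const_zero, Finset.sum_const,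
      Finset.card_univ, nsmul_eq_mul, zero_add, add_zero]
    rw [← map_natCast ι (Fintype.card F), FiniteField.cast_card_eq_zero, map_zero, zero_mul, mul_zero]
  · congr 1
    · rw [Finset.sum_eq_single (x.1 0 / x.1 1)]
      · rw [if_pos (by field_simp; ring)]
      · intro b _ hb
        rw [if_neg]
        intro e
        exact hb (by rw [sub_eq_zero] at e; rw [e]; field_simp)
      · simp
    · congr 1
      obtain ⟨e, he⟩ : ∃ e : F ≃ F, ∀ b, e b = -(x.1 0 - b * x.1 1) :=
        ⟨⟨fun b => -(x.1 0 - b * x.1 1), fun y => (y + x.1 0) / x.1 1, fun b => by field_simp; ring,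
          fun y => by field_simp; ring⟩, fun _ => rfl⟩
      simp only [← he]
      rw [Equiv.sum_comp e (fun y => ι y ^ d), sum_pow_eq ι hd0]
      split_ifs with h2
      · rw [← map_pow]
        have h3 : (x.1 1) ^ d = 1 := by
          obtain ⟨c, rfl⟩ := h2
          rw [pow_mul, FiniteField.pow_card_sub_one_eq_one _ h1, one_pow]
        rw [h3, map_one, mul_one]
      · rw [zero_mul]

theorem Fd_le_of_ax_mem {d : ℕ} {M : Submodule K (Pts F → K)} (hinv : ∀ g, ∀ f ∈ M, funRep g f ∈ M)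
    (hax : ax ι d ∈ M) : Fd ι d ≤ M := by
  classical
  intro f hf
  haveI : Fintype (Pts F) := Fintype.ofFinite _
  have hg : ∀ x : Pts F, ∃ g : SL F, move g (p0 F) = x := by
    intro x
    by_cases h0 : x.1 0 = 0
    · have h1 : x.1 1 ≠ 0 := fun h1 => x.2 (funext fun i => by fin_cases i <;> assumption)
      refine ⟨⟨!![x.1 0, -(x.1 1)⁻¹; x.1 1, 0], by rw [Matrix.det_fin_two_of]; field_simp; ring⟩, Subtype.ext ?_⟩
      funext i; fin_cases i <;> simp [move, p0]
    · refine ⟨⟨!![x.1 0, 0; x.1 1, (x.1 0)⁻¹], by rw [Matrix.det_fin_two_of]; field_simp; ring⟩, Subtype.ext ?_⟩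
      funext i; fin_cases i <;> simp [move, p0]
  choose g hg using hg
  have key : (-1 : K) • f = ∑ x : Pts F, f x • funRep (g x) (ax ι d) := by
    funext y
    rw [Finset.sum_apply, Pi.smul_apply, smul_eq_mul]
    have hinj : Function.Injective fun a : Fˣ => smulP a⁻¹ y := fun a a' e => by
      obtain ⟨i, hi⟩ := Function.ne_iff.1 y.2
      have e2 := congrFun (congrArg Subtype.val e) i
      simp only [smulP, Pi.smul_apply, smul_eq_mul] at e2
      exact inv_injective (Units.ext (mul_right_cancel₀ hi e2))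
    rw [← Finset.sum_subset (Finset.subset_univ (Finset.univ.image fun a : Fˣ => smulP a⁻¹ y)) fun x _ hx => ?_,
      Finset.sum_image fun a _ a' _ e => hinj e]
    · have e : ∀ a : Fˣ, (f (smulP a⁻¹ y) • funRep (g (smulP a⁻¹ y)) (ax ι d)) y = f y := fun a => by
        have h : move (g (smulP a⁻¹ y))⁻¹ y = smulP a (p0 F) := by
          conv_lhs => arg 2; rw [show y = smulP a (smulP a⁻¹ y) from Subtype.ext (by simp [smulP, smul_smul])]
          rw [move_smulP]
          congr 1
          conv_lhs => arg 2; rw [← hg (smulP a⁻¹ y)]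
          rw [← move_mul, inv_mul_cancel, move_one]
        rw [Pi.smul_apply, smul_eq_mul, funRep_apply, h, hf, ax, if_pos (by simp [smulP, p0]),
          show (smulP a (p0 F)).1 0 = (a : F) by simp [smulP, p0], mul_right_comm, ← mul_pow, ← map_mul,
          Units.inv_mul, map_one, one_pow, one_mul]
      rw [Finset.sum_congr rfl fun a _ => e a, Finset.sum_const, Finset.card_univ, Fintype.card_units, nsmul_eq_mul,
        Nat.cast_sub Fintype.card_pos, ← map_natCast ι (Fintype.card F), FiniteField.cast_card_eq_zero, map_zero,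
        Nat.cast_one, zero_sub]
    · rw [Pi.smul_apply, funRep_apply, ax, if_neg, smul_zero]
      intro h1
      refine hx (Finset.mem_image.2 ?_)
      obtain ⟨z, hz⟩ : ∃ z, z = move (g x)⁻¹ y := ⟨_, rfl⟩
      rw [← hz] at h1
      have h0 : z.1 0 ≠ 0 := fun h0 => z.2 (funext fun i => by fin_cases i <;> assumption)
      refine ⟨Units.mk0 _ h0, Finset.mem_univ _, ?_⟩
      have e : z = smulP (Units.mk0 _ h0) (p0 F) := Subtype.ext (funext fun i => by
        fin_cases i <;> simp [smulP, p0, h1])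
      have e2 : move (g x) z = y := by rw [hz, ← move_mul, mul_inv_cancel, move_one]
      rw [← e2]
      conv_lhs => arg 2; rw [e]
      rw [move_smulP, hg]
      exact Subtype.ext (by simp [smulP, smul_smul, h0])
  have hm : (-1 : K) • f ∈ M := key ▸ Submodule.sum_mem _ fun x _ => Submodule.smul_mem _ _ (hinv _ _ hax)
  simpa using M.neg_mem hm

theorem ax_notMem_Vd {d : ℕ} (hd' : d ≤ Fintype.card F - 1) : ax ι d ∉ Vd ι d := by
  intro h
  have hB : ∀ c : Fin 2 → K, ∃ α β : K, c = α • (![1, 0] : Fin 2 → K) + β • ![0, 1] := fun c =>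
    ⟨c 0, c 1, funext fun k => by fin_cases k <;> simp⟩
  have h2 := Vd_le_span ι (α := (0 : K)) (β := 0) hB d h
  obtain ⟨c, hc⟩ := (Submodule.mem_span_range_iff_exists_fun K).1 h2
  obtain ⟨c', hc'⟩ : ∃ c' : ℕ → K, ∀ k : idx K d, c' k = c k :=
    ⟨fun k => if hk : k ∈ idx K d then c ⟨k, hk⟩ else 0, fun k => dif_pos k.2⟩
  have hz : ∀ i ∈ idx K d, c' i = 0 := eq_zero_of_sum_mon0 ι hd' c' fun x hx => by
    rw [← Finset.sum_coe_sort]
    have e := congrFun hc x
    simp only [Finset.sum_apply, Pi.smul_apply, smul_eq_mul, ax, hx, one_ne_zero, if_false] at e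
    simpa only [hc', mon0] using e
  have h0 : ax ι d = 0 := hc.symm.trans (Finset.sum_eq_zero fun k _ => by rw [← hc', hz k k.2, zero_smul])
  have e : ax ι d (p0 F) = (0 : Pts F → K) (p0 F) := congrFun h0 (p0 F)
  rw [ax, Pi.zero_apply, if_pos (show (p0 F).1 1 = 0 from rfl), show (p0 F).1 0 = 1 from rfl, map_one, one_pow] at e
  exact one_ne_zero e

theorem Vd_le {M : Submodule K (Pts F → K)} (hinv : ∀ g, ∀ f ∈ M, funRep g f ∈ M) {d : ℕ} (h : hd ι d ∈ M) :
    Vd ι d ≤ M := Submodule.span_le.2 (by rintro _ ⟨g, rfl⟩; exact hinv g _ h)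

/-- An irreducible invariant space of homogeneous functions is spanned by the translates of one power. -/
theorem exists_eq_Vd {d : ℕ} (hd0 : d ≠ 0) (hd' : d ≤ Fintype.card F - 1) {M : Submodule K (Pts F → K)}
    (hinv : ∀ g, ∀ f ∈ M, funRep g f ∈ M) (hMF : M ≤ Fd ι d)
    (hirr : ∀ M' : Submodule K (Pts F → K), M' ≤ M → (∀ g, ∀ f ∈ M', funRep g f ∈ M') → M' = ⊥ ∨ M' = M)
    {f : Pts F → K} (hfM : f ∈ M) (hf0 : f ≠ 0) (hfix : ∀ b, funRep (uu b) f = f) :
    ∃ d' : ℕ, (d' = d ∨ (d = Fintype.card F - 1 ∧ d' = 0)) ∧ M = Vd ι d' ∧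
      ∀ g ∈ M, (∀ b, funRep (uu b) g = g) → ∃ c : K, g = c • hd ι d' := by
  have hhd : ∀ k, hd ι k ≠ 0 := fun k h => by simpa [hd, p1] using congrFun h (p1 F)
  have finish : ∀ k, hd ι k ∈ M → M = Vd ι k := fun k hk => by
    rcases hirr (Vd ι k) (Vd_le ι hinv hk) (fun g f hf => funRep_mem_Vd ι hf g) with h | h
    · exact absurd ((Submodule.eq_bot_iff _).1 h _ (Submodule.subset_span ⟨1, by simp⟩)) (hhd k)
    · exact h.symm
  obtain ⟨A, hA⟩ : ∃ A, A = f (p0 F) := ⟨_, rfl⟩
  obtain ⟨B, hB⟩ : ∃ B, B = f (p1 F) := ⟨_, rfl⟩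
  have hfeq : f = A • ax ι d + B • hd ι d := hA ▸ hB ▸ eq_of_fixed ι hd0 (hMF hfM) hfix
  have havg : (A + B * (if Fintype.card F - 1 ∣ d then -1 else 0)) • hd ι d ∈ M := by
    rw [← sum_funRep_fixed ι hd0, ← hfeq]
    exact Submodule.sum_mem _ fun b _ => hinv _ _ (hinv _ _ hfM)
  by_cases hd1 : hd ι d ∈ M
  · refine ⟨d, Or.inl rfl, finish d hd1, fun g hg hgfix => ⟨g (p1 F), ?_⟩⟩
    have e := eq_of_fixed ι hd0 (hMF hg) hgfix
    by_cases h0 : g (p0 F) = 0
    · rwa [h0, zero_smul, zero_add] at e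
    · exfalso
      have hax : ax ι d ∈ M := by
        have h2 : g (p0 F) • ax ι d ∈ M := by
          have := M.sub_mem hg (M.smul_mem (g (p1 F)) hd1)
          rwa [sub_eq_of_eq_add e] at this
        have := M.smul_mem (g (p0 F))⁻¹ h2
        rwa [smul_smul, inv_mul_cancel₀ h0, one_smul] at this
      exact ax_notMem_Vd ι hd' (finish d hd1 ▸ hax)
  · have hz : A + B * (if Fintype.card F - 1 ∣ d then -1 else 0) = 0 := by
      by_contra hne
      have := M.smul_mem (A + B * (if Fintype.card F - 1 ∣ d then -1 else 0))⁻¹ havg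
      rw [smul_smul, inv_mul_cancel₀ hne, one_smul] at this
      exact hd1 this
    by_cases hdq : Fintype.card F - 1 ∣ d
    · have hdeq : d = Fintype.card F - 1 := le_antisymm hd' (Nat.le_of_dvd (Nat.pos_of_ne_zero hd0) hdq)
      rw [if_pos hdq, mul_neg_one, ← sub_eq_add_neg, sub_eq_zero] at hz
      have h1 : f = A • hd ι 0 := by
        funext x
        rw [hfeq, ← hz]
        simp only [Pi.add_apply, Pi.smul_apply, smul_eq_mul, ax, hd, pow_zero]
        by_cases h1 : x.1 1 = 0
        · have h0 : x.1 0 ≠ 0 := fun h0 => x.2 (funext fun i => by fin_cases i <;> assumption)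
          rw [if_pos h1, h1, map_zero, zero_pow hd0, mul_zero, add_zero, ← map_pow, hdeq,
            FiniteField.pow_card_sub_one_eq_one _ h0, map_one]
        · rw [if_neg h1, mul_zero, zero_add, ← map_pow, hdeq, FiniteField.pow_card_sub_one_eq_one _ h1, map_one]
      have hA0 : A ≠ 0 := fun h => hf0 (by rw [h1, h, zero_smul])
      have hM0 : hd ι 0 ∈ M := by
        have := M.smul_mem A⁻¹ hfM
        rwa [h1, smul_smul, inv_mul_cancel₀ hA0, one_smul] at this
      refine ⟨0, Or.inr ⟨hdeq, rfl⟩, finish 0 hM0, fun g hg _ => ⟨g (p1 F), ?_⟩⟩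
      have hle : Vd ι 0 ≤ Submodule.span K {hd ι 0} := Submodule.span_le.2 (by
        rintro _ ⟨g', rfl⟩
        exact Submodule.subset_span (by simp [funRep, hd, funext_iff, LinearMap.funLeft]))
      obtain ⟨c, rfl⟩ := Submodule.mem_span_singleton.1 (hle (finish 0 hM0 ▸ hg))
      simp [hd]
    · rw [if_neg hdq, mul_zero, add_zero] at hz
      refine absurd ?_ hd1
      have hB0 : B ≠ 0 := fun h => hf0 (by rw [hfeq, hz, h]; simp)
      have := M.smul_mem B⁻¹ hfM
      rwa [hfeq, hz, zero_smul, zero_add, smul_smul, inv_mul_cancel₀ hB0, one_smul] at this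

end CfsgLib.Known.E8SL2
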