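import Cfsg.Agent.Lib.Known.E8SL2.Rep
import Mathlib.Data.Nat.Choose.Lucas

/-!
# Certificates excluding multiplicities
-/

set_option autoImplicit false

namespace CfsgLib.Known.E8SL2

/-- A scalar product. -/
def dotZ : List ℤ → List ℤ → ℤ
  | y :: ys, w :: ws => y * w + dotZ ys ws
  | _, _ => 0

/-- A search tree with a linear certificate at the leaves. -/
inductive KTree
  /-- a certificate -/
  | leaf (y z : List ℤ)
  /-- a branching -/
  | node (j h : ℕ) (l r : KTree)

/-- A bound on a multiplicity. -/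
abbrev Bnd := ℕ × Bool × ℕ

/-- The bound holds. -/
def Bnd.holds (b : Bnd) (N : ℕ → ℕ) : Prop := if b.2.1 then N b.1 ≤ b.2.2 else b.2.2 ≤ N b.1

/-- The check of a certificate. -/
def chkLeaf (W : List (List ℤ)) (t y z : List ℤ) (cs : List Bnd) : Bool :=
  decide (0 < dotZ y t + ((List.range cs.length).map fun q => z.getD q 0 * ((cs.getD q (0, true, 0)).2.2 : ℕ)).sum) &&
    ((List.range cs.length).all fun q => decide ((cs.getD q (0, true, 0)).1 < W.length) &&
      if (cs.getD q (0, true, 0)).2.1 then decide (z.getD q 0 ≤ 0) else decide (0 ≤ z.getD q 0)) &&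
    (List.range W.length).all fun j => decide (dotZ y (W.getD j []) +
      ((List.range cs.length).map fun q => if (cs.getD q (0, true, 0)).1 = j then z.getD q 0 else 0).sum ≤ 0)

/-- The check of a tree. -/
def chkTree (W : List (List ℤ)) (t : List ℤ) : KTree → List Bnd → Bool
  | .leaf y z, cs => chkLeaf W t y z cs
  | .node j h l r, cs => chkTree W t l (cs ++ [(j, true, h)]) && chkTree W t r (cs ++ [(j, false, h + 1)])

theorem list_sum_range (n : ℕ) (g : ℕ → ℤ) : ((List.range n).map g).sum = ∑ q ∈ Finset.range n, g q := by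
  induction n with
  | zero => simp
  | succ n ih => simp [List.range_succ, Finset.sum_range_succ, ih]

theorem dotZ_eq : ∀ (y v : List ℤ), dotZ y v = ∑ o ∈ Finset.range y.length, y.getD o 0 * v.getD o 0
  | [], v => by simp [dotZ]
  | a :: y, [] => by simp [dotZ]
  | a :: y, b :: v => by
    rw [dotZ, dotZ_eq y v, List.length_cons, Finset.sum_range_succ']
    simp [add_comm]

/-- The equations on the multiplicities. -/
def Solves (W : List (List ℤ)) (t : List ℤ) (N : ℕ → ℕ) : Prop :=
  ∀ o, t.getD o 0 = ∑ j ∈ Finset.range W.length, (N j : ℤ) * (W.getD j []).getD o 0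

theorem false_of_leaf {W : List (List ℤ)} {t y z : List ℤ} {cs : List Bnd} {N : ℕ → ℕ}
    (h : chkLeaf W t y z cs = true) (hN : Solves W t N)
    (hcs : ∀ q < cs.length, (cs.getD q (0, true, 0)).holds N) : False := by
  simp only [chkLeaf, Bool.and_eq_true, decide_eq_true_eq, List.all_eq_true, List.mem_range] at h
  obtain ⟨⟨h1, h2⟩, h3⟩ := h
  obtain ⟨b, hb⟩ : ∃ b, b = fun q => cs.getD q (0, true, 0) := ⟨_, rfl⟩
  obtain ⟨u, hu⟩ : ∃ u, u = fun q => z.getD q 0 := ⟨_, rfl⟩
  rw [list_sum_range] at h1
  have hA : dotZ y t = ∑ j ∈ Finset.range W.length, (N j : ℤ) * dotZ y (W.getD j []) := by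
    simp only [dotZ_eq, hN _, Finset.mul_sum]
    rw [Finset.sum_comm]
    exact Finset.sum_congr rfl fun _ _ => Finset.sum_congr rfl fun _ _ => by ring
  have hB : ∑ q ∈ Finset.range cs.length, u q * ((b q).2.2 : ℤ) ≤
      ∑ q ∈ Finset.range cs.length, u q * (N (b q).1 : ℤ) := by
    refine Finset.sum_le_sum fun q hq => ?_
    rw [Finset.mem_range] at hq
    have e1 := (h2 q hq).2
    have e2 := hcs q hq
    simp only [hb, hu, Bnd.holds] at *
    split_ifs at e1 e2 with hs
    · exact mul_le_mul_of_nonpos_left (by exact_mod_cast e2) (by simpa using e1)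
    · exact mul_le_mul_of_nonneg_left (by exact_mod_cast e2) (by simpa using e1)
  have hC : ∑ q ∈ Finset.range cs.length, u q * (N (b q).1 : ℤ) = ∑ j ∈ Finset.range W.length,
      (N j : ℤ) * ∑ q ∈ Finset.range cs.length, if (b q).1 = j then u q else 0 := by
    simp only [Finset.mul_sum, mul_ite, mul_zero]
    rw [Finset.sum_comm]
    refine Finset.sum_congr rfl fun q hq => ?_
    rw [Finset.sum_ite_eq, if_pos (Finset.mem_range.2 ?_), mul_comm]
    rw [hb]; exact (h2 q (Finset.mem_range.1 hq)).1
  have hD : dotZ y t + ∑ q ∈ Finset.range cs.length, u q * (N (b q).1 : ℤ) ≤ 0 := by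
    rw [hA, hC, ← Finset.sum_add_distrib]
    refine Finset.sum_nonpos fun j hj => ?_
    rw [← mul_add]
    refine mul_nonpos_of_nonneg_of_nonpos (Nat.cast_nonneg _) ?_
    have e := h3 j (Finset.mem_range.1 hj)
    rw [list_sum_range] at e
    rw [hb, hu]
    exact e
  rw [hb, hu] at hB hD
  dsimp only at hB hD
  linarith

theorem false_of_tree {W : List (List ℤ)} {t : List ℤ} {N : ℕ → ℕ} (hN : Solves W t N) :
    ∀ (T : KTree) (cs : List Bnd), chkTree W t T cs = true → (∀ q < cs.length, (cs.getD q (0, true, 0)).holds N) → False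
  | .leaf _ _, _, h, hcs => false_of_leaf h hN hcs
  | .node j k l r, cs, h, hcs => by
    simp only [chkTree, Bool.and_eq_true] at h
    have hext : ∀ b : Bnd, b.holds N → ∀ q < (cs ++ [b]).length, ((cs ++ [b]).getD q (0, true, 0)).holds N := by
      intro b hb q hq
      simp only [List.length_append, List.length_singleton] at hq
      rcases Nat.lt_or_ge q cs.length with h' | h'
      · rw [List.getD_append _ _ _ _ h']; exact hcs q h'
      · rw [List.getD_append_right _ _ _ _ h', show q - cs.length = 0 by omega]; exact hb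
    rcases Nat.lt_or_ge k (N j) with h' | h'
    · exact false_of_tree hN r _ h.2 (hext _ (by simpa [Bnd.holds] using h'))
    · exact false_of_tree hN l _ h.1 (hext _ (by simpa [Bnd.holds] using h'))

/-- The exponents occurring in a binomial power, in characteristic three. -/
def subs : ℕ → ℕ → List ℕ
  | 0, _ => [0]
  | f + 1, d => (List.range (d % 3 + 1)).flatMap fun a => (subs f (d / 3)).map fun i => 3 * i + a

theorem mem_subs : ∀ (f d : ℕ), d < 3 ^ f → ∀ i, i ∈ subs f d ↔ ¬ 3 ∣ d.choose i
  | 0, d, hd, i => by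
    obtain rfl : d = 0 := by simpa using hd
    rcases Nat.eq_zero_or_pos i with rfl | hi
    · simp [subs]
    · simp [subs, Nat.choose_eq_zero_of_lt hi, hi.ne']
  | f + 1, d, hd, i => by
    haveI : Fact (Nat.Prime 3) := ⟨Nat.prime_three⟩
    have ih := mem_subs f (d / 3) (by rw [pow_succ] at hd; omega)
    have key : (3 ∣ d.choose i) ↔ 3 ∣ (d % 3).choose (i % 3) * (d / 3).choose (i / 3) := by
      have h := Choose.choose_modEq_choose_mod_mul_choose_div_nat (p := 3) (n := d) (k := i)
      rw [Nat.dvd_iff_mod_eq_zero, Nat.dvd_iff_mod_eq_zero, h]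
    rw [key, Nat.prime_three.dvd_mul, not_or, ← ih]
    simp only [subs, List.mem_flatMap, List.mem_range, List.mem_map]
    have h3 : ∀ a b : ℕ, a < 3 → b < 3 → (¬ 3 ∣ a.choose b ↔ b ≤ a) := by
      intro a b ha hb; interval_cases a <;> interval_cases b <;> decide
    rw [h3 _ _ (Nat.mod_lt _ (by norm_num)) (Nat.mod_lt _ (by norm_num))]
    constructor
    · rintro ⟨a, ha, j, hj, rfl⟩
      have := Nat.mod_lt d (show 0 < 3 by norm_num)
      rw [show (3 * j + a) % 3 = a by omega, show (3 * j + a) / 3 = j by omega]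
      exact ⟨by omega, hj⟩
    · rintro ⟨h1, h2⟩
      exact ⟨i % 3, by omega, i / 3, h2, by omega⟩

theorem nodup_subs : ∀ f d, (subs f d).Nodup
  | 0, d => by simp [subs]
  | f + 1, d => by
    rw [subs, List.nodup_flatMap]
    refine ⟨fun a _ => (nodup_subs f _).map fun x y h => by omega, ?_⟩
    refine List.nodup_range.imp_of_mem fun {a b} ha hb hab x h1 h2 => ?_
    obtain ⟨j, -, rfl⟩ := List.mem_map.1 h1
    obtain ⟨k, -, e⟩ := List.mem_map.1 h2
    rw [List.mem_range] at ha hb
    omega

theorem idx_eq {K : Type*} [Field K] [DecidableEq K] [CharP K 3] {f d : ℕ} (hd : d < 3 ^ f) :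
    idx K d = (subs f d).toFinset := by
  ext i
  rw [List.mem_toFinset, mem_subs f d hd, idx, Finset.mem_filter, Finset.mem_range, Ne, CharP.cast_eq_zero_iff K 3]
  refine ⟨fun h => h.2, fun h => ⟨?_, h⟩⟩
  by_contra hlt
  exact h (by rw [Nat.choose_eq_zero_of_lt (by omega)]; exact dvd_zero 3)

end CfsgLib.Known.E8SL2
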