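import Cfsg.Agent.Lib.Known.E8SL2.Setup
import Cfsg.Agent.Lib.Known.E8SL2.Inv
import Cfsg.Agent.Lib.Known.E8SL2.Cases73
import Cfsg.Agent.Lib.Known.E8SL2.Cases121
import Cfsg.Agent.Lib.Known.E8SL2.CheckCerts

/-!
# The group of type E8 over three elements has no subgroups PSL(2, 243) and PSL(2, 729)
-/

set_option autoImplicit false
set_option maxRecDepth 100000

namespace CfsgLib.Known.E8SL2

open Module
open Cfsg.Lie (chevE8)
open CfsgLib.Lie.Chev (chevRel certE8)
open CfsgLib.Known.AltE6 (rep)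
open CfsgLib.Perm.AltSection (eig mem_eig)

theorem sum_orbit_key {M no : ℕ} [NeZero M] (oid : ℕ → ℕ) (h0 : oid 0 = 0) (f : Fin 8 → ZMod M) (D : ℕ → ℕ)
    (hD : ∀ y : ZMod M, D y.val = (if y = 0 then 8 else 0) +
      (Finset.univ.filter fun r : Fin chevE8.nroots => fv f (r : ℕ) = y).card) (o : ℕ) (ho : o < no) :
    (keyv no oid f).getD o 0 = ∑ x ∈ (Finset.range M).filter (fun x => oid x = o), D x := by
  classical
  rw [keyv, List.getD_eq_getElem _ _ (by simpa using ho), List.getElem_map, List.getElem_range, Finset.sum_filter]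
  have hD' : ∀ x ∈ Finset.range M, (if oid x = o then D x else 0) = (if x = 0 then if o = 0 then 8 else 0 else 0) +
      (if oid x = o then (Finset.univ.filter fun r : Fin chevE8.nroots => (fv f (r : ℕ)).val = x).card else 0) := by
    intro x hx
    rw [Finset.mem_range] at hx
    have e := hD (x : ZMod M)
    rw [ZMod.val_natCast, Nat.mod_eq_of_lt hx] at e
    have e0 : (x : ZMod M) = 0 ↔ x = 0 := by
      rw [ZMod.natCast_eq_zero_iff]
      exact ⟨fun h => Nat.eq_zero_of_dvd_of_lt h hx, fun h => h ▸ dvd_zero M⟩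
    have e1 : ∀ r : Fin chevE8.nroots, fv f (r : ℕ) = (x : ZMod M) ↔ (fv f (r : ℕ)).val = x := fun r =>
      ⟨fun h => by rw [h, ZMod.val_natCast, Nat.mod_eq_of_lt hx], fun h => by rw [← h, ZMod.natCast_zmod_val]⟩
    simp only [e0, e1] at e
    rw [e]
    rcases eq_or_ne x 0 with rfl | hx0
    · rcases eq_or_ne o 0 with rfl | ho0
      · simp [h0]
      · rw [if_neg (show ¬ oid 0 = o by omega)]
        simp [h0, ho0, Ne.symm ho0]
    · simp [hx0]
  rw [Finset.sum_congr rfl hD', Finset.sum_add_distrib, Finset.sum_ite_eq', if_pos (Finset.mem_range.2 (Nat.pos_of_ne_zero (NeZero.ne M)))]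
  congr 1
  simp only [Finset.card_filter]
  rw [Finset.sum_congr rfl fun x _ => show (if oid x = o then ∑ r : Fin chevE8.nroots,
      (if (fv f (r : ℕ)).val = x then 1 else 0) else 0) = ∑ r : Fin chevE8.nroots,
      (if (fv f (r : ℕ)).val = x then if oid x = o then 1 else 0 else 0) by
    by_cases h : oid x = o <;> simp [h]]
  rw [Finset.sum_comm]
  refine Finset.sum_congr rfl fun r _ => ?_
  rw [Finset.sum_ite_eq, if_pos (Finset.mem_range.2 (ZMod.val_lt _))]

theorem getD_intL (l : List ℕ) (o : ℕ) : (intL l).getD o 0 = ((l.getD o 0 : ℕ) : ℤ) := by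
  induction l generalizing o with
  | nil => simp [intL]
  | cons a l ih =>
    cases o with
    | zero => simp [intL]
    | succ o => simpa [intL] using ih o

theorem false_of_key {q no : ℕ} {mem : List (List ℕ)} {W : List (List ℤ)} {V : ℕ → ℕ → ℕ} {N : ℕ → ℕ}
    (h : orbitsOK q mem W no V = true) (hev : ∀ d, N d ≠ 0 → Even d)
    (hinv : ∀ d, 0 < d → d < q - 1 → N (3 * d % (q - 1)) = N d) (k : List ℕ) (hk : k.length = no)
    (hsum : ∀ o < no, k.getD o 0 = ∑ d ∈ Finset.range q, N d * V d o) {T : KTree}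
    (hT : chkTree W (intL k) T [] = true) : False :=
  false_of_tree (solves_of_orbitsOK h hev hinv (intL k) (by simp [intL, hk])
    fun o ho => by rw [getD_intL, hsum o ho]) T [] hT fun i hi => by simp at hi

theorem isPrimitiveRoot_val {K : Type*} [Field K] {ζ : Kˣ} {M : ℕ} (h : orderOf ζ = M) :
    IsPrimitiveRoot (ζ : K) M :=
  (h ▸ IsPrimitiveRoot.orderOf ζ).map_of_injective (f := Units.coeHom K) Units.val_injective

theorem no_psl_243 {F : Type*} [Field F] [Fintype F] (h : Fintype.card F = 243)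
    {H : Subgroup ↥(chevE8.group (ZMod 3))} (e : ↥H ≃* Matrix.ProjectiveSpecialLinearGroup (Fin 2) F) : False := by
  classical
  haveI : Fact (Nat.Prime 3) := ⟨Nat.prime_three⟩
  haveI : Fact (Nat.Prime 11) := ⟨by norm_num⟩
  haveI := charP_three F (n := 5) (by norm_num) (by rw [h]; norm_num)
  letI : Fintype (GaloisField 3 5) := Fintype.ofFinite _
  obtain ⟨ι⟩ := exists_iota F (k := 5) (by norm_num) dvd_rfl (by rw [h]; norm_num)
  have hK : Fintype.card (GaloisField 3 5) = 243 := by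
    rw [← Nat.card_eq_fintype_card, GaloisField.card 3 5 (by norm_num)]; norm_num
  obtain ⟨τ, hτ⟩ : ∃ τ : GaloisField 3 5 ≃+* GaloisField 3 5, ∀ a, τ a = a ^ 3 :=
    ⟨frobeniusEquiv _ 3, fun a => rfl⟩
  obtain ⟨ψ, N, hfix, hker, -, hN1, hN2, hN3⟩ := exists_setup ι τ hτ e
  obtain ⟨ζ, hζ⟩ : ∃ ζ : (GaloisField 3 5)ˣ, orderOf ζ = 121 := exists_orderOf (by
    rw [Nat.card_eq_fintype_card, Fintype.card_units, hK]; norm_num)
  have hpr := isPrimitiveRoot_val hζ
  have hμ0 : (ζ : GaloisField 3 5) ≠ 0 := ζ.ne_zero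
  obtain ⟨s, hs, hpow⟩ := exists_cmp ι hμ0
    (fun hh => by
      have := hpr.dvd_of_pow_eq_one 2 (by rw [pow_two]; exact hh)
      norm_num at this)
    (by rw [h, ← hK]; exact FiniteField.pow_card _)
  haveI : NeZero (11 ^ (1 + 1)) := ⟨by norm_num⟩
  obtain ⟨f, hne, ⟨π, hπ⟩, hcount⟩ := exists_functional τ hτ (l := 11) (e := 1) (by rw [hK]; norm_num) (by norm_num)
    (by norm_num) (ζ := ζ) (by rw [hζ]; norm_num) (hfix s)
    (by rw [← map_pow, hs.pow_eq_one ι (M := 11 ^ (1 + 1)) (by rw [show (11 ^ (1 + 1) : ℕ) = 121 by norm_num]; exact hpr.pow_eq_one), map_one])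
    (fun hh => by
      rw [← map_pow] at hh
      have h2 := hker _ hh
      rw [← pow_mul] at h2
      have := hpr.dvd_of_pow_eq_one _ (hpow _ h2)
      norm_num at this)
  haveI : Finite (chevRel certE8 (GaloisField 3 5)).WQ :=
    Finite.of_injective _ (chevRel certE8 (GaloisField 3 5)).qact_injective
  have hkey := D121.key_mem (chevRel certE8 (GaloisField 3 5)) f hne π hπ
  obtain ⟨i, hi, hget⟩ := List.getElem_of_mem hkey
  have hcert := List.all_eq_true.1 D121.certs_ok i (List.mem_range.2 hi)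
  rw [List.getD_eq_getElem _ _ hi, hget] at hcert
  refine false_of_key (N := N) D121.orbits_ok (fun d hd => (hN1 d hd).2)
    (fun d => by have := hN2 d; rw [h] at this; exact this) _ (by simp [keyv]) (fun o ho => ?_) hcert
  rw [sum_orbit_key (M := 121) D121.oid (by decide +kernel) f
    (fun x => finrank _ ↥(eig (rep chevE8 (GaloisField 3 5) (ψ s)) ((ζ : GaloisField 3 5) ^ x))) hcount o ho]
  refine sum_orbit hpr (by norm_num) D121.oid (by norm_num)
    (fun ν => finrank _ ↥(eig (rep chevE8 (GaloisField 3 5) (ψ s)) ν)) N (fun ν => ?_) o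
  rw [hN3 s _ 121 hs (fun h0 => by
    rw [CharP.cast_eq_zero_iff (GaloisField 3 5) 3] at h0
    norm_num at h0) hpr.pow_eq_one ν, h]

theorem no_psl_729 {F : Type*} [Field F] [Fintype F] (h : Fintype.card F = 729)
    {H : Subgroup ↥(chevE8.group (ZMod 3))} (e : ↥H ≃* Matrix.ProjectiveSpecialLinearGroup (Fin 2) F) : False := by
  classical
  haveI : Fact (Nat.Prime 3) := ⟨Nat.prime_three⟩
  haveI : Fact (Nat.Prime 73) := ⟨by norm_num⟩
  haveI := charP_three F (n := 6) (by norm_num) (by rw [h]; norm_num)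
  letI : Fintype (GaloisField 3 12) := Fintype.ofFinite _
  obtain ⟨ι⟩ := exists_iota F (n := 6) (k := 12) (by norm_num) (by norm_num) (by rw [h]; norm_num)
  have hK : Fintype.card (GaloisField 3 12) = 531441 := by
    rw [← Nat.card_eq_fintype_card, GaloisField.card 3 12 (by norm_num)]; norm_num
  obtain ⟨τ, hτ⟩ : ∃ τ : GaloisField 3 12 ≃+* GaloisField 3 12, ∀ a, τ a = a ^ 3 :=
    ⟨frobeniusEquiv _ 3, fun a => rfl⟩
  obtain ⟨ψ, N, hfix, hker, hneg, hN1, hN2, hN3⟩ := exists_setup ι τ hτ e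
  obtain ⟨ζ, hζ⟩ : ∃ ζ : (GaloisField 3 12)ˣ, orderOf ζ = 73 := exists_orderOf (by
    rw [Nat.card_eq_fintype_card, Fintype.card_units, hK]; norm_num)
  obtain ⟨ξ, hξ⟩ : ∃ ξ : (GaloisField 3 12)ˣ, orderOf ξ = 4 := exists_orderOf (by
    rw [Nat.card_eq_fintype_card, Fintype.card_units, hK]; norm_num)
  have hpr := isPrimitiveRoot_val hζ
  have hpr4 := isPrimitiveRoot_val hξ
  -- an element of order 73
  have hinv : ((ζ : GaloisField 3 12)) ^ 729 = ((ζ : GaloisField 3 12))⁻¹ := eq_inv_of_mul_eq_one_left (by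
    rw [← pow_succ, show 729 + 1 = 73 * 10 by norm_num, pow_mul, hpr.pow_eq_one, one_pow])
  obtain ⟨s, hs, hpow⟩ := exists_cmp ι ζ.ne_zero
    (fun hh => by
      have := hpr.dvd_of_pow_eq_one 2 (by rw [pow_two]; exact hh)
      norm_num at this)
    (by
      rw [h, show (729 : ℕ) = 3 ^ 6 by norm_num, add_pow_char_pow, show (3 : ℕ) ^ 6 = 729 by norm_num, hinv, inv_pow,
        hinv, inv_inv, add_comm])
  haveI : NeZero (73 ^ (0 + 1)) := ⟨by norm_num⟩
  obtain ⟨f, hne, ⟨π, hπ⟩, hcount⟩ := exists_functional τ hτ (l := 73) (e := 0) (by rw [hK]; norm_num) (by norm_num)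
    (by norm_num) (ζ := ζ) (by rw [hζ]; norm_num) (hfix s)
    (by rw [← map_pow, hs.pow_eq_one ι (M := 73 ^ (0 + 1)) (by rw [show (73 ^ (0 + 1) : ℕ) = 73 by norm_num]; exact hpr.pow_eq_one), map_one])
    (fun hh => by
      rw [← map_pow] at hh
      have h2 := hker _ hh
      rw [← pow_mul] at h2
      have := hpr.dvd_of_pow_eq_one _ (hpow _ h2)
      norm_num at this)
  have hne' : f ≠ 0 := fun h0 => hne (by rw [h0, smul_zero])
  haveI : Finite (chevRel certE8 (GaloisField 3 12)).WQ :=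
    Finite.of_injective _ (chevRel certE8 (GaloisField 3 12)).qact_injective
  have hkey := D73.key_mem (chevRel certE8 (GaloisField 3 12)) f hne' π hπ
  -- an involution
  have hξ2 : (ξ : GaloisField 3 12) * ξ ≠ 1 := fun hh => by
    have := hpr4.dvd_of_pow_eq_one 2 (by rw [pow_two]; exact hh)
    norm_num at this
  have hξ0 : ι 0 = (ξ : GaloisField 3 12) + (ξ : GaloisField 3 12)⁻¹ := by
    have h4 : ((ξ : GaloisField 3 12) * ξ) * ((ξ : GaloisField 3 12) * ξ) = 1 := by
      rw [← hpr4.pow_eq_one]; ring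
    rcases mul_self_eq_one_iff.1 h4 with h1 | h1
    · exact absurd h1 hξ2
    · rw [map_zero, inv_eq_of_mul_eq_one_right (b := -(ξ : GaloisField 3 12)) (by rw [mul_neg, h1, neg_neg]),
        add_neg_cancel]
  obtain ⟨hd4, hpow4⟩ := cmp_diag ι ξ.ne_zero hξ2 hξ0
  have hx2 : ψ (cmp 0) * ψ (cmp 0) = 1 := by rw [← map_mul, cmp_zero_sq, hneg]
  have hx1 : ψ (cmp 0) ≠ 1 := fun hh => hξ2 (by rw [← pow_two]; exact hpow4 2 (hker _ hh))
  have hodd : Odd (Fintype.card (GaloisField 3 12)) := by rw [hK]; decide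
  have hcast : ∀ M : ℕ, ¬ 3 ∣ M → (M : GaloisField 3 12) ≠ 0 := fun M hM h0 =>
    hM ((CharP.cast_eq_zero_iff (GaloisField 3 12) 3 M).1 h0)
  obtain ⟨z, hz, hzc⟩ : ∃ z, finrank (GaloisField 3 12) ↥(eig (rep chevE8 (GaloisField 3 12) (ψ (cmp 0))) 1) = z ∧
      (z = 120 ∨ z = 136) := ⟨_, rfl, fixd_involution hodd hx2 hx1⟩
  obtain ⟨i, hi, hget⟩ := List.getElem_of_mem hkey
  obtain ⟨T, hcert⟩ : ∃ T, chkTree D73.wts (intL (keyv 7 (fun x => D73.orb (D73.cls x)) f ++ [z])) T [] = true := by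
    rcases hzc with rfl | rfl
    · have hc := List.all_eq_true.1 D73.certs120_ok i (List.mem_range.2 hi)
      rw [List.getD_eq_getElem _ _ hi, hget] at hc
      exact ⟨_, hc⟩
    · have hc := List.all_eq_true.1 D73.certs136_ok i (List.mem_range.2 hi)
      rw [List.getD_eq_getElem _ _ hi, hget] at hc
      exact ⟨_, hc⟩
  refine false_of_key (N := N) D73.orbits_ok (fun d hd => (hN1 d hd).2)
    (fun d => by have := hN2 d; rw [h] at this; exact this) _ (by simp [keyv]) (fun o ho => ?_) hcert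
  rcases Nat.lt_or_ge o 7 with h7 | h7
  · rw [List.getD_append _ _ _ _ (by simp [keyv]; exact h7)]
    simp only [if_pos h7]
    obtain ⟨D, hD⟩ : ∃ D : ℕ → ℕ, ∀ x, D x =
        finrank (GaloisField 3 12) ↥(eig (rep chevE8 (GaloisField 3 12) (ψ s)) ((ζ : GaloisField 3 12) ^ x)) :=
      ⟨_, fun _ => rfl⟩
    rw [sum_orbit_key (M := 73) (fun x => D73.orb (D73.cls x)) (by decide +kernel) f D
      (fun y => (hD y.val).trans (hcount y)) o h7]
    simp only [hD]
    exact sum_orbit hpr (by norm_num) (fun x => D73.orb (D73.cls x)) (q := 729) (f := 6) (by norm_num)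
      (fun ν => finrank (GaloisField 3 12) ↥(eig (rep chevE8 (GaloisField 3 12) (ψ s)) ν)) N
      (fun ν => by rw [hN3 s _ 73 hs (hcast 73 (by norm_num)) hpr.pow_eq_one ν, h]) o
  · obtain rfl : o = 7 := by omega
    rw [List.getD_append_right _ _ _ _ (by simp [keyv])]
    simp only [if_neg (show ¬ (7 : ℕ) < 7 by norm_num)]
    have hsum := sum_orbit hpr4 (by norm_num) (fun x => x) (q := 729) (f := 6) (by norm_num)
      (fun ν => finrank _ ↥(eig (rep chevE8 (GaloisField 3 12) (ψ (cmp 0))) ν)) N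
      (fun ν => by rw [hN3 (cmp 0) _ 4 hd4 (hcast 4 (by norm_num)) hpr4.pow_eq_one ν, h]) 0
    rw [show (Finset.range 4).filter (fun x => x = 0) = {0} by decide, Finset.sum_singleton, pow_zero] at hsum
    rw [← hsum]
    simp [keyv, hz]

end CfsgLib.Known.E8SL2
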