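import Cfsg.Agent.Lib.Known.E8SL2.Arith

/-!
# Searches through affine families of functionals
-/

set_option autoImplicit false
set_option maxRecDepth 20000

namespace CfsgLib.Known.E8SL2

open Cfsg.Lie (chevE8)
open CfsgLib.Lie.Chev

/-- A list as a vector. -/
def toF {M : ℕ} (l : List ℕ) : Fin 8 → ZMod M := fun j => (l.getD (j : ℕ) 0 : ℕ)

/-- The scalar product with a root modulo `M`. -/
def dotN (M : ℕ) (c v : List ℕ) : ℕ := ((List.zipWith (fun a b => (a + M - 6) * b) c v).sum) % M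

theorem zipWith_sum {α : Type*} (g : α → ℕ → ℕ) (d : α) : ∀ {m : ℕ} (c : List α) (v : List ℕ), c.length = m →
    v.length = m → (List.zipWith g c v).sum = ∑ i : Fin m, g (c.getD (i : ℕ) d) (v.getD (i : ℕ) 0)
  | 0, c, v, h, _ => by simp [List.length_eq_zero_iff.1 h]
  | m + 1, [], v, h, _ => by simp at h
  | m + 1, x :: c, [], _, h => by simp at h
  | m + 1, x :: c, y :: v, h, h' => by
    rw [List.zipWith_cons_cons, List.sum_cons, zipWith_sum g d c v (by simpa using h) (by simpa using h'),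
      Fin.sum_univ_succ]
    simp

theorem dotN_eq {M : ℕ} (hM : 6 ≤ M) {r : ℕ} (hr : r < 240) {v : List ℕ} (hv : v.length = 8) :
    (dotN M (coT.getD r []) v : ZMod M) = fv (toF v) r := by
  obtain ⟨h1, h2⟩ := coT_ok.2 ⟨r, hr⟩
  rw [dotN, ZMod.natCast_mod, zipWith_sum _ 0 _ _ h1 hv, Nat.cast_sum, fv]
  refine Finset.sum_congr rfl fun j _ => ?_
  have hx : ∀ a : ℕ, ((a + M - 6 : ℕ) : ZMod M) = ((a : ℤ) - 6 : ℤ) := fun a => by
    have h : ((a + M - 6 : ℕ) : ℤ) = (a : ℤ) - 6 + (M : ℤ) := by omega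
    calc ((a + M - 6 : ℕ) : ZMod M) = (((a + M - 6 : ℕ) : ℤ) : ZMod M) := (Int.cast_natCast _).symm
      _ = _ := by rw [h]; simp
  rw [Nat.cast_mul, hx, h2 j, add_sub_cancel_right]
  rfl

/-- The values of the three vectors of a family on the roots. -/
def trOf (M : ℕ) (L : List ℕ) (f0 f1 f2 : List ℕ) : List (ℕ × ℕ × ℕ) :=
  L.map fun r => (dotN M (coT.getD r []) f0, dotN M (coT.getD r []) f1, dotN M (coT.getD r []) f2)

/-- The values of a member of a family. -/
def valsAt (M a b : ℕ) (tr : List (ℕ × ℕ × ℕ)) : List ℕ := tr.map fun p => (p.1 + a * p.2.1 + b * p.2.2) % M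

/-- The search through a family. -/
def scan (S : Scan) (mult na nb : ℕ) (tr : List (ℕ × ℕ × ℕ)) : Bool :=
  (List.range na).all fun a => (List.range nb).all fun b => S.test mult (hist S.cls (valsAt S.M a b tr))

/-- A family. -/
structure Fam where
  /-- the base point -/
  f0 : List ℕ
  /-- the first direction -/
  f1 : List ℕ
  /-- the second direction -/
  f2 : List ℕ
  /-- the number of steps in the first direction -/
  na : ℕ
  /-- the number of steps in the second direction -/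
  nb : ℕ

/-- The check of the shape of a family and of the values on the roots. -/
def Fam.trOK (φ : Fam) (M : ℕ) (L : List ℕ) (tr : List (ℕ × ℕ × ℕ)) : Bool :=
  φ.f0.length == 8 && φ.f1.length == 8 && φ.f2.length == 8 && tr == trOf M L φ.f0 φ.f1 φ.f2

theorem scan_sound (S : Scan) [NeZero S.M] (hok : S.ok = true) (h6 : 6 ≤ S.M) {mult : ℕ} {L : List ℕ}
    (hL : L.length < 256 ∧ ∀ r ∈ L, r < 240) (φ : Fam) {tr : List (ℕ × ℕ × ℕ)} (htr : φ.trOK S.M L tr = true)
    (h : scan S mult φ.na φ.nb tr = true) {a b : ℕ} (ha : a < φ.na) (hb : b < φ.nb) {f : Fin 8 → ZMod S.M}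
    (hf : f = toF φ.f0 + (a : ZMod S.M) • toF φ.f1 + (b : ZMod S.M) • toF φ.f2) (hgood : Good f) {rp : ℕ → ℕ}
    (hrep : Rep S mult L rp f) : keyv S.no (fun x => S.orb (S.cls x)) f ∈ S.ks := by
  simp only [Fam.trOK, Bool.and_eq_true, beq_iff_eq] at htr
  obtain ⟨⟨⟨h0, h1⟩, h2⟩, rfl⟩ := htr
  simp only [scan, List.all_eq_true, List.mem_range] at h
  refine key_mem_of_test S hok hL.1 hgood hrep ?_
  convert h a ha b hb using 3
  rw [valsAt, trOf, List.map_map]
  refine List.map_congr_left fun r hr => ?_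
  have hr' := hL.2 r hr
  rw [Function.comp_apply, ← ZMod.val_natCast]
  congr 1
  push_cast
  rw [dotN_eq h6 hr' h0, dotN_eq h6 hr' h1, dotN_eq h6 hr' h2, hf, fv_add, fv_add, fv_smul, fv_smul]

/-- The certified parametrisation of the solutions of linear equations. -/
def solOK {M n : ℕ} (A : Fin n → Fin 8 → ZMod M) (rhs : Fin n → ZMod M) (B : Fin 3 → Fin 8 → ZMod M)
    (free : Fin 3 → Fin 8) (f0 : Fin 8 → ZMod M) (Q : Fin 8 → Fin n → ZMod M) : Prop :=
  (∀ j m : Fin 8, (if j = m then (1 : ZMod M) else 0) =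
    (∑ s, if free s = m then B s j else 0) + ∑ i, Q j i * A i m) ∧
  ∀ j, f0 j = ∑ i, Q j i * rhs i

theorem eq_of_solOK {M n : ℕ} {A : Fin n → Fin 8 → ZMod M} {rhs : Fin n → ZMod M} {B : Fin 3 → Fin 8 → ZMod M}
    {free : Fin 3 → Fin 8} {f0 : Fin 8 → ZMod M} {Q : Fin 8 → Fin n → ZMod M} (h : solOK A rhs B free f0 Q)
    {f : Fin 8 → ZMod M} (hf : ∀ i, ∑ m, A i m * f m = rhs i) :
    f = f0 + f (free 0) • B 0 + f (free 1) • B 1 + f (free 2) • B 2 := by
  classical
  funext j
  have e : ∑ m, ((∑ s, if free s = m then B s j else 0) + ∑ i, Q j i * A i m) * f m =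
      (∑ s, B s j * f (free s)) + ∑ i, Q j i * rhs i := by
    simp only [add_mul, Finset.sum_add_distrib, Finset.sum_mul, ite_mul, zero_mul]
    rw [Finset.sum_comm]
    congr 1
    · exact Finset.sum_congr rfl fun s _ => by rw [Finset.sum_ite_eq, if_pos (Finset.mem_univ _)]
    · rw [Finset.sum_comm]
      refine Finset.sum_congr rfl fun i _ => ?_
      rw [← hf i, Finset.mul_sum]
      exact Finset.sum_congr rfl fun m _ => mul_assoc _ _ _
  simp only [← h.1 j, ite_mul, one_mul, zero_mul, Finset.sum_ite_eq, Finset.mem_univ, if_true] at e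
  rw [e, Fin.sum_univ_three, ← h.2 j]
  simp only [Pi.add_apply, Pi.smul_apply, smul_eq_mul]
  ring

theorem false_of_inc {M n : ℕ} {A : Fin n → Fin 8 → ZMod M} {rhs : Fin n → ZMod M} (y : Fin n → ZMod M)
    (h1 : ∀ m, ∑ i, y i * A i m = 0) (h2 : ∑ i, y i * rhs i ≠ 0) {f : Fin 8 → ZMod M}
    (hf : ∀ i, ∑ m, A i m * f m = rhs i) : False := by
  apply h2
  simp only [← hf, Finset.mul_sum, ← mul_assoc]
  rw [Finset.sum_comm]
  exact Finset.sum_eq_zero fun m _ => by rw [← Finset.sum_mul, h1, zero_mul]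

/-- The equations of an eigenvector of a word. -/
def eigA (M : ℕ) (L : List ℕ) (c : ZMod M) (i m : Fin 8) : ZMod M :=
  (auxE8.coef m (L.getD (i : ℕ) 0) : ZMod M) - if i = m then c else 0

theorem eigA_eq {M : ℕ} {F : Type*} [Field F] {G : Type*} [Group G] (R : Rel chevE8 auxE8 F G) (l : List ℕ)
    (c : ZMod M) {f : Fin 8 → ZMod M}
    (hf : ∀ r : Fin chevE8.nroots, fv f (R.qact (AltE6.wq R l) r : ℕ) = c * fv f (r : ℕ)) (i : Fin 8) :
    ∑ m, eigA M (AltE6.keyW chevE8 auxE8 l) c i m * f m = 0 := by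
  have hi : (AltE6.keyW chevE8 auxE8 l).getD (i : ℕ) 0 = (R.qact (AltE6.wq R l) (R.sroot i) : ℕ) := by
    rw [AltE6.qact_wq, AltE6.keyW, List.getD_eq_getElem _ _ (by simp; exact i.2), List.getElem_map,
      List.getElem_range]
    rfl
  have h := hf (R.sroot i)
  rw [show ((R.sroot i : Fin chevE8.nroots) : ℕ) = chevE8.simple i from rfl, fv_simple] at h
  simp only [eigA, hi, sub_mul, ite_mul, zero_mul, Finset.sum_sub_distrib, Finset.sum_ite_eq, Finset.mem_univ,
    if_true]
  rw [← h]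
  exact sub_self _

end CfsgLib.Known.E8SL2
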