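import Cfsg.Agent.Lib.Known.E8SL2.Rep

/-!
# Weights of representations of the special linear group of degree two commuting with a Frobenius map

The eigenvalue multiplicities of the diagonalisable elements are sums of those of the spaces of homogeneous
functions, with multiplicities invariant under the multiplication of the degree by the characteristic.
-/

set_option autoImplicit false

namespace CfsgLib.Known.E8SL2

open Module Matrix
open CfsgLib.Perm.AltSection (eig mem_eig)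

section Lin

variable {K V : Type*} [Field K] [AddCommGroup V] [Module K V]

theorem finrank_sup_inf [FiniteDimensional K V] {T W E : Submodule K V} (hTW : T ⊓ W = ⊥)
    (hE : ∀ a ∈ T, ∀ b ∈ W, a + b ∈ E → a ∈ E) :
    finrank K ↥((T ⊔ W) ⊓ E) = finrank K ↥(T ⊓ E) + finrank K ↥(W ⊓ E) := by
  have he : (T ⊔ W) ⊓ E = (T ⊓ E) ⊔ (W ⊓ E) := by
    refine le_antisymm (fun x hx => ?_) (sup_le (inf_le_inf_right _ le_sup_left) (inf_le_inf_right _ le_sup_right))
    obtain ⟨h1, h2⟩ := Submodule.mem_inf.1 hx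
    obtain ⟨a, ha, b, hb, rfl⟩ := Submodule.mem_sup.1 h1
    have haE := hE a ha b hb h2
    exact Submodule.add_mem_sup ⟨ha, haE⟩ ⟨hb, by simpa using E.sub_mem h2 haE⟩
  have h0 : (T ⊓ E) ⊓ (W ⊓ E) = ⊥ := le_bot_iff.1 (hTW ▸ inf_le_inf inf_le_left inf_le_left)
  have h := Submodule.finrank_sup_add_finrank_inf_eq (T ⊓ E) (W ⊓ E)
  rw [h0, finrank_bot, add_zero] at h
  rw [he, h]

theorem eig_component {T W : Submodule K V} (hTW : T ⊓ W = ⊥) {f : End K V} (hT : ∀ v ∈ T, f v ∈ T)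
    (hW : ∀ v ∈ W, f v ∈ W) {c : K} {a b : V} (ha : a ∈ T) (hb : b ∈ W) (h : f (a + b) = c • (a + b)) :
    f a = c • a := by
  have h1 : f a - c • a = c • b - f b := by
    rw [map_add, smul_add] at h
    rw [sub_eq_sub_iff_add_eq_add, h, add_comm]
  have h2 : f a - c • a ∈ T ⊓ W :=
    ⟨T.sub_mem (hT a ha) (T.smul_mem c ha), h1 ▸ W.sub_mem (W.smul_mem c hb) (hW b hb)⟩
  rw [hTW, Submodule.mem_bot, sub_eq_zero] at h2
  exact h2

/-- The eigenspace of an element of order prime to the characteristic surjects onto that of the quotient. -/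
theorem finrank_eig_add [FiniteDimensional K V] {T : End K V} {M : ℕ} (hM : (M : K) ≠ 0) (hT : T ^ M = 1)
    (S : Submodule K V) (hS : S ≤ S.comap T) (ν : K) :
    finrank K ↥(eig T ν) = finrank K ↥(S ⊓ eig T ν) + finrank K ↥(eig (S.mapQ S T hS) ν) := by
  obtain ⟨f, hf⟩ : ∃ f : ↥(eig T ν) →ₗ[K] V ⧸ S, f = S.mkQ ∘ₗ (eig T ν).subtype := ⟨_, rfl⟩
  have hr : LinearMap.range f = eig (S.mapQ S T hS) ν := by
    refine le_antisymm ?_ fun q hq => ?_
    · rintro _ ⟨v, rfl⟩
      refine mem_eig.2 ?_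
      simp [hf, mem_eig.1 v.2]
    · by_cases hq0 : q = 0
      · exact ⟨0, by rw [map_zero, hq0]⟩
      obtain ⟨v, hv⟩ := S.mkQ_surjective q
      have hi : ∀ i : ℕ, S.mkQ ((T ^ i) v) = ν ^ i • q := by
        intro i
        induction i with
        | zero => simp [← hv]
        | succ i ih =>
          have h := mem_eig.1 hq
          rw [pow_succ' T, End.mul_apply]
          show S.mapQ S T hS (S.mkQ ((T ^ i) v)) = _
          rw [ih, map_smul, h, smul_smul, pow_succ]
      have hν : ν ^ M = 1 := by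
        have h := hi M
        rw [hT, End.one_apply, hv] at h
        exact smul_left_injective K hq0 (h.symm.trans (one_smul K q).symm)
      have hM0 : M ≠ 0 := fun h => hM (by rw [h, Nat.cast_zero])
      have hν0 : ν ≠ 0 := fun h => by
        rw [h, zero_pow hM0] at hν
        exact zero_ne_one hν
      obtain ⟨e, he⟩ : ∃ e, e = (M : K)⁻¹ • ∑ i ∈ Finset.range M, ν⁻¹ ^ i • (T ^ i) v := ⟨_, rfl⟩
      have he1 : T e = ν • e := by
        have h1 : ∀ i, T (ν⁻¹ ^ i • (T ^ i) v) = ν • (ν⁻¹ ^ (i + 1) • (T ^ (i + 1)) v) := fun i => by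
          rw [map_smul, pow_succ' T i, End.mul_apply, smul_smul, pow_succ]
          congr 1
          field_simp
        rw [he, map_smul, map_sum, Finset.sum_congr rfl fun i _ => h1 i, ← Finset.smul_sum, smul_comm]
        congr 2
        refine add_right_cancel (b := ν⁻¹ ^ 0 • (T ^ 0) v) ?_
        rw [← Finset.sum_range_succ' (fun i => ν⁻¹ ^ i • (T ^ i) v), Finset.sum_range_succ, inv_pow ν M, hν, inv_one,
          hT, pow_zero, pow_zero]
      refine ⟨⟨e, mem_eig.2 he1⟩, ?_⟩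
      rw [hf, LinearMap.comp_apply, Submodule.subtype_apply]
      simp only [he, map_smul, map_sum, hi, smul_smul, ← mul_pow, inv_mul_cancel₀ hν0, one_pow, one_smul,
        Finset.sum_const, Finset.card_range, ← Nat.cast_smul_eq_nsmul K, inv_mul_cancel₀ hM]
  have hk : finrank K ↥(LinearMap.ker f) = finrank K ↥(S ⊓ eig T ν) := by
    have e : (LinearMap.ker f).map (eig T ν).subtype = S ⊓ eig T ν := by
      rw [hf, LinearMap.ker_comp, Submodule.ker_mkQ, Submodule.map_comap_subtype, inf_comm]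
    rw [← e, Submodule.finrank_map_subtype_eq]
  have h := f.finrank_range_add_finrank_ker
  rw [hr, hk] at h
  omega

end Lin

variable {F : Type*} [Field F] [Fintype F] [DecidableEq F] {K : Type*} [Field K] [Finite K] [DecidableEq K]
  (ι : F →+* K)

omit [Finite K] [DecidableEq K] [Fintype F] [DecidableEq F] in
theorem IsDiag.pow_eq_one {s : SL F} {μ : K} (hs : IsDiag ι s μ) {M : ℕ} (hμ : μ ^ M = 1) : s ^ M = 1 := by
  obtain ⟨w, z, hB, hw, hz⟩ := hs.exists_forms
  have key : ∀ (ν : K) (u : Fin 2 → K), (∀ x, lin ι u (move s⁻¹ x) = ν * lin ι u x) →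
      ∀ (k : ℕ) (x : Pts F), lin ι u (move (s ^ k)⁻¹ x) = ν ^ k * lin ι u x := by
    intro ν u hu k
    induction k with
    | zero => intro x; simp [move_one]
    | succ k ih =>
      intro x
      rw [pow_succ', _root_.mul_inv_rev, move_mul, ih, hu, pow_succ, mul_assoc]
  have hfix : ∀ x, move (s ^ M)⁻¹ x = x := by
    intro x
    have hc : ∀ c : Fin 2 → K, lin ι c (move (s ^ M)⁻¹ x) = lin ι c x := by
      intro c
      obtain ⟨α, β, rfl⟩ := hB c
      have h1 := key μ w hw M x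
      have h2 := key μ⁻¹ z hz M x
      rw [inv_pow, hμ, inv_one, one_mul] at h2
      rw [hμ, one_mul] at h1
      simp only [lin, Pi.add_apply, Pi.smul_apply, smul_eq_mul] at h1 h2 ⊢
      linear_combination α * h1 + β * h2
    refine Subtype.ext (funext fun i => ι.injective ?_)
    fin_cases i
    · simpa [lin] using hc ![1, 0]
    · simpa [lin] using hc ![0, 1]
  have h0 : ∀ i, ((s ^ M)⁻¹ : SL F).1 i 0 = (p0 F).1 i := fun i => by
    have h := congrFun (congrArg Subtype.val (hfix (p0 F))) i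
    fin_cases i <;> simpa [move, p0, Matrix.mulVec, dotProduct, Fin.sum_univ_two] using h
  have h1 : ∀ i, ((s ^ M)⁻¹ : SL F).1 i 1 = (p1 F).1 i := fun i => by
    have h := congrFun (congrArg Subtype.val (hfix (p1 F))) i
    fin_cases i <;> simpa [move, p1, Matrix.mulVec, dotProduct, Fin.sum_univ_two] using h
  have hinv : (s ^ M)⁻¹ = 1 := Subtype.ext (Matrix.ext fun i j => by
    fin_cases j
    · exact (h0 i).trans (by fin_cases i <;> simp [p0])
    · exact (h1 i).trans (by fin_cases i <;> simp [p1]))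
  exact inv_eq_one.1 hinv

/-- The data of the multiplicities on an invariant subspace. -/
def GoodSub {V : Type*} [AddCommGroup V] [Module K V] (σ : SL F →* End K V) (a0 : Fˣ) (T : Submodule K V) : Prop :=
  (∀ g, ∀ v ∈ T, σ g v ∈ T) ∧ ∃ N : ℕ → ℕ,
    (∀ d, N d ≠ 0 → d ≤ Fintype.card F - 1 ∧ Even d) ∧
    (∀ k, 0 < k → k < Fintype.card F - 1 → finrank K ↥(T ⊓ hwsp σ a0 (ι (a0 : F) ^ k)) = N k) ∧
    ∀ (s : SL F) (μ : K), IsDiag ι s μ → ∀ ν,
      finrank K ↥(T ⊓ eig (σ s) ν) = ∑ d ∈ Finset.range (Fintype.card F), N d * cnt μ d ν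

theorem exists_good {p : ℕ} [Fact p.Prime] [CharP K p] [CharP F p] (h2 : (2 : K) ≠ 0) {V : Type*}
    [AddCommGroup V] [Module K V] [FiniteDimensional K V] (σ : SL F →* End K V) (hneg : σ (negOne F) = 1)
    {a0 : Fˣ} (ha0 : orderOf a0 = Fintype.card F - 1) (W : ℕ → Submodule K V)
    (hinv : ∀ j g, ∀ v ∈ W j, σ g v ∈ W j)
    (hirr : ∀ j (U : Submodule K V), U ≤ W j → (∀ g, ∀ v ∈ U, σ g v ∈ U) → U = ⊥ ∨ U = W j) :
    GoodSub ι σ a0 (⨆ j, W j) := by
  classical
  have hbot : GoodSub ι σ a0 (⊥ : Submodule K V) :=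
    ⟨fun g v hv => by rw [Submodule.mem_bot] at hv ⊢; rw [hv, map_zero],
      fun _ => 0, fun d h => absurd rfl h, fun k _ _ => by simp, fun s μ _ ν => by simp⟩
  obtain ⟨T, ⟨hTS, hTinv, N, hN1, hN2, hN3⟩, hmax⟩ :=
    (IsWellFounded.wf : WellFounded fun a b : Submodule K V => a > b).has_min
      {T | T ≤ ⨆ j, W j ∧ GoodSub ι σ a0 T} ⟨⊥, bot_le, hbot⟩
  suffices hall : ∀ j, W j ≤ T by
    rw [← le_antisymm hTS (iSup_le hall)]
    exact ⟨hTinv, N, hN1, hN2, hN3⟩
  intro j
  by_contra hj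
  have hTW : T ⊓ W j = ⊥ := (hirr j (T ⊓ W j) inf_le_right fun g v hv =>
    ⟨hTinv g v hv.1, hinv j g v hv.2⟩).resolve_right fun h => hj (h ▸ inf_le_left)
  obtain ⟨ρ, hρ⟩ : ∃ ρ : SL F →* End K ↥(W j), ∀ g v, ((ρ g v : ↥(W j)) : V) = σ g v :=
    ⟨{ toFun := fun g => (σ g).restrict (hinv j g)
       map_one' := LinearMap.ext fun v => Subtype.ext (by simp)
       map_mul' := fun g h => LinearMap.ext fun v => Subtype.ext (by simp [End.mul_apply]) }, fun _ _ => rfl⟩
  haveI : Nontrivial ↥(W j) := Submodule.nontrivial_iff_ne_bot.2 fun h => hj (h ▸ bot_le)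
  obtain ⟨d, hd, hdev, hdw, hdc⟩ := exists_degree ι h2 ρ (fun U hU => by
    rcases hirr j (U.map (W j).subtype) (Submodule.map_subtype_le _ _) (by
        rintro g _ ⟨v, hv, rfl⟩
        exact ⟨ρ g v, hU g v hv, hρ g v⟩) with h | h
    · left
      exact Submodule.map_injective_of_injective (W j).subtype_injective (h.trans (Submodule.map_bot _).symm)
    · right
      exact Submodule.map_injective_of_injective (W j).subtype_injective (h.trans (Submodule.map_subtype_top _).symm))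
    (LinearMap.ext fun v => Subtype.ext (by rw [hρ, hneg]; rfl)) ha0
  have hWw : ∀ ν, finrank K ↥(W j ⊓ hwsp σ a0 ν) = finrank K ↥(hwsp ρ a0 ν) := fun ν => by
    have e : hwsp ρ a0 ν = (W j ⊓ hwsp σ a0 ν).comap (W j).subtype := by
      ext v
      simp [mem_hwsp, Subtype.ext_iff, hρ]
    rw [e, LinearEquiv.finrank_eq (Submodule.comapSubtypeEquivOfLe inf_le_left)]
  have hWe : ∀ s ν, finrank K ↥(W j ⊓ eig (σ s) ν) = finrank K ↥(eig (ρ s) ν) := fun s ν => by
    have e : eig (ρ s) ν = (W j ⊓ eig (σ s) ν).comap (W j).subtype := by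
      ext v
      simp [mem_eig, Subtype.ext_iff, hρ]
    rw [e, LinearEquiv.finrank_eq (Submodule.comapSubtypeEquivOfLe inf_le_left)]
  refine hmax (T ⊔ W j) ⟨sup_le hTS (le_iSup W j), fun g v hv => ?_,
    fun k => N k + if k = d then 1 else 0, fun k hk => ?_, fun k hk0 hkn => ?_, fun s μ hs ν => ?_⟩
    (lt_of_le_of_ne le_sup_left fun h => hj (h ▸ le_sup_right))
  · obtain ⟨a, ha, b, hb, rfl⟩ := Submodule.mem_sup.1 hv
    rw [map_add]
    exact Submodule.add_mem_sup (hTinv g a ha) (hinv j g b hb)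
  · by_cases hkd : k = d
    · exact hkd ▸ ⟨hd, hdev⟩
    · simp only [hkd, if_false, add_zero] at hk
      exact hN1 k hk
  · rw [finrank_sup_inf hTW fun a ha b hb h => ?_, hN2 k hk0 hkn, hWw, hdw k hk0 hkn]
    obtain ⟨h1, h2'⟩ := mem_hwsp.1 h
    exact mem_hwsp.2 ⟨fun c => by
        have := eig_component hTW (hTinv (uu c)) (hinv j (uu c)) (c := (1 : K)) ha hb (by rw [h1 c, one_smul])
        rwa [one_smul] at this,
      eig_component hTW (hTinv (tt a0)) (hinv j (tt a0)) ha hb h2'⟩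
  · rw [finrank_sup_inf hTW fun a ha b hb h => ?_, hN3 s μ hs ν, hWe, hdc s μ hs ν]
    · have hdn : d ∈ Finset.range (Fintype.card F) :=
        Finset.mem_range.2 (by have := Fintype.card_pos (α := F); omega)
      simp only [add_mul, Finset.sum_add_distrib, ite_mul, one_mul, zero_mul, Finset.sum_ite_eq', hdn, if_true]
    · exact mem_eig.2 (eig_component hTW (hTinv s) (hinv j s) ha hb (mem_eig.1 h))

universe u

theorem exists_mult_aux {p : ℕ} [Fact p.Prime] [CharP K p] [CharP F p] (h2 : (2 : K) ≠ 0) (τ : K →+* K)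
    [RingHomSurjective τ] (hτ : ∀ x, τ x = x ^ p) {a0 : Fˣ} (ha0 : orderOf a0 = Fintype.card F - 1) :
    ∀ (m : ℕ) (V : Type u) [AddCommGroup V] [Module K V] [FiniteDimensional K V] (σ : SL F →* End K V)
      (φ : V →ₛₗ[τ] V), finrank K V ≤ m → σ (negOne F) = 1 → Function.Bijective φ →
      (∀ g v, φ (σ g v) = σ g (φ v)) →
      ∃ N : ℕ → ℕ, (∀ d, N d ≠ 0 → d ≤ Fintype.card F - 1 ∧ Even d) ∧
        (∀ d, 0 < d → d < Fintype.card F - 1 → N (p * d % (Fintype.card F - 1)) = N d) ∧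
        ∀ (s : SL F) (μ : K) (M : ℕ), IsDiag ι s μ → (M : K) ≠ 0 → s ^ M = 1 → ∀ ν,
          finrank K ↥(eig (σ s) ν) = ∑ d ∈ Finset.range (Fintype.card F), N d * cnt μ d ν := by
  classical
  intro m
  induction m with
  | zero =>
    intro V _ _ _ σ φ hm _ _ _
    refine ⟨fun _ => 0, fun d h => absurd rfl h, fun _ _ _ => rfl, fun s μ M _ _ _ ν => ?_⟩
    have h := Submodule.finrank_le (eig (σ s) ν)
    simp only [zero_mul, Finset.sum_const_zero]
    omega
  | succ m ih =>
    intro V _ _ _ σ φ hm hneg hbij hcomm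
    rcases subsingleton_or_nontrivial V with hV | hV
    · exact ih V σ φ (by rw [Module.finrank_zero_of_subsingleton]; omega) hneg hbij hcomm
    haveI : Finite V := Module.finite_of_finite K
    obtain ⟨U, ⟨hU0, hUinv⟩, hUmin⟩ :=
      (IsWellFounded.wf : WellFounded fun a b : Submodule K V => a < b).has_min
        {U | U ≠ ⊥ ∧ ∀ g, ∀ v ∈ U, σ g v ∈ U} ⟨⊤, top_ne_bot, fun g v _ => Submodule.mem_top⟩
    obtain ⟨W, hW0, hWs⟩ : ∃ W : ℕ → Submodule K V, W 0 = U ∧ ∀ j, W (j + 1) = (W j).map φ :=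
      ⟨fun j => Nat.rec U (fun _ S => S.map φ) j, rfl, fun _ => rfl⟩
    have hinv : ∀ j g, ∀ v ∈ W j, σ g v ∈ W j := by
      intro j
      induction j with
      | zero => rw [hW0]; exact hUinv
      | succ j ihj =>
        rw [hWs]
        rintro g _ ⟨v, hv, rfl⟩
        exact ⟨σ g v, ihj g v hv, hcomm g v⟩
    have hirr : ∀ j (U' : Submodule K V), U' ≤ W j → (∀ g, ∀ v ∈ U', σ g v ∈ U') → U' = ⊥ ∨ U' = W j := by
      intro j
      induction j with
      | zero =>
        rw [hW0]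
        intro U' hle h
        by_cases hb : U' = ⊥
        · exact Or.inl hb
        · exact Or.inr (hle.lt_or_eq.resolve_left fun hlt => hUmin U' ⟨hb, h⟩ hlt)
      | succ j ihj =>
        rw [hWs]
        intro U' hle h
        have e : (U'.comap φ).map φ = U' := Submodule.map_comap_eq_of_surjective hbij.2 U'
        rcases ihj (U'.comap φ) (fun v hv => by
            obtain ⟨w, hw, hwv⟩ := hle hv
            rwa [← hbij.1 hwv]) (fun g v hv => by
            rw [Submodule.mem_comap] at hv ⊢; rw [hcomm]; exact h g _ hv) with hc | hc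
        · left; rw [← e, hc, Submodule.map_bot]
        · right; rw [← e, hc]
    obtain ⟨S, hS⟩ : ∃ S, S = ⨆ j, W j := ⟨_, rfl⟩
    have hSφ : S.map φ ≤ S := by
      rw [hS, Submodule.map_iSup]
      exact iSup_le fun j => hWs j ▸ le_iSup W (j + 1)
    have hSiff : ∀ v, φ v ∈ S → v ∈ S := by
      intro v hv
      have e : φ '' (S : Set V) = S := by
        refine Set.eq_of_subset_of_ncard_le ?_ (Set.ncard_image_of_injective _ hbij.1).ge (Set.toFinite _)
        rintro _ ⟨w, hw, rfl⟩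
        exact hSφ ⟨w, hw, rfl⟩
      have hv' : φ v ∈ φ '' (S : Set V) := e.symm ▸ hv
      obtain ⟨w, hw, hwv⟩ := hv'
      rwa [← hbij.1 hwv]
    obtain ⟨hSinv, N1, hN1, hN2, hN3⟩ : GoodSub ι σ a0 S := hS ▸ exists_good ι h2 σ hneg ha0 W hinv hirr
    have hS0 : S ≠ ⊥ := fun h => hU0 (le_bot_iff.1 (h ▸ hS ▸ hW0 ▸ le_iSup W 0))
    obtain ⟨σ', hσ'⟩ : ∃ σ' : SL F →* End K (V ⧸ S), ∀ g, σ' g = S.mapQ S (σ g) fun v hv => hSinv g v hv :=
      ⟨{ toFun := fun g => S.mapQ S (σ g) fun v hv => hSinv g v hv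
         map_one' := Submodule.linearMap_qext S (LinearMap.ext fun v => by simp)
         map_mul' := fun g h => Submodule.linearMap_qext S (LinearMap.ext fun v => by simp [End.mul_apply]) },
        fun _ => rfl⟩
    obtain ⟨φ', hφ'⟩ : ∃ φ' : V ⧸ S →ₛₗ[τ] V ⧸ S, φ' = S.mapQ S φ fun v hv => hSφ ⟨v, hv, rfl⟩ := ⟨_, rfl⟩
    haveI : Finite (V ⧸ S) := Module.finite_of_finite K
    have hsurj : Function.Surjective φ' := fun q => by
      obtain ⟨v, rfl⟩ := S.mkQ_surjective q
      obtain ⟨w, rfl⟩ := hbij.2 v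
      exact ⟨S.mkQ w, by simp [hφ']⟩
    obtain ⟨N2, hA, hB, hC⟩ := ih (V ⧸ S) σ' φ' (by
        have h1 := S.finrank_quotient_add_finrank
        have h3 : finrank K ↥S ≠ 0 := fun h => hS0 (Submodule.finrank_eq_zero.1 h)
        omega)
      (by rw [hσ']; exact Submodule.linearMap_qext S (LinearMap.ext fun v => by simp [hneg]))
      ⟨Finite.injective_iff_surjective.2 hsurj, hsurj⟩
      (fun g q => by
        obtain ⟨v, rfl⟩ := S.mkQ_surjective q
        simp [hσ', hφ', hcomm])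
    refine ⟨fun d => N1 d + N2 d, fun d hd => ?_, fun d hd0 hdn => ?_, fun s μ M hs hM hsM ν => ?_⟩
    · have hd1 : N1 d + N2 d ≠ 0 := hd
      rcases Nat.eq_zero_or_pos (N1 d) with h | h
      · exact hA d (by omega)
      · exact hN1 d h.ne'
    · obtain ⟨n, hn⟩ : ∃ n, n = Fintype.card F - 1 := ⟨_, rfl⟩
      rw [← hn] at hdn ⊢
      have hd' : 0 < p * d % n := by
        refine Nat.pos_of_ne_zero fun h => ?_
        have hco : Nat.Coprime n p := by
          refine Nat.Coprime.symm ((Nat.Prime.coprime_iff_not_dvd Fact.out).2 fun hp => ?_)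
          obtain ⟨c, hc⟩ := hp
          have h1 : ((Fintype.card F : ℕ) : F) = 0 := FiniteField.cast_card_eq_zero F
          rw [show Fintype.card F = p * c + 1 by have := Fintype.card_pos (α := F); omega] at h1
          simp [CharP.cast_eq_zero] at h1
        have := Nat.le_of_dvd hd0 (hco.dvd_of_dvd_mul_left (Nat.dvd_of_mod_eq_zero h))
        omega
      have hd'' : p * d % n < n := Nat.mod_lt _ (by omega)
      have hτd : τ (ι (a0 : F) ^ d) = ι (a0 : F) ^ (p * d % n) := by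
        have hpow : (ι (a0 : F)) ^ n = 1 := by
          rw [← map_pow, ← Units.val_pow_eq_pow_val, hn, ← ha0, pow_orderOf_eq_one, Units.val_one, map_one]
        rw [hτ, ← pow_mul, mul_comm d p, pow_eq_pow_mod (p * d) hpow]
      obtain ⟨A, hA'⟩ : ∃ A, A = S ⊓ hwsp σ a0 (ι (a0 : F) ^ d) := ⟨_, rfl⟩
      obtain ⟨B, hB'⟩ : ∃ B, B = S ⊓ hwsp σ a0 (ι (a0 : F) ^ (p * d % n)) := ⟨_, rfl⟩
      have e : Nat.card A = Nat.card B := by
        refine Nat.card_congr (Equiv.ofBijective (fun v : A => (⟨φ v, ?_⟩ : B)) ⟨fun v w h => ?_, fun w => ?_⟩)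
        · have hv : (v : V) ∈ S ⊓ hwsp σ a0 (ι (a0 : F) ^ d) := hA' ▸ v.2
          have hv2 := mem_hwsp.1 hv.2
          rw [hB']
          refine ⟨hSφ ⟨v, hv.1, rfl⟩, mem_hwsp.2 ⟨fun b => by rw [← hcomm, hv2.1], ?_⟩⟩
          rw [← hcomm, hv2.2, LinearMap.map_smulₛₗ, hτd]
        · exact Subtype.ext (hbij.1 (congrArg Subtype.val h))
        · obtain ⟨v, hv⟩ := hbij.2 (w : V)
          have hw : (w : V) ∈ S ⊓ hwsp σ a0 (ι (a0 : F) ^ (p * d % n)) := hB' ▸ w.2
          have hw2 := mem_hwsp.1 hw.2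
          refine ⟨⟨v, hA' ▸ ⟨hSiff v (hv ▸ hw.1), mem_hwsp.2 ⟨fun b => hbij.1 ?_, hbij.1 ?_⟩⟩⟩, Subtype.ext hv⟩
          · rw [hcomm, hv, hw2.1]
          · rw [hcomm, hv, hw2.2, LinearMap.map_smulₛₗ, hτd, hv]
      rw [Module.natCard_eq_pow_finrank (K := K) (V := A), Module.natCard_eq_pow_finrank (K := K) (V := B)] at e
      have e' := Nat.pow_right_injective (Finite.one_lt_card) e
      rw [hA', hB', hN2 d hd0 (hn ▸ hdn), hN2 _ hd' (hn ▸ hd'')] at e'
      have := hB d hd0 (hn ▸ hdn)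
      rw [← hn] at this
      show N1 (p * d % n) + N2 (p * d % n) = N1 d + N2 d
      omega
    · have hq := hC s μ M hs hM hsM ν
      rw [hσ'] at hq
      rw [finrank_eig_add hM (by rw [← map_pow, hsM, map_one]) S (fun v hv => hSinv s v hv) ν, hN3 s μ hs ν, hq,
        ← Finset.sum_add_distrib]
      exact Finset.sum_congr rfl fun d _ => (add_mul _ _ _).symm

/-- The multiplicities of the eigenvalues of the diagonalisable elements. -/
theorem exists_mult {p : ℕ} [Fact p.Prime] [CharP K p] [CharP F p] (h2 : (2 : K) ≠ 0) {V : Type u}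
    [AddCommGroup V] [Module K V] [FiniteDimensional K V] (σ : SL F →* End K V) (hneg : σ (negOne F) = 1)
    (τ : K →+* K) [RingHomSurjective τ] (hτ : ∀ x, τ x = x ^ p) (φ : V →ₛₗ[τ] V) (hbij : Function.Bijective φ)
    (hcomm : ∀ g v, φ (σ g v) = σ g (φ v)) :
    ∃ N : ℕ → ℕ, (∀ d, N d ≠ 0 → d ≤ Fintype.card F - 1 ∧ Even d) ∧
      (∀ d, 0 < d → d < Fintype.card F - 1 → N (p * d % (Fintype.card F - 1)) = N d) ∧
      ∀ (s : SL F) (μ : K) (M : ℕ), IsDiag ι s μ → (M : K) ≠ 0 → μ ^ M = 1 → ∀ ν,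
        finrank K ↥(eig (σ s) ν) = ∑ d ∈ Finset.range (Fintype.card F), N d * cnt μ d ν := by
  obtain ⟨a0, ha0⟩ := IsCyclic.exists_generator (α := Fˣ)
  have h : orderOf a0 = Fintype.card F - 1 := by
    rw [orderOf_eq_card_of_forall_mem_zpowers ha0, Nat.card_eq_fintype_card, Fintype.card_units]
  obtain ⟨N, h1, h2', h3⟩ := exists_mult_aux ι h2 τ hτ h _ V σ φ le_rfl hneg hbij hcomm
  exact ⟨N, h1, h2', fun s μ M hs hM hμ => h3 s μ M hs hM (IsDiag.pow_eq_one ι hs hμ)⟩

end CfsgLib.Known.E8SL2
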